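import Groth.Prelude.Def_AlgSpDec
import Mathlib.CategoryTheory.Limits.Types.Pullbacks
import Mathlib.CategoryTheory.Sites.Limits

/-!
# Points of fppf sheaves / algebraic spaces: basic library (helper37)
-/

set_option autoImplicit false
universe u
open CategoryTheory CategoryTheory.Limits AlgebraicGeometry Opposite

namespace Groth.Agent.Lib.Helper37.AlgSpPoints

open AlgSp

variable {S : Scheme.{u}}

/-- Sections of a pullback square of sheaves: existence. -/
theorem isPullback_sections_exists {A B D E : Sp S} {t : A ⟶ B} {l : A ⟶ D} {r : B ⟶ E} {b : D ⟶ E}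
    (h : IsPullback t l r b) (Z : (Over S)ᵒᵖ) (x : B.obj.obj Z) (y : D.obj.obj Z)
    (hxy : r.hom.app Z x = b.hom.app Z y) : ∃ a, t.hom.app Z a = x ∧ l.hom.app Z a = y := by
  have h1 := (h.map (sheafToPresheaf (J S) (Type (u+1)))).map ((evaluation _ _).obj Z)
  exact Types.exists_of_isPullback h1 x y hxy

/-- Sections of a pullback square of sheaves: uniqueness. -/
theorem isPullback_sections_ext {A B D E : Sp S} {t : A ⟶ B} {l : A ⟶ D} {r : B ⟶ E} {b : D ⟶ E}
    (h : IsPullback t l r b) (Z : (Over S)ᵒᵖ) (a a' : A.obj.obj Z)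
    (h1 : t.hom.app Z a = t.hom.app Z a') (h2 : l.hom.app Z a = l.hom.app Z a') : a = a' := by
  have h0 := (h.map (sheafToPresheaf (J S) (Type (u+1)))).map ((evaluation _ _).obj Z)
  exact Types.ext_of_isPullback h0 h1 h2


/-! ### functoriality of `ofPt` -/

theorem ofPt_yon_map {T T' : Over S} (φ : T ⟶ T') (t : ↥T.left) :
    Points.ofPt ((yon S).map φ) t = Points.ofScheme T' (φ.left t) := by
  rw [← Points.toScheme_ofPt φ t, Points.ofScheme_toScheme]

theorem ofPt_map_comp {F : Sp S} {T T' : Over S} (φ : T ⟶ T') (g : (yon S).obj T' ⟶ F)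
    (t : ↥T.left) : Points.ofPt ((yon S).map φ ≫ g) t = Points.ofPt g (φ.left t) := by
  rw [← Points.map_ofPt, ofPt_yon_map, ← Points.ofPt_eq_map_ofScheme]

/-- every point is `ofPt` of its own `toHom` -/
theorem exists_ofPt_toHom {F : Sp S} (x : Points F) :
    ∃ (p : FieldPt F) (s : ↥(Spec (CommRingCat.of p.K))), Points.ofPt p.toHom s = x := by
  induction x using Points.ind with
  | h p => exact ⟨p, IsLocalRing.closedPoint p.K, Points.ofPt_toHom p _⟩

/-! ### points of fibre products -/

/-- `|P| → |Z| ×_{|Y|} |X|` is surjective for a pullback square of sheaves (S10175 for sheaves). -/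
theorem points_exists_of_isPullback {X Y Z P : Sp S} {f : X ⟶ Y} {g : Z ⟶ Y} {fst : P ⟶ Z}
    {snd : P ⟶ X} (h : IsPullback fst snd g f) (z : Points Z) (x : Points X)
    (e : Points.map g z = Points.map f x) :
    ∃ p : Points P, Points.map fst p = z ∧ Points.map snd p = x := by
  induction z using Points.ind with
  | h z =>
  induction x using Points.ind with
  | h x =>
  obtain ⟨Ω, _, w, a, b, hab⟩ := Points.mk_eq_mk_iff.1 e
  change Y.obj.map a.op (g.hom.app _ z.val) = Y.obj.map b.op (f.hom.app _ x.val) at hab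
  rw [← NatTrans.naturality_apply, ← NatTrans.naturality_apply] at hab
  obtain ⟨π, hπ1, hπ2⟩ := isPullback_sections_exists h _ _ _ hab
  refine ⟨Points.mk ⟨Ω, w, π⟩, ?_, ?_⟩
  · refine Points.sound ⟨Ω, inferInstance, w, 𝟙 _, a, ?_⟩
    change Z.obj.map (𝟙 _).op (fst.hom.app _ π) = _
    rw [hπ1, op_id, Functor.map_id_apply]
    rfl
  · refine Points.sound ⟨Ω, inferInstance, w, 𝟙 _, b, ?_⟩
    change X.obj.map (𝟙 _).op (snd.hom.app _ π) = _
    rw [hπ2, op_id, Functor.map_id_apply]
    rfl

/-- Two points of schemes `U`, `V` with maps to `F` have the same image in `|F|` iff they come from a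
point of the (represented) fibre product. -/
theorem ofPt_eq_ofPt_iff {F : Sp S} {U V R : Over S} {a : (yon S).obj U ⟶ F} {b : (yon S).obj V ⟶ F}
    {fst : R ⟶ U} {snd : R ⟶ V} (h : IsPullback ((yon S).map fst) ((yon S).map snd) a b)
    (u : ↥U.left) (v : ↥V.left) :
    Points.ofPt a u = Points.ofPt b v ↔ ∃ r : ↥R.left, fst.left r = u ∧ snd.left r = v := by
  constructor
  · intro e
    rw [Points.ofPt_eq_map_ofScheme, Points.ofPt_eq_map_ofScheme b] at e
    obtain ⟨p, hp1, hp2⟩ := points_exists_of_isPullback h _ _ e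
    refine ⟨Points.toScheme R p, ?_, ?_⟩
    · apply (Points.schemeEquiv U).injective
      change Points.ofScheme U _ = Points.ofScheme U u
      rw [← hp1, ← ofPt_yon_map, ← Points.ofScheme_toScheme R p, Points.toScheme_ofScheme,
        Points.ofPt_eq_map_ofScheme]
    · apply (Points.schemeEquiv V).injective
      change Points.ofScheme V _ = Points.ofScheme V v
      rw [← hp2, ← ofPt_yon_map, ← Points.ofScheme_toScheme R p, Points.toScheme_ofScheme,
        Points.ofPt_eq_map_ofScheme]
  · rintro ⟨r, rfl, rfl⟩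
    rw [← ofPt_map_comp, ← ofPt_map_comp, h.w]


/-! ### surjectivity, openness -/

/-- A representable surjective `h_U ⟶ F` is surjective on points. -/
theorem ofPt_surjective {F : Sp S} {U : Over S} (p : (yon S).obj U ⟶ F)
    (hs : RepWith @Surjective p) : Function.Surjective (Points.ofPt p) := by
  intro x
  obtain ⟨q, s, rfl⟩ := exists_ofPt_toHom x
  have hsq := hs.rep.isPullback' q.toHom
  have hsurj : Surjective (hs.rep.snd q.toHom).left := hs.property_snd q.toHom
  obtain ⟨v, hv⟩ := hsurj.surj s
  exact ⟨(hs.rep.fst' q.toHom).left v, ((ofPt_eq_ofPt_iff hsq _ _).2 ⟨v, rfl, hv⟩)⟩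

/-- Preimage of the image of a chart under another map, via the fibre product. -/
theorem preimage_image_ofPt {F : Sp S} {U T R : Over S} {a : (yon S).obj U ⟶ F}
    {g : (yon S).obj T ⟶ F} {fst : R ⟶ U} {snd : R ⟶ T}
    (h : IsPullback ((yon S).map fst) ((yon S).map snd) a g) (W : Set ↥U.left) :
    Points.ofPt g ⁻¹' (Points.ofPt a '' W) = snd.left '' (fst.left ⁻¹' W) := by
  ext t
  simp only [Set.mem_preimage, Set.mem_image]
  constructor
  · rintro ⟨u, hu, e⟩
    obtain ⟨r, rfl, rfl⟩ := (ofPt_eq_ofPt_iff h u t).1 e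
    exact ⟨r, hu, rfl⟩
  · rintro ⟨r, hr, rfl⟩
    exact ⟨fst.left r, hr, (ofPt_eq_ofPt_iff h _ _).2 ⟨r, rfl, rfl⟩⟩

/-- A representable etale `h_U ⟶ F` induces an open map `U → |F|` (S10176 for sheaves). -/
theorem isOpenMap_ofPt {F : Sp S} {U : Over S} (a : (yon S).obj U ⟶ F) (ha : RepWith @Etale a) :
    IsOpenMap (Points.ofPt a) := by
  intro W hW
  refine Points.isOpen_iff.2 fun T g => ?_
  have hsq := ha.rep.isPullback' g
  have het : Etale (ha.rep.snd g).left := ha.property_snd g
  rw [preimage_image_ofPt hsq W]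
  exact (ha.rep.snd g).left.isOpenMap _ (hW.preimage (ha.rep.fst' g).left.continuous)

/-- A representable etale surjective `h_U ⟶ F` induces a quotient map `U → |F|` (S10177). -/
theorem isQuotientMap_ofPt {F : Sp S} {U : Over S} (p : (yon S).obj U ⟶ F)
    (hp : RepWith @Etale p) (hs : RepWith @Surjective p) : Topology.IsQuotientMap (Points.ofPt p) :=
  (isOpenMap_ofPt p hp).isQuotientMap (Points.continuous_ofPt p) (ofPt_surjective p hs)


/-! ### surjectivity from points, quasi-compact opens -/

/-- A representable `h_U ⟶ F` that is surjective on points is representable surjective. -/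
theorem repWith_surjective_of_ofPt_surjective {F : Sp S} {U : Over S} (a : (yon S).obj U ⟶ F)
    (ha : Representable a) (hsurj : Function.Surjective (Points.ofPt a)) :
    RepWith @Surjective a := by
  refine ⟨ha, fun T V g fst snd hsq => ⟨fun t => ?_⟩⟩
  obtain ⟨fst, rfl⟩ := (yon S).map_surjective fst
  obtain ⟨u, hu⟩ := hsurj (Points.ofPt g t)
  obtain ⟨r, -, hr⟩ := (ofPt_eq_ofPt_iff hsq u t).1 hu
  exact ⟨r, hr⟩

/-- Every open neighbourhood of a point of an algebraic space contains a quasi-compact open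
neighbourhood (S10179). -/
theorem exists_isOpen_isCompact_nhd (X : Space S) (x : Points X.obj) (W : Set (Points X.obj))
    (hW : IsOpen W) (hx : x ∈ W) :
    ∃ V : Set (Points X.obj), IsOpen V ∧ IsCompact V ∧ x ∈ V ∧ V ⊆ W := by
  obtain ⟨U, p, hpe, hps⟩ := X.property.atlas
  obtain ⟨u, rfl⟩ := ofPt_surjective p hps x
  have hW' : IsOpen (Points.ofPt p ⁻¹' W) := hW.preimage (Points.continuous_ofPt p)
  obtain ⟨_, ⟨V, hV, rfl⟩, huV, hVW⟩ :=
    U.left.isBasis_affineOpens.exists_subset_of_mem_open (show u ∈ Points.ofPt p ⁻¹' W from hx) hW'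
  refine ⟨Points.ofPt p '' (V : Set ↥U.left), isOpenMap_ofPt p hpe _ V.2,
    (IsAffineOpen.isCompact hV).image (Points.continuous_ofPt p), ⟨u, huV, rfl⟩, ?_⟩
  rintro _ ⟨v, hv, rfl⟩
  exact hVW hv


/-! ### field-valued points along representable morphisms -/

/-- The `S`-morphism `Spec κ(v) ⟶ V` for a point `v` of a scheme `V` over `S`. -/
noncomputable abbrev resPt {V : Over S} (v : ↥V.left) :
    Over.mk (V.left.fromSpecResidueField v ≫ V.hom) ⟶ V :=
  Over.homMk (V.left.fromSpecResidueField v) rfl

instance mono_resPt {V : Over S} (v : ↥V.left) : Mono (resPt v) := by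
  have : Mono (resPt v).left := by
    change Mono (V.left.fromSpecResidueField v)
    infer_instance
  exact Over.mono_of_mono_left _

instance mono_yon_map {T T' : Over S} (φ : T ⟶ T') [Mono φ] : Mono ((yon S).map φ) :=
  inferInstance

theorem quasiCompact_of_finite {A B : Scheme.{u}} (f : A ⟶ B) [Finite ↥A] : QuasiCompact f :=
  ⟨fun _ _ _ => (Set.toFinite _).isCompact⟩

instance quasiCompact_fromSpecResidueField {V : Scheme.{u}} (v : ↥V) :
    QuasiCompact (V.fromSpecResidueField v) := by
  have : Finite ↥(Spec (V.residueField v)) :=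
    inferInstanceAs (Finite (PrimeSpectrum (V.residueField v)))
  exact quasiCompact_of_finite _

/-- Given a representable `f : X ⟶ Y`, a point `x` of `X` and a field-valued point `q` of `Y` in the class
of `f x`, the point `x` comes from a point of the fibre `h_V = h_{Spec K} ×_Y X`. -/
theorem exists_fibre_point {X Y : Sp S} (f : X ⟶ Y) (hf : Representable f) (x : Points X)
    (q : FieldPt Y) (hq : Points.mk q = Points.map f x) :
    ∃ v : ↥(hf.pullback q.toHom).left, Points.ofPt (hf.fst q.toHom) v = x := by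
  have sq := (hf.isPullback q.toHom).flip
  have e : Points.map q.toHom (Points.ofScheme q.pt (IsLocalRing.closedPoint q.K)) =
      Points.map f x := by
    rw [← Points.ofPt_eq_map_ofScheme, Points.ofPt_toHom, hq]
  obtain ⟨p, -, hp2⟩ := points_exists_of_isPullback sq _ _ e
  refine ⟨Points.toScheme _ p, ?_⟩
  rw [Points.ofPt_eq_map_ofScheme, Points.ofScheme_toScheme, hp2]

theorem mono_toHom_ofPt {X : Sp S} {V : Over S} (fst : (yon S).obj V ⟶ X) [Mono fst] (v : ↥V.left) :
    Mono (FieldPt.ofPt fst v).toHom := by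
  rw [FieldPt.toHom_ofPt]
  have h1 : Mono ((yon S).map (resPt v)) := inferInstance
  exact @mono_comp _ _ _ _ _ _ h1 _ inferInstance

theorem repWith_quasiCompact_toHom_ofPt {X : Sp S} {V : Over S} (fst : (yon S).obj V ⟶ X)
    (h : RepWith @QuasiCompact fst) (v : ↥V.left) :
    RepWith @QuasiCompact (FieldPt.ofPt fst v).toHom := by
  rw [FieldPt.toHom_ofPt]
  refine (RepWith @QuasiCompact).comp_mem _ _ ((repWith_yon_map_iff @QuasiCompact _).2 ?_) h
  change QuasiCompact (V.left.fromSpecResidueField v)
  infer_instance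

/-- Mono points transfer along representable morphisms (S10413 for sheaves). -/
theorem exists_mono_point_of_representable {X Y : Sp S} (f : X ⟶ Y) (hf : Representable f)
    (x : Points X) (q : FieldPt Y) (hq : Points.mk q = Points.map f x) (hm : Mono q.toHom) :
    ∃ p : FieldPt X, Points.mk p = x ∧ Mono p.toHom ∧
      (RepWith @QuasiCompact q.toHom → RepWith @QuasiCompact p.toHom) := by
  obtain ⟨v, hv⟩ := exists_fibre_point f hf x q hq
  have hmono : Mono (hf.fst q.toHom) := (hf.isPullback q.toHom).mono_fst_of_mono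
  refine ⟨FieldPt.ofPt (hf.fst q.toHom) v, hv, mono_toHom_ofPt _ v, fun hqc => ?_⟩
  refine repWith_quasiCompact_toHom_ofPt _ ?_ v
  exact (RepWith @QuasiCompact).of_isPullback (hf.isPullback q.toHom).flip hqc

end Groth.Agent.Lib.Helper37.AlgSpPoints
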