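import Mathlib.AlgebraicGeometry.Morphisms.QuasiFinite
import Mathlib.AlgebraicGeometry.Morphisms.Etale
import Mathlib.AlgebraicGeometry.Morphisms.UniversallyOpen
import Mathlib.RingTheory.Unramified.LocalStructure
import Mathlib.RingTheory.Ideal.KrullsHeightTheorem
import Mathlib.AlgebraicGeometry.Noetherian

/-!
# Etale morphisms: locally quasi-finite, discrete fibres, lifting generizations (helper37)
-/

set_option autoImplicit false
universe u
open CategoryTheory CategoryTheory.Limits AlgebraicGeometry

namespace Groth.Agent.Lib.Helper37.EtaleFibres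

/-- An etale morphism of schemes is locally quasi-finite. -/
theorem locallyQuasiFinite_of_etale {X Y : Scheme.{u}} (f : X ⟶ Y) [Etale f] :
    LocallyQuasiFinite f := by
  refine ⟨fun {U} hU {V} hV e => ?_⟩
  have h := f.etale_appLE hU hV e
  algebraize [(f.appLE U V e).hom]
  have : Algebra.Etale Γ(Y, U) Γ(X, V) := h
  exact inferInstanceAs (Algebra.QuasiFinite Γ(Y, U) Γ(X, V))

/-- No non-trivial specializations inside a fibre of an etale morphism. -/
theorem eq_of_specializes_of_etale {X Y : Scheme.{u}} (f : X ⟶ Y) [Etale f] {r r' : ↥X}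
    (hs : r' ⤳ r) (he : f r' = f r) : r' = r := by
  have := locallyQuasiFinite_of_etale f
  have hd := f.isDiscrete_preimage_singleton (f r)
  have h1 : r ∈ f ⁻¹' {f r} := rfl
  have h2 : r' ∈ f ⁻¹' {f r} := he
  have : DiscreteTopology ↥(f ⁻¹' {f r}) := hd.to_subtype
  have h3 : (⟨r', h2⟩ : ↥(f ⁻¹' {f r})) ⤳ ⟨r, h1⟩ :=
    Topology.IsInducing.subtypeVal.specializes_iff.1 hs
  exact congrArg Subtype.val h3.eq

/-- Generizations lift along etale (flat) morphisms. -/
theorem exists_specializes_lift_of_etale {X Y : Scheme.{u}} (f : X ⟶ Y) [Etale f] {r : ↥X} {y' : ↥Y}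
    (hs : y' ⤳ f r) : ∃ r' : ↥X, r' ⤳ r ∧ f r' = y' := by
  have : Flat f := inferInstance
  exact Flat.generalizingMap f hs


/-- In a space mapping injectively and continuously to the spectrum of a Noetherian ring, there is no
nonempty set in which every point has a proper generization in the set. -/
theorem not_forall_exists_proper_generization {A : Type u} [CommRing A] [IsNoetherianRing A]
    {T : Type*} [TopologicalSpace T] (φ : T → PrimeSpectrum A) (hφ : Continuous φ)
    (hinj : Function.Injective φ) (Fib : Set T) (hne : Fib.Nonempty)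
    (h : ∀ w ∈ Fib, ∃ w' ∈ Fib, w' ⤳ w ∧ w' ≠ w) : False := by
  obtain ⟨w, hw, hmin⟩ := exists_minimalFor_of_wellFoundedLT (fun w => w ∈ Fib)
    (fun w => (φ w).asIdeal.height) hne
  obtain ⟨w', hw', hs, hne'⟩ := h w hw
  have hle : φ w' ≤ φ w := (PrimeSpectrum.le_iff_specializes _ _).2 (hs.map hφ)
  have hlt : (φ w').asIdeal < (φ w).asIdeal := by
    refine lt_of_le_of_ne hle fun heq => hne' (hinj (PrimeSpectrum.ext heq))
  have h1 := Ideal.height_strict_mono_of_isPrime hlt
  have h2 := hmin hw' h1.le
  exact absurd h1 (not_lt.2 h2)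

end Groth.Agent.Lib.Helper37.EtaleFibres
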