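import Mathlib
import Groth.Prelude.Def_AlgSpGpd
import Groth.Agent.Lib.Helper5.FieldBase
import Groth.Agent.Lib.Helper5.GroupoidSep
import Groth.Agent.Lib.Helper30.EtLocalInst
import Groth.Agent.S10262

/-!
# Pseudo-torsors inherit unramifiedness and local quasi-finiteness (helper37)

* `isPullback_diag_of_isPseudoTorsor`, `isPullback_diagonal_left`: for a pseudo-torsor `X` under `G` over
  `B`, the diagonal of `X ⟶ B` is a base change of the unit section of `G`.
* `unramified_of_isPseudoTorsor`.
* `locallyQuasiFinite_of_pullback_snd` (schemes): `h` lft with `U ×_V U ⟶ U` lqf is lqf.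
* `locP_lqf_of_snd`: the same for algebraic spaces (chart-wise `LocP`).
* `lqf_of_isPseudoTorsor` (S10118).
-/

set_option autoImplicit false
universe u
open CategoryTheory CategoryTheory.Limits AlgebraicGeometry MonoidalCategory MonObj CartesianMonoidalCategory
open AlgSp AlgSp.GAction
open Groth.Agent.Lib.Helper46 Groth.Agent.Lib.Helper46.LocPChart Groth.Agent.Lib.Helper23.AlgSpMor

namespace Groth.Agent.Lib.Helper37.PseudoTorsor

section Scheme

/-- A morphism locally of finite type whose base change along itself is locally quasi-finite is locally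
quasi-finite. -/
theorem locallyQuasiFinite_of_pullback_snd {U V : Scheme.{u}} (h : U ⟶ V) [LocallyOfFiniteType h]
    (H : LocallyQuasiFinite (pullback.snd h h)) : LocallyQuasiFinite h := by
  refine LocallyQuasiFinite.of_fiberToSpecResidueField h fun v => ?_
  have hlft : LocallyOfFiniteType (h.fiberToSpecResidueField v) := by
    unfold Scheme.Hom.fiberToSpecResidueField
    exact MorphismProperty.pullback_snd (P := @LocallyOfFiniteType) _ _ inferInstance
  rw [locallyQuasiFinite_iff_isDiscrete_preimage_singleton]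
  intro x₀
  suffices hd : DiscreteTopology ↥(h.fiber v) from
    (isDiscrete_univ_iff.2 hd).mono (Set.subset_univ _)
  rw [discreteTopology_iff_isOpen_singleton]
  intro z
  let K := (h.fiber v).residueField z
  let ιz : Spec K ⟶ h.fiber v := (h.fiber v).fromSpecResidueField z
  let θ : Spec K ⟶ Spec (V.residueField v) := ιz ≫ h.fiberToSpecResidueField v
  let x : Spec K ⟶ U := ιz ≫ h.fiberι v
  have sqR : IsPullback (h.fiberι v) (h.fiberToSpecResidueField v) h (V.fromSpecResidueField v) :=
    IsPullback.of_hasPullback _ _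
  have hxθ : x ≫ h = θ ≫ V.fromSpecResidueField v := by
    simp only [x, θ, Category.assoc, sqR.w]
  let g : pullback (h.fiberToSpecResidueField v) θ ⟶ h.fiber v := pullback.fst _ _
  let p2 : pullback (h.fiberToSpecResidueField v) θ ⟶ Spec K := pullback.snd _ _
  have hp2 : LocallyQuasiFinite p2 := by
    have sqL : IsPullback g p2 (h.fiberToSpecResidueField v) θ := IsPullback.of_hasPullback _ _
    have sqO : IsPullback (g ≫ h.fiberι v) p2 h (θ ≫ V.fromSpecResidueField v) :=
      sqL.paste_horiz sqR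
    rw [← hxθ] at sqO
    have sqW : IsPullback (pullback.fst h h) (pullback.snd h h) h h := IsPullback.of_hasPullback _ _
    let m : pullback (h.fiberToSpecResidueField v) θ ⟶ pullback h h :=
      pullback.lift (g ≫ h.fiberι v) (p2 ≫ x) (sqO.w.trans (Category.assoc _ _ _).symm)
    have hm1 : m ≫ pullback.fst h h = g ≫ h.fiberι v := pullback.lift_fst _ _ _
    have hm2 : m ≫ pullback.snd h h = p2 ≫ x := pullback.lift_snd _ _ _
    have sqM : IsPullback m p2 (pullback.snd h h) x :=
      IsPullback.of_right (by rw [hm1]; exact sqO) hm2 sqW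
    exact MorphismProperty.of_isPullback (P := @LocallyQuasiFinite) sqM H
  have hsubK : Subsingleton ↥(Spec K) := inferInstanceAs (Subsingleton (PrimeSpectrum K))
  have hFd : DiscreteTopology ↥(pullback (h.fiberToSpecResidueField v) θ) := by
    rw [← isDiscrete_univ_iff]
    have h1 := p2.isDiscrete_preimage_singleton (IsLocalRing.closedPoint K)
    exact h1.mono (fun w _ => Subsingleton.elim (α := ↥(Spec K)) _ _)
  have hθs : Surjective θ := by
    refine ⟨fun t => ⟨IsLocalRing.closedPoint K, ?_⟩⟩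
    exact Subsingleton.elim (α := PrimeSpectrum _) _ _
  have hgs : Surjective g := inferInstanceAs (Surjective (pullback.fst _ θ))
  have hθo : UniversallyOpen θ := inferInstance
  have hgo : UniversallyOpen g := inferInstanceAs (UniversallyOpen (pullback.fst _ θ))
  obtain ⟨w, hw⟩ := g.surjective z
  have : ({z} : Set ↥(h.fiber v)) = g '' {w} := by rw [Set.image_singleton, hw]
  rw [this]
  exact g.isOpenMap _ (isOpen_discrete _)

end Scheme

variable {S : Scheme.{u}}

/-- If the second projection `X ×_B X ⟶ X` is locally quasi-finite and `X ⟶ B` is locally of finite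
type, then `X ⟶ B` is locally quasi-finite. -/
theorem locP_lqf_of_snd {B X : Sp S} (hB : IsAlgSpace B) (hX : IsAlgSpace X) (f : X ⟶ B)
    (hft : LocP @LocallyOfFiniteType f)
    (hpr2 : LocP (@LocallyQuasiFinite ⊓ @LocallyOfFiniteType) (pullback.snd f f)) :
    LocP (@LocallyQuasiFinite ⊓ @LocallyOfFiniteType) f := by
  have hQ := Groth.Agent.Lib.Helper30.EtLocalInst.etLocal_lqf.{u}
  have hXX : IsAlgSpace (pullback f f) :=
    isAlgSpace_of_isPullback hX hX hB.diag (IsPullback.of_hasPullback f f)
  obtain ⟨V, b, hbe, hbs⟩ := hB.atlas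
  obtain ⟨U, a₁, h, d, hde, hds, ha₁, hh, hae, comm, has⟩ := exists_chart hX hB.diag f b hbe
  have hlft : LocallyOfFiniteType h.left := hft a₁ b h hae hbe comm
  refine locP_of_chart hQ f a₁ b h hae (has hbs) hbe comm ⟨?_, hlft⟩
  apply locallyQuasiFinite_of_pullback_snd h.left
  refine (prop_pullback_snd_left hQ h h ?_).1
  -- the scheme `E = U ×_V U`
  have sqE := (IsPullback.of_hasPullback h h).map (yon S)
  set ε1 := pullback.fst h h
  set ε2 := pullback.snd h h
  set pr1 := pullback.fst f f
  set pr2 := pullback.snd f f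
  have sqXX : IsPullback pr1 pr2 f f := IsPullback.of_hasPullback f f
  have he1w : ((yon S).map ε1 ≫ a₁) ≫ f = ((yon S).map ε2 ≫ a₁) ≫ f := by
    rw [Category.assoc, Category.assoc, comm, ← Category.assoc, ← Category.assoc, sqE.w]
  let e1 : (yon S).obj (pullback h h) ⟶ pullback f f :=
    pullback.lift ((yon S).map ε1 ≫ a₁) ((yon S).map ε2 ≫ a₁) he1w
  have he1a : e1 ≫ pr1 = (yon S).map ε1 ≫ a₁ := pullback.lift_fst _ _ _
  have he1b : e1 ≫ pr2 = (yon S).map ε2 ≫ a₁ := pullback.lift_snd _ _ _
  let e : (yon S).obj (pullback h h) ⟶ pullback pr2 a₁ := pullback.lift e1 ((yon S).map ε2) he1b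
  have hea : e ≫ pullback.fst pr2 a₁ = e1 := pullback.lift_fst _ _ _
  have heb : e ≫ pullback.snd pr2 a₁ = (yon S).map ε2 := pullback.lift_snd _ _ _
  -- `P = XX ×_X h_U` is also `(X ×_B h_V) ×_{h_V} h_U`
  have sqP : IsPullback (pullback.fst pr2 a₁) (pullback.snd pr2 a₁) pr2 a₁ :=
    IsPullback.of_hasPullback _ _
  have sqO1 : IsPullback (pullback.fst pr2 a₁ ≫ pr1) (pullback.snd pr2 a₁) f (a₁ ≫ f) :=
    sqP.paste_horiz sqXX
  have sqXV : IsPullback (pullback.fst f b) (pullback.snd f b) f b := IsPullback.of_hasPullback f b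
  have hqw : (pullback.fst pr2 a₁ ≫ pr1) ≫ f = (pullback.snd pr2 a₁ ≫ (yon S).map h) ≫ b := by
    rw [sqO1.w, Category.assoc, comm]
  let q : pullback pr2 a₁ ⟶ pullback f b :=
    pullback.lift (pullback.fst pr2 a₁ ≫ pr1) (pullback.snd pr2 a₁ ≫ (yon S).map h) hqw
  have hqa : q ≫ pullback.fst f b = pullback.fst pr2 a₁ ≫ pr1 := pullback.lift_fst _ _ _
  have hqb : q ≫ pullback.snd f b = pullback.snd pr2 a₁ ≫ (yon S).map h := pullback.lift_snd _ _ _
  have sqQ : IsPullback q (pullback.snd pr2 a₁) (pullback.snd f b) ((yon S).map h) := by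
    refine IsPullback.of_right ?_ hqb sqXV
    rw [hqa, ← comm]
    exact sqO1
  -- `e` is a base change of `d`
  have hed : (yon S).map ε1 ≫ d = e ≫ q := by
    apply pullback.hom_ext
    · rw [Category.assoc, ← ha₁, Category.assoc, hqa, ← Category.assoc, hea, he1a]
    · rw [Category.assoc, ← hh, Category.assoc, hqb, ← Category.assoc, heb]
      exact sqE.w
  have sqe : IsPullback ((yon S).map ε1) e d q := by
    have := IsPullback.of_right (h₁₁ := e) (h₁₂ := pullback.snd pr2 a₁) (v₁₁ := (yon S).map ε1)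
      (v₁₂ := q) (v₁₃ := (yon S).map h) (h₂₁ := d) (h₂₂ := pullback.snd f b)
      (by rw [heb, ← hh]; exact sqE.flip) hed.symm sqQ.flip
    exact this.flip
  have he : RepWith @Etale e := MorphismProperty.of_isPullback (P := RepWith (S := S) @Etale) sqe hde
  exact locP_fibre hQ hXX hX pr2 hpr2 a₁ (pullback.fst pr2 a₁) (pullback.snd pr2 a₁) sqP e he ε2
    heb.symm

variable {B : Sp S} {G X : Over B} [GrpObj G] (a : GAction G X)

/-- the unit acts trivially, on points -/
theorem lift_unit_act {T : Over B} (y : T ⟶ X) :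
    lift (toUnit T ≫ η[G]) y ≫ a.act = y := by
  have h1 : lift (toUnit T ≫ η[G]) y = lift (toUnit T) y ≫ (η[G] ▷ X) := by
    rw [lift_whiskerRight]
  rw [h1, Category.assoc, a.one_act]
  simp

/-- For a pseudo-torsor the diagonal of `X` is a base change of the unit section of `G`. -/
theorem isPullback_diag_of_iso (Φ : G ⊗ X ⟶ X ⊗ X) [IsIso Φ] (hΦ1 : Φ ≫ fst X X = a.act)
    (hΦ2 : Φ ≫ snd X X = snd G X) :
    IsPullback (toUnit X) (lift (𝟙 X) (𝟙 X)) η[G] (inv Φ ≫ fst G X) := by
  -- Φ (1, x) = (x, x)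
  have hdiag : lift (toUnit X ≫ η[G]) (𝟙 X) ≫ Φ = lift (𝟙 X) (𝟙 X) := by
    apply CartesianMonoidalCategory.hom_ext
    · rw [Category.assoc, hΦ1, lift_unit_act, lift_fst]
    · rw [Category.assoc, hΦ2, lift_snd, lift_snd]
  have w : toUnit X ≫ η[G] = lift (𝟙 X) (𝟙 X) ≫ inv Φ ≫ fst G X := by
    rw [← hdiag, Category.assoc, IsIso.hom_inv_id_assoc, lift_fst]
  refine ⟨⟨w⟩, ⟨PullbackCone.IsLimit.mk _ (fun c => c.snd ≫ snd X X) ?_ ?_ ?_⟩⟩
  · intro c
    exact toUnit_unique _ _
  · intro c
    have h := c.condition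
    obtain ⟨d, hd⟩ : ∃ d, d = c.snd ≫ inv Φ := ⟨_, rfl⟩
    have hd1 : d ≫ fst G X = toUnit _ ≫ η[G] := by
      rw [hd, Category.assoc, ← h, toUnit_unique c.fst (toUnit _)]
    have hc : c.snd = d ≫ Φ := by rw [hd, Category.assoc, IsIso.inv_hom_id, Category.comp_id]
    have hd' : d = lift (toUnit _ ≫ η[G]) (d ≫ snd G X) := by
      apply CartesianMonoidalCategory.hom_ext
      · rw [lift_fst, hd1]
      · rw [lift_snd]
    have h1 : c.snd ≫ fst X X = c.snd ≫ snd X X := by
      rw [hc, Category.assoc, Category.assoc, hΦ1, hΦ2]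
      conv_lhs => rw [hd']
      rw [lift_unit_act]
    apply CartesianMonoidalCategory.hom_ext
    · rw [Category.assoc, lift_fst, Category.comp_id, h1]
    · rw [Category.assoc, lift_snd, Category.comp_id]
  · intro c m _ hm
    rw [← hm, Category.assoc, lift_snd, Category.comp_id]

theorem isPullback_diag_of_isPseudoTorsor [IsIso (lift a.act (snd G X))] :
    IsPullback (toUnit X) (lift (𝟙 X) (𝟙 X)) η[G]
      (inv (lift a.act (snd G X)) ≫ fst G X) :=
  isPullback_diag_of_iso a _ (lift_fst _ _) (lift_snd _ _)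

theorem isPullback_diagonal_left [IsIso (lift a.act (snd G X))] :
    IsPullback X.hom (pullback.diagonal X.hom) (η[G]).left
      (inv (lift a.act (snd G X)) ≫ fst G X).left := by
  have h := (isPullback_diag_of_isPseudoTorsor a).map (Over.forget B)
  have h1 : (Over.forget B).map (toUnit X) = X.hom := by
    simp
  have h2 : (Over.forget B).map (lift (𝟙 X) (𝟙 X)) = pullback.diagonal X.hom := by
    apply pullback.hom_ext
    · simp
      exact pullback.lift_fst _ _ _
    · simp
      exact pullback.lift_snd _ _ _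
  rw [h1, h2] at h
  exact h

theorem unramified_of_isPseudoTorsor (hB : IsAlgSpace B) (hG : IsAlgSpace G.left)
    (hX : IsAlgSpace X.left) (ha : a.IsPseudoTorsor) (hXt : LocP @LocallyOfFiniteType X.hom)
    (hGu : LocP (@LocallyOfFiniteType ⊓ @FormallyUnramified) G.hom) :
    LocP (@LocallyOfFiniteType ⊓ @FormallyUnramified) X.hom := by
  have hiso : IsIso (lift a.act (snd G X)) := ha
  let Gs : Space S := ⟨G.left, hG⟩
  let Bs : Space S := ⟨B, hB⟩
  let Xs : Space S := ⟨X.left, hX⟩
  let fG : Gs ⟶ Bs := ObjectProperty.homMk G.hom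
  let fX : Xs ⟶ Bs := ObjectProperty.homMk X.hom
  have h1 : RepWith @IsOpenImmersion (pullback.diagonal G.hom) := (Groth.Agent.S10262.result fG).1 hGu
  have hsec : (η[G]).left ≫ G.hom = 𝟙 B := by
    have := Over.w (η[G])
    simpa using this
  have h2 : RepWith @IsOpenImmersion (η[G]).left :=
    Groth.Agent.Lib.Helper5.GroupoidSep.of_section (RepWith (S := S) @IsOpenImmersion) G.hom _ hsec h1
  have h3 : RepWith @IsOpenImmersion (pullback.diagonal X.hom) :=
    MorphismProperty.of_isPullback (P := RepWith (S := S) @IsOpenImmersion)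
      (isPullback_diagonal_left a) h2
  exact (Groth.Agent.S10262.result fX).2 hXt h3

theorem lqf_of_isPseudoTorsor (hB : IsAlgSpace B) (hG : IsAlgSpace G.left)
    (hX : IsAlgSpace X.left) (ha : a.IsPseudoTorsor) (hXt : LocP @LocallyOfFiniteType X.hom)
    (hGq : LocP (@LocallyQuasiFinite ⊓ @LocallyOfFiniteType) G.hom) :
    LocP (@LocallyQuasiFinite ⊓ @LocallyOfFiniteType) X.hom := by
  have hiso : IsIso (lift a.act (snd G X)) := ha
  have hQ := Groth.Agent.Lib.Helper30.EtLocalInst.etLocal_lqf.{u}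
  have sqGX : IsPullback (pullback.fst G.hom X.hom) (pullback.snd G.hom X.hom) G.hom X.hom :=
    IsPullback.of_hasPullback _ _
  have hGX : IsAlgSpace (pullback G.hom X.hom) := isAlgSpace_of_isPullback hG hX hB.diag sqGX
  have h1 : LocP (@LocallyQuasiFinite ⊓ @LocallyOfFiniteType) (pullback.snd G.hom X.hom) :=
    locP_of_isPullback hQ hG hB hGX hX sqGX hGq
  have hΦ2 : lift a.act (snd G X) ≫ snd X X = snd G X := lift_snd _ _
  have hΦ2' : (lift a.act (snd G X)).left ≫ pullback.snd X.hom X.hom = pullback.snd G.hom X.hom := by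
    have := congrArg (fun m => CommaMorphism.left m) hΦ2
    exact this
  have hΦiso : IsIso (lift a.act (snd G X)).left :=
    inferInstanceAs (IsIso ((Over.forget B).map (lift a.act (snd G X))))
  have h2 : LocP (@LocallyQuasiFinite ⊓ @LocallyOfFiniteType) (pullback.snd X.hom X.hom) := by
    have h3 : pullback.snd X.hom X.hom =
        (asIso (inv (lift a.act (snd G X)).left)).hom ≫ pullback.snd G.hom X.hom := by
      rw [← hΦ2', asIso_hom, IsIso.inv_hom_id_assoc]
    rw [h3]
    exact Groth.Agent.Lib.Helper5.FieldBase.locP_iso_comp _ _ h1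
  exact locP_lqf_of_snd hB hX X.hom hXt h2

end Groth.Agent.Lib.Helper37.PseudoTorsor
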