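import Groth.Agent.Lib.Helper37.AlgSpPoints
import Groth.Agent.Lib.Helper37.EtaleFibres

/-!
# Fibres of etale charts over a point of a sheaf / algebraic space (helper37)
-/

set_option autoImplicit false
universe u
open CategoryTheory CategoryTheory.Limits AlgebraicGeometry Opposite

namespace Groth.Agent.Lib.Helper37.AlgSpFibres

open AlgSp Groth.Agent.Lib.Helper37.AlgSpPoints Groth.Agent.Lib.Helper37.EtaleFibres

variable {S : Scheme.{u}}

/-- Both projections of `U ×_F U` are etale for a representable etale chart. -/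
theorem etale_fst'_self {F : Sp S} {U : Over S} (a : (yon S).obj U ⟶ F) (ha : RepWith @Etale a) :
    Etale (ha.rep.fst' a).left :=
  ha.property a ((yon S).map (ha.rep.snd a)) (ha.rep.fst' a) (ha.rep.isPullback' a).flip

/-- Key step: if `u' ⤳ u` are distinct points of an etale chart over the same point, every point of the
fibre has a proper generization in the fibre. -/
theorem exists_proper_generization {F : Sp S} {U : Over S} (a : (yon S).obj U ⟶ F)
    (ha : RepWith @Etale a) {u u' : ↥U.left} (he : Points.ofPt a u = Points.ofPt a u')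
    (hs : u' ⤳ u) (hne : u ≠ u') (w : ↥U.left) (hw : Points.ofPt a w = Points.ofPt a u) :
    ∃ w' : ↥U.left, w' ⤳ w ∧ w' ≠ w ∧ Points.ofPt a w' = Points.ofPt a u := by
  have hsq := ha.rep.isPullback' a
  have h1 : Etale (ha.rep.snd a).left := ha.property_snd a
  have h2 : Etale (ha.rep.fst' a).left := etale_fst'_self a ha
  obtain ⟨r, hr1, hr2⟩ := (ofPt_eq_ofPt_iff hsq u w).1 hw.symm
  obtain ⟨r', hr', hr'1⟩ := exists_specializes_lift_of_etale (ha.rep.fst' a).left (r := r) (y' := u')
    (by rw [hr1]; exact hs)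
  refine ⟨(ha.rep.snd a).left r', ?_, ?_, ?_⟩
  · rw [← hr2]
    exact hr'.map (ha.rep.snd a).left.continuous
  · intro h
    rw [← hr2] at h
    have := eq_of_specializes_of_etale (ha.rep.snd a).left hr' h
    apply hne
    rw [← hr1, ← hr'1, this]
  · rw [← (ofPt_eq_ofPt_iff hsq _ _).2 ⟨r', rfl, rfl⟩, hr'1, he]

/-- If the fibre of an etale chart over a point is finite, there are no non-trivial specializations in it. -/
theorem eq_of_specializes_of_finite {F : Sp S} {U : Over S} (a : (yon S).obj U ⟶ F)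
    (ha : RepWith @Etale a) {u u' : ↥U.left} (he : Points.ofPt a u = Points.ofPt a u')
    (hs : u' ⤳ u) (hfin : (Points.ofPt a ⁻¹' {Points.ofPt a u}).Finite) : u = u' := by
  by_contra hne
  set Fib : Set ↥U.left := Points.ofPt a ⁻¹' {Points.ofPt a u} with hFib
  let G : ↥U.left → Set ↥U.left := fun w => {w' | w' ∈ Fib ∧ w' ⤳ w}
  have hGfin : ∀ w, (G w).Finite := fun w => hfin.subset fun _ h => h.1
  obtain ⟨w, hwF, hwmin⟩ := exists_minimalFor_of_wellFoundedLT (fun w => w ∈ Fib)
    (fun w => (G w).ncard) ⟨u, rfl⟩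
  obtain ⟨w', hw's, hw'ne, hw'F⟩ := exists_proper_generization a ha he hs hne w hwF
  have hsub : G w' ⊂ G w := by
    refine ⟨fun z hz => ⟨hz.1, hz.2.trans hw's⟩, fun h => ?_⟩
    have hw : w ∈ G w' := h ⟨hwF, specializes_rfl⟩
    exact hw'ne (hw's.antisymm hw.2).eq
  have hlt := Set.ncard_lt_ncard hsub (hGfin w)
  have := hwmin hw'F hlt.le
  simp only at this
  omega

/-- Restriction of a chart to an open subscheme. -/
noncomputable abbrev openOver (U : Over S) (U₀ : U.left.Opens) : Over S := Over.mk (U₀.ι ≫ U.hom)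

noncomputable abbrev openι (U : Over S) (U₀ : U.left.Opens) : openOver U U₀ ⟶ U :=
  Over.homMk U₀.ι rfl

theorem repWith_etale_restrict {F : Sp S} {U : Over S} (a : (yon S).obj U ⟶ F)
    (ha : RepWith @Etale a) (U₀ : U.left.Opens) :
    RepWith @Etale ((yon S).map (openι U U₀) ≫ a) := by
  have hι : Etale (openι U U₀).left := by
    change Etale U₀.ι
    infer_instance
  exact (RepWith @Etale).comp_mem _ _ ((repWith_yon_map_iff @Etale _).2 hι) ha

theorem ofPt_restrict {F : Sp S} {U : Over S} (a : (yon S).obj U ⟶ F) (U₀ : U.left.Opens)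
    (v : ↥U₀) : Points.ofPt ((yon S).map (openι U U₀) ≫ a) v = Points.ofPt a v.1 := by
  rw [ofPt_map_comp]
  rfl

/-- S10341 for sheaves: finite fibres on affine etale charts imply no specializations in fibres. -/
theorem eq_of_specializes_of_finite_fibres {F : Sp S} (x : Points F)
    (hx : ∀ (V : Over S) (b : (yon S).obj V ⟶ F), IsAffine V.left → RepWith @Etale b →
      (Points.ofPt b ⁻¹' {x}).Finite)
    {U : Over S} (a : (yon S).obj U ⟶ F) (ha : RepWith @Etale a) (u u' : ↥U.left)
    (hu : Points.ofPt a u = x) (hu' : Points.ofPt a u' = x) (hs : u' ⤳ u) : u = u' := by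
  obtain ⟨_, ⟨U₀, hU₀, rfl⟩, huU₀, -⟩ :=
    U.left.isBasis_affineOpens.exists_subset_of_mem_open (Set.mem_univ u) isOpen_univ
  have hu'U₀ : u' ∈ U₀ := hs.mem_open U₀.2 huU₀
  have ha₀ := repWith_etale_restrict a ha U₀
  have hs₀ : (⟨u', hu'U₀⟩ : ↥U₀) ⤳ ⟨u, huU₀⟩ :=
    Topology.IsInducing.subtypeVal.specializes_iff.1 hs
  have hfin := hx (openOver U U₀) _ hU₀ ha₀
  have key := eq_of_specializes_of_finite (u := (⟨u, huU₀⟩ : ↥U₀)) (u' := (⟨u', hu'U₀⟩ : ↥U₀)) _ ha₀
    (by rw [ofPt_restrict, ofPt_restrict]; exact hu.trans hu'.symm) hs₀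
    (by rw [ofPt_restrict]; exact hu ▸ hfin)
  exact congrArg Subtype.val key


/-- A compact scheme etale over the spectrum of a field is finite. -/
theorem finite_of_etale_over_field {W : Scheme.{u}} (K : Type u) [Field K]
    (f : W ⟶ Spec (CommRingCat.of K)) [Etale f] [CompactSpace ↥W] : Finite ↥W := by
  have := locallyQuasiFinite_of_etale f
  let y : ↥(Spec (CommRingCat.of K)) := IsLocalRing.closedPoint K
  have hd := f.isDiscrete_preimage_singleton y
  have huniv : f ⁻¹' {y} = Set.univ :=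
    Set.eq_univ_of_forall fun w => Subsingleton.elim (α := PrimeSpectrum K) _ _
  rw [huniv] at hd
  have : DiscreteTopology ↥W := isDiscrete_univ_iff.1 hd
  exact finite_of_compact_of_discrete

/-- If the point `x` is represented by a field-valued point whose morphism is representable
quasi-compact, then fibres of affine (or just quasi-compact) etale charts over `x` are finite. -/
theorem finite_fibre_of_qc_point {F : Sp S} (p : FieldPt F) (hq : RepWith @QuasiCompact p.toHom)
    {V : Over S} (b : (yon S).obj V ⟶ F) (hb : RepWith @Etale b) [CompactSpace ↥V.left] :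
    (Points.ofPt b ⁻¹' {Points.mk p}).Finite := by
  have sq := hq.rep.isPullback' b
  have h1 : QuasiCompact (hq.rep.snd b).left := hq.property_snd b
  have h2 : Etale (hq.rep.fst' b).left := hb.property p.toHom _ _ sq.flip
  have : CompactSpace ↥(hq.rep.pullback b).left :=
    QuasiCompact.compactSpace_of_compactSpace (hq.rep.snd b).left
  have hfin : Finite ↥(hq.rep.pullback b).left := finite_of_etale_over_field p.K (hq.rep.fst' b).left
  refine (Set.finite_range (hq.rep.snd b).left).subset ?_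
  intro v hv
  have hv' : Points.ofPt p.toHom (IsLocalRing.closedPoint p.K) = Points.ofPt b v := by
    rw [Points.ofPt_toHom]
    exact hv.symm
  obtain ⟨r, -, hr⟩ := (ofPt_eq_ofPt_iff sq _ _).1 hv'
  exact ⟨r, hr⟩

/-- S10340 for sheaves. -/
theorem eq_of_specializes_of_isDecent {F : Sp S} (hF : IsDecent F) {U : Over S}
    (a : (yon S).obj U ⟶ F) (ha : RepWith @Etale a) (u u' : ↥U.left)
    (he : Points.ofPt a u = Points.ofPt a u') (hs : u' ⤳ u) : u = u' := by
  obtain ⟨p, hp, -, hq⟩ := hF (Points.ofPt a u)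
  refine eq_of_specializes_of_finite_fibres (Points.ofPt a u) ?_ a ha u u' rfl he.symm hs
  intro V b hV hb
  rw [← hp]
  exact finite_fibre_of_qc_point p hq b hb


/-- S10343 for sheaves: if `x' ⤳ x` and `x'` is represented by a field-valued point whose morphism is
representable quasi-compact, then `x'` lifts to a generization of any chart point over `x`. -/
theorem exists_specializes_lift_of_qc_point {F : Sp S} (x x' : Points F) (h : x' ⤳ x)
    (p : FieldPt F) (hp : Points.mk p = x') (hq : RepWith @QuasiCompact p.toHom)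
    {U : Over S} (a : (yon S).obj U ⟶ F) (ha : RepWith @Etale a) (u : ↥U.left)
    (hu : Points.ofPt a u = x) : ∃ u' : ↥U.left, u' ⤳ u ∧ Points.ofPt a u' = x' := by
  obtain ⟨_, ⟨U₀, hU₀, rfl⟩, huU₀, -⟩ :=
    U.left.isBasis_affineOpens.exists_subset_of_mem_open (Set.mem_univ u) isOpen_univ
  have ha₀ := repWith_etale_restrict a ha U₀
  have : CompactSpace ↥(openOver U U₀).left := isCompact_iff_compactSpace.1 hU₀.isCompact
  have hfin := finite_fibre_of_qc_point p hq _ ha₀
  rw [hp] at hfin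
  set a₀ := (yon S).map (openι U U₀) ≫ a with ha₀def
  set Fib : Set ↥U₀ := Points.ofPt a₀ ⁻¹' {x'} with hFib
  have hcl : (⟨u, huU₀⟩ : ↥U₀) ∈ closure Fib := by
    rw [mem_closure_iff]
    intro o ho huo
    have hopen : IsOpen (Points.ofPt a₀ '' o) := isOpenMap_ofPt a₀ ha₀ o ho
    have hx : x ∈ Points.ofPt a₀ '' o := ⟨⟨u, huU₀⟩, huo, by rw [ofPt_restrict]; exact hu⟩
    obtain ⟨z, hzo, hz⟩ := h.mem_open hopen hx
    exact ⟨z, hzo, hz⟩
  have hFib' : Fib = ⋃ z ∈ Fib, {z} := (Set.biUnion_of_singleton Fib).symm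
  have hfin' : Fib.Finite := hfin
  rw [hFib', hfin'.closure_biUnion] at hcl
  obtain ⟨z, hzF, hz⟩ : ∃ z ∈ Fib, (⟨u, huU₀⟩ : ↥U₀) ∈ closure {z} := by
    simpa using hcl
  refine ⟨z.1, ?_, ?_⟩
  · exact (specializes_iff_mem_closure.2 hz).map continuous_subtype_val
  · rw [← ofPt_restrict a U₀ z]
    exact hzF


/-- No specializations in fibres of an etale chart from a locally Noetherian scheme. -/
theorem eq_of_specializes_of_isLocallyNoetherian_chart {F : Sp S} {U : Over S}
    [IsLocallyNoetherian U.left] (a : (yon S).obj U ⟶ F) (ha : RepWith @Etale a) {u u' : ↥U.left}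
    (he : Points.ofPt a u = Points.ofPt a u') (hs : u' ⤳ u) : u = u' := by
  by_contra hne
  obtain ⟨_, ⟨V, hV, rfl⟩, huV, -⟩ :=
    U.left.isBasis_affineOpens.exists_subset_of_mem_open (Set.mem_univ u) isOpen_univ
  have hu'V : u' ∈ V := hs.mem_open V.2 huV
  have haV := repWith_etale_restrict a ha V
  have hsV : (⟨u', hu'V⟩ : ↥V) ⤳ ⟨u, huV⟩ :=
    Topology.IsInducing.subtypeVal.specializes_iff.1 hs
  have heV : Points.ofPt ((yon S).map (openι U V) ≫ a) (⟨u, huV⟩ : ↥V) =
      Points.ofPt ((yon S).map (openι U V) ≫ a) (⟨u', hu'V⟩ : ↥V) := by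
    rw [ofPt_restrict, ofPt_restrict]; exact he
  have hneV : (⟨u, huV⟩ : ↥V) ≠ ⟨u', hu'V⟩ := fun h => hne (congrArg Subtype.val h)
  have : IsNoetherianRing Γ(U.left, V) := IsLocallyNoetherian.component_noetherian ⟨V, hV⟩
  let φ : ↥V ≃ₜ ↥(Spec Γ(U.left, V)) := Scheme.homeoOfIso (IsAffineOpen.isoSpec hV)
  refine not_forall_exists_proper_generization (A := Γ(U.left, V)) (T := ↥V) (fun w => φ w)
    φ.continuous φ.injective
    (Points.ofPt ((yon S).map (openι U V) ≫ a) ⁻¹'
      {Points.ofPt ((yon S).map (openι U V) ≫ a) (⟨u, huV⟩ : ↥V)}) ⟨⟨u, huV⟩, rfl⟩ ?_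
  intro w hw
  obtain ⟨w', h1, h2, h3⟩ := exists_proper_generization _ haV heV hsV hneV w hw
  exact ⟨w', h3, h1, h2⟩

/-- S10342 for sheaves: no specializations in fibres of etale charts on a locally Noetherian sheaf. -/
theorem eq_of_specializes_of_isLocNoethSp {F : Sp S} (hF : IsLocNoethSp F) {U : Over S}
    (a : (yon S).obj U ⟶ F) (ha : RepWith @Etale a) (u u' : ↥U.left)
    (he : Points.ofPt a u = Points.ofPt a u') (hs : u' ⤳ u) : u = u' := by
  obtain ⟨U₀, p₀, hp₀e, hp₀s, hN⟩ := hF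
  have : IsLocallyNoetherian U₀.left := hN
  have sq := hp₀e.rep.isPullback' a
  have h1 : Etale (hp₀e.rep.snd a).left := hp₀e.property_snd a
  have h2 : Surjective (hp₀e.rep.snd a).left := hp₀s.property _ _ _ (hp₀e.rep.isPullback a)
  have h3 : Etale (hp₀e.rep.fst' a).left := ha.property p₀ _ _ sq.flip
  obtain ⟨r, hr⟩ := h2.surj u
  obtain ⟨r', hr's, hr'u⟩ := exists_specializes_lift_of_etale (hp₀e.rep.snd a).left (r := r)
    (y' := u') (by rw [hr]; exact hs)
  have e1 : Points.ofPt p₀ ((hp₀e.rep.fst' a).left r) = Points.ofPt a u :=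
    (ofPt_eq_ofPt_iff sq _ _).2 ⟨r, rfl, hr⟩
  have e2 : Points.ofPt p₀ ((hp₀e.rep.fst' a).left r') = Points.ofPt a u' :=
    (ofPt_eq_ofPt_iff sq _ _).2 ⟨r', rfl, hr'u⟩
  have key := eq_of_specializes_of_isLocallyNoetherian_chart p₀ hp₀e (e1.trans (he.trans e2.symm))
    (hr's.map (hp₀e.rep.fst' a).left.continuous)
  have := eq_of_specializes_of_etale (hp₀e.rep.fst' a).left hr's key.symm
  rw [← hr, ← hr'u, this]


/-- S10338: the space of points of a decent algebraic space is T0. -/
theorem t0Space_points_of_isDecent (X : Space S) (hX : IsDecent X.obj) : T0Space (Points X.obj) := by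
  refine ⟨fun x y hxy => ?_⟩
  obtain ⟨U, p, hpe, hps⟩ := X.property.atlas
  obtain ⟨u, rfl⟩ := ofPt_surjective p hps x
  obtain ⟨qy, hqy, -, hqyc⟩ := hX y
  obtain ⟨qx, hqx, -, hqxc⟩ := hX (Points.ofPt p u)
  obtain ⟨u₁, hu₁s, hu₁⟩ := exists_specializes_lift_of_qc_point _ y hxy.specializes' qy hqy hqyc p hpe u rfl
  obtain ⟨u₂, hu₂s, hu₂⟩ := exists_specializes_lift_of_qc_point y _ hxy.specializes qx hqx hqxc p hpe u₁ hu₁
  have h1 : u = u₂ := eq_of_specializes_of_isDecent hX p hpe u u₂ hu₂.symm (hu₂s.trans hu₁s)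
  have h2 : u = u₁ := ((h1 ▸ hu₂s).antisymm hu₁s).eq
  rw [← hu₁, ← h2]


/-- A locally quasi-finite morphism with quasi-compact source has finite fibres. -/
theorem finite_preimage_singleton_of_compactSpace {W U : Scheme.{u}} (g : W ⟶ U)
    [LocallyQuasiFinite g] [CompactSpace ↥W] (y : ↥U) : (g ⁻¹' {y}).Finite := by
  have h1 : QuasiCompact (g.fiberι y) :=
    MorphismProperty.pullback_fst (P := @QuasiCompact) _ _ inferInstance
  have h2 : CompactSpace ↥(g.fiber y) := QuasiCompact.compactSpace_of_compactSpace (g.fiberι y)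
  have h3 : IsArtinianScheme (g.fiber y) := {}
  simpa [Scheme.Hom.range_fiberι] using Set.finite_univ.image (g.fiberι y)

/-- S10363 for sheaves: finite fibres over `x` for a jointly surjective family of etale charts imply
finite fibres over `x` for every quasi-compact etale chart. -/
theorem finite_fibre_of_etale_cover_finite_fibres {F : Sp S} (x : Points F) {ι : Type*}
    (U : ι → Over S) (φ : ∀ i, (yon S).obj (U i) ⟶ F) (hφ : ∀ i, RepWith @Etale (φ i))
    (hsurj : ∀ y : Points F, ∃ (i : ι) (v : ↥(U i).left), Points.ofPt (φ i) v = y)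
    (hfin : ∀ i, (Points.ofPt (φ i) ⁻¹' {x}).Finite)
    {V : Over S} [CompactSpace ↥V.left] (ψ : (yon S).obj V ⟶ F) (hψ : RepWith @Etale ψ) :
    (Points.ofPt ψ ⁻¹' {x}).Finite := by
  -- for each point of V choose a chart index, a point of the fibre product and an affine open around it
  have key : ∀ v : ↥V.left, ∃ (i : ι) (W' : ((hφ i).rep.pullback ψ).left.Opens),
      IsAffineOpen W' ∧ v ∈ ((hφ i).rep.snd ψ).left '' (W' : Set _) := by
    intro v
    obtain ⟨i, u, hu⟩ := hsurj (Points.ofPt ψ v)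
    obtain ⟨w, -, hw⟩ := (ofPt_eq_ofPt_iff ((hφ i).rep.isPullback' ψ) u v).1 hu
    obtain ⟨_, ⟨W', hW', rfl⟩, hwW', -⟩ :=
      ((hφ i).rep.pullback ψ).left.isBasis_affineOpens.exists_subset_of_mem_open
        (Set.mem_univ w) isOpen_univ
    exact ⟨i, W', hW', w, hwW', hw⟩
  choose i W' hW' hv using key
  have hopen : ∀ v, IsOpen (((hφ (i v)).rep.snd ψ).left '' (W' v : Set _)) := by
    intro v
    have : Etale ((hφ (i v)).rep.snd ψ).left := (hφ (i v)).property_snd ψ
    exact ((hφ (i v)).rep.snd ψ).left.isOpenMap _ (W' v).2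
  obtain ⟨T, hT⟩ := isCompact_univ.elim_finite_subcover _ hopen
    (fun v _ => Set.mem_iUnion.2 ⟨v, hv v⟩)
  -- the finite sets
  have hA : ∀ v, (((hφ (i v)).rep.snd ψ).left ''
      ((W' v : Set _) ∩ ((hφ (i v)).rep.fst' ψ).left ⁻¹' (Points.ofPt (φ (i v)) ⁻¹' {x}))).Finite := by
    intro v
    refine Set.Finite.image _ ?_
    have het : Etale ((hφ (i v)).rep.fst' ψ).left :=
      hψ.property (φ (i v)) _ _ ((hφ (i v)).rep.isPullback' ψ).flip
    have : Etale ((W' v).ι ≫ ((hφ (i v)).rep.fst' ψ).left) := inferInstance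
    have : LocallyQuasiFinite ((W' v).ι ≫ ((hφ (i v)).rep.fst' ψ).left) :=
      locallyQuasiFinite_of_etale _
    have : CompactSpace ↥(W' v).toScheme := isCompact_iff_compactSpace.1 (hW' v).isCompact
    have hpre : (((W' v).ι ≫ ((hφ (i v)).rep.fst' ψ).left) ⁻¹'
        (Points.ofPt (φ (i v)) ⁻¹' {x})).Finite :=
      (hfin (i v)).preimage' fun b _ => finite_preimage_singleton_of_compactSpace _ b
    refine (hpre.image (W' v).ι).subset ?_
    rintro w ⟨hwW, hwF⟩
    exact ⟨⟨w, hwW⟩, hwF, rfl⟩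
  refine (T.finite_toSet.biUnion fun v _ => hA v).subset ?_
  intro v' hv'
  obtain ⟨v, hvT, w, hwW, rfl⟩ : ∃ v ∈ T, ∃ w ∈ (W' v : Set _),
      ((hφ (i v)).rep.snd ψ).left w = v' := by
    simpa using hT (Set.mem_univ v')
  refine Set.mem_biUnion hvT ⟨w, ⟨hwW, ?_⟩, rfl⟩
  change Points.ofPt (φ (i v)) _ = x
  rw [(ofPt_eq_ofPt_iff ((hφ (i v)).rep.isPullback' ψ) _ _).2 ⟨w, rfl, rfl⟩]
  exact hv'

end Groth.Agent.Lib.Helper37.AlgSpFibres
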