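import Mathlib
import Groth.Prelude.Def_AlgSpMor5
import Groth.Agent.Lib.Helper36.AlgSpCharts

/-!
# Properties of the relative diagonal of a morphism of algebraic spaces via charts (helper37)

`repWith_diagonal_of_chart`: any property `P` (stable under base change, fppf-descending) that holds
for every monomorphism `e : R ⟶ UY` of schemes with `e ≫ pr1` étale holds for the relative diagonal.
(Generalises the argument of helper36's `S10262.part1`.)
-/

universe u
open CategoryTheory CategoryTheory.Limits AlgebraicGeometry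
open AlgSp

namespace Groth.Agent.Lib.Helper37.DiagChart

open Groth.Agent.Lib.Helper36.AlgSpCharts

variable {S : Scheme.{u}}

theorem repWith_diagonal_of_chart {P : MorphismProperty Scheme.{u}} [P.IsStableUnderBaseChange]
    [P.DescendsAlong (@Surjective ⊓ @Flat ⊓ @LocallyOfFinitePresentation)]
    (hP : ∀ {R UY U : Scheme.{u}} (e : R ⟶ UY) (pr1 : UY ⟶ U), Etale (e ≫ pr1) → Mono e → P e)
    {X Y : Sp S} (hX : IsAlgSpace X) (hY : IsAlgSpace Y) (F : X ⟶ Y) :
    RepWith P (pullback.diagonal F) := by
  have hΔ := representable_diagonal F hX.diag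
  refine MorphismProperty.relative_of_snd hΔ fun T g => ?_
  obtain ⟨U, p, hpe, hps⟩ := hX.atlas
  obtain ⟨UY, R, pr1, pr2, e, ρ, w, sqUY, hw1, hw2, sqR, sqRR, he1, hemono⟩ :=
    exists_diag_chart hX.diag hY F p hpe
  have hee : P e.left := hP e.left pr1.left (by rw [← Over.comp_left]; exact he1) hemono
  obtain ⟨x1, hx1⟩ : ∃ x1, x1 = g ≫ pullback.fst F F := ⟨_, rfl⟩
  obtain ⟨x2, hx2⟩ : ∃ x2, x2 = g ≫ pullback.snd F F := ⟨_, rfl⟩
  have hx : x1 ≫ F = x2 ≫ F := by simp [hx1, hx2, pullback.condition]
  obtain ⟨T1, t1, u1, sq1⟩ := exists_isPullback_yon x1 p hpe.rep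
  have ht1e : Etale t1.left := prop_fst_of_isPullback sq1 hpe
  have ht1s : Surjective t1.left := prop_fst_of_isPullback sq1 hps
  obtain ⟨T2, t2, u2, sq2⟩ := exists_isPullback_yon ((yon S).map t1 ≫ x2) p hpe.rep
  have ht2e : Etale t2.left := prop_fst_of_isPullback sq2 hpe
  have ht2s : Surjective t2.left := prop_fst_of_isPullback sq2 hps
  obtain ⟨m', hm1, hm2⟩ := sqUY.exists_lift ((yon S).map (t2 ≫ u1)) ((yon S).map u2) (by
    rw [Functor.map_comp, Category.assoc, ← sq1.w_assoc, ← sq2.w_assoc, Category.assoc, hx])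
  obtain ⟨m, rfl⟩ := (yon S).map_surjective m'
  have hmw : (yon S).map m ≫ w = (yon S).map (t2 ≫ t1) ≫ g := by
    apply pullback.hom_ext
    · rw [Category.assoc, hw1, reassoc_of% hm1, Functor.map_comp, Category.assoc, ← sq1.w,
        Functor.map_comp, Category.assoc, Category.assoc, hx1]
    · rw [Category.assoc, hw2, reassoc_of% hm2, ← sq2.w,
        Functor.map_comp, Category.assoc, Category.assoc, hx2]
  have sqE := IsPullback.of_hasPullback e m
  have hπ2 : P (pullback.snd e m).left :=
    MorphismProperty.of_isPullback (sqE.map (Over.forget S)) hee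
  have big := (sqE.map (yon S)).paste_horiz sqR
  rw [hmw] at big
  have sqE0 := hΔ.isPullback g
  obtain ⟨θ', hθ1, hθ2⟩ := sqE0.exists_lift ((yon S).map (pullback.fst e m) ≫ ρ)
    ((yon S).map (pullback.snd e m ≫ t2 ≫ t1)) (by
      rw [big.w]; simp only [Functor.map_comp, Category.assoc])
  obtain ⟨θ, rfl⟩ := (yon S).map_surjective θ'
  rw [← hθ1] at big
  have small : IsPullback ((yon S).map θ) ((yon S).map (pullback.snd e m)) ((yon S).map (hΔ.snd g))
      ((yon S).map (t2 ≫ t1)) :=
    IsPullback.of_right big (by rw [hθ2, Functor.map_comp]) sqE0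
  have hτe : Etale (t2 ≫ t1).left := by
    rw [Over.comp_left]; infer_instance
  have hτs : Surjective (t2 ≫ t1).left := by
    rw [Over.comp_left]; infer_instance
  exact descend_of_isPullback (isPullback_of_yon small) hτe hτs hπ2

/-- The relative diagonal of a morphism of algebraic spaces is (representable and) locally of finite
type. -/
theorem repWith_locallyOfFiniteType_diagonal {X Y : Sp S} (hX : IsAlgSpace X) (hY : IsAlgSpace Y)
    (F : X ⟶ Y) : RepWith @LocallyOfFiniteType (pullback.diagonal F) :=
  repWith_diagonal_of_chart (fun e pr1 _ _ => locallyOfFiniteType_of_comp e pr1) hX hY F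

end Groth.Agent.Lib.Helper37.DiagChart
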