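import Mathlib
import Groth.Prelude.Def_AlgSpMor5
import Groth.Agent.Lib.Helper37.AlgSpPoints
import Groth.Agent.Lib.Helper37.DiagChart

/-!
# Valuative criteria for morphisms of sheaves / algebraic spaces: helper lemmas (helper37)
-/

universe u
open CategoryTheory CategoryTheory.Limits AlgebraicGeometry
open AlgSp

namespace Groth.Agent.Lib.Helper37.Valuative

/-- A closed immersion into `Spec A` through which `Spec K ⟶ Spec A` factors, for `A → K` injective,
is an isomorphism. -/
theorem isIso_of_isClosedImmersion_of_factor {A K : Type u} [CommRing A] [Field K]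
    [Algebra A K] [FaithfulSMul A K] {W : Scheme.{u}} (i : W ⟶ Spec (.of A)) [IsClosedImmersion i]
    (k : Spec (.of K) ⟶ W) (hk : k ≫ i = Spec.map (CommRingCat.ofHom (algebraMap A K))) : IsIso i := by
  apply IsClosedImmersion.isIso_of_injective_of_isAffine
  have h1 : Function.Injective (Spec.map (CommRingCat.ofHom (algebraMap A K))).appTop := by
    have := Scheme.ΓSpecIso_naturality (CommRingCat.ofHom (algebraMap A K))
    have h2 : (Spec.map (CommRingCat.ofHom (algebraMap A K))).appTop =
        (Scheme.ΓSpecIso (.of A)).hom ≫ CommRingCat.ofHom (algebraMap A K) ≫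
          (Scheme.ΓSpecIso (.of K)).inv := by
      rw [← Category.assoc, ← this, Category.assoc, Iso.hom_inv_id, Category.comp_id]
    rw [h2]
    intro a b hab
    simp only [CommRingCat.hom_comp, RingHom.coe_comp, Function.comp_apply] at hab
    have h3 := (ConcreteCategory.bijective_of_isIso (Scheme.ΓSpecIso (.of K)).inv).1 hab
    have h4 := FaithfulSMul.algebraMap_injective A K h3
    exact (ConcreteCategory.bijective_of_isIso (Scheme.ΓSpecIso (.of A)).hom).1 h4
  rw [← hk, Scheme.Hom.comp_appTop] at h1
  intro a b hab
  apply h1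
  simp only [CommRingCat.hom_comp, RingHom.coe_comp, Function.comp_apply]
  rw [hab]

variable {S : Scheme.{u}}

/-- Separated (diagonal a representable closed immersion) implies the uniqueness part of the
valuative criterion; sheaf-level version. -/
theorem hasUniq_of_diagonal_closedImmersion {F G : Sp S} (f : F ⟶ G)
    (hΔ : RepWith @IsClosedImmersion (pullback.diagonal f)) (sq : ValSq f) : sq.HasUniq := by
  intro l l' h1 h2 h3 h4
  let m : (yon S).obj sq.ptA ⟶ pullback f f := pullback.lift l l' (h2.trans h4.symm)
  have psq := hΔ.rep.isPullback m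
  have hci : IsClosedImmersion (hΔ.rep.snd m).left := hΔ.property_snd m
  have hfac : sq.top ≫ pullback.diagonal f = (yon S).map sq.j ≫ m := by
    apply pullback.hom_ext
    · simp only [Category.assoc, pullback.diagonal_fst, Category.comp_id, m, pullback.lift_fst, h1]
    · simp only [Category.assoc, pullback.diagonal_snd, Category.comp_id, m, pullback.lift_snd, h3]
  obtain ⟨k, hk⟩ := (yon S).map_surjective (psq.lift sq.top ((yon S).map sq.j) hfac)
  have hk2 : k ≫ hΔ.rep.snd m = sq.j :=
    (yon S).map_injective (by rw [Functor.map_comp, hk, psq.lift_snd])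
  have hk3 : k.left ≫ (hΔ.rep.snd m).left =
      Spec.map (CommRingCat.ofHom (algebraMap sq.A sq.K)) := by
    rw [← Over.comp_left, hk2]; rfl
  have hiso : IsIso (hΔ.rep.snd m).left :=
    isIso_of_isClosedImmersion_of_factor (A := sq.A) (K := sq.K) (hΔ.rep.snd m).left k.left hk3
  have hiso' : IsIso (hΔ.rep.snd m) := by
    have : IsIso ((Over.forget S).map (hΔ.rep.snd m)) := hiso
    exact isIso_of_reflects_iso _ (Over.forget S)
  have e1 : hΔ.rep.fst m = (yon S).map (hΔ.rep.snd m) ≫ l := by
    have := psq.w =≫ pullback.fst _ _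
    simpa only [Category.assoc, pullback.diagonal_fst, Category.comp_id, m, pullback.lift_fst]
      using this
  have e2 : hΔ.rep.fst m = (yon S).map (hΔ.rep.snd m) ≫ l' := by
    have := psq.w =≫ pullback.snd _ _
    simpa only [Category.assoc, pullback.diagonal_snd, Category.comp_id, m, pullback.lift_snd]
      using this
  exact (cancel_epi ((yon S).map (hΔ.rep.snd m))).1 (e1.symm.trans e2)

open Groth.Agent.Lib.Helper37.DiagChart in
/-- Quasi-separated + uniqueness part of the valuative criterion implies separated. -/
theorem isSeparatedMor_of_quasiSeparated_uniqVC {X Y : Sp S} (hX : IsAlgSpace X) (hY : IsAlgSpace Y)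
    (f : X ⟶ Y) (hqs : RepWith @QuasiCompact (pullback.diagonal f)) (hu : UniqVC f) :
    RepWith @IsClosedImmersion (pullback.diagonal f) := by
  have hlft := repWith_locallyOfFiniteType_diagonal hX hY f
  have hΔ := hqs.rep
  refine MorphismProperty.relative_of_snd hΔ fun T g => ?_
  have psq := hΔ.isPullback g
  set W := hΔ.pullback g
  set snd := hΔ.snd g
  set fst := hΔ.fst g
  have h1 : QuasiCompact snd.left := hqs.property_snd g
  have h2 : LocallyOfFiniteType snd.left := hlft.property_snd g
  have h3 : Mono snd.left := by
    have : Mono ((yon S).map snd) := psq.mono_snd_of_mono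
    have : Mono snd := (yon S).mono_of_mono_map this
    infer_instance
  have h4 : ValuativeCriterion.Existence snd.left := by
    intro vs
    obtain ⟨R, K, i₁, i₂, ⟨w⟩⟩ := vs
    let ptA : Over S := Over.mk (i₂ ≫ T.hom)
    let ptK : Over S := Over.mk (Spec.map (CommRingCat.ofHom (algebraMap R K)) ≫ i₂ ≫ T.hom)
    let i₂' : ptA ⟶ T := Over.homMk i₂ rfl
    let i₁' : ptK ⟶ W := Over.homMk i₁ (by
      change i₁ ≫ W.hom = Spec.map _ ≫ i₂ ≫ T.hom
      rw [← Over.w snd, ← Category.assoc, w, Category.assoc])
    let j : ptK ⟶ ptA := Over.homMk (Spec.map (CommRingCat.ofHom (algebraMap R K))) rfl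
    have hj : i₁' ≫ snd = j ≫ i₂' := by
      ext
      exact w
    let a : (yon S).obj ptA ⟶ X := (yon S).map i₂' ≫ g ≫ pullback.fst f f
    let b : (yon S).obj ptA ⟶ X := (yon S).map i₂' ≫ g ≫ pullback.snd f f
    have hfst1 : fst = (yon S).map snd ≫ g ≫ pullback.fst f f := by
      have := psq.w =≫ pullback.fst f f
      simpa only [Category.assoc, pullback.diagonal_fst, Category.comp_id] using this
    have hfst2 : fst = (yon S).map snd ≫ g ≫ pullback.snd f f := by
      have := psq.w =≫ pullback.snd f f
      simpa only [Category.assoc, pullback.diagonal_snd, Category.comp_id] using this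
    have hta : (yon S).map i₁' ≫ fst = (yon S).map j ≫ a := by
      rw [hfst1, ← Category.assoc, ← Functor.map_comp, hj, Functor.map_comp, Category.assoc]
    have htb : (yon S).map i₁' ≫ fst = (yon S).map j ≫ b := by
      rw [hfst2, ← Category.assoc, ← Functor.map_comp, hj, Functor.map_comp, Category.assoc]
    let sq : ValSq f :=
      { A := R, K := K, str := i₂ ≫ T.hom, top := (yon S).map i₁' ≫ fst, bot := a ≫ f,
        comm := by rw [hta, Category.assoc] }
    have hab : a = b := hu sq a b hta.symm rfl htb.symm (by
      change ((yon S).map i₂' ≫ g ≫ pullback.snd f f) ≫ f = ((yon S).map i₂' ≫ g ≫ pullback.fst f f) ≫ f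
      simp only [Category.assoc, pullback.condition])
    have hfac : a ≫ pullback.diagonal f = (yon S).map i₂' ≫ g := by
      apply pullback.hom_ext
      · simp only [Category.assoc, pullback.diagonal_fst, Category.comp_id]; rfl
      · simp only [Category.assoc, pullback.diagonal_snd, Category.comp_id]; exact hab
    obtain ⟨l', hl'⟩ := (yon S).map_surjective (psq.lift a ((yon S).map i₂') hfac)
    have hl2 : l' ≫ snd = i₂' := (yon S).map_injective (by rw [Functor.map_comp, hl', psq.lift_snd])
    have hl3 : l'.left ≫ snd.left = i₂ := by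
      rw [← Over.comp_left, hl2]; rfl
    refine ⟨⟨⟨l'.left, ?_, hl3⟩⟩⟩
    rw [← cancel_mono snd.left, Category.assoc, hl3, w]
  have h5 : UniversallyClosed snd.left := UniversallyClosed.of_valuativeCriterion snd.left h4
  have h6 : IsProper snd.left := { }
  exact (IsClosedImmersion.iff_isProper_and_mono snd.left).2 ⟨h6, h3⟩

end Groth.Agent.Lib.Helper37.Valuative
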