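import Mathlib
import Groth.Prelude.Def_AlgSpMor5
import Groth.Agent.Lib.Helper37.Valuative
import Groth.Agent.Lib.Helper37.AlgSpFibres
import Groth.Agent.Lib.Helper23.AlgSpMor3

/-!
# Quasi-compact + existence part of the valuative criterion ⇒ universally closed (helper37)

* `isClosed_image_of_stableUnderSpecialization_scheme`: image of a closed set under a morphism from a
  quasi-compact scheme to an affine scheme is closed if stable under specialization.
* `mem_image_of_specializes_of_existVC`: the valuation-ring step.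
* `isClosedMap_of_quasiCompact_existVC`, `existVC_of_isPullback`, `uniqVC_of_isPullback`,
  `isQuasiCompactMor_of_isPullback`, `isUnivClosedMor_of_quasiCompact_existVC`.
-/

universe u
open CategoryTheory CategoryTheory.Limits AlgebraicGeometry
open AlgSp
open Groth.Agent.Lib.Helper37.AlgSpPoints Groth.Agent.Lib.Helper37.AlgSpFibres
open Groth.Agent.Lib.Helper23.AlgSpMor

namespace Groth.Agent.Lib.Helper37.ValuativeClosed

variable {S : Scheme.{u}}

theorem isClosed_image_of_stableUnderSpecialization_scheme {U V : Scheme.{u}} [CompactSpace U]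
    [IsAffine V] (h : U ⟶ V) (T : Set U) (hT : IsClosed T)
    (hs : StableUnderSpecialization (h '' T)) : IsClosed (h '' T) := by
  obtain ⟨R, g, hg⟩ := compactSpace_iff_exists.mp ‹CompactSpace U›
  let k : Spec R ⟶ Spec Γ(V, ⊤) := g ≫ h ≫ V.isoSpec.hom
  obtain ⟨φ, hφ⟩ : ∃ φ, k = Spec.map φ := ⟨Spec.preimage k, (Spec.map_preimage k).symm⟩
  have himg : (Spec.map φ) '' (g ⁻¹' T) = V.isoSpec.hom '' (h '' T) := by
    rw [← hφ]
    ext x
    constructor
    · rintro ⟨r, hr, rfl⟩
      exact ⟨h (g r), ⟨g r, hr, rfl⟩, rfl⟩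
    · rintro ⟨_, ⟨t, ht, rfl⟩, rfl⟩
      obtain ⟨r, rfl⟩ := hg t
      exact ⟨r, ht, rfl⟩
  have hhomeo : IsHomeomorph V.isoSpec.hom := (Scheme.homeoOfIso V.isoSpec).isHomeomorph
  have hst : StableUnderSpecialization ((Spec.map φ) '' (g ⁻¹' T)) := by
    rw [himg]
    intro a b hab ha
    obtain ⟨v, hv, rfl⟩ := ha
    obtain ⟨b', rfl⟩ := hhomeo.surjective b
    refine ⟨b', ?_, rfl⟩
    apply hs _ hv
    exact (hhomeo.isInducing.specializes_iff).1 hab
  have := PrimeSpectrum.isClosed_image_of_stableUnderSpecialization φ.hom (g ⁻¹' T)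
    (hT.preimage g.continuous) hst
  change IsClosed ((Spec.map φ) '' (g ⁻¹' T)) at this
  rw [himg] at this
  exact (hhomeo.isClosedEmbedding.isClosed_iff_image_isClosed).2 this

open IsLocalRing in
/-- Key step: for a chart diagram `h_U ⟶ X`, `h_W ⟶ Y`, `h : U ⟶ W` over `f`, with `f` satisfying the
existence part of the valuative criterion, and `T ⊆ |X|` closed: if `w' = h u'` with `u'` over `T` and
`w' ⤳ w`, then the image of `w` in `|Y|` lies in `f(T)`. -/
theorem mem_image_of_specializes_of_existVC {X Y : Sp S} (f : X ⟶ Y) (he : ExistVC f)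
    {U W : Over S} (a : (yon S).obj U ⟶ X) (b : (yon S).obj W ⟶ Y) (h : U ⟶ W)
    (hcomm : a ≫ f = (yon S).map h ≫ b) (T : Set (Points X)) (hT : IsClosed T)
    (u' : ↥U.left) (hu' : Points.ofPt a u' ∈ T) (w : ↥W.left) (hw : h.left u' ⤳ w) :
    Points.ofPt b w ∈ Points.map f '' T := by
  let φ₀ : W.left.presheaf.stalk w ⟶ U.left.residueField u' :=
    W.left.presheaf.stalkSpecializes hw ≫ h.left.stalkMap u' ≫ U.left.residue u'
  obtain ⟨A, hA, hA_local⟩ := exists_factor_valuationRing φ₀.hom
  let toA : W.left.presheaf.stalk w ⟶ .of A := CommRingCat.ofHom (φ₀.hom.codRestrict _ hA)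
  have hw0 : U.left.fromSpecResidueField u' ≫ h.left =
      Spec.map (CommRingCat.ofHom (algebraMap A (U.left.residueField u'))) ≫
        Spec.map toA ≫ W.left.fromSpecStalk w := by
    rw [Scheme.fromSpecResidueField, Category.assoc, ← Scheme.SpecMap_stalkMap_fromSpecStalk,
      ← Scheme.SpecMap_stalkSpecializes_fromSpecStalk hw]
    simp_rw [← Spec.map_comp_assoc]
    rfl
  let str : Spec (.of A) ⟶ S := Spec.map toA ≫ W.left.fromSpecStalk w ≫ W.hom
  let ptA : Over S := Over.mk str
  let ptK : Over S := Over.mk (Spec.map (CommRingCat.ofHom (algebraMap A (U.left.residueField u'))) ≫ str)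
  let iK : ptK ⟶ U := Over.homMk (U.left.fromSpecResidueField u') (by
    change _ ≫ U.hom = Spec.map _ ≫ Spec.map toA ≫ W.left.fromSpecStalk w ≫ W.hom
    rw [← Over.w h, ← Category.assoc, hw0]
    simp only [Category.assoc])
  let iA : ptA ⟶ W := Over.homMk (Spec.map toA ≫ W.left.fromSpecStalk w) (by
    change (_ ≫ _) ≫ W.hom = Spec.map toA ≫ W.left.fromSpecStalk w ≫ W.hom
    rw [Category.assoc])
  let j : ptK ⟶ ptA := Over.homMk (Spec.map (CommRingCat.ofHom (algebraMap A (U.left.residueField u')))) rfl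
  have hji : iK ≫ h = j ≫ iA := by
    ext
    exact hw0
  let sq : ValSq f :=
    { A := A, K := U.left.residueField u', str := str, top := (yon S).map iK ≫ a,
      bot := (yon S).map iA ≫ b,
      comm := by
        have e1 : (yon S).map iK ≫ (yon S).map h = (yon S).map j ≫ (yon S).map iA := by
          rw [← Functor.map_comp, ← Functor.map_comp, hji]
        rw [Category.assoc, hcomm]
        exact (Category.assoc _ _ _).symm.trans ((congrArg (· ≫ b) e1).trans (Category.assoc _ _ _)) }
  obtain ⟨e, l, hl1, hl2⟩ := he sq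
  refine ⟨Points.ofPt l (closedPoint e.A'), ?_, ?_⟩
  · -- in T by specialization
    have hgen : Points.ofPt l ((Spec.map (CommRingCat.ofHom (algebraMap e.A' e.K')))
        (closedPoint e.K')) ∈ T := by
      have h1 := ofPt_map_comp (Over.homMk (Spec.map (CommRingCat.ofHom (algebraMap e.A' e.K'))) rfl :
        e.ptK' ⟶ e.ptA') l (closedPoint e.K')
      change _ = Points.ofPt l ((Spec.map (CommRingCat.ofHom (algebraMap e.A' e.K')))
        (closedPoint e.K')) at h1
      rw [← h1, hl1, ofPt_map_comp]
      change Points.ofPt ((yon S).map iK ≫ a) _ ∈ T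
      rw [ofPt_map_comp]
      change Points.ofPt a ((U.left.fromSpecResidueField u') _) ∈ T
      rw [Scheme.fromSpecResidueField_apply]
      exact hu'
    have hsp : (Spec.map (CommRingCat.ofHom (algebraMap e.A' e.K'))) (closedPoint e.K') ⤳
        closedPoint e.A' := specializes_closedPoint _
    exact hT.stableUnderSpecialization (hsp.map (Points.continuous_ofPt l)) hgen
  · rw [Points.map_ofPt, hl2, ofPt_map_comp]
    change Points.ofPt ((yon S).map iA ≫ b) _ = _
    rw [ofPt_map_comp]
    congr 1
    change (Spec.map toA ≫ W.left.fromSpecStalk w) ((Spec.map (CommRingCat.ofHom e.φ)) (closedPoint e.A')) = w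
    have h1 : (Spec.map (CommRingCat.ofHom e.φ)) (closedPoint e.A') = closedPoint A := by
      have := e.isLocalHom
      exact comap_closedPoint e.φ
    rw [h1]
    simp only [Scheme.Hom.comp_base, TopCat.coe_comp, Function.comp_apply]
    have : Spec.map toA (closedPoint A) = closedPoint (W.left.presheaf.stalk w) :=
      comap_closedPoint (S := A) (φ₀.hom.codRestrict A.toSubring hA)
    rw [this, W.left.fromSpecStalk_closedPoint]

theorem isClosedMap_of_quasiCompact_existVC {X Y : Sp S} (hY : IsAlgSpace Y) (f : X ⟶ Y)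
    (hq : IsQuasiCompactMor f) (he : ExistVC f) : IsClosedMap (Points.map f) := by
  intro T hT
  obtain ⟨V, b, hbe, hbs⟩ := hY.atlas
  rw [← (isQuotientMap_ofPt b hbe hbs).isClosed_preimage]
  have hcov : TopologicalSpace.IsOpenCover (fun i : V.left.affineOpens => (i : V.left.Opens)) :=
    iSup_affineOpens_eq_top V.left
  rw [hcov.isClosed_iff_coe_preimage]
  rintro ⟨W, hW⟩
  let Wo : Over S := openOver V W
  let bW : (yon S).obj Wo ⟶ Y := (yon S).map (openι V W) ≫ b
  have hbW : RepWith @Etale bW := repWith_etale_restrict b hbe W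
  have hWaff : IsAffine Wo.left := hW
  have hWc : CompactSpace ↥Wo.left := inferInstance
  have hqW : IsQuasiCompactSp (pullback f bW) :=
    hq (IsAlgSpace.yon_obj Wo) (isQuasiCompactSp_yon Wo) bW (pullback.fst f bW) (pullback.snd f bW)
      (IsPullback.of_hasPullback f bW)
  obtain ⟨U, p, hpe, hps, hU⟩ := hqW
  obtain ⟨h, hh⟩ := (yon S).map_surjective (p ≫ pullback.snd f bW)
  let a : (yon S).obj U ⟶ X := p ≫ pullback.fst f bW
  have hcomm : a ≫ f = (yon S).map h ≫ bW := by
    rw [hh, Category.assoc, Category.assoc, pullback.condition]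
  let T' : Set ↥U.left := Points.ofPt a ⁻¹' T
  have hT' : IsClosed T' := hT.preimage (Points.continuous_ofPt a)
  have hclaim : (Subtype.val ⁻¹' (Points.ofPt b ⁻¹' (Points.map f '' T)) : Set ↥W) =
      h.left '' T' := by
    ext w
    constructor
    · rintro ⟨x, hxT, hx⟩
      have hx' : Points.map bW (Points.ofScheme Wo w) = Points.map f x := by
        rw [← Points.ofPt_eq_map_ofScheme, ofPt_restrict]
        exact hx.symm
      obtain ⟨x', hx'1, hx'2⟩ := points_exists_of_isPullback
        (IsPullback.of_hasPullback f bW).flip (Points.ofScheme Wo w) x hx'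
      obtain ⟨u, rfl⟩ := ofPt_surjective p hps x'
      refine ⟨u, ?_, ?_⟩
      · change Points.ofPt (p ≫ pullback.fst f bW) u ∈ T
        rw [← Points.map_ofPt, hx'2]
        exact hxT
      · have := hx'1
        rw [Points.map_ofPt, ← hh, ofPt_yon_map] at this
        have h2 := congrArg (Points.toScheme Wo) this
        rw [Points.toScheme_ofScheme, Points.toScheme_ofScheme] at h2
        exact h2
    · rintro ⟨u, hu, rfl⟩
      refine ⟨Points.ofPt a u, hu, ?_⟩
      rw [Points.map_ofPt, hcomm, ofPt_map_comp, ofPt_restrict]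
  rw [hclaim]
  apply isClosed_image_of_stableUnderSpecialization_scheme h.left T' hT'
  rintro w' w hww ⟨u', hu', rfl⟩
  have key := mem_image_of_specializes_of_existVC f he a bW h hcomm T hT u' hu' w hww
  rw [← hclaim]
  change Points.ofPt b w.1 ∈ Points.map f '' T
  rw [← ofPt_restrict b W w]
  exact key

/-- The existence part of the valuative criterion is stable under base change (sheaf level). -/
theorem existVC_of_isPullback {X Y Z X' : Sp S} {f : X ⟶ Y} {g : Z ⟶ Y} {fst : X' ⟶ X} {f' : X' ⟶ Z}
    (sq : IsPullback fst f' f g) (hE : ExistVC f) : ExistVC f' := by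
  intro sq'
  let vs : AlgSp.ValSq f :=
    { A := sq'.A, K := sq'.K, str := sq'.str, top := sq'.top ≫ fst, bot := sq'.bot ≫ g,
      comm := by
        rw [Category.assoc, sq.w, ← Category.assoc, sq'.comm, Category.assoc] }
  obtain ⟨e, l, hl1, hl2⟩ := hE vs
  let e' : sq'.DomExt :=
    { A' := e.A', K' := e.K', φ := e.φ, ψ := e.ψ, comm := e.comm, isLocalHom := e.isLocalHom }
  refine ⟨e', sq.lift l ((AlgSp.yon S).map (Over.homMk (Spec.map (CommRingCat.ofHom e.φ)) rfl :
    e.ptA' ⟶ vs.ptA) ≫ sq'.bot) (by rw [hl2, Category.assoc]), ?_, ?_⟩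
  · apply sq.hom_ext
    · rw [Category.assoc, IsPullback.lift_fst, Category.assoc]
      exact hl1
    · rw [Category.assoc, IsPullback.lift_snd, Category.assoc, sq'.comm, ← Category.assoc,
        ← Category.assoc, ← Functor.map_comp, ← Functor.map_comp]
      congr 2
      ext
      change Spec.map _ ≫ Spec.map _ = Spec.map _ ≫ Spec.map _
      rw [← Spec.map_comp, ← Spec.map_comp, ← CommRingCat.ofHom_comp, ← CommRingCat.ofHom_comp,
        e.comm]
  · rw [IsPullback.lift_snd]

/-- The uniqueness part of the valuative criterion is stable under base change (sheaf level). -/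
theorem uniqVC_of_isPullback {X Y Z X' : Sp S} {f : X ⟶ Y} {g : Z ⟶ Y} {fst : X' ⟶ X} {f' : X' ⟶ Z}
    (sq : IsPullback fst f' f g) (hU : UniqVC f) : UniqVC f' := by
  intro sq' l l' h1 h2 h3 h4
  let vs : AlgSp.ValSq f :=
    { A := sq'.A, K := sq'.K, str := sq'.str, top := sq'.top ≫ fst, bot := sq'.bot ≫ g,
      comm := by
        rw [Category.assoc, sq.w, ← Category.assoc, sq'.comm, Category.assoc] }
  have key := hU vs (l ≫ fst) (l' ≫ fst)
    (by change _ ≫ _ ≫ _ = sq'.top ≫ fst; rw [← Category.assoc, h1])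
    (by change (_ ≫ _) ≫ _ = sq'.bot ≫ g; rw [Category.assoc, sq.w, ← Category.assoc, h2])
    (by change _ ≫ _ ≫ _ = sq'.top ≫ fst; rw [← Category.assoc, h3])
    (by change (_ ≫ _) ≫ _ = sq'.bot ≫ g; rw [Category.assoc, sq.w, ← Category.assoc, h4])
  exact sq.hom_ext key (h2.trans h4.symm)

/-- Quasi-compact morphisms of sheaves are stable under base change. -/
theorem isQuasiCompactMor_of_isPullback {X Y Z X' : Sp S} {f : X ⟶ Y} {g : Z ⟶ Y} {fst : X' ⟶ X}
    {f' : X' ⟶ Z} (sq : IsPullback fst f' f g) (hq : IsQuasiCompactMor f) : IsQuasiCompactMor f' := by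
  intro Z'' P' hZ'' hZ''q g' fst' snd' sq'
  exact hq hZ'' hZ''q (g' ≫ g) (fst' ≫ fst) snd' (sq'.paste_horiz sq)

/-- A quasi-compact morphism satisfying the existence part of the valuative criterion is universally
closed. -/
theorem isUnivClosedMor_of_quasiCompact_existVC {X Y : Sp S} (f : X ⟶ Y)
    (hq : IsQuasiCompactMor f) (he : ExistVC f) : IsUnivClosedMor f := by
  intro Z Z' hZ g fst snd sq
  exact isClosedMap_of_quasiCompact_existVC hZ snd (isQuasiCompactMor_of_isPullback sq hq)
    (existVC_of_isPullback sq he)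

end Groth.Agent.Lib.Helper37.ValuativeClosed
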