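import Mathlib.Algebra.Category.Ring.Epi
import Mathlib.AlgebraicGeometry.Morphisms.UniversallyInjective
import Mathlib.AlgebraicGeometry.AffineScheme
import Mathlib.LinearAlgebra.Basis.VectorSpace
import Mathlib.AlgebraicGeometry.Properties
import Mathlib.AlgebraicGeometry.Restrict

/-!
# Monomorphisms into the spectrum of a field (helper37)

`Z ⟶ Spec K` mono with `Z` nonempty is an isomorphism (Stacks 03DP).
-/

set_option autoImplicit false
universe u
open CategoryTheory CategoryTheory.Limits AlgebraicGeometry TensorProduct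

namespace Groth.Agent.Lib.Helper37.MonoField

/-- An epimorphic algebra over a field is either trivial or the field itself. -/
theorem bijective_algebraMap_of_isEpi (K A : Type*) [Field K] [CommRing A] [Algebra K A]
    [Nontrivial A] [Algebra.IsEpi K A] : Function.Bijective (algebraMap K A) := by
  refine ⟨(algebraMap K A).injective, fun a => ?_⟩
  obtain ⟨g, hg⟩ := LinearMap.exists_leftInverse_of_injective (Algebra.linearMap K A)
    (LinearMap.ker_eq_bot.2 (algebraMap K A).injective)
  have hg1 : g 1 = 1 := by
    have := LinearMap.congr_fun hg 1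
    simpa using this
  let ψ : A ⊗[K] A →ₗ[K] A := TensorProduct.lift ((LinearMap.lsmul K A).comp g)
  have h := (Algebra.isEpi_iff_forall_one_tmul_eq K A).1 inferInstance a
  have h' := congrArg ψ h
  simp only [ψ, TensorProduct.lift.tmul, LinearMap.comp_apply, LinearMap.lsmul_apply, hg1,
    one_smul] at h'
  exact ⟨g a, by rw [Algebra.algebraMap_eq_smul_one]; exact h'.symm⟩


/-- A monomorphism from a nonempty scheme to the spectrum of a field is an isomorphism. -/
theorem isIso_of_mono_of_nonempty {Z : Scheme.{u}} {K : Type u} [Field K]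
    (f : Z ⟶ Spec (CommRingCat.of K)) [Mono f] [Nonempty ↥Z] : IsIso f := by
  have hinj : Function.Injective f := f.injective
  have hsub : Subsingleton ↥Z := by
    have : Subsingleton ↥(Spec (CommRingCat.of K)) :=
      inferInstanceAs (Subsingleton (PrimeSpectrum K))
    exact hinj.subsingleton
  -- `Z` is affine
  have haff : IsAffine Z := by
    obtain ⟨z⟩ := ‹Nonempty ↥Z›
    obtain ⟨_, ⟨V, hV, rfl⟩, hzV, -⟩ :=
      Z.isBasis_affineOpens.exists_subset_of_mem_open (Set.mem_univ z) isOpen_univ
    have hVtop : V = ⊤ := by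
      ext w
      simp only [SetLike.mem_coe, TopologicalSpace.Opens.coe_top, Set.mem_univ, iff_true]
      rw [Subsingleton.elim w z]
      exact hzV
    subst hVtop
    have : IsAffine (⊤ : Z.Opens).toScheme := hV
    exact IsAffine.of_isIso Z.topIso.inv
  let g : Spec Γ(Z, ⊤) ⟶ Spec (CommRingCat.of K) := Z.isoSpec.inv ≫ f
  have hg : Mono g := mono_comp _ _
  let φ : CommRingCat.of K ⟶ Γ(Z, ⊤) := Spec.preimage g
  have hφ : Spec.map φ = g := Spec.map_preimage g
  have hepi : Epi φ := by
    refine ⟨fun {T} a b hab => ?_⟩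
    apply Spec.map_injective
    rw [← cancel_mono g, ← hφ, ← Spec.map_comp, ← Spec.map_comp, hab]
  algebraize [φ.hom]
  have hnt : Nontrivial Γ(Z, ⊤) := @Scheme.component_nontrivial Z ⊤ (by
    obtain ⟨z⟩ := ‹Nonempty ↥Z›
    exact ⟨⟨z, trivial⟩⟩)
  have hE : Algebra.IsEpi K Γ(Z, ⊤) := CommRingCat.epi_iff_epi.1 (by
    change Epi (CommRingCat.ofHom φ.hom)
    exact hepi)
  have hbij : Function.Bijective φ.hom := bijective_algebraMap_of_isEpi K Γ(Z, ⊤)
  have hiso : IsIso φ := (ConcreteCategory.isIso_iff_bijective φ).2 hbij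
  have hgiso : IsIso g := hφ ▸ inferInstance
  have hf : f = Z.isoSpec.hom ≫ g := by simp [g]
  rw [hf]
  infer_instance

end Groth.Agent.Lib.Helper37.MonoField
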