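import Groth.Agent.Lib.Helper37.AlgSpFibres
import Groth.Agent.Lib.Helper37.MonoField

/-!
# Decent sheaves / decent morphisms: formal properties (helper37)
-/

set_option autoImplicit false
universe u
open CategoryTheory CategoryTheory.Limits AlgebraicGeometry Opposite

namespace Groth.Agent.Lib.Helper37.AlgSpDecent

open AlgSp Groth.Agent.Lib.Helper37.AlgSpPoints Groth.Agent.Lib.Helper37.AlgSpFibres

variable {S : Scheme.{u}}

/-- S10351 for sheaves: the source of a representable morphism to a decent sheaf is decent. -/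
theorem isDecent_of_representable {F G : Sp S} (f : F ⟶ G) (hf : Representable f) (hG : IsDecent G) :
    IsDecent F := by
  intro x
  obtain ⟨q, hq, hm, hqc⟩ := hG (Points.map f x)
  obtain ⟨p, hp, hpm, hpq⟩ := exists_mono_point_of_representable f hf x q hq hm
  exact ⟨p, hp, hpm, hpq hqc⟩

/-- S10381 for sheaves: a decent morphism to a decent sheaf has decent source. -/
theorem isDecent_of_isDecentMor {F G : Sp S} (f : F ⟶ G) (hf : IsDecentMor f) (hG : IsDecent G) :
    IsDecent F := by
  intro x
  obtain ⟨q, hq, hm, hqc⟩ := hG (Points.map f x)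
  have sq := IsPullback.of_hasPullback f q.toHom
  have hP : IsDecent (pullback f q.toHom) := hf q.toHom _ _ sq
  have e : Points.map f x = Points.map q.toHom (Points.ofScheme q.pt (IsLocalRing.closedPoint q.K)) := by
    rw [← Points.ofPt_eq_map_ofScheme, Points.ofPt_toHom, hq]
  obtain ⟨x', hx', -⟩ := points_exists_of_isPullback sq _ _ e
  obtain ⟨p', hp', hp'm, hp'q⟩ := hP x'
  refine ⟨p'.map (pullback.fst f q.toHom), ?_, ?_, ?_⟩
  · rw [← Points.map_mk, hp', hx']
  · rw [FieldPt.toHom_map]
    have h1 : Mono (pullback.fst f q.toHom) := sq.mono_fst_of_mono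
    exact @mono_comp _ _ _ _ _ _ hp'm _ h1
  · rw [FieldPt.toHom_map]
    exact (RepWith @QuasiCompact).comp_mem _ _ hp'q ((RepWith @QuasiCompact).of_isPullback sq.flip hqc)

/-- The base change of a decent morphism is decent. -/
theorem isDecentMor_of_isPullback {F G F' G' : Sp S} {f : F ⟶ G} {g : G' ⟶ G} {f' : F' ⟶ G'}
    {g' : F' ⟶ F} (sq : IsPullback g' f' f g) (hf : IsDecentMor f) : IsDecentMor f' := by
  intro T F'' t fst snd sq1
  exact hf (t ≫ g) (fst ≫ g') snd (sq1.paste_horiz sq)

/-- S10380 for sheaves: any morphism from a decent sheaf to a sheaf all of whose maps from schemes are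
representable is a decent morphism. -/
theorem isDecentMor_of_isDecent {F G : Sp S} (f : F ⟶ G) (hF : IsDecent F)
    (hG : ∀ ⦃T : Over S⦄ (g : (yon S).obj T ⟶ G), Representable g) : IsDecentMor f := by
  intro T F' g fst snd sq
  exact isDecent_of_representable fst
    ((Representable (S := S)).of_isPullback sq.flip (hG g)) hF

/-- S10382 for sheaves: the composition of decent morphisms is decent. -/
theorem isDecentMor_comp {F G H : Sp S} (f : F ⟶ G) (g : G ⟶ H) (hf : IsDecentMor f)
    (hg : IsDecentMor g) : IsDecentMor (f ≫ g) := by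
  intro T P t fst snd sq
  have sqb := IsPullback.of_hasPullback g t
  have hY : IsDecent (pullback g t) := hg t _ _ sqb
  have sqt := IsPullback.of_bot' sq sqb
  exact isDecent_of_isDecentMor _ (isDecentMor_of_isPullback sqt hf) hY


/-- S10215 for sheaves: a field-valued point in the class of a monomorphic (representable) field-valued
point factors through it. -/
theorem exists_factor_of_mono_fieldPt {F : Sp S} (p q : FieldPt F) (h : Points.mk p = Points.mk q)
    (hm : Mono p.toHom) (hp : Representable p.toHom) :
    ∃ c : q.pt ⟶ p.pt, (yon S).map c ≫ p.toHom = q.toHom := by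
  have sq := hp.isPullback' q.toHom
  have h1 : Mono ((yon S).map (hp.snd q.toHom)) := sq.mono_snd_of_mono
  have h2 : Mono (hp.snd q.toHom) := (yon S).mono_of_mono_map h1
  have h3 : Mono (hp.snd q.toHom).left := inferInstance
  have hne : Nonempty ↥(hp.pullback q.toHom).left := by
    have e : Points.ofPt p.toHom (IsLocalRing.closedPoint p.K) =
        Points.ofPt q.toHom (IsLocalRing.closedPoint q.K) := by
      rw [Points.ofPt_toHom, Points.ofPt_toHom, h]
    obtain ⟨r, -, -⟩ := (ofPt_eq_ofPt_iff sq _ _).1 e
    exact ⟨r⟩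
  have h4 : IsIso (hp.snd q.toHom).left :=
    Groth.Agent.Lib.Helper37.MonoField.isIso_of_mono_of_nonempty (K := q.K) (hp.snd q.toHom).left
  have h5 : IsIso (hp.snd q.toHom) := by
    have : IsIso ((Over.forget S).map (hp.snd q.toHom)) := h4
    exact isIso_of_reflects_iso _ (Over.forget S)
  refine ⟨inv (hp.snd q.toHom) ≫ hp.fst' q.toHom, ?_⟩
  rw [Functor.map_comp, Category.assoc, sq.w, ← Category.assoc, ← Functor.map_comp,
    IsIso.inv_hom_id, CategoryTheory.Functor.map_id, Category.id_comp]

/-- S10362 for sheaves. -/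
theorem repWith_quasiCompact_of_mono_qc_point {F : Sp S} (p q : FieldPt F)
    (hm : Mono p.toHom) (hp : RepWith @QuasiCompact p.toHom)
    (h : Points.mk q = Points.mk p) : RepWith @QuasiCompact q.toHom := by
  obtain ⟨c, hc⟩ := exists_factor_of_mono_fieldPt p q h.symm hm hp.rep
  rw [← hc]
  refine (RepWith @QuasiCompact).comp_mem _ _ ((repWith_yon_map_iff @QuasiCompact c).2 ?_) hp
  have : Finite ↥q.pt.left := inferInstanceAs (Finite (PrimeSpectrum q.K))
  exact quasiCompact_of_finite _

end Groth.Agent.Lib.Helper37.AlgSpDecent
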