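import Mathlib
import Groth.Prelude.Def_AlgSpMor5
import Groth.Agent.Lib.Helper37.ValuativeClosed
import Groth.Agent.Lib.Helper23.AlgSpMor4
import Groth.Agent.Lib.Helper37.AlgSpDecent

/-!
# Quasi-separated + universally closed ⇒ existence part of the valuative criterion (helper37)

* `repWith_quasiCompact_of_comp`: cancellation `t ≫ s` qc, `Δ_s` qc ⇒ `t` qc (representable sense).
* `exists_specialization_over_closedPoint`, `hasLiftExt_of_chart_point`,
  `existVC_of_quasiSeparated_univClosed`.
-/

universe u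
open CategoryTheory CategoryTheory.Limits AlgebraicGeometry
open AlgSp
open Groth.Agent.Lib.Helper37.AlgSpPoints Groth.Agent.Lib.Helper37.AlgSpFibres
open Groth.Agent.Lib.Helper23.AlgSpMor

namespace Groth.Agent.Lib.Helper37.ValuativeExist

variable {S : Scheme.{u}}

/-- Cancellation for representable quasi-compact morphisms of sheaves. -/
theorem repWith_quasiCompact_of_comp {F G H : Sp S} (t : F ⟶ G) (s : G ⟶ H)
    (hs : RepWith @QuasiCompact (pullback.diagonal s)) (hts : RepWith @QuasiCompact (t ≫ s)) :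
    RepWith @QuasiCompact t := by
  have : (RepWith (S := S) @QuasiCompact).HasOfPostcompProperty
      (RepWith (S := S) @QuasiCompact).diagonal :=
    MorphismProperty.hasOfPostcompProperty_iff_le_diagonal.2 le_rfl
  exact MorphismProperty.of_postcomp (W := RepWith (S := S) @QuasiCompact)
    (W' := (RepWith (S := S) @QuasiCompact).diagonal) t s hs hts

/-- The relative diagonal being representable quasi-compact is stable under base change. -/
theorem repWith_quasiCompact_diagonal_of_isPullback {X Y Z P : Sp S} {f : X ⟶ Y} {g : Z ⟶ Y}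
    {fst : P ⟶ X} {snd : P ⟶ Z} (sq : IsPullback fst snd f g)
    (hf : RepWith @QuasiCompact (pullback.diagonal f)) :
    RepWith @QuasiCompact (pullback.diagonal snd) :=
  MorphismProperty.of_isPullback (P := (RepWith (S := S) @QuasiCompact).diagonal) sq hf

open IsLocalRing in
/-- Topological step: a closed map to `Spec A` (valuation ring, or any local domain) and a point over
the generic point: some specialization lies over the closed point. -/
theorem exists_specialization_over_closedPoint {P : Sp S} {T : Over S} (s : P ⟶ (yon S).obj T)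
    (hs : IsClosedMap (Points.map s)) (xK : Points P) (t₀ t₁ : ↥T.left) (ht : t₀ ⤳ t₁)
    (hx : Points.map s xK = Points.ofScheme T t₀) :
    ∃ x : Points P, xK ⤳ x ∧ Points.map s x = Points.ofScheme T t₁ := by
  have hcl : IsClosed (Points.map s '' closure {xK}) := hs _ isClosed_closure
  have h0 : Points.ofScheme T t₀ ∈ Points.map s '' closure {xK} :=
    ⟨xK, subset_closure rfl, hx⟩
  have hsp : Points.ofScheme T t₀ ⤳ Points.ofScheme T t₁ :=
    ht.map (Points.schemeHomeo T).continuous
  obtain ⟨x, hx1, hx2⟩ := hcl.stableUnderSpecialization hsp h0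
  exact ⟨x, specializes_iff_mem_closure.2 hx1, hx2⟩

open IsLocalRing in
/-- Lifting step: given a "chart diagram" `a : h_U ⟶ P`, `s : P ⟶ h_{Spec A}`, a `K`-point `tP` of `P`
over `Spec K ⟶ Spec A`, and a point `r` of `R = U ×_P Spec K` whose image `u'` in `U` specializes to a
point `u` over the closed point of `A`: the valuative square has a lift after a dominating
extension. -/
theorem exists_domExt_of_chart_point {X Y : Sp S} (f : X ⟶ Y) (sq : ValSq f)
    {P : Sp S} (fstP : P ⟶ X) (sndP : P ⟶ (yon S).obj sq.ptA) (hw : fstP ≫ f = sndP ≫ sq.bot)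
    (tP : (yon S).obj sq.ptK ⟶ P) (htP1 : tP ≫ fstP = sq.top) (htP2 : tP ≫ sndP = (yon S).map sq.j)
    {U R : Over S} (a : (yon S).obj U ⟶ P) (r1 : R ⟶ U) (r2 : R ⟶ sq.ptK)
    (hR : (yon S).map r1 ≫ a = (yon S).map r2 ≫ tP) (r : ↥R.left) (u : ↥U.left)
    (hru : r1.left r ⤳ u)
    (hu : Points.map sndP (Points.ofPt a u) = Points.ofScheme sq.ptA (closedPoint sq.A)) :
    ∃ e : sq.DomExt, e.HasLift ∧
      ∀ (C : ∀ (K' : Type u) [Field K'], (sq.K →+* K') → Prop),
        C (R.left.residueField r)
          (Spec.preimage (R.left.fromSpecResidueField r ≫ r2.left :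
            Spec (R.left.residueField r) ⟶ Spec (.of sq.K))).hom → C e.K' e.ψ := by
  let L := R.left.residueField r
  let φ₀ : U.left.presheaf.stalk u ⟶ R.left.residueField r :=
    U.left.presheaf.stalkSpecializes hru ≫ r1.left.stalkMap r ≫ R.left.residue r
  obtain ⟨A', hA', hA'_local⟩ := exists_factor_valuationRing φ₀.hom
  let toA : U.left.presheaf.stalk u ⟶ .of A' := CommRingCat.ofHom (φ₀.hom.codRestrict _ hA')
  have hw0 : R.left.fromSpecResidueField r ≫ r1.left =
      Spec.map (CommRingCat.ofHom (algebraMap A' (R.left.residueField r))) ≫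
        Spec.map toA ≫ U.left.fromSpecStalk u := by
    rw [Scheme.fromSpecResidueField, Category.assoc, ← Scheme.SpecMap_stalkMap_fromSpecStalk,
      ← Scheme.SpecMap_stalkSpecializes_fromSpecStalk hru]
    simp_rw [← Spec.map_comp_assoc]
    rfl
  let ptA₀ : Over S := Over.mk (Spec.map toA ≫ U.left.fromSpecStalk u ≫ U.hom)
  let ptL₀ : Over S :=
    Over.mk (Spec.map (CommRingCat.ofHom (algebraMap A' (R.left.residueField r))) ≫ ptA₀.hom)
  let ρ : ptL₀ ⟶ R := Over.homMk (R.left.fromSpecResidueField r) (by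
    change _ ≫ R.hom = Spec.map _ ≫ Spec.map toA ≫ U.left.fromSpecStalk u ≫ U.hom
    rw [← Over.w r1, ← Category.assoc, hw0]
    simp only [Category.assoc])
  let iA : ptA₀ ⟶ U := Over.homMk (Spec.map toA ≫ U.left.fromSpecStalk u) (by
    change (_ ≫ _) ≫ U.hom = Spec.map toA ≫ U.left.fromSpecStalk u ≫ U.hom
    rw [Category.assoc])
  let jL : ptL₀ ⟶ ptA₀ :=
    Over.homMk (Spec.map (CommRingCat.ofHom (algebraMap A' (R.left.residueField r)))) rfl
  have hρ : ρ ≫ r1 = jL ≫ iA := by
    ext
    exact hw0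
  -- the map to Spec A
  obtain ⟨c, hc⟩ := (yon S).map_surjective ((yon S).map iA ≫ a ≫ sndP)
  let φ : sq.A →+* A' := (Spec.preimage c.left).hom
  have hφ : Spec.map (CommRingCat.ofHom φ) = c.left := by
    change Spec.map (CommRingCat.ofHom (Spec.preimage c.left).hom) = c.left
    rw [CommRingCat.ofHom_hom, Spec.map_preimage]
  let ψ : sq.K →+* R.left.residueField r := (Spec.preimage (ρ ≫ r2).left).hom
  have hψ : Spec.map (CommRingCat.ofHom ψ) = (ρ ≫ r2).left := by
    change Spec.map (CommRingCat.ofHom (Spec.preimage (ρ ≫ r2).left).hom) = (ρ ≫ r2).left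
    rw [CommRingCat.ofHom_hom, Spec.map_preimage]
  -- compatibility in Over S
  have hcomp : jL ≫ c = (ρ ≫ r2) ≫ sq.j := by
    apply (yon S).map_injective
    calc (yon S).map (jL ≫ c) = (yon S).map (jL ≫ iA) ≫ a ≫ sndP := by
          rw [Functor.map_comp, hc, Functor.map_comp, Category.assoc]
      _ = (yon S).map ρ ≫ ((yon S).map r1 ≫ a) ≫ sndP := by
          rw [← hρ, Functor.map_comp, Category.assoc, Category.assoc]
      _ = (yon S).map ρ ≫ (yon S).map r2 ≫ tP ≫ sndP := by
          rw [hR, Category.assoc]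
      _ = (yon S).map ((ρ ≫ r2) ≫ sq.j) := by
          rw [htP2]; simp only [Functor.map_comp, Category.assoc]
  have hcomm : (algebraMap A' (R.left.residueField r)).comp φ = ψ.comp (algebraMap sq.A sq.K) := by
    have h1 := congrArg (fun m => m.left) hcomp
    simp only [Over.comp_left] at h1
    change Spec.map (CommRingCat.ofHom (algebraMap A' (R.left.residueField r))) ≫ c.left =
      (ρ ≫ r2).left ≫ Spec.map (CommRingCat.ofHom (algebraMap sq.A sq.K)) at h1
    rw [← hφ, ← hψ, ← Spec.map_comp, ← Spec.map_comp, ← CommRingCat.ofHom_comp,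
      ← CommRingCat.ofHom_comp] at h1
    have h2 := Spec.map_injective h1
    have h3 := congrArg CommRingCat.Hom.hom h2
    exact h3
  have hclosed : c.left (closedPoint A') = closedPoint sq.A := by
    have h1 : Points.ofScheme sq.ptA (c.left (closedPoint A')) =
        Points.ofScheme sq.ptA (closedPoint sq.A) := by
      rw [← ofPt_yon_map, hc, ← hu, Points.map_ofPt, ofPt_map_comp]
      congr 1
      change (Spec.map toA ≫ U.left.fromSpecStalk u) (closedPoint A') = u
      simp only [Scheme.Hom.comp_base, TopCat.coe_comp, Function.comp_apply]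
      have : Spec.map toA (closedPoint A') = closedPoint (U.left.presheaf.stalk u) :=
        comap_closedPoint (S := A') (φ₀.hom.codRestrict A'.toSubring hA')
      rw [this, U.left.fromSpecStalk_closedPoint]
    have h2 := congrArg (Points.toScheme sq.ptA) h1
    rwa [Points.toScheme_ofScheme, Points.toScheme_ofScheme] at h2
  have hlocal : IsLocalHom φ := by
    rw [← hφ] at hclosed
    have h1 : (maximalIdeal A').comap φ = maximalIdeal sq.A := by
      have := congrArg PrimeSpectrum.asIdeal hclosed
      exact this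
    exact ((local_hom_TFAE φ).out 0 4).2 h1
  let e : sq.DomExt :=
    { A' := A', K' := R.left.residueField r, φ := φ, ψ := ψ, comm := hcomm, isLocalHom := hlocal }
  have hcw : c.left ≫ sq.str = ptA₀.hom := Over.w c
  let ι : e.ptA' ⟶ ptA₀ := Over.homMk (𝟙 _) (by
    change 𝟙 _ ≫ ptA₀.hom = Spec.map (CommRingCat.ofHom φ) ≫ sq.str
    rw [Category.id_comp, hφ, hcw])
  let ιK : e.ptK' ⟶ ptL₀ := Over.homMk (𝟙 _) (by
    change 𝟙 _ ≫ Spec.map _ ≫ ptA₀.hom = Spec.map _ ≫ Spec.map (CommRingCat.ofHom φ) ≫ sq.str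
    rw [Category.id_comp, hφ, hcw])
  refine ⟨e, ⟨(yon S).map ι ≫ (yon S).map iA ≫ a ≫ fstP, ?_, ?_⟩, fun C h => h⟩
  · have h1 : (Over.homMk (Spec.map (CommRingCat.ofHom (algebraMap e.A' e.K'))) rfl :
        e.ptK' ⟶ e.ptA') ≫ ι ≫ iA = ιK ≫ ρ ≫ r1 := by
      rw [hρ]
      ext
      change Spec.map _ ≫ 𝟙 _ ≫ _ = 𝟙 _ ≫ Spec.map _ ≫ _
      rw [Category.id_comp, Category.id_comp]
    have h2 : ιK ≫ ρ ≫ r2 = (Over.homMk (Spec.map (CommRingCat.ofHom e.ψ)) (by
          change Spec.map _ ≫ Spec.map _ ≫ _ = Spec.map _ ≫ Spec.map _ ≫ _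
          rw [← Spec.map_comp_assoc, ← Spec.map_comp_assoc, ← CommRingCat.ofHom_comp,
            ← CommRingCat.ofHom_comp, e.comm]) : e.ptK' ⟶ sq.ptK) := by
      ext
      change 𝟙 _ ≫ (ρ ≫ r2).left = Spec.map (CommRingCat.ofHom ψ)
      rw [Category.id_comp, hψ]
    rw [← h2]
    calc (yon S).map _ ≫ (yon S).map ι ≫ (yon S).map iA ≫ a ≫ fstP
        = (yon S).map ((Over.homMk (Spec.map (CommRingCat.ofHom (algebraMap e.A' e.K'))) rfl :
            e.ptK' ⟶ e.ptA') ≫ ι ≫ iA) ≫ a ≫ fstP := by
          simp only [Functor.map_comp, Category.assoc]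
      _ = (yon S).map (ιK ≫ ρ) ≫ ((yon S).map r1 ≫ a) ≫ fstP := by
          rw [h1]; simp only [Functor.map_comp, Category.assoc]
      _ = (yon S).map (ιK ≫ ρ ≫ r2) ≫ sq.top := by
          rw [hR, ← htP1]; simp only [Functor.map_comp, Category.assoc]
  · have h1 : ι ≫ c = (Over.homMk (Spec.map (CommRingCat.ofHom e.φ)) rfl : e.ptA' ⟶ sq.ptA) := by
      ext
      change 𝟙 _ ≫ c.left = Spec.map (CommRingCat.ofHom φ)
      rw [Category.id_comp, hφ]
    rw [← h1, Functor.map_comp, hc]
    simp only [Category.assoc, hw]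

open IsLocalRing in
theorem hasLiftExt_of_chart_point {X Y : Sp S} (f : X ⟶ Y) (sq : ValSq f)
    {P : Sp S} (fstP : P ⟶ X) (sndP : P ⟶ (yon S).obj sq.ptA) (hw : fstP ≫ f = sndP ≫ sq.bot)
    (tP : (yon S).obj sq.ptK ⟶ P) (htP1 : tP ≫ fstP = sq.top) (htP2 : tP ≫ sndP = (yon S).map sq.j)
    {U R : Over S} (a : (yon S).obj U ⟶ P) (r1 : R ⟶ U) (r2 : R ⟶ sq.ptK)
    (hR : (yon S).map r1 ≫ a = (yon S).map r2 ≫ tP) (r : ↥R.left) (u : ↥U.left)
    (hru : r1.left r ⤳ u)
    (hu : Points.map sndP (Points.ofPt a u) = Points.ofScheme sq.ptA (closedPoint sq.A)) :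
    sq.HasLiftExt := by
  obtain ⟨e, he, -⟩ := exists_domExt_of_chart_point f sq fstP sndP hw tP htP1 htP2 a r1 r2 hR r u
    hru hu
  exact ⟨e, he⟩


open IsLocalRing in
/-- Core: for a universally closed `f` and a valuative square `sq`, if the canonical `K`-point of
`P = X ×_Y Spec A` is represented by a field point with representable quasi-compact morphism, then `sq`
has a lift after a dominating extension. -/
theorem hasLiftExt_of_univClosed {X Y : Sp S} (hX : IsAlgSpace X) (hY : IsAlgSpace Y)
    (f : X ⟶ Y) (hc : IsUnivClosedMor f) (sq : ValSq f)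
    (hpt : ∃ p : FieldPt (pullback f sq.bot),
      Points.mk p = Points.ofPt (pullback.lift sq.top ((yon S).map sq.j) sq.comm)
        (closedPoint sq.K : ↥sq.ptK.left) ∧ RepWith @QuasiCompact p.toHom) :
    sq.HasLiftExt := by
  let P := pullback f sq.bot
  let fstP : P ⟶ X := pullback.fst f sq.bot
  let sndP : P ⟶ (yon S).obj sq.ptA := pullback.snd f sq.bot
  have psq : IsPullback fstP sndP f sq.bot := IsPullback.of_hasPullback _ _
  have hP : IsAlgSpace P := isAlgSpace_of_isPullback hX (IsAlgSpace.yon_obj _) hY.diag psq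
  let tP : (yon S).obj sq.ptK ⟶ P := pullback.lift sq.top ((yon S).map sq.j) sq.comm
  have htP1 : tP ≫ fstP = sq.top := pullback.lift_fst _ _ _
  have htP2 : tP ≫ sndP = (yon S).map sq.j := pullback.lift_snd _ _ _
  have hclosedMap : IsClosedMap (Points.map sndP) :=
    hc (IsAlgSpace.yon_obj sq.ptA) sq.bot fstP sndP psq
  let k0 : ↥sq.ptK.left := closedPoint sq.K
  let xK := Points.ofPt tP k0
  have hxK : Points.map sndP xK = Points.ofScheme sq.ptA (sq.j.left k0) := by
    rw [Points.map_ofPt, htP2, ofPt_yon_map]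
  obtain ⟨x, hx1, hx2⟩ := exists_specialization_over_closedPoint sndP hclosedMap xK
    (sq.j.left k0) (closedPoint sq.A) (specializes_closedPoint _) hxK
  obtain ⟨U, a, hae, has⟩ := hP.atlas
  obtain ⟨u, hu⟩ := ofPt_surjective a has x
  obtain ⟨p, hp, hpq⟩ := hpt
  obtain ⟨u', hu's, hu'⟩ := exists_specializes_lift_of_qc_point x xK hx1 p hp hpq a hae u hu
  have rsq := hae.rep.isPullback' tP
  obtain ⟨r, hr1, hr2⟩ := (ofPt_eq_ofPt_iff rsq u' k0).1 hu'
  exact hasLiftExt_of_chart_point f sq fstP sndP psq.w tP htP1 htP2 a (hae.rep.fst' tP)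
    (hae.rep.snd tP) rsq.w r u (by rw [hr1]; exact hu's) (by rw [hu]; exact hx2)

open IsLocalRing in
/-- A quasi-separated universally closed morphism of algebraic spaces satisfies the existence part of
the valuative criterion. -/
theorem existVC_of_quasiSeparated_univClosed {X Y : Sp S} (hX : IsAlgSpace X) (hY : IsAlgSpace Y)
    (f : X ⟶ Y) (hqs : RepWith @QuasiCompact (pullback.diagonal f)) (hc : IsUnivClosedMor f) :
    ExistVC f := by
  intro sq
  apply hasLiftExt_of_univClosed hX hY f hc sq
  have psq : IsPullback (pullback.fst f sq.bot) (pullback.snd f sq.bot) f sq.bot :=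
    IsPullback.of_hasPullback _ _
  have hqP : RepWith @QuasiCompact (pullback.diagonal (pullback.snd f sq.bot)) :=
    repWith_quasiCompact_diagonal_of_isPullback psq hqs
  have hj : RepWith @QuasiCompact ((yon S).map sq.j) :=
    (repWith_yon_map_iff _ _).2 (by
      change QuasiCompact (Spec.map (CommRingCat.ofHom (algebraMap sq.A sq.K)))
      infer_instance)
  have htq : RepWith @QuasiCompact (pullback.lift sq.top ((yon S).map sq.j) sq.comm) :=
    repWith_quasiCompact_of_comp _ (pullback.snd f sq.bot) hqP (by rw [pullback.lift_snd]; exact hj)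
  exact ⟨FieldPt.ofPt _ (closedPoint sq.K : ↥sq.ptK.left), rfl,
    repWith_quasiCompact_toHom_ofPt _ htq _⟩

/-- A universally closed morphism of algebraic spaces all of whose base changes to spectra of valuation
rings are decent satisfies the existence part of the valuative criterion. -/
theorem existVC_of_univClosed_of_isDecent_pullback {X Y : Sp S} (hX : IsAlgSpace X)
    (hY : IsAlgSpace Y) (f : X ⟶ Y) (hc : IsUnivClosedMor f)
    (hd : ∀ sq : ValSq f, IsDecent (pullback f sq.bot)) : ExistVC f := by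
  intro sq
  apply hasLiftExt_of_univClosed hX hY f hc sq
  obtain ⟨p, hp, -, hpq⟩ := hd sq (Points.ofPt (pullback.lift sq.top ((yon S).map sq.j) sq.comm)
    (IsLocalRing.closedPoint sq.K : ↥sq.ptK.left))
  exact ⟨p, hp, hpq⟩

/-- Universally closed with decent source ⇒ existence part of the valuative criterion. -/
theorem existVC_of_isDecent_univClosed {X Y : Sp S} (hX : IsAlgSpace X) (hY : IsAlgSpace Y)
    (f : X ⟶ Y) (hXd : IsDecent X) (hc : IsUnivClosedMor f) : ExistVC f := by
  apply existVC_of_univClosed_of_isDecent_pullback hX hY f hc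
  intro sq
  have psq : IsPullback (pullback.fst f sq.bot) (pullback.snd f sq.bot) f sq.bot :=
    IsPullback.of_hasPullback _ _
  exact Groth.Agent.Lib.Helper37.AlgSpDecent.isDecent_of_representable (pullback.fst f sq.bot)
    ((Representable (S := S)).of_isPullback psq.flip (hY.representable_from_yon sq.bot)) hXd

/-- Universally closed decent morphism ⇒ existence part of the valuative criterion. -/
theorem existVC_of_isDecentMor_univClosed {X Y : Sp S} (hX : IsAlgSpace X) (hY : IsAlgSpace Y)
    (f : X ⟶ Y) (hd : IsDecentMor f) (hc : IsUnivClosedMor f) : ExistVC f := by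
  apply existVC_of_univClosed_of_isDecent_pullback hX hY f hc
  intro sq
  exact hd sq.bot (pullback.fst f sq.bot) (pullback.snd f sq.bot) (IsPullback.of_hasPullback _ _)

end Groth.Agent.Lib.Helper37.ValuativeExist
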