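import Mathlib
import Groth.Prelude.Def_AlgSpMor5
import Groth.Agent.Lib.Helper37.ValuativeExist
import Groth.Agent.Lib.Helper37.MonoField

/-!
# Existence part of the valuative criterion: finite separable extensions suffice (helper37)
-/

universe u
open CategoryTheory CategoryTheory.Limits AlgebraicGeometry
open AlgSp
open Groth.Agent.Lib.Helper37.AlgSpPoints Groth.Agent.Lib.Helper37.AlgSpFibres
open Groth.Agent.Lib.Helper23.AlgSpMor Groth.Agent.Lib.Helper37.ValuativeExist

namespace Groth.Agent.Lib.Helper37.ValuativeSep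

/-- Finite residue field extensions for unramified morphisms locally of finite type. -/
theorem finite_residueField_of_formallyUnramified {X Y : Scheme.{u}} (f : X ⟶ Y)
    [FormallyUnramified f] [LocallyOfFiniteType f] (x : X) :
    letI : Algebra (Y.residueField (f x)) (X.residueField x) :=
      (f.residueFieldMap x).hom.toAlgebra
    Module.Finite (Y.residueField (f x)) (X.residueField x) := by
  algebraize [(f.stalkMap x).hom]
  have : IsLocalHom (algebraMap (Y.presheaf.stalk (f x)) (X.presheaf.stalk x)) :=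
    inferInstanceAs <| IsLocalHom (f.stalkMap x).hom
  have : Algebra.EssFiniteType (Y.presheaf.stalk (f x)) (X.presheaf.stalk x) := by
    rw [← RingHom.essFiniteType_algebraMap, RingHom.algebraMap_toAlgebra]
    exact LocallyOfFiniteType.stalkMap f x
  have : Algebra.FormallyUnramified (Y.presheaf.stalk (f x)) (X.presheaf.stalk x) := by
    rw [← RingHom.formallyUnramified_algebraMap, RingHom.algebraMap_toAlgebra]
    exact FormallyUnramified.stalkMap f x
  have h : Module.Finite
      (IsLocalRing.ResidueField <| Y.presheaf.stalk (f x))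
      (IsLocalRing.ResidueField <| X.presheaf.stalk x) := inferInstance
  let _ : Algebra (Y.residueField (f x)) (X.residueField x) :=
      (f.residueFieldMap x).hom.toAlgebra
  refine @Module.Finite.of_equiv_equiv
    (IsLocalRing.ResidueField <| Y.presheaf.stalk (f x))
    (IsLocalRing.ResidueField <| X.presheaf.stalk x) (Y.residueField (f x)) (X.residueField x)
    _ _ _ _ _ _ (RingEquiv.refl _) (RingEquiv.refl _) ?_ h
  ext a
  obtain ⟨a, rfl⟩ := IsLocalRing.residue_surjective a
  rfl

/-- For `g : W ⟶ Spec K` unramified and locally of finite type and `w ∈ W`, the residue field `κ(w)`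
is a finite separable extension of `K` (via the ring map corresponding to `Spec κ(w) ⟶ W ⟶ Spec K`). -/
theorem finite_isSeparable_residueField_over_field {K : Type u} [Field K] {W : Scheme.{u}}
    (g : W ⟶ Spec (.of K)) [FormallyUnramified g] [LocallyOfFiniteType g] (w : W) :
    letI : Algebra K (W.residueField w) :=
      (Spec.preimage (W.fromSpecResidueField w ≫ g :
        Spec (W.residueField w) ⟶ Spec (.of K))).hom.toAlgebra
    Module.Finite K (W.residueField w) ∧ Algebra.IsSeparable K (W.residueField w) := by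
  let Y := Spec (CommRingCat.of K)
  let ι : CommRingCat.of K ⟶ Y.residueField (g w) := Spec.preimage (Y.fromSpecResidueField (g w))
  have hι : Spec.map ι = Y.fromSpecResidueField (g w) := Spec.map_preimage _
  have hiso : IsIso (Y.fromSpecResidueField (g w)) :=
    Groth.Agent.Lib.Helper37.MonoField.isIso_of_mono_of_nonempty (K := K) _
  have hιiso : IsIso ι := by
    have h1 : IsIso (Spec.map ι) := hι ▸ hiso
    have h2 : IsIso (Scheme.Spec.map ι.op) := h1
    have h3 : IsIso ι.op := isIso_of_reflects_iso ι.op Scheme.Spec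
    exact (isIso_op_iff ι).1 h3
  let e₁ : (Y.residueField (g w) : Type u) ≃+* K := (asIso ι).commRingCatIsoToRingEquiv.symm
  have hψ : Spec.preimage (W.fromSpecResidueField w ≫ g :
        Spec (W.residueField w) ⟶ Spec (.of K)) = ι ≫ g.residueFieldMap w := by
    apply Spec.map_injective
    rw [Spec.map_preimage, Spec.map_comp, hι, Scheme.Hom.SpecMap_residueFieldMap_fromSpecResidueField]
  letI algK : Algebra K (W.residueField w) :=
      (Spec.preimage (W.fromSpecResidueField w ≫ g :
        Spec (W.residueField w) ⟶ Spec (.of K))).hom.toAlgebra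
  letI algY : Algebra (Y.residueField (g w)) (W.residueField w) :=
      (g.residueFieldMap w).hom.toAlgebra
  have hfin : Module.Finite (Y.residueField (g w)) (W.residueField w) :=
    finite_residueField_of_formallyUnramified g w
  have hsep : Algebra.IsSeparable (Y.residueField (g w)) (W.residueField w) := inferInstance
  have he : RingHom.comp (algebraMap K (W.residueField w)) (e₁ : _ →+* K) =
      RingHom.comp ((RingEquiv.refl (W.residueField w) : _ →+* _))
        (algebraMap (Y.residueField (g w)) (W.residueField w)) := by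
    ext a
    obtain ⟨b, rfl⟩ : ∃ b : K, ι.hom b = a := ⟨e₁ a, by
      change ι.hom ((asIso ι).commRingCatIsoToRingEquiv.symm a) = a
      exact (asIso ι).commRingCatIsoToRingEquiv.apply_symm_apply a⟩
    have h1 : e₁ (ι.hom b) = b := (asIso ι).commRingCatIsoToRingEquiv.symm_apply_apply b
    simp only [RingHom.comp_apply, RingHom.coe_coe, h1, RingEquiv.refl_apply]
    change (Spec.preimage (W.fromSpecResidueField w ≫ g)).hom b = (g.residueFieldMap w).hom (ι.hom b)
    rw [hψ]
    rfl
  exact ⟨Module.Finite.of_equiv_equiv e₁ (RingEquiv.refl _) he,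
    Algebra.IsSeparable.of_equiv_equiv e₁ (RingEquiv.refl _) he⟩

variable {S : Scheme.{u}}

open IsLocalRing in
/-- If a valuative square has a lift after some dominating extension, it has one after a dominating
extension whose fraction field is finite separable over the original one. -/
theorem exists_finite_separable_domExt {X Y : Sp S} (hX : IsAlgSpace X) (hY : IsAlgSpace Y)
    (f : X ⟶ Y) (sq : ValSq f) (h0 : sq.HasLiftExt) :
    ∃ e : sq.DomExt, (letI := e.ψ.toAlgebra; Module.Finite sq.K e.K' ∧ Algebra.IsSeparable sq.K e.K') ∧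
      e.HasLift := by
  obtain ⟨e₀, l₀, hl1, hl2⟩ := h0
  let P := pullback f sq.bot
  let fstP : P ⟶ X := pullback.fst f sq.bot
  let sndP : P ⟶ (yon S).obj sq.ptA := pullback.snd f sq.bot
  have psq : IsPullback fstP sndP f sq.bot := IsPullback.of_hasPullback _ _
  have hP : IsAlgSpace P := isAlgSpace_of_isPullback hX (IsAlgSpace.yon_obj _) hY.diag psq
  let tP : (yon S).obj sq.ptK ⟶ P := pullback.lift sq.top ((yon S).map sq.j) sq.comm
  have htP1 : tP ≫ fstP = sq.top := pullback.lift_fst _ _ _
  have htP2 : tP ≫ sndP = (yon S).map sq.j := pullback.lift_snd _ _ _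
  let φm : e₀.ptA' ⟶ sq.ptA := Over.homMk (Spec.map (CommRingCat.ofHom e₀.φ)) rfl
  let jK' : e₀.ptK' ⟶ e₀.ptA' := Over.homMk (Spec.map (CommRingCat.ofHom (algebraMap e₀.A' e₀.K'))) rfl
  let ψm : e₀.ptK' ⟶ sq.ptK := Over.homMk (Spec.map (CommRingCat.ofHom e₀.ψ)) (by
    change Spec.map _ ≫ Spec.map _ ≫ _ = Spec.map _ ≫ Spec.map _ ≫ _
    rw [← Spec.map_comp_assoc, ← Spec.map_comp_assoc, ← CommRingCat.ofHom_comp,
      ← CommRingCat.ofHom_comp, e₀.comm])
  let lP : (yon S).obj e₀.ptA' ⟶ P := pullback.lift l₀ ((yon S).map φm) hl2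
  have hlP1 : lP ≫ fstP = l₀ := pullback.lift_fst _ _ _
  have hlP2 : lP ≫ sndP = (yon S).map φm := pullback.lift_snd _ _ _
  have hjφ : jK' ≫ φm = ψm ≫ sq.j := by
    ext
    change Spec.map _ ≫ Spec.map _ = Spec.map _ ≫ Spec.map _
    rw [← Spec.map_comp, ← Spec.map_comp, ← CommRingCat.ofHom_comp, ← CommRingCat.ofHom_comp,
      e₀.comm]
  have hgen : (yon S).map jK' ≫ lP = (yon S).map ψm ≫ tP := by
    apply pullback.hom_ext
    · rw [Category.assoc, Category.assoc]
      change _ ≫ lP ≫ fstP = _ ≫ tP ≫ fstP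
      rw [hlP1, htP1]
      exact hl1
    · rw [Category.assoc, Category.assoc]
      change _ ≫ lP ≫ sndP = _ ≫ tP ≫ sndP
      rw [hlP2, htP2, ← Functor.map_comp, ← Functor.map_comp, hjφ]
  -- the closed point
  let c' : ↥e₀.ptA'.left := closedPoint e₀.A'
  let x := Points.ofPt lP c'
  have hloc := e₀.isLocalHom
  have hx : Points.map sndP x = Points.ofScheme sq.ptA (closedPoint sq.A) := by
    rw [Points.map_ofPt, hlP2, ofPt_yon_map]
    congr 1
    exact comap_closedPoint e₀.φ
  obtain ⟨U, a, hae, has⟩ := hP.atlas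
  obtain ⟨u, hu⟩ := ofPt_surjective a has x
  -- pull back the chart to Spec A'
  have rsq' := hae.rep.isPullback' lP
  have hr2'e : Etale (hae.rep.snd lP).left := hae.property_snd lP
  obtain ⟨r', hr'1, hr'2⟩ := (ofPt_eq_ofPt_iff rsq' u c').1 hu
  let k' : ↥e₀.ptK'.left := closedPoint e₀.K'
  have hη : jK'.left k' ⤳ (hae.rep.snd lP).left r' := by
    rw [hr'2]
    exact specializes_closedPoint _
  obtain ⟨r'', hr''s, hr''⟩ := Flat.generalizingMap (hae.rep.snd lP).left hη
  let u' := (hae.rep.fst' lP).left r''
  have hu's : u' ⤳ u := by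
    rw [← hr'1]
    exact hr''s.map (hae.rep.fst' lP).left.continuous
  let k0 : ↥sq.ptK.left := closedPoint sq.K
  have hu' : Points.ofPt a u' = Points.ofPt tP k0 := by
    have h1 : Points.ofPt a u' = Points.ofPt lP ((hae.rep.snd lP).left r'') :=
      (ofPt_eq_ofPt_iff rsq' _ _).2 ⟨r'', rfl, rfl⟩
    rw [h1, hr'', ← ofPt_map_comp, hgen, ofPt_map_comp]
    congr 1
    exact Subsingleton.elim (α := PrimeSpectrum sq.K) _ _
  have rsq := hae.rep.isPullback' tP
  have hr2e : Etale (hae.rep.snd tP).left := hae.property_snd tP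
  obtain ⟨r, hr1, hr2⟩ := (ofPt_eq_ofPt_iff rsq u' k0).1 hu'
  obtain ⟨e, he, hC⟩ := exists_domExt_of_chart_point f sq fstP sndP psq.w tP htP1 htP2 a
    (hae.rep.fst' tP) (hae.rep.snd tP) rsq.w r u (by rw [hr1]; exact hu's) (by rw [hu]; exact hx)
  refine ⟨e, ?_, he⟩
  exact hC (fun K' _ ψ => (letI := ψ.toAlgebra; Module.Finite sq.K K' ∧ Algebra.IsSeparable sq.K K'))
    (finite_isSeparable_residueField_over_field (K := sq.K) (hae.rep.snd tP).left r)

end Groth.Agent.Lib.Helper37.ValuativeSep
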