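import Mathlib
import Groth.Prelude.Def_AlgSpDec
import Groth.Agent.Lib.Helper36.AlgSpCharts
import Groth.Agent.Lib.Helper37.AlgSpDecent
import Groth.Agent.Lib.Helper37.AlgSpFibres
import Groth.Agent.Lib.Helper37.MonoField
import Groth.Agent.Lib.Helper23.FppfDescent
import Groth.Agent.Lib.Helper37.ValuativeSep

/-!
# Closed points of decent spaces are closed immersions (helper37)

* `repWith_of_atlas`: a representable morphism has an fppf-local property as soon as its base change
  to one étale atlas of the target has it.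
* `isField_stalk_of_formallyUnramified_over_field`, `isClosedImmersion_of_mono_of_isField_stalk`.
* `repWith_isClosedImmersion_of_closed_point` (S10359).
-/

universe u
open CategoryTheory CategoryTheory.Limits AlgebraicGeometry
open AlgSp
open Groth.Agent.Lib.Helper36.AlgSpCharts
open Groth.Agent.Lib.Helper37.AlgSpPoints Groth.Agent.Lib.Helper37.AlgSpFibres

namespace Groth.Agent.Lib.Helper37.ClosedPoint

/-- A reduced local ring with only one prime ideal is a field. -/
theorem isField_of_isReduced_of_subsingleton (R : Type*) [CommRing R] [IsLocalRing R] [IsReduced R]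
    [Subsingleton (PrimeSpectrum R)] : IsField R := by
  rw [IsLocalRing.isField_iff_maximalIdeal_eq]
  have h1 : nilradical R = ⊥ := by
    rw [nilradical_eq_zero]; rfl
  rw [← h1, nilradical_eq_sInf]
  refine le_antisymm (le_sInf fun J hJ => ?_) (sInf_le (IsLocalRing.maximalIdeal.isMaximal R).isPrime)
  have : (⟨J, hJ⟩ : PrimeSpectrum R) = ⟨IsLocalRing.maximalIdeal R, inferInstance⟩ :=
    Subsingleton.elim _ _
  have h2 : J = IsLocalRing.maximalIdeal R := congrArg PrimeSpectrum.asIdeal this
  rw [h2]

/-- The local ring of a reduced scheme at a point without proper generizations is a field. -/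
theorem isField_stalk_of_forall_specializes_eq {X : Scheme.{u}} [IsReduced X] (x : X)
    (h : ∀ y : X, y ⤳ x → y = x) : IsField (X.presheaf.stalk x) := by
  have : Subsingleton (PrimeSpectrum (X.presheaf.stalk x)) := by
    refine ⟨fun a b => ?_⟩
    have hinj : Function.Injective (X.fromSpecStalk x) :=
      (X.fromSpecStalk x).isEmbedding.injective
    apply hinj
    have ha : X.fromSpecStalk x a ∈ Set.range (X.fromSpecStalk x) := ⟨a, rfl⟩
    have hb : X.fromSpecStalk x b ∈ Set.range (X.fromSpecStalk x) := ⟨b, rfl⟩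
    rw [Scheme.range_fromSpecStalk] at ha hb
    rw [h _ ha, h _ hb]
  exact isField_of_isReduced_of_subsingleton _

/-- The local rings of a scheme unramified and locally of finite type over a field are fields. -/
theorem isField_stalk_of_formallyUnramified_over_field {K : Type u} [Field K] {V : Scheme.{u}}
    (f : V ⟶ Spec (.of K)) [FormallyUnramified f] [LocallyOfFiniteType f] (v : V) :
    IsField (V.presheaf.stalk v) := by
  let Y := Spec (CommRingCat.of K)
  algebraize [(f.stalkMap v).hom]
  have : IsLocalHom (algebraMap (Y.presheaf.stalk (f v)) (V.presheaf.stalk v)) :=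
    inferInstanceAs <| IsLocalHom (f.stalkMap v).hom
  have : Algebra.EssFiniteType (Y.presheaf.stalk (f v)) (V.presheaf.stalk v) := by
    rw [← RingHom.essFiniteType_algebraMap, RingHom.algebraMap_toAlgebra]
    exact LocallyOfFiniteType.stalkMap f v
  have : Algebra.FormallyUnramified (Y.presheaf.stalk (f v)) (V.presheaf.stalk v) := by
    rw [← RingHom.formallyUnramified_algebraMap, RingHom.algebraMap_toAlgebra]
    exact FormallyUnramified.stalkMap f v
  have h1 := Algebra.FormallyUnramified.map_maximalIdeal (R := Y.presheaf.stalk (f v))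
    (S := V.presheaf.stalk v)
  have h2 : IsField (Y.presheaf.stalk (f v)) :=
    isField_stalk_of_forall_specializes_eq (X := Y) (f v)
      (fun y _ => Subsingleton.elim (α := PrimeSpectrum K) _ _)
  rw [IsLocalRing.isField_iff_maximalIdeal_eq] at h2 ⊢
  rw [← h1, h2, Ideal.map_bot]

/-- A monomorphism of schemes that is a closed map and whose source has only fields as local rings
is a closed immersion. -/
theorem isClosedImmersion_of_mono_of_isField_stalk {V W : Scheme.{u}} (g : V ⟶ W) [Mono g]
    (hfield : ∀ v : V, IsField (V.presheaf.stalk v)) (hcl : IsClosedMap g) :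
    IsClosedImmersion g := by
  rw [isClosedImmersion_iff]
  refine ⟨⟨fun v => ?_⟩,
    Topology.IsClosedEmbedding.of_continuous_injective_isClosedMap g.continuous g.injective hcl⟩
  have hres := Scheme.residue_residueFieldMap g v
  have hfac := Scheme.Hom.SpecMap_residueFieldMap_fromSpecResidueField g v
  have hmono : Mono (Spec.map (g.residueFieldMap v)) := by
    have : Mono (Spec.map (g.residueFieldMap v) ≫ W.fromSpecResidueField (g v)) := by
      rw [hfac]; infer_instance
    exact mono_of_mono _ (W.fromSpecResidueField (g v))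
  have hiso1 : IsIso (Spec.map (g.residueFieldMap v)) :=
    Groth.Agent.Lib.Helper37.MonoField.isIso_of_mono_of_nonempty (K := W.residueField (g v)) _
  have hiso : IsIso (g.residueFieldMap v) := by
    have h2 : IsIso (Scheme.Spec.map (g.residueFieldMap v).op) := hiso1
    have h3 : IsIso (g.residueFieldMap v).op := isIso_of_reflects_iso _ Scheme.Spec
    exact (isIso_op_iff _).1 h3
  have hbij : Function.Bijective (g.residueFieldMap v).hom :=
    (ConcreteCategory.isIso_iff_bijective _).1 hiso
  have hinj : Function.Injective (V.residue v).hom := by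
    rw [RingHom.injective_iff_ker_eq_bot]
    change RingHom.ker (IsLocalRing.residue _) = ⊥
    rw [IsLocalRing.ker_residue]
    exact IsLocalRing.isField_iff_maximalIdeal_eq.1 (hfield v)
  intro y
  obtain ⟨b, hb⟩ := hbij.2 ((V.residue v).hom y)
  obtain ⟨a, ha⟩ := IsLocalRing.residue_surjective (R := W.presheaf.stalk (g v)) b
  refine ⟨a, hinj ?_⟩
  have := congrArg (fun φ => φ.hom a) hres
  simp only [CommRingCat.hom_comp, RingHom.comp_apply] at this
  rw [← this, ← hb]
  congr 1

variable {S : Scheme.{u}}

/-- A representable morphism `f : F ⟶ X` has `P` (stable under base change, fppf-descending) as soon as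
its base change to one étale surjective chart of `X` has `P`. -/
theorem repWith_of_atlas {P : MorphismProperty Scheme.{u}} [P.IsStableUnderBaseChange]
    [P.DescendsAlong (@Surjective ⊓ @Flat ⊓ @LocallyOfFinitePresentation)]
    {F X : Sp S} (f : F ⟶ X) (hrep : Representable f) {W : Over S} (c : (yon S).obj W ⟶ X)
    (hce : RepWith @Etale c) (hcs : RepWith @Surjective c)
    (h : P (hrep.snd c).left) : RepWith P f := by
  have : P.RespectsIso := MorphismProperty.IsStableUnderBaseChange.respectsIso
  refine MorphismProperty.relative_of_snd hrep fun T g => ?_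
  have B := hrep.isPullback g
  set V := hrep.pullback g
  set snd := hrep.snd g
  set fst' := hrep.fst g
  change P snd.left
  obtain ⟨T1, t1, t2, C⟩ := exists_isPullback_yon g c hce.rep
  have ht1e : Etale t1.left := prop_fst_of_isPullback C hce
  have ht1s : Surjective t1.left := prop_fst_of_isPullback C hcs
  have D := hrep.isPullback c
  have A0 := IsPullback.of_hasPullback snd t1
  set v1 := pullback.fst snd t1
  set v2 := pullback.snd snd t1
  have A : IsPullback ((yon S).map v1) ((yon S).map v2) ((yon S).map snd) ((yon S).map t1) :=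
    A0.map (yon S)
  have AB := (A.paste_horiz B).flip
  obtain ⟨r', hr1, hr2⟩ := D.exists_lift ((yon S).map v1 ≫ fst') ((yon S).map (v2 ≫ t2)) (by
    rw [Category.assoc, B.w, ← Functor.map_comp_assoc, A0.w,
      Functor.map_comp_assoc, C.w, Functor.map_comp, Category.assoc])
  obtain ⟨r, rfl⟩ := (yon S).map_surjective r'
  have E : IsPullback ((yon S).map v2) ((yon S).map r) ((yon S).map t2) ((yon S).map (hrep.snd c)) := by
    refine IsPullback.of_bot ?_ ?_ D.flip
    · rw [hr1, ← C.w]
      exact AB
    · rw [hr2, Functor.map_comp]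
  have E' := (isPullback_of_yon E).map (Over.forget S)
  have hv2 : P v2.left := MorphismProperty.of_isPullback E'.flip h
  exact descend_of_isPullback A0 ht1e ht1s hv2


/-- A quasi-compact monomorphic field point of a decent space whose image is a closed point is a
closed immersion. -/
theorem repWith_isClosedImmersion_of_mono_qc (X : Space S) (hX : IsDecent X.obj)
    (m : FieldPt X.obj) (hm2 : Mono m.toHom) (hm3 : RepWith @QuasiCompact m.toHom)
    (x : Points X.obj) (hm1 : Points.mk m = x) (hx : IsClosed ({x} : Set (Points X.obj))) :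
    RepWith @IsClosedImmersion m.toHom := by
  obtain ⟨W, c, hce, hcs⟩ := X.property.atlas
  refine repWith_of_atlas m.toHom hm3.rep c hce hcs ?_
  have sq := hm3.rep.isPullback' c
  have h1 : Mono ((yon S).map (hm3.rep.snd c)) := sq.mono_snd_of_mono
  have h2 : Mono (hm3.rep.snd c) := (yon S).mono_of_mono_map h1
  have hmono : Mono (hm3.rep.snd c).left := inferInstance
  have het : Etale (hm3.rep.fst' c).left := hce.property m.toHom _ _ sq.flip
  have hfield : ∀ v, IsField ((hm3.rep.pullback c).left.presheaf.stalk v) := fun v =>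
    isField_stalk_of_formallyUnramified_over_field (K := m.K) (hm3.rep.fst' c).left v
  -- all points of the image lie over `x`
  have hZ : ∀ v : ↥(hm3.rep.pullback c).left, Points.ofPt c ((hm3.rep.snd c).left v) = x := by
    intro v
    rw [← (ofPt_eq_ofPt_iff sq _ _).2 ⟨v, rfl, rfl⟩, Points.ofPt_toHom, hm1]
  -- points over `x` are closed
  have hfibcl : IsClosed (Points.ofPt c ⁻¹' {x}) := hx.preimage (Points.continuous_ofPt c)
  have hptcl : ∀ w : ↥W.left, Points.ofPt c w = x → IsClosed ({w} : Set ↥W.left) := by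
    intro w hw
    rw [← closure_eq_iff_isClosed]
    refine Set.Subset.antisymm (fun w' hw' => ?_) subset_closure
    have hw'x : Points.ofPt c w' = x :=
      closure_minimal (s := ({w} : Set ↥W.left)) (t := Points.ofPt c ⁻¹' {x})
        (Set.singleton_subset_iff.2 hw) hfibcl hw'
    have hs : w ⤳ w' := specializes_iff_mem_closure.2 hw'
    exact eq_of_specializes_of_isDecent hX c hce w' w (hw'x.trans hw.symm) hs
  -- closed map
  have hcl : IsClosedMap (hm3.rep.snd c).left := by
    intro C _
    rw [← isOpen_compl_iff, isOpen_iff_forall_mem_open]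
    intro w hw
    obtain ⟨_, ⟨W₀, hW₀, rfl⟩, hwW₀, -⟩ :=
      W.left.isBasis_affineOpens.exists_subset_of_mem_open (Set.mem_univ w) isOpen_univ
    have hc₀ := repWith_etale_restrict c hce W₀
    have hcpt : CompactSpace ↥(openOver W W₀).left := isCompact_iff_compactSpace.1 hW₀.isCompact
    have hfin := finite_fibre_of_qc_point m hm3 ((yon S).map (openι W W₀) ≫ c) hc₀
    let F₀ : Set ↥W.left := ((hm3.rep.snd c).left '' C) ∩ (W₀ : Set ↥W.left)
    have hF₀fin : F₀.Finite := by
      refine (hfin.image Subtype.val).subset ?_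
      rintro w' ⟨⟨v, -, rfl⟩, hw'W₀⟩
      refine ⟨⟨_, hw'W₀⟩, ?_, rfl⟩
      change Points.ofPt ((yon S).map (openι W W₀) ≫ c) _ ∈ ({Points.mk m} : Set _)
      rw [ofPt_restrict, hZ v, hm1]
      rfl
    have hF₀cl : IsClosed F₀ := by
      have : F₀ = ⋃ a ∈ F₀, {a} := by simp
      rw [this]
      refine hF₀fin.isClosed_biUnion fun a ha => ?_
      obtain ⟨⟨v, -, rfl⟩, -⟩ := ha
      exact hptcl _ (hZ v)
    refine ⟨(W₀ : Set ↥W.left) ∩ F₀ᶜ, ?_, W₀.2.inter hF₀cl.isOpen_compl, hwW₀, fun h => hw h.1⟩
    rintro w' ⟨h1, h2⟩ h3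
    exact h2 ⟨h3, h1⟩
  exact isClosedImmersion_of_mono_of_isField_stalk (hm3.rep.snd c).left hfield hcl

/-- S10359: a closed point of a decent algebraic space is represented by a closed immersion. -/
theorem repWith_isClosedImmersion_of_closed_point (X : Space S) (hX : IsDecent X.obj)
    (x : Points X.obj) (hx : IsClosed ({x} : Set (Points X.obj))) :
    ∃ p : FieldPt X.obj, Points.mk p = x ∧ RepWith @IsClosedImmersion p.toHom := by
  obtain ⟨m, hm1, hm2, hm3⟩ := hX x
  exact ⟨m, hm1, repWith_isClosedImmersion_of_mono_qc X hX m hm2 hm3 x hm1 hx⟩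

/-- If `Spec κ(w) ⟶ W ⟶ S` is universally closed, then `w` is a closed point of `W`. -/
theorem isClosed_singleton_of_universallyClosed {W S : Scheme.{u}} (h : W ⟶ S) (w : W)
    [UniversallyClosed (W.fromSpecResidueField w ≫ h)] : IsClosed ({w} : Set W) := by
  rw [← closure_eq_iff_isClosed]
  refine Set.Subset.antisymm (fun w' hw' => ?_) subset_closure
  have hs : w ⤳ w' := specializes_iff_mem_closure.2 hw'
  obtain ⟨_, ⟨(W₀ : W.Opens), hW₀, rfl⟩, hw'W₀, -⟩ :=
    W.isBasis_affineOpens.exists_subset_of_mem_open (Set.mem_univ w') isOpen_univ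
  have hwW₀ : w ∈ W₀ := hs.mem_open W₀.2 hw'W₀
  have hrange : Set.range (W.fromSpecResidueField w) ⊆ Set.range W₀.ι := by
    rw [Scheme.range_fromSpecResidueField, Scheme.Opens.range_ι]
    exact Set.singleton_subset_iff.2 hwW₀
  let f₀ : Spec (W.residueField w) ⟶ W₀ := IsOpenImmersion.lift W₀.ι (W.fromSpecResidueField w) hrange
  have hf₀ : f₀ ≫ W₀.ι = W.fromSpecResidueField w := IsOpenImmersion.lift_fac _ _ _
  have : IsAffine (W₀ : Scheme.{u}) := hW₀
  have h1 : UniversallyClosed (f₀ ≫ (W₀.ι ≫ h)) := by
    rw [← Category.assoc, hf₀]; infer_instance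
  have huc : UniversallyClosed f₀ := UniversallyClosed.of_comp_of_isSeparated f₀ (W₀.ι ≫ h)
  have hcl : IsClosed (Set.range f₀) := f₀.isClosedMap.isClosed_range
  have hr : Set.range f₀ = {⟨w, hwW₀⟩} := by
    ext y
    simp only [Set.mem_range, Set.mem_singleton_iff]
    constructor
    · rintro ⟨z, rfl⟩
      apply Subtype.ext
      have h2 : W₀.ι (f₀ z) ∈ Set.range (W.fromSpecResidueField w) := ⟨z, by rw [← hf₀]; rfl⟩
      rw [Scheme.range_fromSpecResidueField] at h2
      exact h2
    · rintro rfl
      obtain ⟨z, hz⟩ : w ∈ Set.range (W.fromSpecResidueField w) := by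
        rw [Scheme.range_fromSpecResidueField]; rfl
      refine ⟨z, Subtype.ext ?_⟩
      have h3 : W₀.ι (f₀ z) = (W.fromSpecResidueField w) z := by rw [← hf₀]; rfl
      exact h3.trans hz
  rw [hr] at hcl
  have hs₀ : (⟨w, hwW₀⟩ : ↥W₀) ⤳ ⟨w', hw'W₀⟩ :=
    Topology.IsInducing.subtypeVal.specializes_iff.1 hs
  have := hs₀.mem_closed hcl rfl
  exact congrArg Subtype.val this

/-- A set of closed points of a scheme meeting every affine open in a finite set is closed. -/
theorem isClosed_of_locally_finite_closed_points {W : Scheme.{u}} (Z : Set W)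
    (h1 : ∀ w ∈ Z, IsClosed ({w} : Set W))
    (h2 : ∀ W₀ : W.Opens, IsAffineOpen W₀ → (Z ∩ (W₀ : Set W)).Finite) : IsClosed Z := by
  rw [← isOpen_compl_iff, isOpen_iff_forall_mem_open]
  intro w hw
  obtain ⟨_, ⟨(W₀ : W.Opens), hW₀, rfl⟩, hwW₀, -⟩ :=
    W.isBasis_affineOpens.exists_subset_of_mem_open (Set.mem_univ w) isOpen_univ
  have hfin := h2 W₀ hW₀
  have hcl : IsClosed (Z ∩ (W₀ : Set W)) := by
    have : Z ∩ (W₀ : Set W) = ⋃ a ∈ Z ∩ (W₀ : Set W), {a} := (Set.biUnion_of_singleton _).symm
    rw [this]
    exact hfin.isClosed_biUnion fun a ha => h1 a ha.1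
  refine ⟨(W₀ : Set W) ∩ (Z ∩ (W₀ : Set W))ᶜ, ?_, W₀.2.inter hcl.isOpen_compl, hwW₀, fun h => hw h.1⟩
  rintro w' ⟨h3, h4⟩ h5
  exact h4 ⟨h5, h3⟩

/-- S10357: a point of a decent space with algebraic residue field over a closed point of the base is closed. -/
theorem isClosed_singleton_ofPt_of_isIntegral (X : AlgSp.Space S)
    (hX : AlgSp.IsDecent X.obj) (s : ↥S) (hs : IsClosed ({s} : Set ↥S)) (k : Type u) [Field k]
    (φ : S.residueField s ⟶ CommRingCat.of k) (hφ : φ.hom.IsIntegral)
    (p : (AlgSp.yon S).obj (Over.mk (Spec.map φ ≫ S.fromSpecResidueField s)) ⟶ X.obj)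
    (t : ↥(Spec (CommRingCat.of k))) :
    IsClosed ({AlgSp.Points.ofPt p t} : Set (AlgSp.Points X.obj)) := by
  obtain ⟨W, c, hce, hcs⟩ := X.property.atlas
  rw [← (isQuotientMap_ofPt c hce hcs).isClosed_preimage]
  obtain ⟨m, hm1, hm2, hm3⟩ := hX (Points.ofPt p t)
  refine isClosed_of_locally_finite_closed_points _ (fun w hw => ?_) (fun W₀ hW₀ => ?_)
  · -- closed points
    obtain ⟨R, p1, p2, sq⟩ := exists_isPullback_yon p c hce.rep
    have hp1e : Etale p1.left := prop_fst_of_isPullback sq hce
    obtain ⟨r, hr1, rfl⟩ := (ofPt_eq_ofPt_iff sq t w).1 (Eq.symm hw)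
    have hci : IsClosedImmersion (S.fromSpecResidueField s) :=
      isClosed_singleton_iff_isClosedImmersion.1 hs
    have hint : IsIntegralHom (Spec.map φ) := IsIntegralHom.SpecMap_iff.2 hφ
    have hfin := (Groth.Agent.Lib.Helper37.ValuativeSep.finite_isSeparable_residueField_over_field
      (K := k) p1.left r).1
    set ψ := Spec.preimage (R.left.fromSpecResidueField r ≫ p1.left :
        Spec (R.left.residueField r) ⟶ Spec (.of k)) with hψ
    have hψfin : IsFinite (Spec.map ψ) := by
      rw [IsFinite.SpecMap_iff]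
      let _ := ψ.hom.toAlgebra
      have h2 := RingHom.finite_algebraMap.2 hfin
      rwa [RingHom.algebraMap_toAlgebra] at h2
    have hψ' : Spec.map ψ = R.left.fromSpecResidueField r ≫ p1.left := Spec.map_preimage _
    have huc1 : UniversallyClosed (R.left.fromSpecResidueField r ≫ R.hom) := by
      have e : R.left.fromSpecResidueField r ≫ R.hom =
          Spec.map ψ ≫ Spec.map φ ≫ S.fromSpecResidueField s := by
        rw [hψ', Category.assoc]
        congr 1
        exact (Over.w p1).symm
      rw [e]
      infer_instance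
    have e2 : R.left.fromSpecResidueField r ≫ R.hom =
        Spec.map (p2.left.residueFieldMap r) ≫
          (W.left.fromSpecResidueField (p2.left r) ≫ W.hom) := by
      rw [← Category.assoc, Scheme.Hom.SpecMap_residueFieldMap_fromSpecResidueField, Category.assoc]
      congr 1
      exact (Over.w p2).symm
    rw [e2] at huc1
    have hsurj : Surjective (Spec.map (p2.left.residueFieldMap r)) :=
      ⟨fun y => ⟨IsLocalRing.closedPoint _, Subsingleton.elim (α := PrimeSpectrum _) _ _⟩⟩
    have huc2 : UniversallyClosed (W.left.fromSpecResidueField (p2.left r) ≫ W.hom) :=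
      UniversallyClosed.of_comp_surjective (Spec.map (p2.left.residueFieldMap r)) _
    exact isClosed_singleton_of_universallyClosed W.hom (p2.left r)
  · -- finiteness
    have hc₀ := repWith_etale_restrict c hce W₀
    have hcpt : CompactSpace ↥(openOver W W₀).left := isCompact_iff_compactSpace.1 hW₀.isCompact
    have hfin := finite_fibre_of_qc_point m hm3 ((yon S).map (openι W W₀) ≫ c) hc₀
    refine (hfin.image Subtype.val).subset ?_
    rintro w ⟨hw, hwW₀⟩
    refine ⟨⟨w, hwW₀⟩, ?_, rfl⟩
    change Points.ofPt ((yon S).map (openι W W₀) ≫ c) _ ∈ ({Points.mk m} : Set _)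
    rw [ofPt_restrict, hm1]
    exact hw

/-- S10358: a field point of a decent space, finite over a closed point of the base, is a finite morphism. -/
theorem repWith_isFinite_of_finite_over_closed_point (X : AlgSp.Space S)
    (hX : AlgSp.IsDecent X.obj) (s : ↥S) (hs : IsClosed ({s} : Set ↥S)) (k : Type u) [Field k]
    (φ : S.residueField s ⟶ CommRingCat.of k) (hφ : φ.hom.Finite)
    (p : (AlgSp.yon S).obj (Over.mk (Spec.map φ ≫ S.fromSpecResidueField s)) ⟶ X.obj) :
    AlgSp.RepWith @IsFinite p ∧
      (Function.Bijective φ.hom → AlgSp.RepWith @IsClosedImmersion p) := by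
  let t₀ : ↥(Spec (CommRingCat.of k)) := IsLocalRing.closedPoint k
  have hxcl := isClosed_singleton_ofPt_of_isIntegral X hX s hs k φ hφ.to_isIntegral p t₀
  obtain ⟨m, hm1, hm2, hm3⟩ := hX (Points.ofPt p t₀)
  have hmci := repWith_isClosedImmersion_of_mono_qc X hX m hm2 hm3 _ hm1 hxcl
  let P : FieldPt X.obj := ⟨k, Spec.map φ ≫ S.fromSpecResidueField s, (J S).uliftYonedaEquiv p⟩
  have hP : P.toHom = p := Equiv.symm_apply_apply _ _
  have hPx : Points.mk P = Points.ofPt p t₀ := by
    rw [← Points.ofPt_toHom P t₀, hP]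
  obtain ⟨c, hc⟩ := Groth.Agent.Lib.Helper37.AlgSpDecent.exists_factor_of_mono_fieldPt m P
    (hm1.trans hPx.symm) hm2 hm3.rep
  rw [hP] at hc
  have hw : c.left ≫ m.str = Spec.map φ ≫ S.fromSpecResidueField s := Over.w c
  have hci : IsClosedImmersion (S.fromSpecResidueField s) :=
    isClosed_singleton_iff_isClosedImmersion.1 hs
  have hφfin : IsFinite (Spec.map φ) := (IsFinite.SpecMap_iff φ).2 hφ
  have hcfin : IsFinite c.left := by
    have h1 : IsFinite (c.left ≫ m.str) := by rw [hw]; infer_instance
    have h2 : IsSeparated m.str := inferInstance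
    exact @IsFinite.of_comp _ _ _ c.left m.str h1 h2
  have hmfin : RepWith @IsFinite m.toHom :=
    MorphismProperty.relative_monotone (fun _ _ g hg => by
      have : IsClosedImmersion g.left := hg
      exact (inferInstance : IsFinite g.left)) _ hmci
  refine ⟨?_, fun hbij => ?_⟩
  · rw [← hc]
    exact (RepWith @IsFinite).comp_mem _ _ ((repWith_yon_map_iff @IsFinite c).2 hcfin) hmfin
  · have hφiso : IsIso φ := (ConcreteCategory.isIso_iff_bijective _).2 hbij
    have hcci : IsClosedImmersion c.left := by
      have h1 : IsClosedImmersion (c.left ≫ m.str) := by rw [hw]; infer_instance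
      have h2 : IsSeparated m.str := inferInstance
      exact @IsClosedImmersion.of_comp _ _ _ c.left m.str h1 h2
    rw [← hc]
    exact (RepWith @IsClosedImmersion).comp_mem _ _
      ((repWith_yon_map_iff @IsClosedImmersion c).2 hcci) hmci

end Groth.Agent.Lib.Helper37.ClosedPoint
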