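import Mathlib
import Groth.Prelude.Def_AlgSp

/-!
# Quotient of the spectrum of a field by a finite étale equivalence relation (helper37)

* `linearIndepOn_tMap`: Artin-type lemma for a "groupoid" `(κ, A, s, t, c)`;
* `compMap_injective`, `compMap_surjective`, `finite_eqSubfield`: `κ ⊗_k κ ≅ A` for `k` the equalizer;
* `isPullback_Spec_eqSubfield`: scheme-level form;
* `exists_iso_of_same_kernelPair`: two effective epis with the same kernel pair have isomorphic targets.
-/

set_option autoImplicit false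
universe u
open TensorProduct

namespace Groth.Agent.Lib.Helper37.QuotField

section Alg

variable {κ A A' : Type*} [Field κ] [CommRing A] [CommRing A'] [Algebra κ A] [Algebra κ A']
  (e : A' ≃+* A)

/-- The second structure map `t = e ∘ algebraMap κ A'`. -/
def tMap : κ →+* A := (e : A' →+* A).comp (algebraMap κ A')

omit [Algebra κ A] in
@[simp] theorem tMap_apply (x : κ) : tMap e x = e (algebraMap κ A' x) := rfl

/-- The subfield of `κ` on which the two structure maps `s = algebraMap κ A` and `t` agree. -/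
def eqSubfield [Nontrivial A] : Subfield κ :=
  { RingHom.eqLocus (algebraMap κ A) (tMap e) with
    inv_mem' := by
      intro x hx
      change algebraMap κ A x = tMap e x at hx
      change algebraMap κ A x⁻¹ = tMap e x⁻¹
      by_cases h0 : x = 0
      · simp [h0]
      have h1 : algebraMap κ A x⁻¹ * algebraMap κ A x = 1 := by
        rw [← map_mul, inv_mul_cancel₀ h0, map_one]
      have h2 : tMap e x * tMap e x⁻¹ = 1 := by
        rw [← map_mul, mul_inv_cancel₀ h0, map_one]
      calc algebraMap κ A x⁻¹ = algebraMap κ A x⁻¹ * (tMap e x * tMap e x⁻¹) := by rw [h2, mul_one]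
        _ = (algebraMap κ A x⁻¹ * algebraMap κ A x) * tMap e x⁻¹ := by rw [← hx, mul_assoc]
        _ = tMap e x⁻¹ := by rw [h1, one_mul] }

theorem mem_eqSubfield [Nontrivial A] {x : κ} :
    x ∈ eqSubfield e ↔ algebraMap κ A x = e (algebraMap κ A' x) := Iff.rfl

/-- `t` as an algebra map over the equalizer subfield. -/
def tAlgHom [Nontrivial A] : κ →ₐ[eqSubfield (κ := κ) e] A :=
  { tMap e with
    commutes' := fun x => ((mem_eqSubfield e).1 x.2).symm }

@[simp] theorem tAlgHom_apply [Nontrivial A] (x : κ) : tAlgHom e x = e (algebraMap κ A' x) := rfl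

/-- The comparison map `κ ⊗_k κ → A`, `x ⊗ y ↦ s x * t y`. -/
noncomputable def compMap [Nontrivial A] : κ ⊗[eqSubfield (κ := κ) e] κ →ₐ[κ] A :=
  Algebra.TensorProduct.productLeftAlgHom (Algebra.ofId κ A) (tAlgHom e)

@[simp] theorem compMap_tmul [Nontrivial A] (x y : κ) :
    compMap e (x ⊗ₜ y) = algebraMap κ A x * e (algebraMap κ A' y) := by
  simp [compMap, Algebra.ofId_apply]

variable (c : A →+* A' ⊗[κ] A)
  (hcs : ∀ x : κ, c (algebraMap κ A x) = e.symm (algebraMap κ A x) ⊗ₜ[κ] 1)
  (hct : ∀ y : κ, c (e (algebraMap κ A' y)) = 1 ⊗ₜ[κ] e (algebraMap κ A' y))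

/-- partial evaluation `φ ⊗ id`. -/
noncomputable def evalLeft (φ : Module.Dual κ A') : A' ⊗[κ] A →ₗ[κ] A :=
  (TensorProduct.lid κ A).toLinearMap ∘ₗ LinearMap.rTensor A φ

@[simp] theorem evalLeft_tmul (φ : Module.Dual κ A') (a' : A') (a : A) :
    evalLeft φ (a' ⊗ₜ[κ] a) = φ a' • a := by
  simp [evalLeft]

include hcs hct in
/-- Artin-type lemma: `k`-linearly independent elements of `κ` have `s`-linearly independent
images under `t`. -/
theorem linearIndepOn_tMap [Nontrivial A] {ι : Type*} (v : ι → κ) (s : Finset ι)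
    (h : LinearIndepOn (eqSubfield (κ := κ) e) v (s : Set ι)) :
    LinearIndepOn κ (fun i => tMap e (v i)) (s : Set ι) := by
  classical
  induction s using Finset.induction_on with
  | empty => simp
  | insert a s has ih =>
    rw [Finset.coe_insert] at h ⊢
    rw [linearIndepOn_insert (mt Finset.mem_coe.1 has)] at h ⊢
    refine ⟨ih h.1, fun ha => ?_⟩
    rw [Finsupp.mem_span_image_iff_linearCombination] at ha
    obtain ⟨l, hl, hla⟩ := ha
    rw [Finsupp.linearCombination_apply_of_mem_supported κ hl] at hla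
    have htinj : Function.Injective (tMap (κ := κ) e) := (tMap (κ := κ) e).injective
    suffices hk : ∀ i ∈ s, l i ∈ eqSubfield e by
      apply h.2
      have hva : v a = ∑ i ∈ s, l i * v i := by
        apply htinj
        rw [map_sum, ← hla]
        refine Finset.sum_congr rfl fun i hi => ?_
        rw [map_mul, Algebra.smul_def]
        congr 1
        exact (mem_eqSubfield e).1 (hk i hi)
      rw [hva]
      refine Submodule.sum_mem _ fun i hi => ?_
      change (⟨l i, hk i hi⟩ : eqSubfield e) • v i ∈ _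
      exact Submodule.smul_mem _ _ (Submodule.subset_span ⟨i, hi, rfl⟩)
    intro i hi
    rw [mem_eqSubfield]
    -- apply c to the relation
    have hc : (1 : A') ⊗ₜ[κ] tMap e (v a) = ∑ j ∈ s, e.symm (algebraMap κ A (l j)) ⊗ₜ[κ] tMap e (v j) := by
      have := congrArg c hla
      rw [map_sum] at this
      have h0 : c (tMap e (v a)) = 1 ⊗ₜ[κ] tMap e (v a) := hct (v a)
      rw [← h0, ← this]
      refine Finset.sum_congr rfl fun j hj => ?_
      have h1 : c (tMap e (v j)) = 1 ⊗ₜ[κ] tMap e (v j) := hct (v j)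
      rw [Algebra.smul_def, map_mul, hcs, h1, Algebra.TensorProduct.tmul_mul_tmul, mul_one, one_mul]
    have key : ∀ φ : Module.Dual κ A', φ (e.symm (algebraMap κ A (l i)) - algebraMap κ A' (l i)) = 0 := by
      intro φ
      have h1 := congrArg (evalLeft φ) hc
      rw [map_sum, evalLeft_tmul] at h1
      simp only [evalLeft_tmul] at h1
      rw [← hla, Finset.smul_sum] at h1
      have h2 : ∑ j ∈ s, (φ (e.symm (algebraMap κ A (l j))) - φ 1 * l j) • tMap e (v j) = 0 := by
        simp only [sub_smul, Finset.sum_sub_distrib, mul_smul]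
        rw [sub_eq_zero]
        exact h1.symm
      have h3 := (linearIndepOn_iff'.1 (ih h.1)) s
        (fun j => φ (e.symm (algebraMap κ A (l j))) - φ 1 * l j) (le_refl _) h2 i hi
      rw [map_sub, Algebra.algebraMap_eq_smul_one (R := κ) (A := A') (l i), map_smul, smul_eq_mul,
        mul_comm]
      exact h3
    have h4 := (Module.forall_dual_apply_eq_zero_iff κ _).1 key
    rw [sub_eq_zero] at h4
    rw [← h4, RingEquiv.apply_symm_apply]


include hcs hct in
theorem compMap_injective [Nontrivial A] : Function.Injective (compMap (κ := κ) e) := by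
  let b := Module.Basis.ofVectorSpace (eqSubfield (κ := κ) e) κ
  let B := Algebra.TensorProduct.basis κ b
  have hli : LinearIndependent κ ((compMap e).toLinearMap ∘ B) := by
    have : (compMap e).toLinearMap ∘ B = fun i => tMap e (b i) := by
      funext i
      simp [B, Algebra.TensorProduct.basis_apply]
    rw [this, ← linearIndepOn_univ_iff, linearIndepOn_iff_linearIndepOn_finset]
    intro t _
    exact linearIndepOn_tMap e c hcs hct b t (b.linearIndependent.linearIndepOn _)
  exact LinearMap.injective_of_linearIndependent B.span_eq hli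

include hcs hct in
theorem finite_eqSubfield [Nontrivial A] [Module.Finite κ A] :
    Module.Finite (eqSubfield (κ := κ) e) κ := by
  let b := Module.Basis.ofVectorSpace (eqSubfield (κ := κ) e) κ
  let B := Algebra.TensorProduct.basis κ b
  have h1 : Module.Finite κ (κ ⊗[eqSubfield (κ := κ) e] κ) :=
    Module.Finite.of_injective (compMap e).toLinearMap (compMap_injective e c hcs hct)
  have h2 : Finite _ := Module.Finite.finite_basis B
  exact Module.Finite.of_basis b

end Alg

section Surj

variable {κ A A' : Type u} [Field κ] [CommRing A] [CommRing A'] [Algebra κ A] [Algebra κ A']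
  (e : A' ≃+* A) [Nontrivial A] [Module.Finite κ A]
  (hepi : ∀ (B : Type u) [CommRing B] (f g : A →+* B), f.comp (algebraMap κ A) = g.comp (algebraMap κ A) →
    f.comp (tMap (κ := κ) e) = g.comp (tMap (κ := κ) e) → f = g)

include hepi in
theorem compMap_surjective : Function.Surjective (compMap (κ := κ) e) := by
  let T : CommRingCat.of (κ ⊗[eqSubfield (κ := κ) e] κ) ⟶ CommRingCat.of A :=
    CommRingCat.ofHom (compMap e).toRingHom
  have hT : CategoryTheory.Epi T := by
    refine ⟨fun {B} f g h => ?_⟩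
    apply CommRingCat.hom_ext
    apply hepi
    · ext x
      have := congrArg (fun m => m.hom (x ⊗ₜ 1)) h
      simpa [T] using this
    · ext y
      have := congrArg (fun m => m.hom (1 ⊗ₜ y)) h
      simpa [T] using this
  have hfin : T.hom.Finite := by
    refine RingHom.Finite.of_comp_finite (f := (Algebra.TensorProduct.includeLeftRingHom : κ →+* κ ⊗[eqSubfield (κ := κ) e] κ)) ?_
    have : T.hom.comp Algebra.TensorProduct.includeLeftRingHom = algebraMap κ A := by
      ext x
      simp [T]
    rw [this]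
    exact RingHom.finite_algebraMap.2 inferInstance
  exact RingHom.surjective_of_epi_of_finite T hfin

end Surj


section Sch

open CategoryTheory CategoryTheory.Limits AlgebraicGeometry

/-- A copy of a ring, to carry a second algebra structure. -/
def Copy (A : Type u) : Type u := A

instance (A : Type u) [CommRing A] : CommRing (Copy A) := inferInstanceAs (CommRing A)

/-- The identity ring isomorphism from the copy. -/
def Copy.equiv (A : Type u) [CommRing A] : Copy A ≃+* A := RingEquiv.refl A

theorem isPullback_Spec_eqSubfield {κ : Type u} [Field κ] (A : CommRingCat.{u}) [Nontrivial A]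
    (s t : CommRingCat.of κ ⟶ A) (hfin : s.hom.Finite)
    (hmono : ∀ {T : Scheme.{u}} (f g : T ⟶ Spec A), f ≫ Spec.map s = g ≫ Spec.map s →
      f ≫ Spec.map t = g ≫ Spec.map t → f = g)
    (htrans : ∀ {T : Scheme.{u}} (f₁ f₂ : T ⟶ Spec A), f₁ ≫ Spec.map t = f₂ ≫ Spec.map s →
      ∃ c : T ⟶ Spec A, c ≫ Spec.map s = f₁ ≫ Spec.map s ∧ c ≫ Spec.map t = f₂ ≫ Spec.map t) :
    ∃ (k : Type u) (_ : Field k) (φ : CommRingCat.of k ⟶ CommRingCat.of κ), φ.hom.Finite ∧
      φ ≫ s = φ ≫ t ∧ IsPullback (Spec.map s) (Spec.map t) (Spec.map φ) (Spec.map φ) ∧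
      ∀ (B : CommRingCat.{u}) (ψ : B ⟶ CommRingCat.of κ), ψ ≫ s = ψ ≫ t → ∃ ψ' : B ⟶ CommRingCat.of k,
        ψ' ≫ φ = ψ := by
  let algS : Algebra κ A := s.hom.toAlgebra
  let algT : Algebra κ (Copy A) := ((Copy.equiv A).symm.toRingHom.comp t.hom).toAlgebra
  let e : Copy A ≃+* A := Copy.equiv A
  have hsalg : ∀ x, algebraMap κ A x = s.hom x := fun x => rfl
  have htalg : ∀ y, e (algebraMap κ (Copy A) y) = t.hom y := fun y => rfl
  have hmf : Module.Finite κ A := RingHom.finite_algebraMap.1 hfin
  -- the composition map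
  let P : CommRingCat.{u} := CommRingCat.of (Copy A ⊗[κ] A)
  let inl' : A ⟶ P := CommRingCat.ofHom
    ((Algebra.TensorProduct.includeLeftRingHom : Copy A →+* Copy A ⊗[κ] A).comp e.symm.toRingHom)
  let inr' : A ⟶ P := CommRingCat.ofHom
    (Algebra.TensorProduct.includeRight (R := κ) (A := Copy A) (B := A)).toRingHom
  have hcomm : t ≫ inl' = s ≫ inr' := by
    ext y
    change (e.symm (t.hom y)) ⊗ₜ[κ] (1 : A) = (1 : Copy A) ⊗ₜ[κ] (s.hom y)
    rw [← htalg, ← hsalg, RingEquiv.symm_apply_apply, Algebra.algebraMap_eq_smul_one,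
      Algebra.algebraMap_eq_smul_one, TensorProduct.smul_tmul]
  obtain ⟨c, hc1, hc2⟩ := htrans (Spec.map inl') (Spec.map inr') (by
    rw [← Spec.map_comp, ← Spec.map_comp, hcomm])
  obtain ⟨cr, rfl⟩ : ∃ cr, c = Spec.map cr := ⟨Spec.preimage c, (Spec.map_preimage c).symm⟩
  rw [← Spec.map_comp, ← Spec.map_comp] at hc1 hc2
  have hc1' : s ≫ cr = s ≫ inl' := Spec.map_injective hc1
  have hc2' : t ≫ cr = t ≫ inr' := Spec.map_injective hc2
  have hcs : ∀ x : κ, cr.hom (algebraMap κ A x) = e.symm (algebraMap κ A x) ⊗ₜ[κ] 1 := fun x =>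
    congrArg (fun m => m.hom x) hc1'
  have hct : ∀ y : κ, cr.hom (e (algebraMap κ (Copy A) y)) = 1 ⊗ₜ[κ] e (algebraMap κ (Copy A) y) :=
    fun y => congrArg (fun m => m.hom y) hc2'
  have hepi : ∀ (B : Type u) [CommRing B] (f g : A →+* B),
      f.comp (algebraMap κ A) = g.comp (algebraMap κ A) →
      f.comp (tMap (κ := κ) e) = g.comp (tMap (κ := κ) e) → f = g := by
    intro B _ f g h1 h2
    have := hmono (Spec.map (CommRingCat.ofHom f)) (Spec.map (CommRingCat.ofHom g))
      (by rw [← Spec.map_comp, ← Spec.map_comp]; congr 1; ext x; exact RingHom.congr_fun h1 x)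
      (by rw [← Spec.map_comp, ← Spec.map_comp]; congr 1; ext x; exact RingHom.congr_fun h2 x)
    have h3 := Spec.map_injective this
    exact congrArg (fun m => m.hom) h3
  have hinj := compMap_injective e cr.hom hcs hct
  have hfink := finite_eqSubfield e cr.hom hcs hct
  have hsurj := compMap_surjective e hepi
  let k := eqSubfield (κ := κ) e
  let φ : CommRingCat.of k ⟶ CommRingCat.of κ := CommRingCat.ofHom (algebraMap k κ)
  let E : (κ ⊗[k] κ) ≃+* A := RingEquiv.ofBijective (compMap (κ := κ) e) ⟨hinj, hsurj⟩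
  have hpo : IsPushout φ φ s t := by
    refine (CommRingCat.isPushout_tensorProduct k κ κ).of_iso (Iso.refl _) (Iso.refl _) (Iso.refl _)
      E.toCommRingCatIso (by simp [φ]) (by simp [φ]) ?_ ?_
    · ext x
      change compMap e (x ⊗ₜ 1) = s.hom x
      rw [compMap_tmul, map_one, map_one, mul_one]; rfl
    · ext y
      change compMap e (1 ⊗ₜ y) = t.hom y
      rw [compMap_tmul, map_one, one_mul]; rfl
  refine ⟨k, inferInstance, φ, RingHom.finite_algebraMap.2 hfink, hpo.w,
    isPullback_SpecMap_of_isPushout φ φ s t hpo, fun B ψ h => ?_⟩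
  refine ⟨CommRingCat.ofHom (RingHom.codRestrict ψ.hom k fun x => (mem_eqSubfield e).2 ?_), ?_⟩
  · exact congrArg (fun m => m.hom x) h
  · ext x
    rfl

end Sch

section Cat

open CategoryTheory CategoryTheory.Limits AlgebraicGeometry AlgSp

/-- Two effective epimorphisms with the same kernel pair have isomorphic targets. -/
theorem exists_iso_of_same_kernelPair {C : Type*} [Category C] {A B Z K : C} (q : A ⟶ B) (π : A ⟶ Z)
    [EffectiveEpi q] [EffectiveEpi π] (p₁ p₂ : K ⟶ A) (hq : IsPullback p₁ p₂ q q)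
    (hπ : IsPullback p₁ p₂ π π) : ∃ e : B ≅ Z, q ≫ e.hom = π := by
  have h1 : ∀ {W : C} (g₁ g₂ : W ⟶ A), g₁ ≫ q = g₂ ≫ q → g₁ ≫ π = g₂ ≫ π := by
    intro W g₁ g₂ h
    obtain ⟨l, rfl, rfl⟩ := hq.exists_lift g₁ g₂ h
    rw [Category.assoc, Category.assoc, hπ.w]
  have h2 : ∀ {W : C} (g₁ g₂ : W ⟶ A), g₁ ≫ π = g₂ ≫ π → g₁ ≫ q = g₂ ≫ q := by
    intro W g₁ g₂ h
    obtain ⟨l, rfl, rfl⟩ := hπ.exists_lift g₁ g₂ h
    rw [Category.assoc, Category.assoc, hq.w]
  refine ⟨⟨EffectiveEpi.desc q π h1, EffectiveEpi.desc π q h2, ?_, ?_⟩, EffectiveEpi.fac q π h1⟩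
  · rw [← cancel_epi q, ← Category.assoc, EffectiveEpi.fac, EffectiveEpi.fac, Category.comp_id]
  · rw [← cancel_epi π, ← Category.assoc, EffectiveEpi.fac, EffectiveEpi.fac, Category.comp_id]

variable {S : Scheme.{u}}

/-- Epimorphisms of fppf sheaves of sets are effective. -/
theorem effectiveEpi_of_epi {F G : Sp S} (f : F ⟶ G) [Epi f] : EffectiveEpi f := by
  have := IsRegularEpiCategory.regularEpiOfEpi f
  rw [← isRegularEpi_iff_effectiveEpi]
  exact this

end Cat

end Groth.Agent.Lib.Helper37.QuotField
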