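import Mathlib
import Groth.Prelude.Def_AlgSpDec
import Groth.Agent.Lib.Helper37.AlgSpDecent
import Groth.Agent.Lib.Helper37.AlgSpFibres
import Groth.Agent.Lib.Helper23.AlgSpMono

/-!
# Decent one-point spaces (helper37)
-/

universe u
open CategoryTheory CategoryTheory.Limits AlgebraicGeometry
open AlgSp
open Groth.Agent.Lib.Helper37.AlgSpPoints Groth.Agent.Lib.Helper37.AlgSpFibres

namespace Groth.Agent.Lib.Helper37.DecentField

/-- An étale morphism between spectra of fields is finite. -/
theorem isFinite_of_etale_field {K k : Type u} [Field K] [Field k]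
    (g : Spec (CommRingCat.of k) ⟶ Spec (CommRingCat.of K)) [Etale g] : IsFinite g := by
  obtain ⟨φ, rfl⟩ : ∃ φ, g = Spec.map φ := ⟨Spec.preimage g, (Spec.map_preimage g).symm⟩
  have h1 : φ.hom.Etale := (HasRingHomProperty.Spec_iff (P := @Etale)).1 inferInstance
  rw [IsFinite.SpecMap_iff]
  algebraize [φ.hom]
  have : Algebra.Etale K k := h1
  have : Module.Finite K k := Algebra.FormallyUnramified.finite_of_free K k
  have h2 := RingHom.finite_algebraMap.2 this
  rwa [RingHom.algebraMap_toAlgebra] at h2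

variable {S : Scheme.{u}}

/-- S10349: a decent space with an etale surjective map from the spectrum of a field is the spectrum of a field. -/
theorem iso_field_of_decent_of_etale_surjective (X : AlgSp.Space S)
    (hX : AlgSp.IsDecent X.obj) (k : Type u) [Field k] (str : Spec (CommRingCat.of k) ⟶ S)
    (p : (AlgSp.yon S).obj (Over.mk str) ⟶ X.obj) (hp : AlgSp.RepWith @Etale p) (hs : AlgSp.RepWith @Surjective p) :
    ∃ (k' : Type u) (_ : Field k') (str' : Spec (CommRingCat.of k') ⟶ S)
      (e : (AlgSp.yon S).obj (Over.mk str') ≅ X.obj) (c : Over.mk str ⟶ Over.mk str'),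
      (AlgSp.yon S).map c ≫ e.hom = p ∧ IsFinite c.left ∧ Etale c.left := by
  let P : FieldPt X.obj := ⟨k, str, (J S).uliftYonedaEquiv p⟩
  have hP : P.toHom = p := Equiv.symm_apply_apply _ _
  obtain ⟨m, hm1, hm2, hm3⟩ := hX (Points.mk P)
  obtain ⟨c, hc⟩ := Groth.Agent.Lib.Helper37.AlgSpDecent.exists_factor_of_mono_fieldPt m P hm1 hm2 hm3.rep
  rw [hP] at hc
  have hepi : Epi p := Groth.Agent.Lib.Helper23.AlgSpMor.epi_of_etale_surjective p hp hs
  have hepi2 : Epi m.toHom := by
    rw [← hc] at hepi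
    exact epi_of_epi ((yon S).map c) m.toHom
  have hiso : IsIso m.toHom := isIso_of_mono_of_epi _
  -- the base change of p along m is c
  have sq : IsPullback ((yon S).map c) (𝟙 _) m.toHom p := by
    have h1 : IsPullback ((yon S).map c) (𝟙 _) (𝟙 _) ((yon S).map c) := IsPullback.of_vert_isIso ⟨by simp⟩
    have h2 : IsPullback (𝟙 ((yon S).obj m.pt)) (𝟙 _) m.toHom m.toHom := IsPullback.of_vert_isIso ⟨by simp⟩
    have := h1.paste_horiz h2
    simpa [hc] using this
  have hc1 : RepWith @Etale ((yon S).map c) := (RepWith @Etale).of_isPullback sq.flip hp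
  have hc2 : Etale c.left := (repWith_yon_map_iff @Etale c).1 hc1
  exact ⟨m.K, inferInstance, m.str, asIso m.toHom, c, hc, isFinite_of_etale_field c.left, hc2⟩

/-- An open point of a reduced scheme is the image of an open immersion from the spectrum of a field. -/
theorem exists_field_openImmersion_of_isOpen_singleton {U : Scheme.{u}} [IsReduced U] (u : U)
    (h : IsOpen ({u} : Set U)) :
    ∃ (K : Type u) (_ : Field K) (j : Spec (CommRingCat.of K) ⟶ U), IsOpenImmersion j := by
  let V : U.Opens := ⟨{u}, h⟩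
  have hsub : Subsingleton ↥V := (Set.subsingleton_singleton (a := u)).coe_sort
  have hne : Nonempty ↥V := ⟨⟨u, rfl⟩⟩
  have : IrreducibleSpace ↥(V : Scheme.{u}) := by
    have : Subsingleton ↥(V : Scheme.{u}) := hsub
    have : Nonempty ↥(V : Scheme.{u}) := hne
    exact { toPreirreducibleSpace := inferInstance, toNonempty := hne }
  have hint : IsIntegral (V : Scheme.{u}) := isIntegral_of_irreducibleSpace_of_isReduced _
  have : Subsingleton ↥(V : Scheme.{u}) := hsub
  have hF : IsField Γ((V : Scheme.{u}), ⊤) := isField_of_isIntegral_of_subsingleton _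
  let _ : Field Γ((V : Scheme.{u}), ⊤) := hF.toField
  refine ⟨Γ((V : Scheme.{u}), ⊤), inferInstance, ?_, ?_⟩
  · exact (V : Scheme.{u}).isoSpec.inv ≫ V.ι
  · infer_instance

/-- S10356: a reduced decent one-point space is the spectrum of a field. -/
theorem iso_field_of_decent_reduced_one_point (X : AlgSp.Space S)
    (hX : AlgSp.IsDecent X.obj) (hr : AlgSp.EtaleLocally (fun U => IsReduced U) X.obj)
    [Nonempty (AlgSp.Points X.obj)] [Subsingleton (AlgSp.Points X.obj)] :
    ∃ (k : Type u) (_ : Field k) (str : Spec (CommRingCat.of k) ⟶ S),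
      Nonempty ((AlgSp.yon S).obj (Over.mk str) ≅ X.obj) := by
  obtain ⟨U, a, hae, has, hred⟩ := hr
  have hred' : IsReduced U.left := hred
  let x : Points X.obj := Classical.arbitrary _
  obtain ⟨u₀, hu₀⟩ := ofPt_surjective a has x
  obtain ⟨m, hm1, hm2, hm3⟩ := hX x
  obtain ⟨_, ⟨U₀, hU₀, rfl⟩, hu₀U₀, -⟩ :=
    U.left.isBasis_affineOpens.exists_subset_of_mem_open (Set.mem_univ u₀) isOpen_univ
  have ha₀ := repWith_etale_restrict a hae U₀
  have hcpt : CompactSpace ↥(openOver U U₀).left := isCompact_iff_compactSpace.1 hU₀.isCompact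
  have hfin : Finite ↥U₀ := by
    have h1 := finite_fibre_of_qc_point m hm3 ((yon S).map (openι U U₀) ≫ a) ha₀
    have h2 : Points.ofPt ((yon S).map (openι U U₀) ≫ a) ⁻¹' {Points.mk m} = Set.univ :=
      Set.eq_univ_of_forall fun v => Subsingleton.elim _ _
    rw [h2] at h1
    exact Set.finite_univ_iff.1 h1
  have hT1 : T1Space ↥U₀ := by
    rw [t1Space_iff_specializes_imp_eq]
    intro v v' hs
    have hs' : v.1 ⤳ v'.1 := Topology.IsInducing.subtypeVal.specializes_iff.2 hs
    exact Subtype.ext (eq_of_specializes_of_isDecent hX a hae v'.1 v.1 (Subsingleton.elim _ _) hs').symm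
  have hdisc : DiscreteTopology ↥U₀ := inferInstance
  have hopen : IsOpen ({u₀} : Set ↥U.left) := by
    have h1 : IsOpen ({⟨u₀, hu₀U₀⟩} : Set ↥U₀) := isOpen_discrete _
    have h2 := U₀.2.isOpenMap_subtype_val _ h1
    simpa using h2
  obtain ⟨K, _, j, hj⟩ := exists_field_openImmersion_of_isOpen_singleton u₀ hopen
  let jO : Over.mk (j ≫ U.hom) ⟶ U := Over.homMk j rfl
  have hje : Etale jO.left := by
    change Etale j
    infer_instance
  have hb : RepWith @Etale ((yon S).map jO ≫ a) :=
    (RepWith @Etale).comp_mem _ _ ((repWith_yon_map_iff @Etale _).2 hje) hae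
  have hbs : RepWith @Surjective ((yon S).map jO ≫ a) := by
    refine repWith_surjective_of_ofPt_surjective _ hb.rep fun y => ?_
    exact ⟨IsLocalRing.closedPoint K, Subsingleton.elim _ _⟩
  obtain ⟨k', _, str', e, -, -⟩ :=
    Groth.Agent.Lib.Helper37.DecentField.iso_field_of_decent_of_etale_surjective X hX K (j ≫ U.hom)
      ((yon S).map jO ≫ a) hb hbs
  exact ⟨k', inferInstance, str', ⟨e⟩⟩

end Groth.Agent.Lib.Helper37.DecentField
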