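import Mathlib
import Groth.Prelude.Def_AlgSpDec
import Groth.Prelude.Def_AlgSpMor5
import Groth.Agent.Lib.Helper36.AlgSpCharts
import Groth.Agent.Lib.Helper37.ClosedPoint
import Groth.Agent.Lib.Helper37.DecentField
import Groth.Agent.Lib.Helper23.AlgSpMono2
import Groth.Agent.Lib.Helper23.AlgSpMor4
import Groth.Agent.S9885

/-!
# One-point algebraic spaces and flat surjective field points (helper37)

For an algebraic space `Z` with a flat surjective morphism `Spec k ⟶ Z`: every étale chart of `Z` has
only fields as local rings (`isField_stalk_of_flat_surjective`); consequences S10365–S10368.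
-/

universe u
open CategoryTheory CategoryTheory.Limits AlgebraicGeometry
open AlgSp
open Groth.Agent.Lib.Helper36.AlgSpCharts
open Groth.Agent.Lib.Helper37.AlgSpPoints Groth.Agent.Lib.Helper37.AlgSpFibres
open Groth.Agent.Lib.Helper37.ClosedPoint

namespace Groth.Agent.Lib.Helper37.OnePoint

/-- Every morphism into a scheme all of whose local rings are fields is flat. -/
theorem flat_of_isField_stalk {U V : Scheme.{u}} (h : U ⟶ V)
    (hV : ∀ v : V, IsField (V.presheaf.stalk v)) : Flat h := by
  rw [Flat.iff_flat_stalkMap]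
  intro x
  let _ : Field (V.presheaf.stalk (h x)) := (hV (h x)).toField
  algebraize [(h.stalkMap x).hom]
  change Module.Flat (V.presheaf.stalk (h x)) (U.presheaf.stalk x)
  infer_instance

/-- A flat local homomorphism from a local ring to a field has a field as source. -/
theorem isField_of_flat_of_isLocalHom {A B : Type*} [CommRing A] [CommRing B] [IsLocalRing A]
    [IsLocalRing B] (φ : A →+* B) [IsLocalHom φ] (hφ : φ.Flat) (hB : IsField B) : IsField A := by
  algebraize [φ]
  have : IsLocalHom (algebraMap A B) := inferInstanceAs (IsLocalHom φ)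
  have hff : Module.FaithfullyFlat A B := Module.FaithfullyFlat.of_flat_of_isLocalHom
  have hinj : Function.Injective (algebraMap A B) := FaithfulSMul.algebraMap_injective A B
  rw [IsLocalRing.isField_iff_maximalIdeal_eq] at hB ⊢
  rw [eq_bot_iff]
  intro a ha
  have h0 : (IsLocalRing.maximalIdeal A).map (algebraMap A B) ≤ IsLocalRing.maximalIdeal B :=
    ((IsLocalRing.local_hom_TFAE (algebraMap A B)).out 0 2).1 ‹_›
  have h1 : algebraMap A B a ∈ IsLocalRing.maximalIdeal B := h0 (Ideal.mem_map_of_mem _ ha)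
  rw [hB, Ideal.mem_bot] at h1
  rw [Ideal.mem_bot]
  exact hinj (h1.trans (map_zero _).symm)

/-- A flat surjective morphism onto `V` from a scheme whose local rings are fields: the local rings of
`V` are fields. -/
theorem isField_stalk_of_flat_surjective {W V : Scheme.{u}} (g : W ⟶ V) [Flat g]
    (hsurj : Function.Surjective g) (hW : ∀ w : W, IsField (W.presheaf.stalk w)) (v : V) :
    IsField (V.presheaf.stalk v) := by
  obtain ⟨w, rfl⟩ := hsurj v
  exact isField_of_flat_of_isLocalHom (g.stalkMap w).hom (Flat.stalkMap g w) (hW w)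

/-- In a scheme whose local rings are fields every point is closed. -/
theorem isClosed_singleton_of_isField_stalk {W : Scheme.{u}}
    (hW : ∀ w : W, IsField (W.presheaf.stalk w)) (w : W) : IsClosed ({w} : Set W) := by
  rw [← closure_eq_iff_isClosed]
  refine Set.Subset.antisymm (fun w' hw' => ?_) subset_closure
  have hs : w ⤳ w' := specializes_iff_mem_closure.2 hw'
  have hw : w ∈ Set.range (W.fromSpecStalk w') := by
    rw [Scheme.range_fromSpecStalk]; exact hs
  obtain ⟨a, ha⟩ := hw
  have hw'' : w' ∈ Set.range (W.fromSpecStalk w') := by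
    rw [Scheme.range_fromSpecStalk]; exact specializes_rfl
  obtain ⟨b, hb⟩ := hw''
  let _ : Field (W.presheaf.stalk w') := (hW w').toField
  have : a = b := Subsingleton.elim (α := PrimeSpectrum (W.presheaf.stalk w')) a b
  rw [Set.mem_singleton_iff]
  exact (hb.symm.trans (congrArg _ this.symm)).trans ha

/-- `Spec 𝒪_{Y,y} ⟶ Y` is flat (as in helper19's `flat_fromSpecStalk`). -/
theorem flat_fromSpecStalk (Y : Scheme.{u}) (y : Y) : Flat (Y.fromSpecStalk y) := by
  obtain ⟨_, ⟨U : Y.Opens, hU : IsAffineOpen U, rfl⟩, hyU, -⟩ :=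
    Y.isBasis_affineOpens.exists_subset_of_mem_open (Set.mem_univ y) isOpen_univ
  rw [← hU.fromSpecStalk_eq_fromSpecStalk hyU, IsAffineOpen.fromSpecStalk]
  have : Flat (Spec.map (Y.presheaf.germ U y hyU)) := by
    rw [Flat.SpecMap_iff]
    let _ : Algebra Γ(Y, U) (Y.presheaf.stalk y) :=
      TopCat.Presheaf.algebra_section_stalk Y.presheaf ⟨y, hyU⟩
    have := hU.isLocalization_stalk ⟨y, hyU⟩
    have hfl : Module.Flat Γ(Y, U) (Y.presheaf.stalk y) :=
      IsLocalization.flat _ (hU.primeIdealOf ⟨y, hyU⟩).asIdeal.primeCompl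
    exact hfl
  infer_instance

/-- If the local ring at `y` is a field, `Spec κ(y) ⟶ Y` is flat. -/
theorem flat_fromSpecResidueField_of_isField (Y : Scheme.{u}) (y : Y)
    (hy : IsField (Y.presheaf.stalk y)) : Flat (Y.fromSpecResidueField y) := by
  have h1 : Flat (Y.fromSpecStalk y) := flat_fromSpecStalk Y y
  have h2 : Flat (Spec.map (Y.residue y)) := by
    rw [Flat.SpecMap_iff]
    let _ : Field (Y.presheaf.stalk y) := hy.toField
    algebraize [(Y.residue y).hom]
    change Module.Flat (Y.presheaf.stalk y) (Y.residueField y)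
    infer_instance
  rw [Scheme.fromSpecResidueField]
  infer_instance

/-- A scheme all of whose local rings are fields is reduced. -/
theorem isReduced_of_isField_stalk {W : Scheme.{u}} (hW : ∀ w : W, IsField (W.presheaf.stalk w)) :
    IsReduced W := by
  have : ∀ w : W, _root_.IsReduced (W.presheaf.stalk w) := fun w => by
    let _ : Field (W.presheaf.stalk w) := (hW w).toField
    infer_instance
  exact isReduced_of_isReduced_stalk W

/-- A locally Noetherian scheme whose local rings are fields is discrete. -/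
theorem isOpen_singleton_of_isLocallyNoetherian_of_isField_stalk {W : Scheme.{u}}
    [IsLocallyNoetherian W] (hW : ∀ w : W, IsField (W.presheaf.stalk w)) (w : W) :
    IsOpen ({w} : Set W) := by
  obtain ⟨_, ⟨(W₀ : W.Opens), hW₀, rfl⟩, hwW₀, -⟩ :=
    W.isBasis_affineOpens.exists_subset_of_mem_open (Set.mem_univ w) isOpen_univ
  have hN : IsNoetherianRing Γ(W, W₀) := IsLocallyNoetherian.component_noetherian ⟨W₀, hW₀⟩
  have hNS : TopologicalSpace.NoetherianSpace ↥W₀ := noetherianSpace_of_isAffineOpen W₀ hW₀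
  have hT1 : T1Space ↥W₀ := by
    refine ⟨fun x => ?_⟩
    have := isClosed_singleton_of_isField_stalk hW x.1
    have h2 : ({x} : Set ↥W₀) = Subtype.val ⁻¹' ({x.1} : Set W) := by
      ext y
      constructor
      · intro h; rw [Set.mem_singleton_iff] at h; rw [h]; rfl
      · intro h; exact Subtype.ext h
    rw [h2]
    exact this.preimage continuous_subtype_val
  have hQS : QuasiSober ↥W₀ := inferInstanceAs (QuasiSober ↥(W₀ : Scheme.{u}))
  have hfin : Finite ↥W₀ := by
    have h1 := TopologicalSpace.NoetherianSpace.finite_irreducibleComponents (α := ↥W₀)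
    have h2 : (⋃₀ irreducibleComponents ↥W₀).Finite := by
      refine h1.sUnion fun T hT => ?_
      obtain ⟨η, hη⟩ := QuasiSober.sober hT.1 (isClosed_of_mem_irreducibleComponents T hT)
      rw [← hη.def, closure_singleton]
      exact Set.finite_singleton η
    rw [sUnion_irreducibleComponents] at h2
    exact Set.finite_univ_iff.1 h2
  have hdisc : DiscreteTopology ↥W₀ := inferInstance
  have h1 : IsOpen ({⟨w, hwW₀⟩} : Set ↥W₀) := isOpen_discrete _
  have h2 := W₀.2.isOpenMap_subtype_val _ h1
  simpa using h2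

/-- The ring of sections over an open point of a reduced scheme is a field. -/
theorem isField_sections_of_isOpen_singleton {U : Scheme.{u}} [IsReduced U] (u : U)
    (h : IsOpen ({u} : Set U)) : IsField Γ(U, ⟨{u}, h⟩) := by
  let V : U.Opens := ⟨{u}, h⟩
  have hsub : Subsingleton ↥V := (Set.subsingleton_singleton (a := u)).coe_sort
  have hne : Nonempty ↥V := ⟨⟨u, rfl⟩⟩
  have : IrreducibleSpace ↥(V : Scheme.{u}) := by
    have : Subsingleton ↥(V : Scheme.{u}) := hsub
    exact { toPreirreducibleSpace := inferInstance, toNonempty := hne }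
  have hint : IsIntegral (V : Scheme.{u}) := isIntegral_of_irreducibleSpace_of_isReduced _
  have : Subsingleton ↥(V : Scheme.{u}) := hsub
  have hF : IsField Γ((V : Scheme.{u}), ⊤) := isField_of_isIntegral_of_subsingleton _
  exact V.topIso.symm.commRingCatIsoToRingEquiv.toMulEquiv.isField hF

theorem isRegularLocalRing_of_isField (R : Type*) [CommRing R] [IsLocalRing R] (h : IsField R) :
    IsRegularLocalRing R := by
  have hN : IsNoetherianRing R := by
    let _ := h.toField
    infer_instance
  rw [isRegularLocalRing_iff]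
  rw [IsLocalRing.isField_iff_maximalIdeal_eq.1 h, ringKrullDim_eq_zero_of_isField h]
  simp

variable {S : Scheme.{u}}

/-- Every point of `h_T` comes from a point of the scheme `T`. -/
theorem exists_ofPt_eq_map {Z : Sp S} {T : Over S} (q : (yon S).obj T ⟶ Z)
    (y : Points ((yon S).obj T)) : ∃ t : ↥T.left, Points.ofPt q t = Points.map q y := by
  obtain ⟨t, rfl⟩ := (Points.schemeEquiv T).surjective y
  refine ⟨t, ?_⟩
  change _ = Points.map q (Points.ofPt (𝟙 _) t)
  rw [Points.map_ofPt, Category.id_comp]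

/-- Core lemma: if the base change of a field point `q : Spec k ⟶ Z` to an étale chart `V ⟶ Z` is flat
and `q` hits every point of the chart, the local rings of `V` are fields. -/
theorem isField_stalk_chart {Z : Sp S} (k : Type u) [Field k] (str : Spec (CommRingCat.of k) ⟶ S)
    (q : (yon S).obj (Over.mk str) ⟶ Z) (hrep : Representable q) {V : Over S}
    (b : (yon S).obj V ⟶ Z) (hb : RepWith @Etale b) (hflat : Flat (hrep.snd b).left)
    (hsurj : ∀ v : ↥V.left, ∃ t, Points.ofPt q t = Points.ofPt b v) (v : ↥V.left) :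
    IsField (V.left.presheaf.stalk v) := by
  have sq := hrep.isPullback' b
  have het : Etale (hrep.fst' b).left := hb.property q _ _ sq.flip
  have hW : ∀ w, IsField ((hrep.pullback b).left.presheaf.stalk w) := fun w =>
    isField_stalk_of_formallyUnramified_over_field (K := k) (hrep.fst' b).left w
  refine isField_stalk_of_flat_surjective (hrep.snd b).left ?_ hW v
  intro v
  obtain ⟨t, ht⟩ := hsurj v
  obtain ⟨r, -, hr⟩ := (ofPt_eq_ofPt_iff sq t v).1 ht
  exact ⟨r, hr⟩

/-- L1: for a flat surjective field point of an algebraic space, all étale charts have fields as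
local rings. -/
theorem isField_stalk_of_flat_surjective_fieldPt {Z : Sp S} (hZ : IsAlgSpace Z) (k : Type u) [Field k]
    (str : Spec (CommRingCat.of k) ⟶ S) (p : (yon S).obj (Over.mk str) ⟶ Z)
    (hpf : LocP @Flat p) (hps : IsSurjectiveMor p) {V : Over S}
    (b : (yon S).obj V ⟶ Z) (hb : RepWith @Etale b) (v : ↥V.left) :
    IsField (V.left.presheaf.stalk v) := by
  have hrep : Representable p := hZ.representable_from_yon p
  have sq := hrep.isPullback' b
  have het : Etale (hrep.fst' b).left := hb.property p _ _ sq.flip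
  refine isField_stalk_chart k str p hrep b hb ?_ ?_ v
  · exact hpf ((yon S).map (hrep.fst' b)) b (hrep.snd b)
      ((repWith_yon_map_iff @Etale _).2 het) hb sq.w
  · intro v
    obtain ⟨y, hy⟩ := hps (Points.ofPt b v)
    obtain ⟨t, ht⟩ := exists_ofPt_eq_map p y
    exact ⟨t, ht.trans hy⟩

/-- The space of points of an algebraic space with a surjective field point is a subsingleton. -/
theorem subsingleton_points_of_surjective_fieldPt {Z : Sp S} (k : Type u) [Field k]
    (str : Spec (CommRingCat.of k) ⟶ S) (p : (yon S).obj (Over.mk str) ⟶ Z)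
    (hps : IsSurjectiveMor p) : Subsingleton (Points Z) := by
  refine ⟨fun x y => ?_⟩
  obtain ⟨x', rfl⟩ := hps x
  obtain ⟨y', rfl⟩ := hps y
  obtain ⟨t, rfl⟩ := (Points.schemeEquiv (Over.mk str)).surjective x'
  obtain ⟨t', rfl⟩ := (Points.schemeEquiv (Over.mk str)).surjective y'
  rw [Subsingleton.elim (α := PrimeSpectrum k) t t']

/-- S10365. -/
theorem flat_surjective_of_fieldPt {Z : Sp S} (hZ : IsAlgSpace Z) (k : Type u) [Field k]
    (str : Spec (CommRingCat.of k) ⟶ S) (p : (yon S).obj (Over.mk str) ⟶ Z)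
    (hpf : LocP @Flat p) (hps : IsSurjectiveMor p)
    (k' : Type u) [Field k'] (str' : Spec (CommRingCat.of k') ⟶ S)
    (q : (yon S).obj (Over.mk str') ⟶ Z) : LocP @Flat q ∧ IsSurjectiveMor q := by
  refine ⟨fun U V a b h _ hb _ => ?_, fun z => ?_⟩
  · exact flat_of_isField_stalk h.left
      (isField_stalk_of_flat_surjective_fieldPt hZ k str p hpf hps b hb)
  · have := subsingleton_points_of_surjective_fieldPt k str p hps
    exact ⟨Points.ofPt (𝟙 _) (IsLocalRing.closedPoint k'), Subsingleton.elim _ _⟩

/-- S10367. -/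
theorem exists_lft_flat_surjective_fieldPt {Z : Sp S} (hZ : IsAlgSpace Z) (k : Type u) [Field k]
    (str : Spec (CommRingCat.of k) ⟶ S) (p : (yon S).obj (Over.mk str) ⟶ Z)
    (hpf : LocP @Flat p) (hps : IsSurjectiveMor p) :
    ∃ (k' : Type u) (_ : Field k') (str' : Spec (CommRingCat.of k') ⟶ S)
      (q : (yon S).obj (Over.mk str') ⟶ Z),
      LocP @LocallyOfFiniteType q ∧ LocP @Flat q ∧ IsSurjectiveMor q := by
  obtain ⟨W, c, hce, hcs⟩ := hZ.atlas
  obtain ⟨w, -⟩ := ofPt_surjective c hcs (Points.ofPt p (IsLocalRing.closedPoint k))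
  have hW := fun w' => isField_stalk_of_flat_surjective_fieldPt hZ k str p hpf hps c hce w'
  have hcl : IsClosed ({w} : Set ↥W.left) := isClosed_singleton_of_isField_stalk hW w
  have hci : IsClosedImmersion (W.left.fromSpecResidueField w) :=
    isClosed_singleton_iff_isClosedImmersion.1 hcl
  let P : FieldPt Z := FieldPt.ofPt c w
  have hP : P.toHom = (yon S).map (Over.homMk (W.left.fromSpecResidueField w) rfl) ≫ c :=
    FieldPt.toHom_ofPt c w
  obtain ⟨hqf, hqs⟩ := flat_surjective_of_fieldPt hZ k str p hpf hps P.K P.str P.toHom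
  refine ⟨P.K, inferInstance, P.str, P.toHom, ?_, hqf, hqs⟩
  intro U V a b h ha hb hw
  obtain ⟨a', rfl⟩ := (yon S).map_surjective a
  have ha' : Etale a'.left := (repWith_yon_map_iff @Etale a').1 ha
  obtain ⟨R, p1, p2, sq⟩ := exists_isPullback_yon c b hb.rep
  have hp2 : Etale p2.left := prop_snd_of_isPullback sq hce
  let jO : P.pt ⟶ W := Over.homMk (W.left.fromSpecResidueField w) rfl
  obtain ⟨l', hl1, hl2⟩ := sq.exists_lift ((yon S).map (a' ≫ jO)) ((yon S).map h) (by
    rw [Functor.map_comp, Category.assoc, ← hw, hP])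
  obtain ⟨l, rfl⟩ := (yon S).map_surjective l'
  have e1 : l ≫ p1 = a' ≫ jO := (yon S).map_injective (by simpa using hl1)
  have e2 : l ≫ p2 = h := (yon S).map_injective (by simpa using hl2)
  have h1 : LocallyOfFiniteType (l.left ≫ p1.left) := by
    rw [← Over.comp_left, e1, Over.comp_left]
    have h3 : LocallyOfFiniteType (W.left.fromSpecResidueField w) := inferInstance
    have h4 : LocallyOfFiniteType a'.left := inferInstance
    exact MorphismProperty.comp_mem @LocallyOfFiniteType a'.left jO.left h4 h3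
  have h2 : LocallyOfFiniteType l.left := locallyOfFiniteType_of_comp l.left p1.left
  rw [← e2, Over.comp_left]
  infer_instance

/-- S10366. -/
theorem reduced_one_point_iff_exists_flat_surjective_fieldPt (Z : Space S) :
    (EtaleLocally (fun U => IsReduced U) Z.obj ∧ Nonempty (Points Z.obj) ∧
        Subsingleton (Points Z.obj)) ↔
      ∃ (k : Type u) (_ : Field k) (str : Spec (CommRingCat.of k) ⟶ S)
        (p : (yon S).obj (Over.mk str) ⟶ Z.obj), LocP @Flat p ∧ IsSurjectiveMor p := by
  constructor
  · rintro ⟨⟨V, a, hae, has, hred⟩, ⟨x⟩, hsub⟩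
    have hred' : IsReduced V.left := hred
    obtain ⟨v, -⟩ := ofPt_surjective a has x
    obtain ⟨T, hT, -⟩ := exists_mem_irreducibleComponents_subset_of_isIrreducible
      ({v} : Set ↥V.left) isIrreducible_singleton
    obtain ⟨η, hη⟩ := QuasiSober.sober hT.1 (isClosed_of_mem_irreducibleComponents T hT)
    have hηT : closure {η} ∈ irreducibleComponents ↥V.left := by
      rw [hη.def]; exact hT
    have hfield : IsField (V.left.presheaf.stalk η) :=
      isField_stalk_of_closure_mem_irreducibleComponents (X := V.left) η hηT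
    have hflat : Flat (V.left.fromSpecResidueField η) :=
      flat_fromSpecResidueField_of_isField V.left η hfield
    let P : FieldPt Z.obj := FieldPt.ofPt a η
    have hP : P.toHom = (yon S).map (Over.homMk (V.left.fromSpecResidueField η) rfl) ≫ a :=
      FieldPt.toHom_ofPt a η
    have hRW : RepWith @Flat P.toHom := by
      rw [hP]
      refine (RepWith @Flat).comp_mem _ _ ((repWith_yon_map_iff @Flat _).2 hflat) ?_
      exact MorphismProperty.relative_monotone (fun _ _ g hg => by
        have : Etale g.left := hg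
        exact (inferInstance : Flat g.left)) _ hae
    have hfs : ∀ {V' : Over S} (b : (yon S).obj V' ⟶ Z.obj), RepWith @Etale b →
        ∀ v', IsField (V'.left.presheaf.stalk v') := by
      intro V' b hb v'
      refine isField_stalk_chart P.K P.str P.toHom hRW.rep b hb (hRW.property_snd b) ?_ v'
      intro v''
      exact ⟨IsLocalRing.closedPoint P.K, Subsingleton.elim _ _⟩
    refine ⟨P.K, inferInstance, P.str, P.toHom, ?_, ?_⟩
    · intro U V' a' b h _ hb _
      exact flat_of_isField_stalk h.left (hfs b hb)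
    · intro z
      exact ⟨Points.ofPt (𝟙 _) (IsLocalRing.closedPoint P.K), Subsingleton.elim _ _⟩
  · rintro ⟨k, _, str, p, hpf, hps⟩
    obtain ⟨W, c, hce, hcs⟩ := Z.property.atlas
    have hW := fun w' => isField_stalk_of_flat_surjective_fieldPt Z.property k str p hpf hps c hce w'
    exact ⟨⟨W, c, hce, hcs, isReduced_of_isField_stalk hW⟩,
      ⟨Points.ofPt p (IsLocalRing.closedPoint k)⟩,
      subsingleton_points_of_surjective_fieldPt k str p hps⟩

/-- S10368. -/
theorem reduced_locNoeth_one_point_iff (Z : Space S) :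
    (EtaleLocally (fun U => IsReduced U) Z.obj ∧ IsLocNoethSp Z.obj ∧ Nonempty (Points Z.obj) ∧
        Subsingleton (Points Z.obj)) ↔
      ∃ (k : Type u) (_ : Field k) (str : Spec (CommRingCat.of k) ⟶ S)
        (p : (yon S).obj (Over.mk str) ⟶ Z.obj),
        LocP @LocallyOfFinitePresentation p ∧ LocP @Flat p ∧ IsSurjectiveMor p := by
  constructor
  · rintro ⟨hred, ⟨V₁, a₁, ha₁e, ha₁s, hN⟩, hne, hsub⟩
    obtain ⟨k₀, _, str₀, p₀, hp₀f, hp₀s⟩ :=
      (reduced_one_point_iff_exists_flat_surjective_fieldPt Z).1 ⟨hred, hne, hsub⟩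
    have hN' : IsLocallyNoetherian V₁.left := hN
    have hV₁ := fun v =>
      isField_stalk_of_flat_surjective_fieldPt Z.property k₀ str₀ p₀ hp₀f hp₀s a₁ ha₁e v
    have : IsReduced V₁.left := isReduced_of_isField_stalk hV₁
    obtain ⟨x⟩ := hne
    obtain ⟨v, -⟩ := ofPt_surjective a₁ ha₁s x
    have hopen := isOpen_singleton_of_isLocallyNoetherian_of_isField_stalk hV₁ v
    obtain ⟨K, _, j, hj⟩ :=
      Groth.Agent.Lib.Helper37.DecentField.exists_field_openImmersion_of_isOpen_singleton v hopen
    let jO : Over.mk (j ≫ V₁.hom) ⟶ V₁ := Over.homMk j rfl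
    have hje : Etale jO.left := by
      change Etale j
      infer_instance
    have hq : RepWith @Etale ((yon S).map jO ≫ a₁) :=
      (RepWith @Etale).comp_mem _ _ ((repWith_yon_map_iff @Etale _).2 hje) ha₁e
    obtain ⟨hqf, hqs⟩ := flat_surjective_of_fieldPt Z.property k₀ str₀ p₀ hp₀f hp₀s K
      (j ≫ V₁.hom) ((yon S).map jO ≫ a₁)
    refine ⟨K, inferInstance, j ≫ V₁.hom, (yon S).map jO ≫ a₁, ?_, hqf, hqs⟩
    intro U V a b h ha hb hw
    have : Etale h.left :=
      etale_of_comp_eq (a ≫ (yon S).map jO ≫ a₁) b h ((RepWith @Etale).comp_mem _ _ ha hq) hb hw.symm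
    infer_instance
  · rintro ⟨k, _, str, p, hplfp, hpf, hps⟩
    obtain ⟨hred, hne, hsub⟩ :=
      (reduced_one_point_iff_exists_flat_surjective_fieldPt Z).2 ⟨k, inferInstance, str, p, hpf, hps⟩
    refine ⟨hred, ?_, hne, hsub⟩
    obtain ⟨W, c, hce, hcs⟩ := Z.property.atlas
    refine ⟨W, c, hce, hcs, ?_⟩
    have hW := fun w' =>
      isField_stalk_of_flat_surjective_fieldPt Z.property k str p hpf hps c hce w'
    have hrep : Representable p := Z.property.representable_from_yon p
    have sq := hrep.isPullback' c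
    have het : Etale (hrep.fst' c).left := hce.property p _ _ sq.flip
    have hgflat : Flat (hrep.snd c).left := hpf ((yon S).map (hrep.fst' c)) c (hrep.snd c)
      ((repWith_yon_map_iff @Etale _).2 het) hce sq.w
    have hglfp : LocallyOfFinitePresentation (hrep.snd c).left :=
      hplfp ((yon S).map (hrep.fst' c)) c (hrep.snd c)
        ((repWith_yon_map_iff @Etale _).2 het) hce sq.w
    have hgsurj : Function.Surjective (hrep.snd c).left := by
      intro w
      obtain ⟨y, hy⟩ := hps (Points.ofPt c w)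
      obtain ⟨t, ht⟩ := exists_ofPt_eq_map p y
      obtain ⟨r, -, hr⟩ := (ofPt_eq_ofPt_iff sq t w).1 (ht.trans hy)
      exact ⟨r, hr⟩
    have hdisc : DiscreteTopology ↥(hrep.pullback c).left := by
      have := Groth.Agent.Lib.Helper37.EtaleFibres.locallyQuasiFinite_of_etale (hrep.fst' c).left
      let y : ↥(Spec (CommRingCat.of k)) := IsLocalRing.closedPoint k
      have hd := (hrep.fst' c).left.isDiscrete_preimage_singleton y
      have huniv : (hrep.fst' c).left ⁻¹' {y} = Set.univ :=
        Set.eq_univ_of_forall fun w => Subsingleton.elim (α := PrimeSpectrum k) _ _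
      rw [huniv] at hd
      exact isDiscrete_univ_iff.1 hd
    have hopen : ∀ w : ↥W.left, IsOpen ({w} : Set ↥W.left) := by
      intro w
      obtain ⟨w', rfl⟩ := hgsurj w
      have := (hrep.snd c).left.isOpenMap {w'} (isOpen_discrete _)
      simpa using this
    have hredW : IsReduced W.left := isReduced_of_isField_stalk hW
    refine isLocallyNoetherian_of_affine_cover
      (S := fun w : ↥W.left => ⟨⟨{w}, hopen w⟩, IsAffineOpen.of_subsingleton Set.subsingleton_singleton⟩)
      ?_ ?_
    · rw [eq_top_iff]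
      intro w _
      exact TopologicalSpace.Opens.mem_iSup.2 ⟨w, rfl⟩
    · intro w
      have hF := isField_sections_of_isOpen_singleton w (hopen w)
      let _ : Field Γ(W.left, ⟨{w}, hopen w⟩) := hF.toField
      infer_instance

/-- S10372. -/
theorem regular_of_reduced_locNoeth_one_point (Z : AlgSp.Space S)
    (hr : AlgSp.EtaleLocally (fun U => IsReduced U) Z.obj) (hN : AlgSp.IsLocNoethSp Z.obj)
    [Nonempty (AlgSp.Points Z.obj)] [Subsingleton (AlgSp.Points Z.obj)] :
    AlgSp.EtaleLocally (fun U => IsLocallyNoetherian U ∧ ∀ u : ↥U, IsRegularLocalRing ↥(U.presheaf.stalk u)) Z.obj := by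
  obtain ⟨k₀, _, str₀, p₀, hp₀f, hp₀s⟩ :=
    (reduced_one_point_iff_exists_flat_surjective_fieldPt Z).1 ⟨hr, inferInstance, inferInstance⟩
  obtain ⟨V₁, a₁, ha₁e, ha₁s, hN'⟩ := hN
  refine ⟨V₁, a₁, ha₁e, ha₁s, hN', fun u => ?_⟩
  exact isRegularLocalRing_of_isField _
    (isField_stalk_of_flat_surjective_fieldPt Z.property k₀ str₀ p₀ hp₀f hp₀s a₁ ha₁e u)

/-- A flat, locally finitely presented, surjective field point of an algebraic space is an epimorphism
of fppf sheaves. -/
theorem epi_of_fppf_fieldPt {Z : Sp S} (hZ : IsAlgSpace Z) (k : Type u) [Field k]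
    (str : Spec (CommRingCat.of k) ⟶ S) (p : (yon S).obj (Over.mk str) ⟶ Z)
    (hplfp : LocP @LocallyOfFinitePresentation p) (hpf : LocP @Flat p) (hps : IsSurjectiveMor p) :
    Epi p := by
  obtain ⟨W, c, hce, hcs⟩ := hZ.atlas
  have hrep : Representable p := hZ.representable_from_yon p
  have sq := hrep.isPullback' c
  have het : Etale (hrep.fst' c).left := hce.property p _ _ sq.flip
  have hgflat : Flat (hrep.snd c).left := hpf ((yon S).map (hrep.fst' c)) c (hrep.snd c)
    ((repWith_yon_map_iff @Etale _).2 het) hce sq.w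
  have hglfp : LocallyOfFinitePresentation (hrep.snd c).left :=
    hplfp ((yon S).map (hrep.fst' c)) c (hrep.snd c)
      ((repWith_yon_map_iff @Etale _).2 het) hce sq.w
  have hgsurj : Surjective (hrep.snd c).left := ⟨by
    intro w
    obtain ⟨y, hy⟩ := hps (Points.ofPt c w)
    obtain ⟨t, ht⟩ := exists_ofPt_eq_map p y
    obtain ⟨r, -, hr⟩ := (ofPt_eq_ofPt_iff sq t w).1 (ht.trans hy)
    exact ⟨r, hr⟩⟩
  have h1 : Sheaf.IsLocallySurjective ((yon S).map (hrep.snd c)) :=
    Groth.Agent.S9885.result S _ _ _ ((repWith_yon_map_iff @Flat _).2 hgflat)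
      ((repWith_yon_map_iff @LocallyOfFinitePresentation _).2 hglfp)
      ((repWith_yon_map_iff @Surjective _).2 hgsurj)
  have h2 : Epi ((yon S).map (hrep.snd c)) := inferInstance
  have h3 : Epi c := Groth.Agent.Lib.Helper23.AlgSpMor.epi_of_etale_surjective c hce hcs
  have h4 : Epi ((yon S).map (hrep.fst' c) ≫ p) := by
    rw [sq.w]; exact epi_comp _ _
  exact epi_of_epi ((yon S).map (hrep.fst' c)) p

/-- S10369. -/
theorem isEmpty_or_isIso_of_mono {Z' Z : Space S} (f : Z' ⟶ Z) [Mono f.hom]
    (hZ : ∃ (k : Type u) (_ : Field k) (str : Spec (CommRingCat.of k) ⟶ S)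
      (p : (yon S).obj (Over.mk str) ⟶ Z.obj),
        LocP @LocallyOfFinitePresentation p ∧ LocP @Flat p ∧ IsSurjectiveMor p) :
    IsEmpty (Points Z'.obj) ∨ IsIso f := by
  obtain ⟨k, _, str, p, hplfp, hpf, hps⟩ := hZ
  by_cases hne : Nonempty (Points Z'.obj)
  · right
    obtain ⟨z'⟩ := hne
    have hsub := subsingleton_points_of_surjective_fieldPt k str p hps
    have sq := IsPullback.of_hasPullback f.hom p
    have hX : IsAlgSpace (pullback f.hom p) :=
      Groth.Agent.Lib.Helper23.AlgSpMor.isAlgSpace_of_isPullback Z'.property (IsAlgSpace.yon_obj _) Z.property.diag sq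
    have hmono : Mono (pullback.snd f.hom p) := sq.mono_snd_of_mono
    have hneX : Nonempty (Points (pullback f.hom p)) := by
      obtain ⟨x, -, -⟩ := points_exists_of_isPullback sq.flip
        (Points.ofPt (𝟙 _) (IsLocalRing.closedPoint k)) z' (Subsingleton.elim _ _)
      exact ⟨x⟩
    have hiso : IsIso (pullback.snd f.hom p) :=
      Groth.Agent.Lib.Helper23.AlgSpMor.isIso_of_mono_to_field str hX _ hneX
    have hfac : (inv (pullback.snd f.hom p) ≫ pullback.fst f.hom p) ≫ f.hom = p := by
      rw [Category.assoc, sq.w, IsIso.inv_hom_id_assoc]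
    have hepi : Epi p := epi_of_fppf_fieldPt Z.property k str p hplfp hpf hps
    have hepi2 : Epi f.hom := by
      rw [← hfac] at hepi
      exact epi_of_epi (inv (pullback.snd f.hom p) ≫ pullback.fst f.hom p) f.hom
    have hiso2 : IsIso f.hom := isIso_of_mono_of_epi _
    have : IsIso ((ObjectProperty.ι _).map f) := hiso2
    exact isIso_of_reflects_iso f (ObjectProperty.ι _)
  · left
    exact not_nonempty_iff.1 hne

/-- S10371. -/
theorem residual_space_unique (X : Space S) (x : Points X.obj)
    {Z Z' : Space S} (i : Z ⟶ X) (i' : Z' ⟶ X) [Mono i.hom] [Mono i'.hom]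
    (hi : Set.range (Points.map i.hom) = {x}) (hi' : Set.range (Points.map i'.hom) = {x})
    (hZ : ∃ (k : Type u) (_ : Field k) (str : Spec (CommRingCat.of k) ⟶ S)
      (p : (yon S).obj (Over.mk str) ⟶ Z.obj),
        LocP @LocallyOfFinitePresentation p ∧ LocP @Flat p ∧ IsSurjectiveMor p)
    (hZ' : ∃ (k : Type u) (_ : Field k) (str : Spec (CommRingCat.of k) ⟶ S)
      (p : (yon S).obj (Over.mk str) ⟶ Z'.obj),
        LocP @LocallyOfFinitePresentation p ∧ LocP @Flat p ∧ IsSurjectiveMor p) :
    ∃ e : Z' ≅ Z, e.hom ≫ i = i' := by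
  have sq := IsPullback.of_hasPullback i.hom i'.hom
  have hP : IsAlgSpace (pullback i.hom i'.hom) :=
    Groth.Agent.Lib.Helper23.AlgSpMor.isAlgSpace_of_isPullback Z.property Z'.property
      X.property.diag sq
  let P' : Space S := ⟨pullback i.hom i'.hom, hP⟩
  have hm1 : Mono (pullback.fst i.hom i'.hom) := sq.mono_fst_of_mono
  have hm2 : Mono (pullback.snd i.hom i'.hom) := sq.mono_snd_of_mono
  obtain ⟨z, hz⟩ : x ∈ Set.range (Points.map i.hom) := by rw [hi]; rfl
  obtain ⟨z', hz'⟩ : x ∈ Set.range (Points.map i'.hom) := by rw [hi']; rfl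
  obtain ⟨y, -, -⟩ := points_exists_of_isPullback sq z z' (hz.trans hz'.symm)
  let f1 : P' ⟶ Z := ObjectProperty.homMk (pullback.fst i.hom i'.hom)
  let f2 : P' ⟶ Z' := ObjectProperty.homMk (pullback.snd i.hom i'.hom)
  have hf1m : Mono f1.hom := hm1
  have hf2m : Mono f2.hom := hm2
  have h1 : IsIso f1 := (isEmpty_or_isIso_of_mono f1 hZ).resolve_left
    (fun h => h.elim (y : Points P'.obj))
  have h2 : IsIso f2 := (isEmpty_or_isIso_of_mono f2 hZ').resolve_left
    (fun h => h.elim (y : Points P'.obj))
  refine ⟨(asIso f2).symm ≪≫ asIso f1, ?_⟩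
  have hw : f1 ≫ i = f2 ≫ i' := ObjectProperty.hom_ext _ sq.w
  rw [Iso.trans_hom, Iso.symm_hom, asIso_hom, asIso_inv, Category.assoc, hw, IsIso.inv_hom_id_assoc]

end Groth.Agent.Lib.Helper37.OnePoint
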