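import Mathlib
import Groth.Agent.Lib.Helper37.OnePoint
import Groth.Agent.Lib.Helper5.FppfLocal
import Groth.Agent.Lib.Helper23.AlgSpDiag
import Groth.Agent.S9884

/-!
# The residual space of an algebraic space at a point (helper37)

`exists_residualSpace` (S10370): the image sheaf `Z` of `Spec κ(u) ⟶ U ⟶ X` (`U ⟶ X` an étale atlas,
`u` over `x`) is an algebraic space; `Spec κ(u) ⟶ Z` is étale surjective, `Z ⟶ X` is a monomorphism
with image `{x}`.
-/

set_option autoImplicit false
universe u
open CategoryTheory CategoryTheory.Limits AlgebraicGeometry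
open AlgSp
open Groth.Agent.Lib.Helper36.AlgSpCharts
open Groth.Agent.Lib.Helper37.AlgSpPoints Groth.Agent.Lib.Helper37.AlgSpFibres
open Groth.Agent.Lib.Helper37.ClosedPoint Groth.Agent.Lib.Helper37.OnePoint

namespace Groth.Agent.Lib.Helper37.Residual

/-- A flat monomorphism into a scheme with discrete underlying space is an open immersion. -/
theorem isOpenImmersion_of_flat_of_mono_of_discrete {X Y : Scheme.{u}} (f : X ⟶ Y) [Flat f] [Mono f]
    [DiscreteTopology Y] : IsOpenImmersion f := by
  let U : Y.Opens := ⟨Set.range f.base, isOpen_discrete _⟩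
  have hU : IsOpenImmersion U.ι := U.instIsOpenImmersionι
  let f' := hU.lift U.ι f (by simp [U])
  have heq : f = f' ≫ U.ι := by simp [f']
  have hflat : Flat f' := MorphismProperty.of_postcomp (W := @Flat) f' U.ι hU (by rwa [← heq])
  have hmono : Mono f' := mono_of_mono_fac heq.symm
  have hsurj : Surjective f' := ⟨fun ⟨x, ⟨y, hy⟩⟩ ↦
      ⟨y, by apply U.ι.injective; simp [← Scheme.Hom.comp_apply, f', hy]⟩⟩
  have hX : DiscreteTopology X := DiscreteTopology.of_continuous_injective f.continuous f.injective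
  have hUd : DiscreteTopology ↥(U : Scheme.{u}) :=
    DiscreteTopology.of_continuous_injective U.ι.continuous U.ι.injective
  have hhomeo : IsHomeomorph f'.base :=
    ⟨f'.continuous, fun s _ => isOpen_discrete _, f'.injective, f'.surjective⟩
  have : QuasiCompact f' := ⟨fun V hV hc ↦ hhomeo.homeomorph.isCompact_preimage.mpr hc⟩
  have := Flat.isIso_of_surjective_of_mono f'
  rw [heq]
  infer_instance

/-- A scheme étale over the spectrum of a field is discrete. -/
theorem discreteTopology_of_etale_field {k : Type u} [Field k] {E : Scheme.{u}}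
    (e : E ⟶ Spec (CommRingCat.of k)) [Etale e] : DiscreteTopology E := by
  have := Groth.Agent.Lib.Helper37.EtaleFibres.locallyQuasiFinite_of_etale e
  let y : ↥(Spec (CommRingCat.of k)) := IsLocalRing.closedPoint k
  have hd := e.isDiscrete_preimage_singleton y
  have huniv : e ⁻¹' {y} = Set.univ :=
    Set.eq_univ_of_forall fun w => Subsingleton.elim (α := PrimeSpectrum k) _ _
  rw [huniv] at hd
  exact isDiscrete_univ_iff.1 hd

variable {S : Scheme.{u}}

/-- Every map from a scheme to a subsheaf of an algebraic space is representable. -/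
theorem representable_of_comp_mono {Z X : Sp S} (ι : Z ⟶ X) [Mono ι] (hX : IsAlgSpace X)
    {T : Over S} (t : (yon S).obj T ⟶ Z) : Representable t := by
  have H := hX.representable_from_yon (t ≫ ι)
  intro V g
  exact ⟨H.pullback (g ≫ ι), H.snd (g ≫ ι), H.fst (g ≫ ι),
    Groth.Agent.Lib.Helper23.AlgSpMor.isPullback_of_comp_mono ι (H.isPullback (g ≫ ι))⟩

/-- S10370: existence of the residual space. -/
theorem exists_residualSpace (X : Space S) (x : Points X.obj) :
    ∃ (Z : Space S) (i : Z ⟶ X), Mono i.hom ∧ Set.range (Points.map i.hom) = {x} ∧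
      ∃ (k : Type u) (_ : Field k) (str : Spec (CommRingCat.of k) ⟶ S)
        (p : (yon S).obj (Over.mk str) ⟶ Z.obj),
        LocP @LocallyOfFinitePresentation p ∧ LocP @Flat p ∧ IsSurjectiveMor p := by
  obtain ⟨U, a, hae, has⟩ := X.property.atlas
  obtain ⟨u, hu⟩ := ofPt_surjective a has x
  let P : FieldPt X.obj := FieldPt.ofPt a u
  let jO : P.pt ⟶ U := Over.homMk (U.left.fromSpecResidueField u) rfl
  have hP : P.toHom = (yon S).map jO ≫ a := FieldPt.toHom_ofPt a u
  -- image sheaf
  let Z : Sp S := Sheaf.image P.toHom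
  let π : (yon S).obj P.pt ⟶ Z := Sheaf.toImage P.toHom
  let ι : Z ⟶ X.obj := Sheaf.imageι P.toHom
  have hπι : π ≫ ι = P.toHom := Sheaf.toImage_ι _
  have hιm : Mono ι := inferInstance
  have hπls : Sheaf.IsLocallySurjective π := inferInstance
  have hrepZ : ∀ {T : Over S} (t : (yon S).obj T ⟶ Z), Representable t :=
    fun t => representable_of_comp_mono ι X.property t
  -- the fibre product Spec κ ×_X Spec κ
  have sqE := hae.rep.isPullback' P.toHom
  set E := hae.rep.pullback P.toHom
  set e₂ := hae.rep.fst' P.toHom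
  set e₁ := hae.rep.snd P.toHom
  have he₁ : Etale e₁.left := hae.property_snd P.toHom
  have hEdisc : DiscreteTopology E.left := discreteTopology_of_etale_field (k := P.K) e₁.left
  have hEfield : ∀ w, IsField (E.left.presheaf.stalk w) := fun w =>
    isField_stalk_of_formallyUnramified_over_field (K := P.K) e₁.left w
  have sqR0 := IsPullback.of_hasPullback e₂ jO
  set R := pullback e₂ jO
  set r₁ := pullback.fst e₂ jO
  set r₂ := pullback.snd e₂ jO
  have sqR : IsPullback ((yon S).map r₁) ((yon S).map r₂) ((yon S).map e₂) ((yon S).map jO) :=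
    sqR0.map (yon S)
  have sqRS : IsPullback r₁.left r₂.left e₂.left jO.left := sqR0.map (Over.forget S)
  have hjm : Mono jO.left := inferInstanceAs (Mono (U.left.fromSpecResidueField u))
  have hr₁mono : Mono r₁.left :=
    (MorphismProperty.monomorphisms Scheme.{u}).of_isPullback sqRS.flip hjm
  have hr₁flat : Flat r₁.left := flat_of_isField_stalk r₁.left hEfield
  have hr₁oi : IsOpenImmersion r₁.left := isOpenImmersion_of_flat_of_mono_of_discrete r₁.left
  have hpr₁ : Etale (r₁ ≫ e₁).left := by rw [Over.comp_left]; infer_instance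
  have sqRR : IsPullback ((yon S).map (r₁ ≫ e₁)) ((yon S).map r₂) P.toHom P.toHom := by
    have := sqR.paste_horiz sqE.flip
    rw [← Functor.map_comp, ← hP] at this
    exact this
  have sqππ : IsPullback ((yon S).map r₂) ((yon S).map (r₁ ≫ e₁)) π π := by
    refine (Groth.Agent.Lib.Helper23.AlgSpMor.isPullback_of_comp_mono ι ?_).flip
    rw [hπι]; exact sqRR
  have hpr₁s : Surjective (r₁ ≫ e₁).left := by
    obtain ⟨d', hd1, hd2⟩ := sqRR.exists_lift (𝟙 _) (𝟙 _) rfl
    obtain ⟨d, rfl⟩ := (yon S).map_surjective d'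
    have e : d ≫ (r₁ ≫ e₁) = 𝟙 _ := (yon S).map_injective (by simpa using hd1)
    refine ⟨fun y => ⟨d.left y, ?_⟩⟩
    rw [← Scheme.Hom.comp_apply, ← Over.comp_left, e]; rfl
  have hπe : RepWith @Etale π := Groth.Agent.S9884.result S _ _ _ π (hrepZ π) π _ _ _ sqππ @Etale
    ((repWith_yon_map_iff @Etale _).2 hpr₁)
  have hπs : RepWith @Surjective π := Groth.Agent.S9884.result S _ _ _ π (hrepZ π) π _ _ _ sqππ
    @Surjective ((repWith_yon_map_iff @Surjective _).2 hpr₁s)
  have hZ : IsAlgSpace Z :=
    ⟨Functor.relativelyRepresentable.diag_of_map_from_obj (fun T t => hrepZ t), ⟨P.pt, π, hπe, hπs⟩⟩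
  have hmapx : ∀ t, Points.map ι (Points.ofPt π t) = x := by
    intro t
    rw [Points.map_ofPt, hπι, Points.ofPt_toHom]
    exact hu
  refine ⟨⟨Z, hZ⟩, ObjectProperty.homMk ι, hιm, ?_, P.K, inferInstance, P.str, π, ?_, ?_, ?_⟩
  · apply Set.eq_singleton_iff_unique_mem.2
    constructor
    · exact ⟨Points.ofPt π (IsLocalRing.closedPoint P.K), hmapx _⟩
    · rintro _ ⟨z, rfl⟩
      obtain ⟨t, rfl⟩ := ofPt_surjective π hπs z
      exact hmapx t
  · intro U' V' a' b' h ha' hb' hw
    have : Etale h.left :=
      etale_of_comp_eq (a' ≫ π) b' h ((RepWith @Etale).comp_mem _ _ ha' hπe) hb' hw.symm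
    infer_instance
  · intro U' V' a' b' h ha' hb' hw
    have : Etale h.left :=
      etale_of_comp_eq (a' ≫ π) b' h ((RepWith @Etale).comp_mem _ _ ha' hπe) hb' hw.symm
    infer_instance
  · intro z
    obtain ⟨t, rfl⟩ := ofPt_surjective π hπs z
    refine ⟨Points.ofPt (𝟙 _) t, ?_⟩
    rw [Points.map_ofPt, Category.id_comp]

end Groth.Agent.Lib.Helper37.Residual
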