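import Mathlib
import Groth.Agent.Lib.Helper37.QuotField
import Groth.Agent.Lib.Helper37.Residual
import Groth.Agent.Lib.Helper23.AlgSpMono

/-!
# Theorem Q: a sheaf with an étale surjective cover by the spectrum of a field whose self fibre product
is quasi-compact is the spectrum of a field (helper37)

`iso_field_of_etale_surjective_of_compact`, `iso_field_of_quasiSeparated` (S10205).
-/

set_option autoImplicit false
universe u
open CategoryTheory CategoryTheory.Limits AlgebraicGeometry
open AlgSp
open Groth.Agent.Lib.Helper36.AlgSpCharts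
open Groth.Agent.Lib.Helper37.AlgSpPoints Groth.Agent.Lib.Helper37.AlgSpFibres
open Groth.Agent.Lib.Helper37.ClosedPoint Groth.Agent.Lib.Helper37.OnePoint
open Groth.Agent.Lib.Helper37.Residual

namespace Groth.Agent.Lib.Helper37.QuotField

variable {S : Scheme.{u}}

/-- A finite étale algebra over a field: étale affine schemes over a field have module-finite
coordinate ring. -/
theorem finite_of_etale_Spec {k : Type u} [Field k] {A : CommRingCat.{u}}
    (s : CommRingCat.of k ⟶ A) [Etale (Spec.map s)] : s.hom.Finite := by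
  have h1 : s.hom.Etale := (HasRingHomProperty.Spec_iff (P := @Etale)).1 inferInstance
  algebraize [s.hom]
  have : Algebra.Etale k A := h1
  have : Module.Finite k A := Algebra.FormallyUnramified.finite_of_free k A
  exact RingHom.finite_algebraMap.2 this

/-- The spectrum of a finite field extension is flat, locally of finite presentation, surjective. -/
theorem fppf_Spec_of_finite_field {k k' : Type u} [Field k] [Field k']
    (φ : CommRingCat.of k' ⟶ CommRingCat.of k) (hφ : φ.hom.Finite) :
    Flat (Spec.map φ) ∧ LocallyOfFinitePresentation (Spec.map φ) ∧ Surjective (Spec.map φ) := by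
  refine ⟨?_, ?_, ?_⟩
  · refine (HasRingHomProperty.Spec_iff (P := @Flat)).2 ?_
    algebraize [φ.hom]
    change Module.Flat k' k
    infer_instance
  · refine (HasRingHomProperty.Spec_iff (P := @LocallyOfFinitePresentation)).2 ?_
    exact RingHom.FinitePresentation.of_finiteType.1 hφ.finiteType
  · refine ⟨fun y => ⟨IsLocalRing.closedPoint k, Subsingleton.elim (α := PrimeSpectrum k') _ _⟩⟩

/-- **Theorem Q**: a sheaf `X` with a representable étale surjective `p : Spec k ⟶ X` such that
`Spec k ×_X Spec k` is quasi-compact is the spectrum of a field `k'`, `k/k'` finite separable. -/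
theorem iso_field_of_etale_surjective_of_compact {X : Sp S} (k : Type u) [Field k]
    (str : Spec (CommRingCat.of k) ⟶ S) (p : (yon S).obj (Over.mk str) ⟶ X)
    (hp : RepWith @Etale p) (hs : RepWith @Surjective p) {R : Over S} (a b : R ⟶ Over.mk str)
    (sq : IsPullback ((yon S).map a) ((yon S).map b) p p) [CompactSpace ↥R.left] :
    ∃ (k' : Type u) (_ : Field k') (str' : Spec (CommRingCat.of k') ⟶ S)
      (e : (yon S).obj (Over.mk str') ≅ X) (c : Over.mk str ⟶ Over.mk str'),
      (yon S).map c ≫ e.hom = p ∧ IsFinite c.left ∧ Etale c.left := by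
  have hb : Etale b.left := hp.property p _ _ sq
  have ha : Etale a.left := hp.property p _ _ sq.flip
  have hdisc : DiscreteTopology ↥R.left := @discreteTopology_of_etale_field k _ R.left a.left ha
  have hfinR : Finite ↥R.left := finite_of_compact_of_discrete
  have haff : IsAffine R.left := inferInstance
  -- nonempty
  obtain ⟨d', hd1, -⟩ := sq.exists_lift (𝟙 _) (𝟙 _) rfl
  obtain ⟨d, rfl⟩ := (yon S).map_surjective d'
  have hne : Nonempty ↥R.left := ⟨d.left (IsLocalRing.closedPoint k)⟩
  -- ring data
  let A : CommRingCat.{u} := Γ(R.left, ⊤)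
  let iso : R.left ≅ Spec A := R.left.isoSpec
  let s : CommRingCat.of k ⟶ A := Spec.preimage (iso.inv ≫ a.left)
  let t : CommRingCat.of k ⟶ A := Spec.preimage (iso.inv ≫ b.left)
  have hs' : Spec.map s = iso.inv ≫ a.left := Spec.map_preimage _
  have ht' : Spec.map t = iso.inv ≫ b.left := Spec.map_preimage _
  have hwa : a.left ≫ str = R.hom := Over.w a
  have hwb : b.left ≫ str = R.hom := Over.w b
  have hntA : Nontrivial A := by
    have : Nonempty ↥(Spec A) := ⟨iso.hom.base hne.some⟩
    exact (PrimeSpectrum.nonempty_iff_nontrivial).1 this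
  have hes : Etale (Spec.map s) := by rw [hs']; infer_instance
  have hfin : s.hom.Finite := finite_of_etale_Spec s
  -- T-points
  have hmono : ∀ {T : Scheme.{u}} (f g : T ⟶ Spec A), f ≫ Spec.map s = g ≫ Spec.map s →
      f ≫ Spec.map t = g ≫ Spec.map t → f = g := by
    intro T f g h1 h2
    rw [hs', ← Category.assoc, ← Category.assoc] at h1
    rw [ht', ← Category.assoc, ← Category.assoc] at h2
    let fO : Over.mk ((f ≫ iso.inv) ≫ R.hom) ⟶ R := Over.homMk (f ≫ iso.inv) rfl
    let gO : Over.mk ((f ≫ iso.inv) ≫ R.hom) ⟶ R := Over.homMk (g ≫ iso.inv) (by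
      change (g ≫ iso.inv) ≫ R.hom = (f ≫ iso.inv) ≫ R.hom
      rw [← hwa, ← Category.assoc, ← Category.assoc, h1])
    have e1 : fO ≫ a = gO ≫ a := Over.OverMorphism.ext h1
    have e2 : fO ≫ b = gO ≫ b := Over.OverMorphism.ext h2
    have e3 : (yon S).map fO = (yon S).map gO :=
      sq.hom_ext (by rw [← Functor.map_comp, ← Functor.map_comp, e1])
        (by rw [← Functor.map_comp, ← Functor.map_comp, e2])
    have e4 : fO = gO := (yon S).map_injective e3
    have e5 : f ≫ iso.inv = g ≫ iso.inv := congrArg (fun m => m.left) e4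
    exact (cancel_mono iso.inv).1 e5
  have htrans : ∀ {T : Scheme.{u}} (f₁ f₂ : T ⟶ Spec A), f₁ ≫ Spec.map t = f₂ ≫ Spec.map s →
      ∃ c : T ⟶ Spec A, c ≫ Spec.map s = f₁ ≫ Spec.map s ∧ c ≫ Spec.map t = f₂ ≫ Spec.map t := by
    intro T f₁ f₂ h
    rw [hs', ht', ← Category.assoc, ← Category.assoc] at h
    obtain ⟨w, hw⟩ : ∃ w, w = (f₁ ≫ iso.inv) ≫ R.hom := ⟨_, rfl⟩
    let f₁O : Over.mk w ⟶ R := Over.homMk (f₁ ≫ iso.inv) hw.symm
    let f₂O : Over.mk w ⟶ R := Over.homMk (f₂ ≫ iso.inv) (by
      change (f₂ ≫ iso.inv) ≫ R.hom = w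
      rw [hw]
      calc (f₂ ≫ iso.inv) ≫ R.hom = ((f₂ ≫ iso.inv) ≫ a.left) ≫ str := by
            rw [Category.assoc (f₂ ≫ iso.inv) a.left str, hwa]
        _ = ((f₁ ≫ iso.inv) ≫ b.left) ≫ str := by rw [h]
        _ = (f₁ ≫ iso.inv) ≫ R.hom := by rw [Category.assoc (f₁ ≫ iso.inv) b.left str, hwb])
    have e0 : f₁O ≫ b = f₂O ≫ a := Over.OverMorphism.ext h
    obtain ⟨l', hl1, hl2⟩ := sq.exists_lift ((yon S).map (f₁O ≫ a)) ((yon S).map (f₂O ≫ b)) (by
      calc (yon S).map (f₁O ≫ a) ≫ p = (yon S).map f₁O ≫ (yon S).map a ≫ p := by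
            rw [Functor.map_comp, Category.assoc]
        _ = (yon S).map f₁O ≫ (yon S).map b ≫ p := by rw [sq.w]
        _ = (yon S).map (f₁O ≫ b) ≫ p := by rw [Functor.map_comp, Category.assoc]
        _ = (yon S).map (f₂O ≫ a) ≫ p := by rw [e0]
        _ = (yon S).map f₂O ≫ (yon S).map a ≫ p := by rw [Functor.map_comp, Category.assoc]
        _ = (yon S).map f₂O ≫ (yon S).map b ≫ p := by rw [sq.w]
        _ = (yon S).map (f₂O ≫ b) ≫ p := by rw [Functor.map_comp, Category.assoc])
    obtain ⟨l, rfl⟩ := (yon S).map_surjective l'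
    have e1 : l ≫ a = f₁O ≫ a := (yon S).map_injective (by simpa using hl1)
    have e2 : l ≫ b = f₂O ≫ b := (yon S).map_injective (by simpa using hl2)
    refine ⟨l.left ≫ iso.hom, ?_, ?_⟩
    · rw [hs', Category.assoc, iso.hom_inv_id_assoc, ← Category.assoc]
      exact congrArg (fun m => m.left) e1
    · rw [ht', Category.assoc, iso.hom_inv_id_assoc, ← Category.assoc]
      exact congrArg (fun m => m.left) e2
  obtain ⟨k', _, φ, hφfin, hφ, hpb, hlift⟩ := isPullback_Spec_eqSubfield A s t hfin hmono htrans
  -- structure morphism of Spec k'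
  let x₀ : ↥S := str (IsLocalRing.closedPoint k)
  let ψ : S.residueField x₀ ⟶ CommRingCat.of k := S.descResidueField (Scheme.stalkClosedPointTo str)
  have hψ : Spec.map ψ ≫ S.fromSpecResidueField x₀ = str :=
    Scheme.descResidueField_stalkClosedPointTo_fromSpecResidueField k S str
  have hψst : ψ ≫ s = ψ ≫ t := by
    apply Spec.map_injective
    rw [Spec.map_comp, Spec.map_comp, ← cancel_mono (S.fromSpecResidueField x₀), Category.assoc,
      Category.assoc, hψ, hs', ht', Category.assoc, Category.assoc, hwa, hwb]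
  obtain ⟨ψ', hψ'⟩ := hlift _ ψ hψst
  let str' : Spec (CommRingCat.of k') ⟶ S := Spec.map ψ' ≫ S.fromSpecResidueField x₀
  have hstr' : Spec.map φ ≫ str' = str := by
    change Spec.map φ ≫ Spec.map ψ' ≫ _ = _
    rw [← Category.assoc, ← Spec.map_comp, hψ', hψ]
  let q : Over.mk str ⟶ Over.mk str' := Over.homMk (Spec.map φ) hstr'
  -- the pullback square in Over S
  have hpbS : IsPullback a.left b.left q.left q.left := by
    refine hpb.of_iso iso.symm (Iso.refl _) (Iso.refl _) (Iso.refl _) ?_ ?_ ?_ ?_
    · simp [hs']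
    · simp [ht']
    · simp [q]
    · simp [q]
  have hpbO : IsPullback a b q q :=
    IsPullback.of_map (Over.forget S) (Over.OverMorphism.ext hpbS.w) hpbS
  have sqq : IsPullback ((yon S).map a) ((yon S).map b) ((yon S).map q) ((yon S).map q) :=
    hpbO.map (yon S)
  -- effective epis
  have hepi_p : Epi p := Groth.Agent.Lib.Helper23.AlgSpMor.epi_of_etale_surjective p hp hs
  obtain ⟨hq1, hq2, hq3⟩ := fppf_Spec_of_finite_field φ hφfin
  have hlsq : Sheaf.IsLocallySurjective ((yon S).map q) :=
    Groth.Agent.S9885.result S _ _ ((yon S).map q) ((repWith_yon_map_iff @Flat q).2 hq1)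
      ((repWith_yon_map_iff @LocallyOfFinitePresentation q).2 hq2)
      ((repWith_yon_map_iff @Surjective q).2 hq3)
  have hepi_q : Epi ((yon S).map q) := inferInstance
  have := effectiveEpi_of_epi p
  have := effectiveEpi_of_epi ((yon S).map q)
  obtain ⟨e, he⟩ := exists_iso_of_same_kernelPair ((yon S).map q) p _ _ sqq sq
  have hqe : Etale q.left := by
    refine (repWith_yon_map_iff @Etale q).1 ?_
    have : (yon S).map q = p ≫ e.inv := by rw [← he, Category.assoc, e.hom_inv_id, Category.comp_id]
    rw [this]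
    exact MorphismProperty.RespectsIso.postcomp _ _ _ hp
  refine ⟨k', inferInstance, str', e, q, he, ?_, hqe⟩
  exact Groth.Agent.Lib.Helper37.DecentField.isFinite_of_etale_field (K := k') (k := k) q.left

/-- Any morphism from the spectrum of a field is affine. -/
theorem isAffineHom_of_field {k : Type u} [Field k] (str : Spec (CommRingCat.of k) ⟶ S) :
    IsAffineHom str := by
  refine ⟨fun U _ => IsAffineOpen.of_subsingleton ?_⟩
  intro x _ y _
  exact Subsingleton.elim (α := PrimeSpectrum k) x y

/-- `Spec k ×_S Spec k'` is quasi-compact. -/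
theorem compactSpace_prod_field {k k' : Type u} [Field k] [Field k'] (str : Spec (CommRingCat.of k) ⟶ S)
    (str' : Spec (CommRingCat.of k') ⟶ S) : CompactSpace ↥(Over.mk str ⨯ Over.mk str').left := by
  have := isAffineHom_of_field str
  have h2 : IsAffineHom (pullback.snd str str') := inferInstance
  have h3 : IsAffine (pullback str str') := isAffine_of_isAffineHom (pullback.snd str str')
  have hc : CompactSpace ↥(pullback (Over.mk str).hom (Over.mk str').hom) :=
    inferInstanceAs (CompactSpace ↥(pullback str str'))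
  exact (Over.prodLeftIsoPullback (Over.mk str) (Over.mk str')).hom.homeomorph.symm.compactSpace

/-- If the diagonal of `F` has `P`, then for every represented fibre product `R = K ×_F L` the morphism
`R ⟶ K ×_S L` has `P`. -/
theorem prop_prodLift_of_repWith_diag {P : MorphismProperty Scheme.{u}} {F : Sp S}
    (hd : RepWith P (Limits.diag F)) {K L R : Over S} (f : (yon S).obj K ⟶ F) (g : (yon S).obj L ⟶ F)
    (a : R ⟶ K) (b : R ⟶ L) (sq : IsPullback ((yon S).map a) ((yon S).map b) f g) :
    P (prod.lift a b).left := by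
  refine hd.property (prodComparison (yon S) K L ≫ prod.map f g) ((yon S).map a ≫ f) (prod.lift a b) ?_
  have hcomm : ((yon S).map a ≫ f) ≫ Limits.diag F =
      (yon S).map (prod.lift a b) ≫ prodComparison (yon S) K L ≫ prod.map f g := by
    apply Limits.prod.hom_ext
    · simp only [Category.assoc, Limits.diag, prod.lift_fst, prod.map_fst, Category.comp_id]
      rw [prodComparison_fst_assoc, ← Functor.map_comp_assoc, prod.lift_fst]
    · simp only [Category.assoc, Limits.diag, prod.lift_snd, prod.map_snd, Category.comp_id]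
      rw [prodComparison_snd_assoc, ← Functor.map_comp_assoc, prod.lift_snd, sq.w]
  have hjm : ∀ {W : Sp S} (m n : W ⟶ (yon S).obj (K ⨯ L)),
      m ≫ (yon S).map prod.fst = n ≫ (yon S).map prod.fst →
      m ≫ (yon S).map prod.snd = n ≫ (yon S).map prod.snd → m = n := by
    intro W m n h1 h2
    rw [← cancel_mono (prodComparison (yon S) K L)]
    apply Limits.prod.hom_ext
    · simpa [prodComparison_fst] using h1
    · simpa [prodComparison_snd] using h2
  refine ⟨⟨hcomm⟩, ⟨PullbackCone.IsLimit.mk _ (fun s => sq.lift (s.snd ≫ (yon S).map prod.fst)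
    (s.snd ≫ (yon S).map prod.snd) ?_) ?_ ?_ ?_⟩⟩
  · have h1 := congrArg (· ≫ prod.fst) s.condition
    have h2 := congrArg (· ≫ prod.snd) s.condition
    simp only [Category.assoc, Limits.diag, prod.lift_fst, prod.lift_snd, prod.map_fst, prod.map_snd,
      Category.comp_id, prodComparison_fst_assoc, prodComparison_snd_assoc] at h1 h2
    rw [Category.assoc, Category.assoc, ← h1, ← h2]
  · intro s
    have h1 := congrArg (· ≫ prod.fst) s.condition
    simp only [Category.assoc, Limits.diag, prod.lift_fst, prod.map_fst,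
      Category.comp_id, prodComparison_fst_assoc] at h1
    rw [← Category.assoc, sq.lift_fst, Category.assoc, ← h1]
  · intro s
    have e1 : (yon S).map (prod.lift a b) ≫ (yon S).map prod.fst = (yon S).map a := by
      rw [← Functor.map_comp, prod.lift_fst]
    have e2 : (yon S).map (prod.lift a b) ≫ (yon S).map prod.snd = (yon S).map b := by
      rw [← Functor.map_comp, prod.lift_snd]
    apply hjm
    · exact (Category.assoc _ _ _).trans ((congrArg _ e1).trans (sq.lift_fst _ _ _))
    · exact (Category.assoc _ _ _).trans ((congrArg _ e2).trans (sq.lift_snd _ _ _))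
  · intro s m h1 h2
    have e1 : (yon S).map (prod.lift a b) ≫ (yon S).map prod.fst = (yon S).map a := by
      rw [← Functor.map_comp, prod.lift_fst]
    have e2 : (yon S).map (prod.lift a b) ≫ (yon S).map prod.snd = (yon S).map b := by
      rw [← Functor.map_comp, prod.lift_snd]
    apply sq.hom_ext
    · refine Eq.trans ?_ (sq.lift_fst _ _ _).symm
      rw [← h2, Category.assoc, e1]
    · refine Eq.trans ?_ (sq.lift_snd _ _ _).symm
      rw [← h2, Category.assoc, e2]

/-- S10205. -/
theorem iso_field_of_quasiSeparated {X : Sp S} (hX : IsQuasiSeparatedSp X) (k : Type u) [Field k]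
    (str : Spec (CommRingCat.of k) ⟶ S) (p : (yon S).obj (Over.mk str) ⟶ X)
    (hp : RepWith @Etale p) (hs : RepWith @Surjective p) :
    ∃ (k' : Type u) (_ : Field k') (str' : Spec (CommRingCat.of k') ⟶ S)
      (e : (yon S).obj (Over.mk str') ≅ X) (c : Over.mk str ⟶ Over.mk str'),
      (yon S).map c ≫ e.hom = p ∧ IsFinite c.left ∧ Etale c.left := by
  have hrep := hp.rep
  have sq := hrep.isPullback' p
  have hqc : QuasiCompact (prod.lift (hrep.fst' p) (hrep.snd p)).left :=
    prop_prodLift_of_repWith_diag hX p p _ _ sq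
  have := compactSpace_prod_field str str
  have : CompactSpace ↥(hrep.pullback p).left :=
    QuasiCompact.compactSpace_of_compactSpace (prod.lift (hrep.fst' p) (hrep.snd p)).left
  exact iso_field_of_etale_surjective_of_compact k str p hp hs _ _ sq

end Groth.Agent.Lib.Helper37.QuotField
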