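import Mathlib
import Groth.Agent.Lib.Helper37.QuotFieldSp

/-!
# Points represented by monomorphisms from spectra of fields (helper37)

`exists_residual_factorization`, `exists_mono_fieldPt_of_compact` (Prop K),
`isDecent_of_isQuasiSeparatedSp` (S10350).
-/

set_option autoImplicit false
universe u
open CategoryTheory CategoryTheory.Limits AlgebraicGeometry
open AlgSp
open Groth.Agent.Lib.Helper36.AlgSpCharts
open Groth.Agent.Lib.Helper37.AlgSpPoints Groth.Agent.Lib.Helper37.AlgSpFibres
open Groth.Agent.Lib.Helper37.ClosedPoint Groth.Agent.Lib.Helper37.OnePoint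
open Groth.Agent.Lib.Helper37.Residual Groth.Agent.Lib.Helper37.QuotField

namespace Groth.Agent.Lib.Helper37.DecentPoint

variable {S : Scheme.{u}}

/-- The residual space of `X` at the point of an étale chart: the image sheaf `Z` of
`Spec κ(u) ⟶ U ⟶ X` is an algebraic space, `π : Spec κ(u) ⟶ Z` is étale surjective and `Z ⟶ X` is a
monomorphism. -/
theorem exists_residual_factorization {X : Sp S} (hX : IsAlgSpace X) {U : Over S}
    (a : (yon S).obj U ⟶ X) (hae : RepWith @Etale a) (u : ↥U.left) :
    ∃ (Z : Sp S) (π : (yon S).obj (FieldPt.ofPt a u).pt ⟶ Z) (ι : Z ⟶ X),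
      π ≫ ι = (FieldPt.ofPt a u).toHom ∧ Mono ι ∧ RepWith @Etale π ∧ RepWith @Surjective π ∧
      IsAlgSpace Z := by
  let P : FieldPt X := FieldPt.ofPt a u
  let jO : P.pt ⟶ U := Over.homMk (U.left.fromSpecResidueField u) rfl
  have hP : P.toHom = (yon S).map jO ≫ a := FieldPt.toHom_ofPt a u
  let Z : Sp S := Sheaf.image P.toHom
  let π : (yon S).obj P.pt ⟶ Z := Sheaf.toImage P.toHom
  let ι : Z ⟶ X := Sheaf.imageι P.toHom
  have hπι : π ≫ ι = P.toHom := Sheaf.toImage_ι _
  have hιm : Mono ι := inferInstance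
  have hπls : Sheaf.IsLocallySurjective π := inferInstance
  have hrepZ : ∀ {T : Over S} (t : (yon S).obj T ⟶ Z), Representable t :=
    fun t => representable_of_comp_mono ι hX t
  have sqE := hae.rep.isPullback' P.toHom
  set E := hae.rep.pullback P.toHom
  set e₂ := hae.rep.fst' P.toHom
  set e₁ := hae.rep.snd P.toHom
  have he₁ : Etale e₁.left := hae.property_snd P.toHom
  have hEdisc : DiscreteTopology E.left := discreteTopology_of_etale_field (k := P.K) e₁.left
  have hEfield : ∀ w, IsField (E.left.presheaf.stalk w) := fun w =>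
    isField_stalk_of_formallyUnramified_over_field (K := P.K) e₁.left w
  have sqR0 := IsPullback.of_hasPullback e₂ jO
  set R := pullback e₂ jO
  set r₁ := pullback.fst e₂ jO
  set r₂ := pullback.snd e₂ jO
  have sqR : IsPullback ((yon S).map r₁) ((yon S).map r₂) ((yon S).map e₂) ((yon S).map jO) :=
    sqR0.map (yon S)
  have sqRS : IsPullback r₁.left r₂.left e₂.left jO.left := sqR0.map (Over.forget S)
  have hjm : Mono jO.left := inferInstanceAs (Mono (U.left.fromSpecResidueField u))
  have hr₁mono : Mono r₁.left :=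
    (MorphismProperty.monomorphisms Scheme.{u}).of_isPullback sqRS.flip hjm
  have hr₁flat : Flat r₁.left := flat_of_isField_stalk r₁.left hEfield
  have hr₁oi : IsOpenImmersion r₁.left := isOpenImmersion_of_flat_of_mono_of_discrete r₁.left
  have hpr₁ : Etale (r₁ ≫ e₁).left := by rw [Over.comp_left]; infer_instance
  have sqRR : IsPullback ((yon S).map (r₁ ≫ e₁)) ((yon S).map r₂) P.toHom P.toHom := by
    have := sqR.paste_horiz sqE.flip
    rw [← Functor.map_comp, ← hP] at this
    exact this
  have sqππ : IsPullback ((yon S).map r₂) ((yon S).map (r₁ ≫ e₁)) π π := by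
    refine (Groth.Agent.Lib.Helper23.AlgSpMor.isPullback_of_comp_mono ι ?_).flip
    rw [hπι]; exact sqRR
  have hpr₁s : Surjective (r₁ ≫ e₁).left := by
    obtain ⟨d', hd1, hd2⟩ := sqRR.exists_lift (𝟙 _) (𝟙 _) rfl
    obtain ⟨d, rfl⟩ := (yon S).map_surjective d'
    have e : d ≫ (r₁ ≫ e₁) = 𝟙 _ := (yon S).map_injective (by simpa using hd1)
    refine ⟨fun y => ⟨d.left y, ?_⟩⟩
    rw [← Scheme.Hom.comp_apply, ← Over.comp_left, e]; rfl
  have hπe : RepWith @Etale π := Groth.Agent.S9884.result S _ _ _ π (hrepZ π) π _ _ _ sqππ @Etale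
    ((repWith_yon_map_iff @Etale _).2 hpr₁)
  have hπs : RepWith @Surjective π := Groth.Agent.S9884.result S _ _ _ π (hrepZ π) π _ _ _ sqππ
    @Surjective ((repWith_yon_map_iff @Surjective _).2 hpr₁s)
  have hZ : IsAlgSpace Z :=
    ⟨Functor.relativelyRepresentable.diag_of_map_from_obj (fun T t => hrepZ t), ⟨P.pt, π, hπe, hπs⟩⟩
  exact ⟨Z, π, ι, hπι, hιm, hπe, hπs, hZ⟩

/-- **Prop K**: if `Spec κ(u) ×_X Spec κ(u)` is quasi-compact, the point of `X` under `u` is
represented by a monomorphism `Spec k' ⟶ X`, with `κ(u)/k'` finite separable. -/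
theorem exists_mono_fieldPt_of_compact {X : Sp S} (hX : IsAlgSpace X) {U : Over S}
    (a : (yon S).obj U ⟶ X) (hae : RepWith @Etale a) (u : ↥U.left) {R : Over S}
    (r₁ r₂ : R ⟶ (FieldPt.ofPt a u).pt)
    (sq : IsPullback ((yon S).map r₁) ((yon S).map r₂) (FieldPt.ofPt a u).toHom
      (FieldPt.ofPt a u).toHom) [CompactSpace ↥R.left] :
    ∃ (k' : Type u) (_ : Field k') (str' : Spec (CommRingCat.of k') ⟶ S)
      (m : (yon S).obj (Over.mk str') ⟶ X) (c : (FieldPt.ofPt a u).pt ⟶ Over.mk str'),
      Mono m ∧ (yon S).map c ≫ m = (FieldPt.ofPt a u).toHom ∧ IsFinite c.left ∧ Etale c.left := by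
  obtain ⟨Z, π, ι, hπι, hιm, hπe, hπs, hZ⟩ := exists_residual_factorization hX a hae u
  have sq' : IsPullback ((yon S).map r₁) ((yon S).map r₂) π π := by
    refine Groth.Agent.Lib.Helper23.AlgSpMor.isPullback_of_comp_mono ι ?_
    rw [hπι]; exact sq
  obtain ⟨k', _, str', e, c, hc, hcf, hce⟩ :=
    iso_field_of_etale_surjective_of_compact (FieldPt.ofPt a u).K (FieldPt.ofPt a u).str π hπe hπs
      r₁ r₂ sq'
  refine ⟨k', inferInstance, str', e.hom ≫ ι, c, inferInstance, ?_, hcf, hce⟩
  rw [← Category.assoc, hc, hπι]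

/-- A field point of a sheaf quasi-separated over `S` is quasi-compact. -/
theorem repWith_quasiCompact_fieldPt_of_isQuasiSeparatedSp {X : Sp S} (hX : IsQuasiSeparatedSp X)
    {k' : Type u} [Field k'] (str' : Spec (CommRingCat.of k') ⟶ S)
    (m : (yon S).obj (Over.mk str') ⟶ X) (hrep : Representable m) : RepWith @QuasiCompact m := by
  refine ⟨hrep, fun T W g fst snd sq => ?_⟩
  obtain ⟨f', rfl⟩ := (yon S).map_surjective fst
  have h1 : QuasiCompact (prod.lift f' snd).left := prop_prodLift_of_repWith_diag hX m g f' snd sq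
  have h2 : QuasiCompact (prod.snd : Over.mk str' ⨯ T ⟶ T).left := by
    rw [← Over.prodLeftIsoPullback_hom_snd]
    have := isAffineHom_of_field str'
    have : QuasiCompact (pullback.snd (Over.mk str').hom T.hom) :=
      inferInstanceAs (QuasiCompact (pullback.snd str' T.hom))
    infer_instance
  have h3 : snd.left = (prod.lift f' snd).left ≫ (prod.snd : Over.mk str' ⨯ T ⟶ T).left := by
    rw [← Over.comp_left, prod.lift_snd]
  change QuasiCompact snd.left
  rw [h3]
  infer_instance

/-- The field point attached to a morphism from the spectrum of a field. -/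
noncomputable def fieldPtOfHom {X : Sp S} {k' : Type u} [Field k'] (str' : Spec (CommRingCat.of k') ⟶ S)
    (m : (yon S).obj (Over.mk str') ⟶ X) : FieldPt X := ⟨k', str', (J S).uliftYonedaEquiv m⟩

theorem fieldPtOfHom_toHom {X : Sp S} {k' : Type u} [Field k'] (str' : Spec (CommRingCat.of k') ⟶ S)
    (m : (yon S).obj (Over.mk str') ⟶ X) : (fieldPtOfHom str' m).toHom = m :=
  Equiv.symm_apply_apply _ _

/-- The point of a field point `m` through which `Spec κ(u) ⟶ X` factors is the point under `u`. -/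
theorem mk_fieldPtOfHom_of_factor {X : Sp S} {U : Over S} (a : (yon S).obj U ⟶ X) (u : ↥U.left)
    {k' : Type u} [Field k'] (str' : Spec (CommRingCat.of k') ⟶ S)
    (m : (yon S).obj (Over.mk str') ⟶ X) (c : (FieldPt.ofPt a u).pt ⟶ Over.mk str')
    (hc : (yon S).map c ≫ m = (FieldPt.ofPt a u).toHom) :
    Points.mk (fieldPtOfHom str' m) = Points.ofPt a u := by
  let t : ↥(Spec (CommRingCat.of (FieldPt.ofPt a u).K)) := IsLocalRing.closedPoint _
  have h1 : Points.ofPt (FieldPt.ofPt a u).toHom t = Points.mk (FieldPt.ofPt a u) :=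
    Points.ofPt_toHom _ t
  have h2 : Points.ofPt ((yon S).map c ≫ m) t = Points.ofPt m (c.left t) := ofPt_map_comp c m t
  have h3 : Points.ofPt m (c.left t) = Points.mk (fieldPtOfHom str' m) :=
    (congrArg (fun f : (yon S).obj (Over.mk str') ⟶ X => Points.ofPt f (c.left t))
      (fieldPtOfHom_toHom str' m)).symm.trans (Points.ofPt_toHom (fieldPtOfHom str' m) (c.left t))
  calc Points.mk (fieldPtOfHom str' m) = Points.ofPt m (c.left t) := h3.symm
    _ = Points.ofPt ((yon S).map c ≫ m) t := h2.symm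
    _ = Points.ofPt (FieldPt.ofPt a u).toHom t := by rw [hc]
    _ = Points.mk (FieldPt.ofPt a u) := h1
    _ = Points.ofPt a u := rfl

/-- S10350: quasi-separated (over `S`) algebraic spaces are decent. -/
theorem isDecent_of_isQuasiSeparatedSp (X : Space S) (hX : IsQuasiSeparatedSp X.obj) :
    IsDecent X.obj := by
  intro x
  obtain ⟨U, a, hae, has⟩ := X.property.atlas
  obtain ⟨u, hu⟩ := ofPt_surjective a has x
  have hrep : Representable (FieldPt.ofPt a u).toHom := X.property.representable_from_yon _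
  have sq := hrep.isPullback' (FieldPt.ofPt a u).toHom
  have hqc : QuasiCompact (prod.lift (hrep.fst' (FieldPt.ofPt a u).toHom)
      (hrep.snd (FieldPt.ofPt a u).toHom)).left :=
    prop_prodLift_of_repWith_diag hX _ _ _ _ sq
  have := compactSpace_prod_field (FieldPt.ofPt a u).str (FieldPt.ofPt a u).str
  have : CompactSpace ↥(hrep.pullback (FieldPt.ofPt a u).toHom).left :=
    QuasiCompact.compactSpace_of_compactSpace (prod.lift (hrep.fst' (FieldPt.ofPt a u).toHom)
      (hrep.snd (FieldPt.ofPt a u).toHom)).left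
  obtain ⟨k', _, str', m, c, hm, hcm, -, -⟩ :=
    exists_mono_fieldPt_of_compact X.property a hae u _ _ sq
  refine ⟨fieldPtOfHom str' m, ?_, ?_, ?_⟩
  · rw [mk_fieldPtOfHom_of_factor a u str' m c hcm, hu]
  · rw [fieldPtOfHom_toHom]; exact hm
  · rw [fieldPtOfHom_toHom]
    exact repWith_quasiCompact_fieldPt_of_isQuasiSeparatedSp hX str' m
      (X.property.representable_from_yon m)

end Groth.Agent.Lib.Helper37.DecentPoint
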