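import Mathlib
import Groth.Agent.Lib.Helper37.DecentPoint
import Groth.Agent.Lib.Helper23.AlgSpQc2

/-!
# Quasi-separated algebraic spaces have quasi-sober spaces of points (helper37; S10201, S10452, S10199)

Elementary proof (no dense open subscheme needed):
* `exists_minimal_generalization`: minimal generalizations inside a closed subset of a quasi-sober `T0` space.
* `primeSpectrum_mem_of_mem_closure`, `mem_of_mem_closure_of_minimal`: in an affine scheme, a point minimal in a closed
  `W` and in the closure of `G ∩ W` (`G` quasi-compact open) lies in `G`.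
* `specializes_of_minimal`, `exists_isGenericPoint_of_chart`, `quasiSober_of_charts`: generic points of irreducible
  closed subsets of `|F|` from an affine étale chart `V` with `V ×_F V` quasi-compact.
* `compactSpace_pullback_of_isQuasiSeparatedSp`, `exists_affine_chart`, `quasiSober_of_isQuasiSeparatedSp`.
-/

set_option autoImplicit false
universe u
open CategoryTheory CategoryTheory.Limits AlgebraicGeometry Opposite TopologicalSpace

namespace Groth.Agent.Lib.Helper37.QsSober

/-- In a quasi-sober `T0` space, every point of a closed set `W` has a generalization in `W` which is minimal in `W`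
(the generic point of an irreducible component of `W`). -/
theorem exists_minimal_generalization {V : Type*} [TopologicalSpace V] [QuasiSober V] [T0Space V]
    {W : Set V} (hW : IsClosed W) {w₀ : V} (hw₀ : w₀ ∈ W) :
    ∃ w' ∈ W, w' ⤳ w₀ ∧ ∀ w'' ∈ W, w'' ⤳ w' → w'' = w' := by
  have hcl : Topology.IsClosedEmbedding (Subtype.val : W → V) := hW.isClosedEmbedding_subtypeVal
  have : QuasiSober W := hcl.quasiSober
  obtain ⟨ξ, hξ⟩ := QuasiSober.sober (isIrreducible_irreducibleComponent (x := (⟨w₀, hw₀⟩ : W)))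
    isClosed_irreducibleComponent
  refine ⟨ξ.1, ξ.2, ?_, ?_⟩
  · have h1 : ξ ⤳ (⟨w₀, hw₀⟩ : W) := by
      rw [specializes_iff_mem_closure, hξ.def]
      exact mem_irreducibleComponent
    exact h1.map continuous_subtype_val
  · intro w'' hw'' hs
    have hs' : (⟨w'', hw''⟩ : W) ⤳ ξ := Topology.IsInducing.subtypeVal.specializes_iff.1 hs
    have hsub : irreducibleComponent (⟨w₀, hw₀⟩ : W) ⊆ closure {(⟨w'', hw''⟩ : W)} := by
      rw [← hξ.def]
      exact closure_minimal (Set.singleton_subset_iff.2 (specializes_iff_mem_closure.1 hs')) isClosed_closure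
    have heq : closure {(⟨w'', hw''⟩ : W)} = irreducibleComponent (⟨w₀, hw₀⟩ : W) :=
      eq_irreducibleComponent isIrreducible_singleton.closure.isPreirreducible hsub
    have h2 : ξ ⤳ (⟨w'', hw''⟩ : W) := by
      rw [specializes_iff_mem_closure, hξ.def, ← heq]
      exact subset_closure rfl
    have := (hs'.antisymm h2).eq
    exact congrArg Subtype.val this

open PrimeSpectrum in
/-- **Key lemma** (prime spectrum): a point `q`, minimal in a closed set `W`, lying in the closure of `G ∩ W` for a
quasi-compact open `G`, lies in `G`. -/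
theorem primeSpectrum_mem_of_mem_closure {A : Type*} [CommRing A] {W G : Set (PrimeSpectrum A)}
    (hW : IsClosed W) (hG : IsCompact G) (hGo : IsOpen G) {q : PrimeSpectrum A}
    (hmin : ∀ p ∈ W, p ⤳ q → p = q) (hq : q ∈ closure (G ∩ W)) : q ∈ G := by
  obtain ⟨t, rfl⟩ := PrimeSpectrum.isCompact_isOpen_iff.1 ⟨hG, hGo⟩
  obtain ⟨I, rfl⟩ : ∃ I : Ideal A, W = zeroLocus I := (isClosed_iff_zeroLocus_ideal _).1 hW
  by_contra hqG
  have hqt : ∀ f ∈ t, f ∈ q.asIdeal := by
    simpa [Set.subset_def] using hqG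
  have key : ∀ f ∈ t, q ∉ closure ((basicOpen f : Set (PrimeSpectrum A)) ∩ zeroLocus I) := by
    intro f hf hqc
    by_cases hdisj : Disjoint (I : Set A) (Submonoid.powers f ⊔ q.asIdeal.primeCompl : Submonoid A)
    · obtain ⟨p, hp, hIp, hpM⟩ := Ideal.exists_le_prime_disjoint I _ hdisj
      have hfp : f ∉ p := fun h => Set.disjoint_left.1 hpM h
        (SetLike.le_def.1 le_sup_left (Submonoid.mem_powers f))
      have hpq : p ≤ q.asIdeal := by
        intro x hx
        by_contra hxq
        exact Set.disjoint_left.1 hpM hx (SetLike.le_def.1 le_sup_right hxq)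
      have h1 : (⟨p, hp⟩ : PrimeSpectrum A) = q :=
        hmin ⟨p, hp⟩ (by simpa using hIp) ((le_iff_specializes _ _).1 hpq)
      rw [← h1] at hqt
      exact hfp (hqt f hf)
    · rw [Set.not_disjoint_iff] at hdisj
      obtain ⟨x, hxI, hxM⟩ := hdisj
      obtain ⟨y, ⟨n, rfl⟩, s, hs, rfl⟩ := Submonoid.mem_sup.1 hxM
      have hsub : (basicOpen f : Set (PrimeSpectrum A)) ∩ zeroLocus I ⊆ zeroLocus {s} := by
        rintro p ⟨hpf, hpI⟩
        have h1 : f ^ n * s ∈ p.asIdeal := hpI hxI
        rcases p.2.mem_or_mem h1 with h | h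
        · exact absurd (p.2.mem_of_pow_mem n h) hpf
        · simpa using h
      have := closure_minimal hsub (isClosed_zeroLocus _) hqc
      exact hs (by simpa using this)
  have hunion : ((zeroLocus (t : Set A))ᶜ ∩ zeroLocus (I : Set A) : Set (PrimeSpectrum A)) =
      ⋃ f ∈ (t : Set A), ((basicOpen f : Set (PrimeSpectrum A)) ∩ zeroLocus I) := by
    ext p
    simp only [Set.mem_inter_iff, Set.mem_compl_iff, mem_zeroLocus, Set.subset_def, Set.mem_iUnion,
      exists_prop, SetLike.mem_coe, mem_basicOpen]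
    constructor
    · rintro ⟨h1, h2⟩
      push Not at h1
      obtain ⟨f, hf, hfp⟩ := h1
      exact ⟨f, hf, hfp, h2⟩
    · rintro ⟨f, hf, hfp, h2⟩
      exact ⟨fun h => hfp (h f hf), h2⟩
  rw [hunion, t.finite_toSet.closure_biUnion] at hq
  simp only [Set.mem_iUnion, exists_prop] at hq
  obtain ⟨f, hf, hqf⟩ := hq
  exact key f hf hqf

/-- **Key lemma** for affine schemes. -/
theorem mem_of_mem_closure_of_minimal {V : Scheme.{u}} [IsAffine V] {W G : Set ↥V}
    (hW : IsClosed W) (hG : IsCompact G) (hGo : IsOpen G) {q : ↥V}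
    (hmin : ∀ p ∈ W, p ⤳ q → p = q) (hq : q ∈ closure (G ∩ W)) : q ∈ G := by
  let e : ↥V ≃ₜ PrimeSpectrum Γ(V, ⊤) := Scheme.homeoOfIso V.isoSpec
  have h := primeSpectrum_mem_of_mem_closure (W := e '' W) (G := e '' G) (q := e q)
    (e.isClosed_image.2 hW) (hG.image e.continuous) (e.isOpen_image.2 hGo) ?_ ?_
  · exact (e.injective.mem_set_image).1 h
  · rintro _ ⟨p, hp, rfl⟩ hs
    rw [hmin p hp (e.isInducing.specializes_iff.1 hs)]
  · rw [← Set.image_inter e.injective, ← e.image_closure]
    exact Set.mem_image_of_mem _ hq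


open AlgSp Groth.Agent.Lib.Helper37.AlgSpPoints Groth.Agent.Lib.Helper37.AlgSpFibres
open Groth.Agent.Lib.Helper37.QuotField

variable {S : Scheme.{u}}

/-- For an affine étale chart `a : V ⟶ F` with quasi-compact `R = V ×_F V` and an irreducible closed `T ⊆ |F|`: if `w₁`
is minimal in the preimage of `T` and `w₂` is in that preimage, then `a(w₁) ⤳ a(w₂)`. -/
theorem specializes_of_minimal {F : Sp S} {V R : Over S} [IsAffine V.left] (a : (yon S).obj V ⟶ F)
    (ha : RepWith @Etale a) (s t : R ⟶ V) (hR : IsPullback ((yon S).map s) ((yon S).map t) a a)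
    [CompactSpace ↥R.left] {T : Set (Points F)} (hT : IsPreirreducible T) (hTc : IsClosed T)
    {w₁ w₂ : ↥V.left} (h₁ : Points.ofPt a w₁ ∈ T) (h₂ : Points.ofPt a w₂ ∈ T)
    (hmin : ∀ w ∈ Points.ofPt a ⁻¹' T, w ⤳ w₁ → w = w₁) :
    Points.ofPt a w₁ ⤳ Points.ofPt a w₂ := by
  rw [specializes_iff_forall_open]
  intro O hO h2O
  have hO' : IsOpen (Points.ofPt a ⁻¹' O) := hO.preimage (Points.continuous_ofPt a)
  obtain ⟨_, ⟨V'', hV'', rfl⟩, hwV, hVO⟩ :=
    V.left.isBasis_affineOpens.exists_subset_of_mem_open (show w₂ ∈ Points.ofPt a ⁻¹' O from h2O) hO'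
  have himop : IsOpen (Points.ofPt a '' (V'' : Set ↥V.left)) := isOpenMap_ofPt a ha _ V''.2
  have hGeq := preimage_image_ofPt hR (V'' : Set ↥V.left)
  have hGo : IsOpen (Points.ofPt a ⁻¹' (Points.ofPt a '' (V'' : Set ↥V.left))) :=
    himop.preimage (Points.continuous_ofPt a)
  have hGc : IsCompact (Points.ofPt a ⁻¹' (Points.ofPt a '' (V'' : Set ↥V.left))) := by
    rw [hGeq]
    have : QuasiCompact s.left := inferInstance
    exact (QuasiCompact.isCompact_preimage (f := s.left) _ V''.2 hV''.isCompact).image t.left.continuous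
  have hdense : T ⊆ closure (T ∩ Points.ofPt a '' (V'' : Set ↥V.left)) :=
    subset_closure_inter_of_isPreirreducible_of_isOpen hT himop ⟨_, h₂, w₂, hwV, rfl⟩
  have h3 : w₁ ∈ closure (Points.ofPt a ⁻¹' (Points.ofPt a '' (V'' : Set ↥V.left)) ∩ Points.ofPt a ⁻¹' T) := by
    have := (isOpenMap_ofPt a ha).preimage_closure_subset_closure_preimage (hdense h₁)
    rwa [Set.preimage_inter, Set.inter_comm] at this
  have h4 := mem_of_mem_closure_of_minimal (hTc.preimage (Points.continuous_ofPt a)) hGc hGo hmin h3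
  obtain ⟨v, hv, hvw⟩ := h4
  rw [← hvw]
  exact hVO hv

/-- An irreducible closed subset of `|F|` meeting the image of an affine étale chart with quasi-compact `V ×_F V` has a
generic point. -/
theorem exists_isGenericPoint_of_chart {F : Sp S} {V R : Over S} [IsAffine V.left] (a : (yon S).obj V ⟶ F)
    (ha : RepWith @Etale a) (s t : R ⟶ V) (hR : IsPullback ((yon S).map s) ((yon S).map t) a a)
    [CompactSpace ↥R.left] {T : Set (Points F)} (hT : IsIrreducible T) (hTc : IsClosed T)
    (hne : (T ∩ Set.range (Points.ofPt a)).Nonempty) : ∃ ξ, IsGenericPoint ξ T := by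
  have hWc : IsClosed (Points.ofPt a ⁻¹' T) := hTc.preimage (Points.continuous_ofPt a)
  obtain ⟨_, hzT, w₀, rfl⟩ := hne
  obtain ⟨w₁, hw₁, -, hmin⟩ := exists_minimal_generalization hWc (w₀ := w₀) hzT
  refine ⟨Points.ofPt a w₁, ?_⟩
  apply subset_antisymm
  · exact closure_minimal (Set.singleton_subset_iff.2 hw₁) hTc
  · have hdense : T ⊆ closure (T ∩ Set.range (Points.ofPt a)) :=
      subset_closure_inter_of_isPreirreducible_of_isOpen hT.2 (isOpenMap_ofPt a ha).isOpen_range
        ⟨_, hzT, w₀, rfl⟩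
    refine hdense.trans (closure_minimal ?_ isClosed_closure)
    rintro _ ⟨hz, w, rfl⟩
    obtain ⟨w₂, hw₂, hw₂s, -⟩ := exists_minimal_generalization hWc (w₀ := w) hz
    have h1 := specializes_of_minimal a ha s t hR hT.2 hTc hw₁ hw₂ hmin
    have h2 : Points.ofPt a w₂ ⤳ Points.ofPt a w := hw₂s.map (Points.continuous_ofPt a)
    exact specializes_iff_mem_closure.1 (h1.trans h2)

/-- If every point of `|X|` is in the image of an affine étale chart `V` with `V ×_X V` quasi-compact, `|X|` is
quasi-sober. -/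
theorem quasiSober_of_charts {F : Sp S}
    (h : ∀ x : Points F, ∃ (V R : Over S) (a : (yon S).obj V ⟶ F) (s t : R ⟶ V), IsAffine V.left ∧
      RepWith @Etale a ∧ IsPullback ((yon S).map s) ((yon S).map t) a a ∧ CompactSpace ↥R.left ∧
      x ∈ Set.range (Points.ofPt a)) : QuasiSober (Points F) := by
  refine ⟨fun {T} hT hTc => ?_⟩
  obtain ⟨x, hx⟩ := hT.1
  obtain ⟨V, R, a, s, t, hV, ha, hR, hRc, hxa⟩ := h x
  exact exists_isGenericPoint_of_chart a ha s t hR hT hTc ⟨x, hx, hxa⟩

/-- Over a quasi-separated base, the fibre product over a quasi-separated sheaf of two quasi-compact schemes is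
quasi-compact. -/
theorem compactSpace_pullback_of_isQuasiSeparatedSp [QuasiSeparatedSpace ↥S] {X : Sp S}
    (hX : IsQuasiSeparatedSp X) {K L R : Over S} [CompactSpace ↥K.left] [CompactSpace ↥L.left]
    (f : (yon S).obj K ⟶ X) (g : (yon S).obj L ⟶ X) (a : R ⟶ K) (b : R ⟶ L)
    (sq : IsPullback ((yon S).map a) ((yon S).map b) f g) : CompactSpace ↥R.left := by
  have h1 : QuasiCompact (prod.lift a b).left := prop_prodLift_of_repWith_diag hX f g a b sq
  have := Groth.Agent.Lib.Helper23.AlgSpMor.compactSpace_prod_left K L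
  exact QuasiCompact.compactSpace_of_compactSpace (prod.lift a b).left

/-- Affine étale charts through every point. -/
theorem exists_affine_chart (X : Space S) (x : Points X.obj) :
    ∃ (V : Over S) (a : (yon S).obj V ⟶ X.obj) (v : ↥V.left), IsAffine V.left ∧ RepWith @Etale a ∧
      Points.ofPt a v = x := by
  obtain ⟨U, p, hpe, hps⟩ := X.property.atlas
  obtain ⟨u, rfl⟩ := ofPt_surjective p hps x
  obtain ⟨_, ⟨U₀, hU₀, rfl⟩, huU₀, -⟩ :=
    U.left.isBasis_affineOpens.exists_subset_of_mem_open (Set.mem_univ u) isOpen_univ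
  exact ⟨openOver U U₀, _, ⟨u, huU₀⟩, hU₀, repWith_etale_restrict p hpe U₀, ofPt_restrict p U₀ ⟨u, huU₀⟩⟩

/-- The space of points of an algebraic space quasi-separated over a quasi-separated base is quasi-sober. -/
theorem quasiSober_of_isQuasiSeparatedSp [QuasiSeparatedSpace ↥S] (X : Space S)
    (hX : IsQuasiSeparatedSp X.obj) : QuasiSober (Points X.obj) := by
  apply quasiSober_of_charts
  intro x
  obtain ⟨V, a, v, hV, ha, rfl⟩ := exists_affine_chart X x
  have hrep : Representable a := X.property.representable_from_yon _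
  have sq := hrep.isPullback' a
  have : CompactSpace ↥V.left := inferInstance
  have hc : CompactSpace ↥(hrep.pullback a).left :=
    compactSpace_pullback_of_isQuasiSeparatedSp hX a a _ _ sq
  exact ⟨V, _, a, _, _, hV, ha, sq, hc, v, rfl⟩

end Groth.Agent.Lib.Helper37.QsSober
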