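import Mathlib
import Groth.Agent.Lib.Helper37.QsSober

/-!
# Codimension-0 points of quasi-separated algebraic spaces (helper37, S10452)

* `ringKrullDim_stalk_eq_zero_iff`: the local ring of a scheme at `u` is zero-dimensional iff `u` has no proper
  generalization.
* `hasAt_dim_zero_iff_generic`: for quasi-separated `X`, the local ring at `x` is zero-dimensional iff `x` is the generic
  point of an irreducible component of `|X|`.
-/

set_option autoImplicit false
universe u
open CategoryTheory CategoryTheory.Limits AlgebraicGeometry Opposite TopologicalSpace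

namespace Groth.Agent.Lib.Helper37.QsSober

open AlgSp Groth.Agent.Lib.Helper37.AlgSpPoints Groth.Agent.Lib.Helper37.AlgSpFibres
open Groth.Agent.Lib.Helper37.QuotField

variable {S : Scheme.{u}}

/-- The local ring of a scheme at `u` is zero-dimensional iff `u` has no proper generalization. -/
theorem ringKrullDim_stalk_eq_zero_iff {U : Scheme.{u}} (u : ↥U) :
    ringKrullDim ↥(U.presheaf.stalk u) = 0 ↔ ∀ u' : ↥U, u' ⤳ u → u' = u := by
  rw [← ringKrullDimZero_iff_ringKrullDim_eq_zero, Ring.krullDimLE_zero_iff]
  have hinj : Function.Injective (U.fromSpecStalk u) :=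
    (U.fromSpecStalk u).isEmbedding.injective
  constructor
  · intro h u' hu'
    have : u' ∈ Set.range (U.fromSpecStalk u) := by rw [Scheme.range_fromSpecStalk]; exact hu'
    obtain ⟨p, rfl⟩ := this
    have hp : p.asIdeal.IsMaximal := h _ p.2
    have : p = IsLocalRing.closedPoint _ := by
      apply PrimeSpectrum.ext
      exact IsLocalRing.eq_maximalIdeal hp
    rw [this, Scheme.fromSpecStalk_closedPoint]
  · intro h I hI
    have h1 : U.fromSpecStalk u ⟨I, hI⟩ ⤳ u := by
      have : U.fromSpecStalk u ⟨I, hI⟩ ∈ Set.range (U.fromSpecStalk u) := ⟨_, rfl⟩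
      rwa [Scheme.range_fromSpecStalk] at this
    have h2 := (h _ h1).trans (Scheme.fromSpecStalk_closedPoint (x := u)).symm
    have h3 := hinj h2
    have : I = IsLocalRing.maximalIdeal _ := congrArg PrimeSpectrum.asIdeal h3
    rw [this]
    infer_instance

/-- **S10452.** -/
theorem hasAt_dim_zero_iff_generic [QuasiSeparatedSpace ↥S] (X : Space S)
    (hqs : IsQuasiSeparatedSp X.obj) (x : Points X.obj) :
    HasAt (fun U u => ringKrullDim ↥(U.presheaf.stalk u) = 0) X.obj x ↔
      ∃ Z ∈ irreducibleComponents (Points X.obj), IsGenericPoint x Z := by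
  have hdec := Groth.Agent.Lib.Helper37.DecentPoint.isDecent_of_isQuasiSeparatedSp X hqs
  have hT0 := t0Space_points_of_isDecent X hdec
  have hsob := quasiSober_of_isQuasiSeparatedSp X hqs
  constructor
  · rintro ⟨U, a, u, ha, rfl, hdim⟩
    rw [ringKrullDim_stalk_eq_zero_iff] at hdim
    refine ⟨closure {Points.ofPt a u}, ⟨isIrreducible_singleton.closure, ?_⟩, isGenericPoint_closure⟩
    intro Y hY hsub
    have hY' : IsIrreducible (closure Y) := hY.closure
    obtain ⟨ξ, hξ⟩ := hsob.sober hY' isClosed_closure
    have hξx : ξ ⤳ Points.ofPt a u := by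
      rw [specializes_iff_mem_closure, hξ.def]
      exact subset_closure (hsub (subset_closure rfl))
    obtain ⟨q, hq, -, hqc⟩ := hdec ξ
    obtain ⟨u', hu's, hu'⟩ := exists_specializes_lift_of_qc_point _ ξ hξx q hq hqc a ha u rfl
    rw [hdim u' hu's] at hu'
    rw [hu', hξ.def]
    exact subset_closure
  · rintro ⟨Z, hZ, hx⟩
    obtain ⟨V, a, v, hV, ha, rfl⟩ := exists_affine_chart X x
    refine ⟨V, a, v, ha, rfl, ?_⟩
    change ringKrullDim ↥(V.left.presheaf.stalk v) = 0
    rw [ringKrullDim_stalk_eq_zero_iff]
    intro v' hv'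
    have h1 : Points.ofPt a v' ⤳ Points.ofPt a v := hv'.map (Points.continuous_ofPt a)
    have hsub : Z ⊆ closure {Points.ofPt a v'} := by
      rw [← hx.def]
      exact closure_minimal (Set.singleton_subset_iff.2 (specializes_iff_mem_closure.1 h1)) isClosed_closure
    have hle : closure {Points.ofPt a v'} ⊆ Z := hZ.2 isIrreducible_singleton.closure hsub
    have h2 : Points.ofPt a v ⤳ Points.ofPt a v' := by
      rw [specializes_iff_mem_closure, hx.def]
      exact hle (subset_closure rfl)
    have heq : Points.ofPt a v = Points.ofPt a v' := (h2.antisymm h1).eq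
    exact (eq_of_specializes_of_isDecent hdec a ha v v' heq hv').symm

end Groth.Agent.Lib.Helper37.QsSober
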