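import Mathlib
import Groth.Agent.Lib.Helper37.DecentPoint

/-!
# Quasi-compact field points (helper37)

`repWith_quasiCompact_of_comp_surjective`, `exists_mono_qc_of_qc` (S10361).
-/

set_option autoImplicit false
universe u
open CategoryTheory CategoryTheory.Limits AlgebraicGeometry
open AlgSp
open Groth.Agent.Lib.Helper36.AlgSpCharts
open Groth.Agent.Lib.Helper37.AlgSpPoints Groth.Agent.Lib.Helper37.AlgSpFibres
open Groth.Agent.Lib.Helper37.ClosedPoint Groth.Agent.Lib.Helper37.OnePoint
open Groth.Agent.Lib.Helper37.Residual Groth.Agent.Lib.Helper37.QuotField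

namespace Groth.Agent.Lib.Helper37.DecentPoint

variable {S : Scheme.{u}}

/-- If `f ≫ g` is quasi-compact and `f` is surjective then `g` is quasi-compact. -/
theorem quasiCompact_of_comp_surjective {X Y Z : Scheme.{u}} (f : X ⟶ Y) (g : Y ⟶ Z)
    [QuasiCompact (f ≫ g)] (hf : Function.Surjective f) : QuasiCompact g := by
  refine ⟨fun V hV hc => ?_⟩
  have h1 : IsCompact ((f ≫ g) ⁻¹' V) := QuasiCompact.isCompact_preimage (f := f ≫ g) V hV hc
  have h2 : g ⁻¹' V = f '' ((f ≫ g) ⁻¹' V) := by
    ext y
    constructor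
    · intro hy
      obtain ⟨x, rfl⟩ := hf y
      exact ⟨x, by simpa using hy, rfl⟩
    · rintro ⟨x, hx, rfl⟩
      simpa using hx
  rw [h2]
  exact h1.image f.continuous

/-- (L1) If `h_c ≫ f` is representable quasi-compact with `c` surjective, so is `f`. -/
theorem repWith_quasiCompact_of_comp_surjective {X : Sp S} {T T' : Over S} (c : T' ⟶ T)
    (hc : Function.Surjective c.left) (f : (yon S).obj T ⟶ X) (hrep : Representable f)
    (h : RepWith @QuasiCompact ((yon S).map c ≫ f)) : RepWith @QuasiCompact f := by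
  refine ⟨hrep, fun V W g fst snd sq => ?_⟩
  obtain ⟨fst', rfl⟩ := (yon S).map_surjective fst
  have sqW0 := IsPullback.of_hasPullback fst' c
  have sqW : IsPullback ((yon S).map (pullback.fst fst' c)) ((yon S).map (pullback.snd fst' c))
      ((yon S).map fst') ((yon S).map c) := sqW0.map (yon S)
  have big : IsPullback ((yon S).map (pullback.snd fst' c))
      ((yon S).map (pullback.fst fst' c) ≫ (yon S).map snd) ((yon S).map c ≫ f) g :=
    sqW.flip.paste_vert sq
  rw [← Functor.map_comp] at big
  have h1 : QuasiCompact (pullback.fst fst' c ≫ snd).left := h.property g _ _ big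
  have h2 : Function.Surjective (pullback.fst fst' c).left := by
    have sqS := sqW0.map (Over.forget S)
    have : Surjective c.left := ⟨hc⟩
    have : Surjective (pullback.fst fst' c).left :=
      MorphismProperty.of_isPullback (P := @Surjective) sqS.flip this
    exact this.surj
  rw [Over.comp_left] at h1
  exact quasiCompact_of_comp_surjective (pullback.fst fst' c).left snd.left h2

end Groth.Agent.Lib.Helper37.DecentPoint

namespace Groth.Agent.Lib.Helper37.DecentPoint

variable {S : Scheme.{u}}

/-- S10361: a quasi-compact field point can be replaced by a quasi-compact monomorphic one. -/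
theorem exists_mono_qc_of_qc (X : Space S) (q : FieldPt X.obj)
    (hq : RepWith @QuasiCompact q.toHom) :
    ∃ p : FieldPt X.obj, Points.mk p = Points.mk q ∧ Mono p.toHom ∧
      RepWith @QuasiCompact p.toHom := by
  obtain ⟨U, a, hae, has⟩ := X.property.atlas
  have sqE := hae.rep.isPullback' q.toHom
  set E := hae.rep.pullback q.toHom
  set e₂ := hae.rep.fst' q.toHom
  set e₁ := hae.rep.snd q.toHom
  have he₁s : Surjective e₁.left := has.property_snd q.toHom
  obtain ⟨w, hw⟩ := he₁s.surj (IsLocalRing.closedPoint q.K)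
  have hu : Points.ofPt a (e₂.left w) = Points.mk q := by
    have := (ofPt_eq_ofPt_iff sqE (e₂.left w) (e₁.left w)).2 ⟨w, rfl, rfl⟩
    rw [this, Points.ofPt_toHom]
  let jO : (FieldPt.ofPt a (e₂.left w)).pt ⟶ U :=
    Over.homMk (U.left.fromSpecResidueField (e₂.left w)) rfl
  have hP : (FieldPt.ofPt a (e₂.left w)).toHom = (yon S).map jO ≫ a := FieldPt.toHom_ofPt a _
  let W : Over S := Over.mk (E.left.fromSpecResidueField w ≫ E.hom)
  let jw : W ⟶ E := Over.homMk (E.left.fromSpecResidueField w) rfl
  have hres : Spec.map (e₂.left.residueFieldMap w) ≫ U.left.fromSpecResidueField (e₂.left w) =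
      E.left.fromSpecResidueField w ≫ e₂.left :=
    Scheme.Hom.SpecMap_residueFieldMap_fromSpecResidueField _ _
  let rO : W ⟶ (FieldPt.ofPt a (e₂.left w)).pt :=
    Over.homMk (Spec.map (e₂.left.residueFieldMap w)) (by
      change Spec.map _ ≫ U.left.fromSpecResidueField (e₂.left w) ≫ U.hom =
        E.left.fromSpecResidueField w ≫ E.hom
      rw [← Category.assoc, hres, Category.assoc, Over.w e₂])
  have hr : rO ≫ jO = jw ≫ e₂ := Over.OverMorphism.ext hres
  have hcomp : (yon S).map rO ≫ (FieldPt.ofPt a (e₂.left w)).toHom =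
      (yon S).map (jw ≫ e₁) ≫ q.toHom := by
    rw [hP, ← Functor.map_comp_assoc, hr, Functor.map_comp_assoc, sqE.w, ← Functor.map_comp_assoc]
  have hqc0 : QuasiCompact (jw ≫ e₁).left := by
    have := isAffineHom_of_field (k := E.left.residueField w) (jw ≫ e₁).left
    infer_instance
  have hqc1 : RepWith @QuasiCompact ((yon S).map (jw ≫ e₁) ≫ q.toHom) :=
    (RepWith @QuasiCompact).comp_mem _ _ ((repWith_yon_map_iff @QuasiCompact _).2 hqc0) hq
  have hrsurj : Function.Surjective rO.left := fun y =>
    ⟨IsLocalRing.closedPoint (E.left.residueField w),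
      Subsingleton.elim (α := PrimeSpectrum (U.left.residueField (e₂.left w))) _ _⟩
  have hPqc : RepWith @QuasiCompact (FieldPt.ofPt a (e₂.left w)).toHom :=
    repWith_quasiCompact_of_comp_surjective rO hrsurj _ (X.property.representable_from_yon _)
      (by rw [hcomp]; exact hqc1)
  have hrep := hPqc.rep
  have sq := hrep.isPullback' (FieldPt.ofPt a (e₂.left w)).toHom
  have hsndqc : QuasiCompact (hrep.snd (FieldPt.ofPt a (e₂.left w)).toHom).left :=
    hPqc.property_snd _
  have hcK : CompactSpace ↥(FieldPt.ofPt a (e₂.left w)).pt.left :=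
    inferInstanceAs (CompactSpace ↥(Spec (CommRingCat.of (FieldPt.ofPt a (e₂.left w)).K)))
  have : CompactSpace ↥(hrep.pullback (FieldPt.ofPt a (e₂.left w)).toHom).left :=
    QuasiCompact.compactSpace_of_compactSpace (hrep.snd (FieldPt.ofPt a (e₂.left w)).toHom).left
  obtain ⟨k', _, str', m, c, hm, hcm, -, -⟩ :=
    exists_mono_fieldPt_of_compact X.property a hae (e₂.left w) _ _ sq
  refine ⟨fieldPtOfHom str' m, ?_, ?_, ?_⟩
  · rw [mk_fieldPtOfHom_of_factor a (e₂.left w) str' m c hcm, hu]
  · rw [fieldPtOfHom_toHom]; exact hm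
  · rw [fieldPtOfHom_toHom]
    refine repWith_quasiCompact_of_comp_surjective c ?_ m (X.property.representable_from_yon m)
      (by rw [hcm]; exact hPqc)
    intro y
    exact ⟨IsLocalRing.closedPoint _, Subsingleton.elim (α := PrimeSpectrum k') _ _⟩

end Groth.Agent.Lib.Helper37.DecentPoint
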