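import Mathlib
import Groth.Agent.Lib.Helper37.DecentPoint2

/-!
# Finite fibres over a point and quasi-compact monomorphic field points (helper37)

`quasiCompact_descendsAlong_fpqc`, `finite_fibres_of_qc_fieldPt`, `exists_mono_qc_of_finite_fibres`
(S10360).
-/

set_option autoImplicit false
universe u
open CategoryTheory CategoryTheory.Limits AlgebraicGeometry
open AlgSp
open Groth.Agent.Lib.Helper36.AlgSpCharts
open Groth.Agent.Lib.Helper37.AlgSpPoints Groth.Agent.Lib.Helper37.AlgSpFibres
open Groth.Agent.Lib.Helper37.ClosedPoint Groth.Agent.Lib.Helper37.OnePoint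
open Groth.Agent.Lib.Helper37.Residual Groth.Agent.Lib.Helper37.QuotField

namespace Groth.Agent.Lib.Helper37.DecentPoint

/-- Quasi-compactness descends along surjective quasi-compact base change. -/
instance quasiCompact_descendsAlong_fpqc :
    MorphismProperty.DescendsAlong (@QuasiCompact : MorphismProperty Scheme.{u})
      (@Surjective ⊓ @Flat ⊓ @QuasiCompact) := by
  constructor
  intro A X Y Z fst snd f g h hf hfst
  obtain ⟨⟨hs, -⟩, hqc⟩ := hf
  refine ⟨fun V hV hVc => ?_⟩
  have h1 : IsCompact (f ⁻¹' V) := hqc.isCompact_preimage V hV hVc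
  have h2 : IsCompact (fst ⁻¹' (f ⁻¹' V)) :=
    hfst.isCompact_preimage _ (hV.preimage f.continuous) h1
  have h3 := Scheme.image_preimage_eq_of_isPullback h (f ⁻¹' V)
  rw [Set.image_preimage_eq _ hs.surj] at h3
  rw [← h3]
  exact h2.image snd.continuous

example : MorphismProperty.DescendsAlong (@QuasiCompact : MorphismProperty Scheme.{u})
      (@Surjective ⊓ @Flat ⊓ @LocallyOfFinitePresentation) := inferInstance

end Groth.Agent.Lib.Helper37.DecentPoint

namespace Groth.Agent.Lib.Helper37.DecentPoint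

variable {S : Scheme.{u}}

/-- (4) ⇒ (1) of S10360: a quasi-compact field point over `x` forces finite fibres over `x` for
affine étale charts and their self fibre products. -/
theorem finite_fibres_of_qc_fieldPt (X : Space S) (x : Points X.obj) (p : FieldPt X.obj)
    (hpx : Points.mk p = x) (hpq : RepWith @QuasiCompact p.toHom)
    (U : Over S) (φ : (yon S).obj U ⟶ X.obj) (hU : IsAffine U.left) (hφ : RepWith @Etale φ)
    (R : Over S) (s t : R ⟶ U) (hR : IsPullback ((yon S).map t) ((yon S).map s) φ φ) :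
    (Points.ofPt φ ⁻¹' {x}).Finite ∧ (Points.ofPt ((yon S).map t ≫ φ) ⁻¹' {x}).Finite := by
  have hprep := hpq.rep
  have sqA := hprep.isPullback' φ
  set PU := hprep.pullback φ
  set e₁ := hprep.fst' φ
  set e₂ := hprep.snd φ
  have he₂qc : QuasiCompact e₂.left := hpq.property_snd φ
  have he₁et : Etale e₁.left := hφ.property p.toHom _ _ sqA.flip
  have hcPU : CompactSpace ↥PU.left := QuasiCompact.compactSpace_of_compactSpace e₂.left
  have hdPU : DiscreteTopology ↥PU.left :=
    @discreteTopology_of_etale_field p.K _ PU.left e₁.left he₁et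
  have hfPU : Finite ↥PU.left := finite_of_compact_of_discrete
  let t₀ : ↥(Spec (CommRingCat.of p.K)) := IsLocalRing.closedPoint p.K
  have hx : Points.ofPt p.toHom t₀ = x := by rw [Points.ofPt_toHom, hpx]
  constructor
  · refine (Set.finite_range e₂.left).subset ?_
    intro v hv
    have hv' : Points.ofPt φ v = x := hv
    have : Points.ofPt p.toHom t₀ = Points.ofPt φ v := by rw [hx, hv']
    obtain ⟨r, -, hr⟩ := (ofPt_eq_ofPt_iff sqA t₀ v).1 this
    exact ⟨r, hr⟩
  · have sqQ0 := IsPullback.of_hasPullback e₁ e₁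
    set Q := pullback e₁ e₁
    set q₁ := pullback.fst e₁ e₁
    set q₂ := pullback.snd e₁ e₁
    have sqQ : IsPullback ((yon S).map q₁) ((yon S).map q₂) ((yon S).map e₁) ((yon S).map e₁) :=
      sqQ0.map (yon S)
    have sqQS : IsPullback q₁.left q₂.left e₁.left e₁.left := sqQ0.map (Over.forget S)
    have hq₁et : Etale q₁.left := MorphismProperty.of_isPullback (P := @Etale) sqQS.flip he₁et
    have hQet : Etale (q₁ ≫ e₁).left := by rw [Over.comp_left]; infer_instance
    have hdQ : DiscreteTopology ↥Q.left :=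
      @discreteTopology_of_etale_field p.K _ Q.left (q₁ ≫ e₁).left hQet
    have he₁qc : QuasiCompact e₁.left := ⟨fun V _ _ => (Set.toFinite _).isCompact⟩
    have hq₁qc : QuasiCompact q₁.left :=
      MorphismProperty.of_isPullback (P := @QuasiCompact) sqQS.flip he₁qc
    have hcQ : CompactSpace ↥Q.left := QuasiCompact.compactSpace_of_compactSpace q₁.left
    have hfQ : Finite ↥Q.left := finite_of_compact_of_discrete
    have hcond : (yon S).map (q₁ ≫ e₂) ≫ φ = (yon S).map (q₂ ≫ e₂) ≫ φ := by
      rw [Functor.map_comp, Functor.map_comp, Category.assoc, Category.assoc, ← sqA.w,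
        ← Category.assoc, ← Category.assoc, sqQ.w]
    obtain ⟨l', hl1, hl2⟩ := hR.exists_lift _ _ hcond
    obtain ⟨l, rfl⟩ := (yon S).map_surjective l'
    have big : IsPullback ((yon S).map q₁) ((yon S).map q₂ ≫ (yon S).map e₂)
        ((yon S).map e₁ ≫ p.toHom) φ := sqQ.paste_vert sqA
    rw [sqA.w] at big
    have left : IsPullback ((yon S).map l) ((yon S).map q₁) ((yon S).map t) ((yon S).map e₂) := by
      refine IsPullback.of_right ?_ ?_ hR.flip
      · rw [hl2, Functor.map_comp]; exact big.flip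
      · rw [hl1, Functor.map_comp]
    have fin := (left.paste_vert sqA.flip).flip
    rw [← Functor.map_comp] at fin
    refine (Set.finite_range l.left).subset ?_
    intro r hr
    have hr' : Points.ofPt ((yon S).map t ≫ φ) r = x := hr
    have : Points.ofPt p.toHom t₀ = Points.ofPt ((yon S).map t ≫ φ) r := by rw [hx, hr']
    obtain ⟨z, -, hz⟩ := (ofPt_eq_ofPt_iff fin t₀ r).1 this
    exact ⟨z, hz⟩

end Groth.Agent.Lib.Helper37.DecentPoint

namespace Groth.Agent.Lib.Helper37.DecentPoint

variable {S : Scheme.{u}}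

/-- The chart of `X` given by an open subscheme of a chart. -/
noncomputable def openChart {U₀ : Over S} (V : U₀.left.Opens) : Over S := Over.mk (V.ι ≫ U₀.hom)

/-- The inclusion of the open chart. -/
noncomputable def openChartι {U₀ : Over S} (V : U₀.left.Opens) : openChart V ⟶ U₀ :=
  Over.homMk V.ι rfl

theorem repWith_etale_openChart {X : Sp S} {U₀ : Over S} (a₀ : (yon S).obj U₀ ⟶ X)
    (hae : RepWith @Etale a₀) (V : U₀.left.Opens) :
    RepWith @Etale ((yon S).map (openChartι V) ≫ a₀) := by
  refine (RepWith @Etale).comp_mem _ _ ((repWith_yon_map_iff @Etale _).2 ?_) hae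
  change Etale V.ι
  infer_instance

theorem ofPt_openChart {X : Sp S} {U₀ : Over S} (a₀ : (yon S).obj U₀ ⟶ X) (V : U₀.left.Opens)
    (v : ↥(openChart V).left) :
    Points.ofPt ((yon S).map (openChartι V) ≫ a₀) v = Points.ofPt a₀ ((openChartι V).left v) :=
  ofPt_map_comp _ _ _

/-- (1) ⇒ (4) of S10360. -/
theorem exists_mono_qc_of_finite_fibres (X : Space S) (x : Points X.obj)
    (H : ∀ (U : Over S) (φ : (yon S).obj U ⟶ X.obj), IsAffine U.left → RepWith @Etale φ →
        ∀ (R : Over S) (s t : R ⟶ U), IsPullback ((yon S).map t) ((yon S).map s) φ φ →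
          (Points.ofPt φ ⁻¹' {x}).Finite ∧ (Points.ofPt ((yon S).map t ≫ φ) ⁻¹' {x}).Finite) :
    ∃ p : FieldPt X.obj, Points.mk p = x ∧ Mono p.toHom ∧ RepWith @QuasiCompact p.toHom := by
  obtain ⟨U₀, a₀, hae, has⟩ := X.property.atlas
  obtain ⟨u₀, hu₀⟩ := ofPt_surjective a₀ has x
  obtain ⟨_, ⟨V, hV : IsAffineOpen V, rfl⟩, hu₀V, -⟩ :=
    U₀.left.isBasis_affineOpens.exists_subset_of_mem_open (a := u₀) (by trivial) isOpen_univ
  -- the affine chart
  let U : Over S := openChart V
  let φ : (yon S).obj U ⟶ X.obj := (yon S).map (openChartι V) ≫ a₀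
  have hφ : RepWith @Etale φ := repWith_etale_openChart a₀ hae V
  have hUaff : IsAffine U.left := hV
  let u : ↥U.left := ⟨u₀, hu₀V⟩
  have hu : Points.ofPt φ u = x := by
    rw [ofPt_openChart]
    exact hu₀
  have hφrep := hφ.rep
  have Rsq := hφrep.isPullback' φ
  obtain ⟨-, hfR⟩ := H U φ hUaff hφ _ _ _ Rsq
  set R := hφrep.pullback φ
  set t := hφrep.fst' φ
  set s := hφrep.snd φ
  -- the residue field point
  let jO : (FieldPt.ofPt φ u).pt ⟶ U := Over.homMk (U.left.fromSpecResidueField u) rfl
  have hP : (FieldPt.ofPt φ u).toHom = (yon S).map jO ≫ φ := FieldPt.toHom_ofPt φ u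
  have hjm : Mono jO := by
    have : Mono jO.left := inferInstanceAs (Mono (U.left.fromSpecResidueField u))
    exact (Over.forget S).mono_of_mono_map this
  have hPrep : Representable (FieldPt.ofPt φ u).toHom := X.property.representable_from_yon _
  have sq'' := hPrep.isPullback' (FieldPt.ofPt φ u).toHom
  set R'' := hPrep.pullback (FieldPt.ofPt φ u).toHom
  set r₁ := hPrep.fst' (FieldPt.ofPt φ u).toHom
  set r₂ := hPrep.snd (FieldPt.ofPt φ u).toHom
  have hcond : (yon S).map (r₁ ≫ jO) ≫ φ = (yon S).map (r₂ ≫ jO) ≫ φ := by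
    rw [Functor.map_comp, Functor.map_comp, Category.assoc, Category.assoc, ← hP, sq''.w]
  obtain ⟨ρ', hρ1, hρ2⟩ := Rsq.exists_lift _ _ hcond
  obtain ⟨ρ, rfl⟩ := (yon S).map_surjective ρ'
  have hρt : ρ ≫ t = r₁ ≫ jO := (yon S).map_injective (by simpa using hρ1)
  have hρs : ρ ≫ s = r₂ ≫ jO := (yon S).map_injective (by simpa using hρ2)
  have hρm : Mono ρ := by
    refine ⟨fun {T} g₁ g₂ h => ?_⟩
    have h1 : g₁ ≫ r₁ = g₂ ≫ r₁ := by
      rw [← cancel_mono jO, Category.assoc, Category.assoc, ← hρt, ← Category.assoc,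
        ← Category.assoc, h]
    have h2 : g₁ ≫ r₂ = g₂ ≫ r₂ := by
      rw [← cancel_mono jO, Category.assoc, Category.assoc, ← hρs, ← Category.assoc,
        ← Category.assoc, h]
    apply (yon S).map_injective
    apply sq''.hom_ext
    · rw [← Functor.map_comp, ← Functor.map_comp, h1]
    · rw [← Functor.map_comp, ← Functor.map_comp, h2]
  have hρml : Mono ρ.left := inferInstance
  have hρinj : Function.Injective ρ.left := ρ.left.injective
  have hfib : ∀ z : ↥R''.left, Points.ofPt ((yon S).map t ≫ φ) (ρ.left z) = x := by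
    intro z
    rw [ofPt_map_comp t φ, ← Scheme.Hom.comp_apply, ← Over.comp_left, hρt, Over.comp_left,
      Scheme.Hom.comp_apply, ← ofPt_map_comp jO φ, ← hP, Points.ofPt_toHom]
    exact hu
  have hfinR'' : Finite ↥R''.left := by
    have := hfR.to_subtype
    exact Finite.of_injective
      (fun z => (⟨ρ.left z, hfib z⟩ : ↥(Points.ofPt ((yon S).map t ≫ φ) ⁻¹' {x})))
      (fun z z' h => hρinj (congrArg Subtype.val h))
  have hcR'' : CompactSpace ↥R''.left := inferInstance
  obtain ⟨k', _, str', m, c, hm, hcm, -, -⟩ :=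
    exists_mono_fieldPt_of_compact X.property φ hφ u _ _ sq''
  have hmx : Points.mk (fieldPtOfHom str' m) = x := by
    rw [mk_fieldPtOfHom_of_factor φ u str' m c hcm, hu]
  refine ⟨fieldPtOfHom str' m, hmx, ?_, ?_⟩
  · rw [fieldPtOfHom_toHom]; exact hm
  rw [fieldPtOfHom_toHom]
  -- quasi-compactness, checked on the atlas
  have hmrep : Representable m := X.property.representable_from_yon m
  refine repWith_of_atlas m hmrep a₀ hae has ?_
  have sq₀ := hmrep.isPullback' a₀
  set P₀ := hmrep.pullback a₀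
  set n₁ := hmrep.fst' a₀
  set n₂ := hmrep.snd a₀
  have hn₂m : Mono n₂ := by
    have : Mono ((yon S).map n₂) := sq₀.mono_snd_of_mono
    exact (yon S).mono_of_mono_map this
  have hn₂ml : Mono n₂.left := inferInstance
  have hn₂inj : Function.Injective n₂.left := n₂.left.injective
  have hn₂x : ∀ z : ↥P₀.left, Points.ofPt a₀ (n₂.left z) = x := by
    intro z
    rw [← (ofPt_eq_ofPt_iff sq₀ (n₁.left z) (n₂.left z)).2 ⟨z, rfl, rfl⟩, ← hmx]
    have := Points.ofPt_toHom (fieldPtOfHom str' m) (n₁.left z)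
    rw [← this]
    exact congrArg (fun f : (yon S).obj (Over.mk str') ⟶ X.obj => Points.ofPt f (n₁.left z))
      (fieldPtOfHom_toHom str' m).symm
  rw [quasiCompact_iff_forall_isAffineOpen]
  intro V' hV'
  -- the fibre over `x` in the affine chart `V'` is finite
  have hφ' : RepWith @Etale ((yon S).map (openChartι V') ≫ a₀) := repWith_etale_openChart a₀ hae V'
  obtain ⟨hfV', -⟩ := H (openChart V') _ hV' hφ' _ _ _ (hφ'.rep.isPullback' _)
  have hfin2 : ({v : ↥U₀.left | v ∈ V' ∧ Points.ofPt a₀ v = x}).Finite := by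
    refine (hfV'.image (openChartι V').left).subset ?_
    rintro v ⟨hvV', hvx⟩
    refine ⟨⟨v, hvV'⟩, ?_, rfl⟩
    change Points.ofPt _ _ = x
    rw [ofPt_openChart]
    exact hvx
  refine Set.Finite.isCompact ?_
  refine Set.Finite.of_injOn (f := n₂.left) ?_ hn₂inj.injOn hfin2
  intro z hz
  exact ⟨hz, hn₂x z⟩

end Groth.Agent.Lib.Helper37.DecentPoint
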