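import Mathlib
import Groth.Agent.Lib.Helper37.DecentPoint3

/-!
# Permanence of decency (helper37)

`isDecent_of_isEtaleMor` (S10352).
-/

set_option autoImplicit false
universe u
open CategoryTheory CategoryTheory.Limits AlgebraicGeometry
open AlgSp
open Groth.Agent.Lib.Helper36.AlgSpCharts
open Groth.Agent.Lib.Helper37.AlgSpPoints Groth.Agent.Lib.Helper37.AlgSpFibres
open Groth.Agent.Lib.Helper37.ClosedPoint Groth.Agent.Lib.Helper37.OnePoint
open Groth.Agent.Lib.Helper37.Residual Groth.Agent.Lib.Helper37.QuotField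

namespace Groth.Agent.Lib.Helper37.DecentPoint

variable {S : Scheme.{u}}

/-- S10352: an algebraic space étale over a decent space is decent. -/
theorem isDecent_of_isEtaleMor {X Y : Space S} (f : X ⟶ Y) (hf : IsEtaleMor f.hom)
    (hY : IsDecent Y.obj) : IsDecent X.obj := by
  intro x
  refine exists_mono_qc_of_finite_fibres X x ?_
  intro U φ hU hφ R s t hR
  obtain ⟨p, hpy, -, hpq⟩ := hY (Points.map f.hom x)
  have hφ' : RepWith @Etale (φ ≫ f.hom) := hf φ hφ
  have R'sq := hφ'.rep.isPullback' (φ ≫ f.hom)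
  obtain ⟨h1, h2⟩ := finite_fibres_of_qc_fieldPt Y _ p hpy hpq U (φ ≫ f.hom) hU hφ' _ _ _ R'sq
  set R' := hφ'.rep.pullback (φ ≫ f.hom)
  set t' := hφ'.rep.fst' (φ ≫ f.hom)
  set s' := hφ'.rep.snd (φ ≫ f.hom)
  constructor
  · refine h1.subset ?_
    intro v hv
    change Points.ofPt (φ ≫ f.hom) v = Points.map f.hom x
    rw [← Points.map_ofPt]
    exact congrArg _ hv
  · obtain ⟨ρ', hρ1, hρ2⟩ := R'sq.exists_lift ((yon S).map t) ((yon S).map s) (by
      rw [← Category.assoc, ← Category.assoc, hR.w])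
    obtain ⟨ρ, rfl⟩ := (yon S).map_surjective ρ'
    have hρt : ρ ≫ t' = t := (yon S).map_injective (by simpa using hρ1)
    have hρs : ρ ≫ s' = s := (yon S).map_injective (by simpa using hρ2)
    have hρm : Mono ρ := by
      refine ⟨fun {T} g₁ g₂ h => ?_⟩
      apply (yon S).map_injective
      apply hR.hom_ext
      · rw [← Functor.map_comp, ← Functor.map_comp, ← hρt, ← Category.assoc, h, Category.assoc]
      · rw [← Functor.map_comp, ← Functor.map_comp, ← hρs, ← Category.assoc, h, Category.assoc]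
    have hρml : Mono ρ.left := inferInstance
    have hρinj : Function.Injective ρ.left := ρ.left.injective
    refine Set.Finite.of_injOn (f := ρ.left) ?_ hρinj.injOn h2
    intro r hr
    have hr' : Points.ofPt ((yon S).map t ≫ φ) r = x := hr
    change Points.ofPt ((yon S).map t' ≫ φ ≫ f.hom) (ρ.left r) = Points.map f.hom x
    rw [← ofPt_map_comp ρ ((yon S).map t' ≫ φ ≫ f.hom) r, ← Category.assoc ((yon S).map ρ),
      ← Functor.map_comp, hρt, ← Category.assoc, ← Points.map_ofPt, hr']

end Groth.Agent.Lib.Helper37.DecentPoint
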