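import Mathlib
import Groth.Agent.Lib.Helper37.DecentPerm

/-!
# Points represented by monomorphisms: further criteria (helper37)

`residualSpace_iso_field_iff` (S10414), `exists_image_factorization`,
`exists_mono_iff_exists_etale_qc_self_product` (S10409).
-/

set_option autoImplicit false
universe u
open CategoryTheory CategoryTheory.Limits AlgebraicGeometry
open AlgSp
open Groth.Agent.Lib.Helper36.AlgSpCharts
open Groth.Agent.Lib.Helper37.AlgSpPoints Groth.Agent.Lib.Helper37.AlgSpFibres
open Groth.Agent.Lib.Helper37.ClosedPoint Groth.Agent.Lib.Helper37.OnePoint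
open Groth.Agent.Lib.Helper37.Residual Groth.Agent.Lib.Helper37.QuotField

namespace Groth.Agent.Lib.Helper37.DecentPoint

variable {S : Scheme.{u}}

/-- The point of `X` defined by a morphism from the spectrum of a field. -/
theorem mk_fieldPtOfHom_eq_ofPt {X : Sp S} {k' : Type u} [Field k']
    (str' : Spec (CommRingCat.of k') ⟶ S) (m : (yon S).obj (Over.mk str') ⟶ X)
    (t : ↥(Spec (CommRingCat.of k'))) :
    Points.mk (fieldPtOfHom str' m) = Points.ofPt m t :=
  ((congrArg (fun f : (yon S).obj (Over.mk str') ⟶ X => Points.ofPt f t)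
      (fieldPtOfHom_toHom str' m)).symm.trans (Points.ofPt_toHom (fieldPtOfHom str' m) t)).symm

/-- The identity of the spectrum of a field is an fppf field point. -/
theorem fppf_fieldPt_id {k : Type u} [Field k] (str : Spec (CommRingCat.of k) ⟶ S) :
    LocP @LocallyOfFinitePresentation (𝟙 ((yon S).obj (Over.mk str))) ∧
      LocP @Flat (𝟙 ((yon S).obj (Over.mk str))) ∧
      IsSurjectiveMor (𝟙 ((yon S).obj (Over.mk str))) := by
  refine ⟨?_, ?_, fun z => ⟨z, Points.map_id z⟩⟩
  · intro U V a b h ha hb hw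
    have : Etale h.left := etale_of_comp_eq a b h ha hb (by rw [← hw, Category.comp_id])
    infer_instance
  · intro U V a b h ha hb hw
    have : Etale h.left := etale_of_comp_eq a b h ha hb (by rw [← hw, Category.comp_id])
    infer_instance

/-- S10414. -/
theorem residualSpace_iso_field_iff (X : Space S) (x : Points X.obj)
    {Z : Space S} (i : Z ⟶ X) [Mono i.hom] (hi : Set.range (Points.map i.hom) = {x})
    (hZ : ∃ (k : Type u) (_ : Field k) (str : Spec (CommRingCat.of k) ⟶ S)
      (p : (yon S).obj (Over.mk str) ⟶ Z.obj),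
        LocP @LocallyOfFinitePresentation p ∧ LocP @Flat p ∧ IsSurjectiveMor p) :
    (∃ (k : Type u) (_ : Field k) (str : Spec (CommRingCat.of k) ⟶ S),
        Nonempty (Z.obj ≅ (yon S).obj (Over.mk str))) ↔
      ∃ p : FieldPt X.obj, Points.mk p = x ∧ Mono p.toHom := by
  constructor
  · rintro ⟨k, _, str, ⟨e⟩⟩
    refine ⟨fieldPtOfHom str (e.inv ≫ i.hom), ?_, ?_⟩
    · rw [mk_fieldPtOfHom_eq_ofPt str _ (IsLocalRing.closedPoint k), ← Points.map_ofPt]
      have : Points.map i.hom (Points.ofPt e.inv (IsLocalRing.closedPoint k)) ∈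
          Set.range (Points.map i.hom) := ⟨_, rfl⟩
      rw [hi] at this
      exact this
    · rw [fieldPtOfHom_toHom]
      have : Mono i.hom := inferInstance
      exact mono_comp e.inv i.hom
  · rintro ⟨p, hpx, hpm⟩
    let Z' : Space S := ⟨(yon S).obj p.pt, IsAlgSpace.yon_obj _⟩
    let i' : Z' ⟶ X := ObjectProperty.homMk p.toHom
    have hi'm : Mono i'.hom := hpm
    have hi' : Set.range (Points.map i'.hom) = {x} := by
      apply Set.eq_singleton_iff_unique_mem.2
      constructor
      · refine ⟨Points.ofPt (𝟙 _) (IsLocalRing.closedPoint p.K), ?_⟩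
        change Points.map p.toHom _ = x
        rw [Points.map_ofPt, Category.id_comp, Points.ofPt_toHom, hpx]
      · rintro _ ⟨z, rfl⟩
        obtain ⟨t, rfl⟩ := (Points.schemeEquiv p.pt).surjective z
        change Points.map p.toHom (Points.ofPt (𝟙 _) t) = x
        rw [Points.map_ofPt, Category.id_comp, Points.ofPt_toHom, hpx]
    obtain ⟨e, -⟩ := residual_space_unique X x i i' hi hi' hZ
      ⟨p.K, inferInstance, p.str, 𝟙 _, fppf_fieldPt_id p.str⟩
    exact ⟨p.K, inferInstance, p.str, ⟨(ObjectProperty.ι _).mapIso e.symm⟩⟩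

end Groth.Agent.Lib.Helper37.DecentPoint

namespace Groth.Agent.Lib.Helper37.DecentPoint

variable {S : Scheme.{u}}

/-- Variant of `mk_fieldPtOfHom_of_factor` for an arbitrary field point. -/
theorem mk_fieldPtOfHom_of_factor' {X : Sp S} (q : FieldPt X)
    {k' : Type u} [Field k'] (str' : Spec (CommRingCat.of k') ⟶ S)
    (m : (yon S).obj (Over.mk str') ⟶ X) (c : q.pt ⟶ Over.mk str')
    (hc : (yon S).map c ≫ m = q.toHom) :
    Points.mk (fieldPtOfHom str' m) = Points.mk q := by
  let t : ↥(Spec (CommRingCat.of q.K)) := IsLocalRing.closedPoint _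
  rw [mk_fieldPtOfHom_eq_ofPt str' m (c.left t), ← ofPt_map_comp c m t, hc, Points.ofPt_toHom]

/-- The image sheaf of `q : h_K ⟶ X` whose self fibre product has an étale projection is an algebraic
space with `h_K ⟶ Z` étale surjective. -/
theorem exists_image_factorization {X : Sp S} (hX : IsAlgSpace X) {K R : Over S}
    (q : (yon S).obj K ⟶ X) (r₁ r₂ : R ⟶ K)
    (sq : IsPullback ((yon S).map r₁) ((yon S).map r₂) q q) (hr₁ : Etale r₁.left) :
    ∃ (Z : Sp S) (π : (yon S).obj K ⟶ Z) (ι : Z ⟶ X),
      π ≫ ι = q ∧ Mono ι ∧ RepWith @Etale π ∧ RepWith @Surjective π ∧ IsAlgSpace Z := by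
  let Z : Sp S := Sheaf.image q
  let π : (yon S).obj K ⟶ Z := Sheaf.toImage q
  let ι : Z ⟶ X := Sheaf.imageι q
  have hπι : π ≫ ι = q := Sheaf.toImage_ι _
  have hιm : Mono ι := inferInstance
  have hπls : Sheaf.IsLocallySurjective π := inferInstance
  have hrepZ : ∀ {T : Over S} (t : (yon S).obj T ⟶ Z), Representable t :=
    fun t => representable_of_comp_mono ι hX t
  have sqππ : IsPullback ((yon S).map r₂) ((yon S).map r₁) π π := by
    refine (Groth.Agent.Lib.Helper23.AlgSpMor.isPullback_of_comp_mono ι ?_).flip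
    rw [hπι]; exact sq
  have hr₁s : Surjective r₁.left := by
    obtain ⟨d', hd1, hd2⟩ := sq.exists_lift (𝟙 _) (𝟙 _) rfl
    obtain ⟨d, rfl⟩ := (yon S).map_surjective d'
    have e : d ≫ r₁ = 𝟙 _ := (yon S).map_injective (by simpa using hd1)
    refine ⟨fun y => ⟨d.left y, ?_⟩⟩
    rw [← Scheme.Hom.comp_apply, ← Over.comp_left, e]; rfl
  have hπe : RepWith @Etale π := Groth.Agent.S9884.result S _ _ _ π (hrepZ π) π _ _ _ sqππ @Etale
    ((repWith_yon_map_iff @Etale _).2 hr₁)
  have hπs : RepWith @Surjective π := Groth.Agent.S9884.result S _ _ _ π (hrepZ π) π _ _ _ sqππ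
    @Surjective ((repWith_yon_map_iff @Surjective _).2 hr₁s)
  have hZ : IsAlgSpace Z :=
    ⟨Functor.relativelyRepresentable.diag_of_map_from_obj (fun T t => hrepZ t), ⟨K, π, hπe, hπs⟩⟩
  exact ⟨Z, π, ι, hπι, hιm, hπe, hπs, hZ⟩

/-- S10409. -/
theorem exists_mono_iff_exists_etale_qc_self_product (X : Space S) (x : Points X.obj) :
    (∃ p : FieldPt X.obj, Points.mk p = x ∧ Mono p.toHom) ↔
      ∃ q : FieldPt X.obj, Points.mk q = x ∧
        ∀ (P : Sp S) (fst snd : P ⟶ (yon S).obj q.pt), IsPullback fst snd q.toHom q.toHom →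
          RepWith @Etale fst ∧ RepWith @QuasiCompact fst := by
  constructor
  · rintro ⟨p, hpx, hpm⟩
    refine ⟨p, hpx, fun P fst snd sq => ?_⟩
    have hk : IsKernelPair p.toHom fst snd := sq
    have : IsIso fst := hk.isIso_of_mono
    exact ⟨(RepWith @Etale).of_isIso fst, (RepWith @QuasiCompact).of_isIso fst⟩
  · rintro ⟨q, hqx, H⟩
    have hrep : Representable q.toHom := X.property.representable_from_yon _
    have sq := hrep.isPullback' q.toHom
    obtain ⟨h1, h2⟩ := H _ _ _ sq
    have hr₁e : Etale (hrep.fst' q.toHom).left := (repWith_yon_map_iff @Etale _).1 h1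
    have hr₁q : QuasiCompact (hrep.fst' q.toHom).left := (repWith_yon_map_iff @QuasiCompact _).1 h2
    have hcK : CompactSpace ↥q.pt.left :=
      inferInstanceAs (CompactSpace ↥(Spec (CommRingCat.of q.K)))
    have : CompactSpace ↥(hrep.pullback q.toHom).left :=
      QuasiCompact.compactSpace_of_compactSpace (hrep.fst' q.toHom).left
    obtain ⟨Z, π, ι, hπι, hιm, hπe, hπs, hZ⟩ :=
      exists_image_factorization X.property q.toHom _ _ sq hr₁e
    have sq' : IsPullback ((yon S).map (hrep.fst' q.toHom)) ((yon S).map (hrep.snd q.toHom)) π π := by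
      refine Groth.Agent.Lib.Helper23.AlgSpMor.isPullback_of_comp_mono ι ?_
      rw [hπι]; exact sq
    obtain ⟨k', _, str', e, c, hc, -, -⟩ :=
      iso_field_of_etale_surjective_of_compact q.K q.str π hπe hπs _ _ sq'
    refine ⟨fieldPtOfHom str' (e.hom ≫ ι), ?_, ?_⟩
    · rw [mk_fieldPtOfHom_of_factor' q str' (e.hom ≫ ι) c (by rw [← Category.assoc, hc, hπι]), hqx]
    · rw [fieldPtOfHom_toHom]
      exact mono_comp e.hom ι

end Groth.Agent.Lib.Helper37.DecentPoint
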