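import Mathlib
import Groth.Agent.Lib.Helper37.DecentPoint4

/-!
# Points represented by monomorphisms and finiteness of fibres of `R → U × U` (helper37)

`finite_fibre_over_pair_of_mono` (S10408), `isFinite_of_etale_of_finite`,
`finite_fibres_of_finite_pullback`, `finite_self_product_of_finite_fibre`,
`finite_fibres_iff_exists_mono_finite` (S10410).
-/

set_option autoImplicit false
universe u
open CategoryTheory CategoryTheory.Limits AlgebraicGeometry
open AlgSp
open Groth.Agent.Lib.Helper36.AlgSpCharts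
open Groth.Agent.Lib.Helper37.AlgSpPoints Groth.Agent.Lib.Helper37.AlgSpFibres
open Groth.Agent.Lib.Helper37.ClosedPoint Groth.Agent.Lib.Helper37.OnePoint
open Groth.Agent.Lib.Helper37.Residual Groth.Agent.Lib.Helper37.QuotField
open Groth.Agent.Lib.Helper37.AlgSpDecent

namespace Groth.Agent.Lib.Helper37.DecentPoint

variable {S : Scheme.{u}}

/-- S10408. -/
theorem finite_fibre_over_pair_of_mono (X : Space S) (x : Points X.obj)
    (hx : ∃ p : FieldPt X.obj, Points.mk p = x ∧ Mono p.toHom) {U : Over S}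
    (φ : (yon S).obj U ⟶ X.obj) (hφ : RepWith @Etale φ) (u u' : ↥U.left)
    (hu : Points.ofPt φ u = x) (hu' : Points.ofPt φ u' = x) :
    ∀ (R : Over S) (s t : R ⟶ U), IsPullback ((yon S).map t) ((yon S).map s) φ φ →
      {r : ↥R.left | s.left r = u ∧ t.left r = u'}.Finite := by
  obtain ⟨p, hpx, hpm⟩ := hx
  intro R s t hR
  have hprep : Representable p.toHom := X.property.representable_from_yon _
  obtain ⟨c, hc⟩ := exists_factor_of_mono_fieldPt p (FieldPt.ofPt φ u)
    (by rw [hpx]; exact hu.symm) hpm hprep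
  obtain ⟨c', hc'⟩ := exists_factor_of_mono_fieldPt p (FieldPt.ofPt φ u')
    (by rw [hpx]; exact hu'.symm) hpm hprep
  let jO : (FieldPt.ofPt φ u).pt ⟶ U := Over.homMk (U.left.fromSpecResidueField u) rfl
  let jO' : (FieldPt.ofPt φ u').pt ⟶ U := Over.homMk (U.left.fromSpecResidueField u') rfl
  have hP : (FieldPt.ofPt φ u).toHom = (yon S).map jO ≫ φ := FieldPt.toHom_ofPt φ u
  have hP' : (FieldPt.ofPt φ u').toHom = (yon S).map jO' ≫ φ := FieldPt.toHom_ofPt φ u'
  have sqW0 := IsPullback.of_hasPullback c' c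
  set W := pullback c' c
  set w₁ := pullback.fst c' c
  set w₂ := pullback.snd c' c
  have hcW : CompactSpace ↥W.left := by
    have sqWS : IsPullback w₁.left w₂.left c'.left c.left := sqW0.map (Over.forget S)
    have h1 : IsAffine (pullback c'.left c.left) :=
      inferInstanceAs (IsAffine (pullback (X := Spec _) (Y := Spec _) (Z := Spec _) c'.left c.left))
    have : CompactSpace ↥(pullback c'.left c.left) := inferInstance
    exact sqWS.isoPullback.hom.homeomorph.symm.compactSpace
  have hcond : (yon S).map (w₁ ≫ jO') ≫ φ = (yon S).map (w₂ ≫ jO) ≫ φ := by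
    rw [Functor.map_comp, Functor.map_comp, Category.assoc, Category.assoc, ← hP', ← hP, ← hc',
      ← hc, ← Category.assoc, ← Category.assoc, ← Functor.map_comp, ← Functor.map_comp, sqW0.w]
  obtain ⟨l', hl1, hl2⟩ := hR.exists_lift _ _ hcond
  obtain ⟨l, rfl⟩ := (yon S).map_surjective l'
  have hlt : l ≫ t = w₁ ≫ jO' := (yon S).map_injective (by simpa using hl1)
  have hls : l ≫ s = w₂ ≫ jO := (yon S).map_injective (by simpa using hl2)
  have het : Etale t.left := hφ.property φ _ _ hR.flip
  have hlqf := Groth.Agent.Lib.Helper37.EtaleFibres.locallyQuasiFinite_of_etale t.left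
  have hdisc := t.left.isDiscrete_preimage_singleton u'
  have hrange : Set.range l.left ⊆ t.left ⁻¹' {u'} := by
    rintro _ ⟨z, rfl⟩
    change t.left (l.left z) = u'
    rw [← Scheme.Hom.comp_apply, ← Over.comp_left, hlt, Over.comp_left, Scheme.Hom.comp_apply]
    exact Scheme.fromSpecResidueField_apply _ _
  have hfinrange : (Set.range l.left).Finite :=
    (isCompact_range l.left.continuous).finite (hdisc.mono hrange)
  refine hfinrange.subset ?_
  rintro r ⟨hrs, hrt⟩
  have sqM0 := IsPullback.of_hasPullback jO' t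
  set M := pullback jO' t
  set m₁ := pullback.fst jO' t
  set m₂ := pullback.snd jO' t
  have sqMS : IsPullback m₁.left m₂.left jO'.left t.left := sqM0.map (Over.forget S)
  obtain ⟨m, -, hm2⟩ := Scheme.exists_preimage_of_isPullback sqMS
    (IsLocalRing.closedPoint (U.left.residueField u')) r (by
      rw [hrt]; exact Scheme.fromSpecResidueField_apply _ _)
  have sqN0 := IsPullback.of_hasPullback (m₂ ≫ s) jO
  set N := pullback (m₂ ≫ s) jO
  set n₁ := pullback.fst (m₂ ≫ s) jO
  set n₂ := pullback.snd (m₂ ≫ s) jO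
  have sqNS : IsPullback n₁.left n₂.left (m₂ ≫ s).left jO.left := sqN0.map (Over.forget S)
  obtain ⟨n, hn1, -⟩ := Scheme.exists_preimage_of_isPullback sqNS m
    (IsLocalRing.closedPoint (U.left.residueField u)) (by
      rw [Over.comp_left, Scheme.Hom.comp_base, TopCat.comp_app]
      rw [hm2, hrs]; exact (Scheme.fromSpecResidueField_apply _ _).symm)
  have hν : (n₁ ≫ m₁) ≫ c' = n₂ ≫ c := by
    apply (yon S).map_injective
    rw [← cancel_mono p.toHom]
    calc (yon S).map ((n₁ ≫ m₁) ≫ c') ≫ p.toHom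
        = (yon S).map (n₁ ≫ m₁) ≫ ((yon S).map c' ≫ p.toHom) := by
          simp only [Functor.map_comp, Category.assoc]
      _ = (yon S).map (n₁ ≫ m₁) ≫ (yon S).map jO' ≫ φ := by rw [hc', hP']
      _ = (yon S).map ((n₁ ≫ m₁) ≫ jO') ≫ φ := by simp only [Functor.map_comp, Category.assoc]
      _ = (yon S).map ((n₁ ≫ m₂) ≫ t) ≫ φ := by rw [Category.assoc, sqM0.w, ← Category.assoc]
      _ = (yon S).map (n₁ ≫ m₂) ≫ (yon S).map t ≫ φ := by
          simp only [Functor.map_comp, Category.assoc]
      _ = (yon S).map (n₁ ≫ m₂) ≫ (yon S).map s ≫ φ := by rw [hR.w]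
      _ = (yon S).map (n₁ ≫ (m₂ ≫ s)) ≫ φ := by simp only [Functor.map_comp, Category.assoc]
      _ = (yon S).map (n₂ ≫ jO) ≫ φ := by rw [sqN0.w]
      _ = (yon S).map n₂ ≫ ((yon S).map jO ≫ φ) := by simp only [Functor.map_comp, Category.assoc]
      _ = (yon S).map n₂ ≫ ((yon S).map c ≫ p.toHom) := by rw [← hP, ← hc]
      _ = (yon S).map (n₂ ≫ c) ≫ p.toHom := by simp only [Functor.map_comp, Category.assoc]
  obtain ⟨ν, hν1, hν2⟩ := sqW0.exists_lift (n₁ ≫ m₁) n₂ hν
  have hνl : ν ≫ l = n₁ ≫ m₂ := by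
    apply (yon S).map_injective
    apply hR.hom_ext
    · rw [← Functor.map_comp, ← Functor.map_comp, Category.assoc, hlt, ← Category.assoc, hν1,
        Category.assoc, sqM0.w, Category.assoc]
    · rw [← Functor.map_comp, ← Functor.map_comp, Category.assoc, hls, ← Category.assoc, hν2,
        ← sqN0.w, Category.assoc]
  refine ⟨ν.left n, ?_⟩
  rw [← Scheme.Hom.comp_apply, ← Over.comp_left, hνl, Over.comp_left, Scheme.Hom.comp_apply]
  exact (congrArg m₂.left hn1).trans hm2

end Groth.Agent.Lib.Helper37.DecentPoint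

namespace Groth.Agent.Lib.Helper37.DecentPoint

variable {S : Scheme.{u}}

/-- A scheme étale over a field with finitely many points is finite over the field. -/
theorem isFinite_of_etale_of_finite {k : Type u} [Field k] {T : Scheme.{u}}
    (f : T ⟶ Spec (CommRingCat.of k)) [Etale f] [Finite ↥T] : IsFinite f := by
  have hd : DiscreteTopology ↥T := discreteTopology_of_etale_field (k := k) f
  have haff : IsAffine T := inferInstance
  let iso : T ≅ Spec Γ(T, ⊤) := T.isoSpec
  let s : CommRingCat.of k ⟶ Γ(T, ⊤) := Spec.preimage (iso.inv ≫ f)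
  have hs' : Spec.map s = iso.inv ≫ f := Spec.map_preimage _
  have hes : Etale (Spec.map s) := by rw [hs']; infer_instance
  have hfin : s.hom.Finite := finite_of_etale_Spec s
  have h1 : IsFinite (Spec.map s) := (IsFinite.SpecMap_iff s).2 hfin
  have h2 : f = iso.hom ≫ Spec.map s := by rw [hs', Iso.hom_inv_id_assoc]
  rw [h2]
  infer_instance

/-- Finite fibres over `x` from finiteness of `Spec k ×_X U` (generalizing
`finite_fibres_of_qc_fieldPt`). -/
theorem finite_fibres_of_finite_pullback (X : Space S) (x : Points X.obj) (p : FieldPt X.obj)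
    (hpx : Points.mk p = x) (hprep : Representable p.toHom)
    (U : Over S) (φ : (yon S).obj U ⟶ X.obj) (hφ : RepWith @Etale φ)
    (hfPU : Finite ↥(hprep.pullback φ).left)
    (R : Over S) (s t : R ⟶ U) (hR : IsPullback ((yon S).map t) ((yon S).map s) φ φ) :
    (Points.ofPt φ ⁻¹' {x}).Finite ∧ (Points.ofPt ((yon S).map t ≫ φ) ⁻¹' {x}).Finite := by
  have sqA := hprep.isPullback' φ
  set PU := hprep.pullback φ
  set e₁ := hprep.fst' φ
  set e₂ := hprep.snd φ
  have he₁et : Etale e₁.left := hφ.property p.toHom _ _ sqA.flip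
  let t₀ : ↥(Spec (CommRingCat.of p.K)) := IsLocalRing.closedPoint p.K
  have hx : Points.ofPt p.toHom t₀ = x := by rw [Points.ofPt_toHom, hpx]
  constructor
  · refine (Set.finite_range e₂.left).subset ?_
    intro v hv
    have hv' : Points.ofPt φ v = x := hv
    have : Points.ofPt p.toHom t₀ = Points.ofPt φ v := by rw [hx, hv']
    obtain ⟨r, -, hr⟩ := (ofPt_eq_ofPt_iff sqA t₀ v).1 this
    exact ⟨r, hr⟩
  · have sqQ0 := IsPullback.of_hasPullback e₁ e₁
    set Q := pullback e₁ e₁
    set q₁ := pullback.fst e₁ e₁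
    set q₂ := pullback.snd e₁ e₁
    have sqQ : IsPullback ((yon S).map q₁) ((yon S).map q₂) ((yon S).map e₁) ((yon S).map e₁) :=
      sqQ0.map (yon S)
    have sqQS : IsPullback q₁.left q₂.left e₁.left e₁.left := sqQ0.map (Over.forget S)
    have hq₁et : Etale q₁.left := MorphismProperty.of_isPullback (P := @Etale) sqQS.flip he₁et
    have hQet : Etale (q₁ ≫ e₁).left := by rw [Over.comp_left]; infer_instance
    have hdQ : DiscreteTopology ↥Q.left :=
      @discreteTopology_of_etale_field p.K _ Q.left (q₁ ≫ e₁).left hQet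
    have he₁qc : QuasiCompact e₁.left := ⟨fun V _ _ => (Set.toFinite _).isCompact⟩
    have hq₁qc : QuasiCompact q₁.left :=
      MorphismProperty.of_isPullback (P := @QuasiCompact) sqQS.flip he₁qc
    have hcQ : CompactSpace ↥Q.left := QuasiCompact.compactSpace_of_compactSpace q₁.left
    have hfQ : Finite ↥Q.left := finite_of_compact_of_discrete
    have hcond : (yon S).map (q₁ ≫ e₂) ≫ φ = (yon S).map (q₂ ≫ e₂) ≫ φ := by
      rw [Functor.map_comp, Functor.map_comp, Category.assoc, Category.assoc, ← sqA.w,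
        ← Category.assoc, ← Category.assoc, sqQ.w]
    obtain ⟨l', hl1, hl2⟩ := hR.exists_lift _ _ hcond
    obtain ⟨l, rfl⟩ := (yon S).map_surjective l'
    have big : IsPullback ((yon S).map q₁) ((yon S).map q₂ ≫ (yon S).map e₂)
        ((yon S).map e₁ ≫ p.toHom) φ := sqQ.paste_vert sqA
    rw [sqA.w] at big
    have left : IsPullback ((yon S).map l) ((yon S).map q₁) ((yon S).map t) ((yon S).map e₂) := by
      refine IsPullback.of_right ?_ ?_ hR.flip
      · rw [hl2, Functor.map_comp]; exact big.flip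
      · rw [hl1, Functor.map_comp]
    have fin := (left.paste_vert sqA.flip).flip
    rw [← Functor.map_comp] at fin
    refine (Set.finite_range l.left).subset ?_
    intro r hr
    have hr' : Points.ofPt ((yon S).map t ≫ φ) r = x := hr
    have : Points.ofPt p.toHom t₀ = Points.ofPt ((yon S).map t ≫ φ) r := by rw [hx, hr']
    obtain ⟨z, -, hz⟩ := (ofPt_eq_ofPt_iff fin t₀ r).1 this
    exact ⟨z, hz⟩

/-- Finiteness of `Spec κ(u) ×_X Spec κ(u)` from finiteness of the fibre of `|U ×_X U|` over the
point. -/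
theorem finite_self_product_of_finite_fibre {X : Sp S} {U : Over S} (φ : (yon S).obj U ⟶ X)
    (u : ↥U.left) {R : Over S} (s t : R ⟶ U)
    (Rsq : IsPullback ((yon S).map t) ((yon S).map s) φ φ)
    (hfR : (Points.ofPt ((yon S).map t ≫ φ) ⁻¹' {Points.ofPt φ u}).Finite)
    {R'' : Over S} (r₁ r₂ : R'' ⟶ (FieldPt.ofPt φ u).pt)
    (sq'' : IsPullback ((yon S).map r₁) ((yon S).map r₂) (FieldPt.ofPt φ u).toHom
      (FieldPt.ofPt φ u).toHom) : Finite ↥R''.left := by
  let jO : (FieldPt.ofPt φ u).pt ⟶ U := Over.homMk (U.left.fromSpecResidueField u) rfl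
  have hP : (FieldPt.ofPt φ u).toHom = (yon S).map jO ≫ φ := FieldPt.toHom_ofPt φ u
  have hjm : Mono jO := by
    have : Mono jO.left := inferInstanceAs (Mono (U.left.fromSpecResidueField u))
    exact (Over.forget S).mono_of_mono_map this
  have hcond : (yon S).map (r₁ ≫ jO) ≫ φ = (yon S).map (r₂ ≫ jO) ≫ φ := by
    rw [Functor.map_comp, Functor.map_comp, Category.assoc, Category.assoc, ← hP, sq''.w]
  obtain ⟨ρ', hρ1, hρ2⟩ := Rsq.exists_lift _ _ hcond
  obtain ⟨ρ, rfl⟩ := (yon S).map_surjective ρ'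
  have hρt : ρ ≫ t = r₁ ≫ jO := (yon S).map_injective (by simpa using hρ1)
  have hρs : ρ ≫ s = r₂ ≫ jO := (yon S).map_injective (by simpa using hρ2)
  have hρm : Mono ρ := by
    refine ⟨fun {T} g₁ g₂ h => ?_⟩
    have h1 : g₁ ≫ r₁ = g₂ ≫ r₁ := by
      rw [← cancel_mono jO, Category.assoc, Category.assoc, ← hρt, ← Category.assoc,
        ← Category.assoc, h]
    have h2 : g₁ ≫ r₂ = g₂ ≫ r₂ := by
      rw [← cancel_mono jO, Category.assoc, Category.assoc, ← hρs, ← Category.assoc,
        ← Category.assoc, h]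
    apply (yon S).map_injective
    apply sq''.hom_ext
    · rw [← Functor.map_comp, ← Functor.map_comp, h1]
    · rw [← Functor.map_comp, ← Functor.map_comp, h2]
  have hρml : Mono ρ.left := inferInstance
  have hρinj : Function.Injective ρ.left := ρ.left.injective
  have hfib : ∀ z : ↥R''.left,
      Points.ofPt ((yon S).map t ≫ φ) (ρ.left z) = Points.ofPt φ u := by
    intro z
    rw [ofPt_map_comp t φ, ← Scheme.Hom.comp_apply, ← Over.comp_left, hρt, Over.comp_left,
      Scheme.Hom.comp_apply, ← ofPt_map_comp jO φ, ← hP, Points.ofPt_toHom]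
    rfl
  have := hfR.to_subtype
  exact Finite.of_injective
    (fun z => (⟨ρ.left z, hfib z⟩ : ↥(Points.ofPt ((yon S).map t ≫ φ) ⁻¹' {Points.ofPt φ u})))
    (fun z z' h => hρinj (congrArg Subtype.val h))

/-- S10410. -/
theorem finite_fibres_iff_exists_mono_finite (X : Space S) (x : Points X.obj)
    {U : Over S} (φ : (yon S).obj U ⟶ X.obj) (hφ : RepWith @Etale φ) :
    (x ∈ Set.range (Points.ofPt φ) ∧ (Points.ofPt φ ⁻¹' {x}).Finite ∧
        ∀ (R : Over S) (s t : R ⟶ U), IsPullback ((yon S).map t) ((yon S).map s) φ φ →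
          (Points.ofPt ((yon S).map t ≫ φ) ⁻¹' {x}).Finite) ↔
      ∃ p : FieldPt X.obj, Points.mk p = x ∧ Mono p.toHom ∧
        ∀ (T : Over S) (c : T ⟶ p.pt) (snd : (yon S).obj T ⟶ (yon S).obj U),
          IsPullback ((yon S).map c) snd p.toHom φ → Nonempty ↥T.left ∧ IsFinite c.left := by
  constructor
  · rintro ⟨⟨u, rfl⟩, hfinU, hfinR⟩
    have Rsq := hφ.rep.isPullback' φ
    have hfR := hfinR _ _ _ Rsq
    have hPrep : Representable (FieldPt.ofPt φ u).toHom := X.property.representable_from_yon _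
    have sq'' := hPrep.isPullback' (FieldPt.ofPt φ u).toHom
    have hfinR'' : Finite ↥(hPrep.pullback (FieldPt.ofPt φ u).toHom).left :=
      finite_self_product_of_finite_fibre φ u _ _ Rsq hfR _ _ sq''
    have hcR'' : CompactSpace ↥(hPrep.pullback (FieldPt.ofPt φ u).toHom).left := inferInstance
    obtain ⟨k', _, str', m, c₀, hm, hcm, -, -⟩ :=
      exists_mono_fieldPt_of_compact X.property φ hφ u _ _ sq''
    have hmx : Points.mk (fieldPtOfHom str' m) = Points.ofPt φ u :=
      mk_fieldPtOfHom_of_factor φ u str' m c₀ hcm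
    refine ⟨fieldPtOfHom str' m, hmx, ?_, ?_⟩
    · rw [fieldPtOfHom_toHom]; exact hm
    · intro T c snd sq
      obtain ⟨e₂, rfl⟩ := (yon S).map_surjective snd
      have hx0 : Points.ofPt (fieldPtOfHom str' m).toHom (IsLocalRing.closedPoint k') =
          Points.ofPt φ u := by
        rw [Points.ofPt_toHom, hmx]
      obtain ⟨w, -, -⟩ := (ofPt_eq_ofPt_iff sq _ _).1 hx0
      have hce : Etale c.left := hφ.property _ _ _ sq.flip
      have he₂m : Mono e₂ := by
        have hmm : Mono (fieldPtOfHom str' m).toHom := by rw [fieldPtOfHom_toHom]; exact hm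
        have : Mono ((yon S).map e₂) := sq.mono_snd_of_mono
        exact (yon S).mono_of_mono_map this
      have he₂ml : Mono e₂.left := inferInstance
      have he₂inj : Function.Injective e₂.left := e₂.left.injective
      have hfib : ∀ z : ↥T.left, e₂.left z ∈ Points.ofPt φ ⁻¹' {Points.ofPt φ u} := by
        intro z
        change Points.ofPt φ (e₂.left z) = Points.ofPt φ u
        rw [← (ofPt_eq_ofPt_iff sq (c.left z) (e₂.left z)).2 ⟨z, rfl, rfl⟩, Points.ofPt_toHom, hmx]
      have hfinT : Finite ↥T.left := by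
        have := hfinU.to_subtype
        exact Finite.of_injective
          (fun z => (⟨e₂.left z, hfib z⟩ : ↥(Points.ofPt φ ⁻¹' {Points.ofPt φ u})))
          (fun z z' h => he₂inj (congrArg Subtype.val h))
      exact ⟨⟨w⟩, @isFinite_of_etale_of_finite k' _ T.left c.left hce hfinT⟩
  · rintro ⟨p, hpx, hpm, H⟩
    have hprep : Representable p.toHom := X.property.representable_from_yon _
    have sq := hprep.isPullback' φ
    obtain ⟨⟨w⟩, hcfin⟩ := H _ _ _ sq
    have hce : Etale (hprep.fst' φ).left := hφ.property p.toHom _ _ sq.flip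
    have hcK : CompactSpace ↥p.pt.left :=
      inferInstanceAs (CompactSpace ↥(Spec (CommRingCat.of p.K)))
    have hcT : CompactSpace ↥(hprep.pullback φ).left :=
      QuasiCompact.compactSpace_of_compactSpace (hprep.fst' φ).left
    have hfT : Finite ↥(hprep.pullback φ).left :=
      @finite_of_etale_over_field (hprep.pullback φ).left p.K _ (hprep.fst' φ).left hce hcT
    refine ⟨⟨(hprep.snd φ).left w, ?_⟩, ?_, ?_⟩
    · rw [← (ofPt_eq_ofPt_iff sq ((hprep.fst' φ).left w) ((hprep.snd φ).left w)).2 ⟨w, rfl, rfl⟩,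
        Points.ofPt_toHom, hpx]
    · exact (finite_fibres_of_finite_pullback X x p hpx hprep U φ hφ hfT _ _ _
        (hφ.rep.isPullback' φ)).1
    · intro R s t hR
      exact (finite_fibres_of_finite_pullback X x p hpx hprep U φ hφ hfT R s t hR).2

end Groth.Agent.Lib.Helper37.DecentPoint
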