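import Mathlib
import Groth.Agent.Lib.Helper37.DecentPoint5

/-!
# A finite fibre of `R → U × U` over one pair gives a monomorphism point (helper37)

`exists_mono_of_finite_fibre_over_pair` (S10407).
-/

set_option autoImplicit false
universe u
open CategoryTheory CategoryTheory.Limits AlgebraicGeometry
open AlgSp
open Groth.Agent.Lib.Helper36.AlgSpCharts
open Groth.Agent.Lib.Helper37.AlgSpPoints Groth.Agent.Lib.Helper37.AlgSpFibres
open Groth.Agent.Lib.Helper37.ClosedPoint Groth.Agent.Lib.Helper37.OnePoint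
open Groth.Agent.Lib.Helper37.Residual Groth.Agent.Lib.Helper37.QuotField
open Groth.Agent.Lib.Helper37.AlgSpDecent

namespace Groth.Agent.Lib.Helper37.DecentPoint

variable {S : Scheme.{u}}

/-- S10407. -/
theorem exists_mono_of_finite_fibre_over_pair (X : Space S) {U : Over S}
    (φ : (yon S).obj U ⟶ X.obj) (hφ : RepWith @Etale φ) (u u' : ↥U.left)
    (he : Points.ofPt φ u = Points.ofPt φ u')
    (hfin : ∀ (R : Over S) (s t : R ⟶ U), IsPullback ((yon S).map t) ((yon S).map s) φ φ →
          {r : ↥R.left | s.left r = u ∧ t.left r = u'}.Finite) :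
    ∃ p : FieldPt X.obj, Points.mk p = Points.ofPt φ u ∧ Mono p.toHom := by
  have hR := hφ.rep.isPullback' φ
  set R := hφ.rep.pullback φ
  set t := hφ.rep.fst' φ
  set s := hφ.rep.snd φ
  have hF := hfin R s t hR
  let jO : (FieldPt.ofPt φ u).pt ⟶ U := resPt u
  let jO' : (FieldPt.ofPt φ u').pt ⟶ U := resPt u'
  have hjO : Mono jO := mono_resPt u
  have hjO' : Mono jO' := mono_resPt u'
  have hP : (FieldPt.ofPt φ u).toHom = (yon S).map jO ≫ φ := FieldPt.toHom_ofPt φ u
  have hP' : (FieldPt.ofPt φ u').toHom = (yon S).map jO' ≫ φ := FieldPt.toHom_ofPt φ u'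
  have hPrep : Representable (FieldPt.ofPt φ u).toHom := X.property.representable_from_yon _
  -- `W = Spec κ(u') ×_X Spec κ(u)`
  have sqW := (hPrep.isPullback' (FieldPt.ofPt φ u').toHom).flip
  set W := hPrep.pullback (FieldPt.ofPt φ u').toHom
  set w₂ := hPrep.fst' (FieldPt.ofPt φ u').toHom
  set w₁ := hPrep.snd (FieldPt.ofPt φ u').toHom
  have hcond : (yon S).map (w₁ ≫ jO') ≫ φ = (yon S).map (w₂ ≫ jO) ≫ φ := by
    rw [Functor.map_comp, Functor.map_comp, Category.assoc, Category.assoc, ← hP', ← hP, sqW.w]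
  obtain ⟨l', hl1, hl2⟩ := hR.exists_lift _ _ hcond
  obtain ⟨l, rfl⟩ := (yon S).map_surjective l'
  have hlt : l ≫ t = w₁ ≫ jO' := (yon S).map_injective (by simpa using hl1)
  have hls : l ≫ s = w₂ ≫ jO := (yon S).map_injective (by simpa using hl2)
  have hlm : Mono l := by
    refine ⟨fun {T} a b hab => ?_⟩
    apply (yon S).map_injective
    apply sqW.hom_ext
    · rw [← Functor.map_comp, ← Functor.map_comp]
      congr 1
      rw [← cancel_mono jO', Category.assoc, Category.assoc, ← hlt, ← Category.assoc,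
        ← Category.assoc, hab]
    · rw [← Functor.map_comp, ← Functor.map_comp]
      congr 1
      rw [← cancel_mono jO, Category.assoc, Category.assoc, ← hls, ← Category.assoc,
        ← Category.assoc, hab]
  have hlinj : Function.Injective l.left := l.left.injective
  have hWfin : Finite ↥W.left := by
    rw [← Set.finite_univ_iff]
    refine Set.Finite.of_injOn (f := l.left) ?_ hlinj.injOn hF
    intro z _
    constructor
    · change s.left (l.left z) = u
      rw [← Scheme.Hom.comp_apply, ← Over.comp_left, hls, Over.comp_left, Scheme.Hom.comp_apply]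
      exact Scheme.fromSpecResidueField_apply _ _
    · change t.left (l.left z) = u'
      rw [← Scheme.Hom.comp_apply, ← Over.comp_left, hlt, Over.comp_left, Scheme.Hom.comp_apply]
      exact Scheme.fromSpecResidueField_apply _ _
  have hcW : CompactSpace ↥W.left := inferInstance
  -- a point of `W`
  obtain ⟨w, -, -⟩ : ∃ r : ↥W.left, w₁.left r = IsLocalRing.closedPoint (FieldPt.ofPt φ u').K ∧
      w₂.left r = IsLocalRing.closedPoint (FieldPt.ofPt φ u).K := by
    refine (ofPt_eq_ofPt_iff sqW _ _).1 ?_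
    rw [Points.ofPt_toHom, Points.ofPt_toHom]
    exact he.symm
  let jw := resPt w
  set Kp := Over.mk (W.left.fromSpecResidueField w ≫ W.hom) with hKp
  let a : Kp ⟶ (FieldPt.ofPt φ u').pt := jw ≫ w₁
  let b : Kp ⟶ (FieldPt.ofPt φ u).pt := jw ≫ w₂
  have hab : (yon S).map a ≫ (FieldPt.ofPt φ u').toHom = (yon S).map b ≫ (FieldPt.ofPt φ u).toHom := by
    simp only [a, b, Functor.map_comp, Category.assoc, sqW.w]
  -- `W_K = Spec K ×_{κ(u')} W`
  have sqV0 := IsPullback.of_hasPullback a w₁
  set V := pullback a w₁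
  set v₁ := pullback.fst a w₁
  set v₂ := pullback.snd a w₁
  have hw₁qc : QuasiCompact w₁.left := quasiCompact_of_finite _
  have hv₁qc : QuasiCompact v₁.left :=
    MorphismProperty.of_isPullback (P := @QuasiCompact) (sqV0.map (Over.forget S)).flip hw₁qc
  have hcK : CompactSpace ↥Kp.left :=
    inferInstanceAs (CompactSpace ↥(Spec (W.left.residueField w)))
  have hcV : CompactSpace ↥V.left := QuasiCompact.compactSpace_of_compactSpace v₁.left
  -- `G = Spec κ(u) ×_X Spec κ(u)`
  have sqG := hPrep.isPullback' (FieldPt.ofPt φ u).toHom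
  set G := hPrep.pullback (FieldPt.ofPt φ u).toHom
  set g₁ := hPrep.fst' (FieldPt.ofPt φ u).toHom
  set g₂ := hPrep.snd (FieldPt.ofPt φ u).toHom
  -- `V` is also `Spec K ×_X Spec κ(u)`
  have big : IsPullback ((yon S).map v₂ ≫ (yon S).map w₂) ((yon S).map v₁)
      (FieldPt.ofPt φ u).toHom ((yon S).map a ≫ (FieldPt.ofPt φ u').toHom) :=
    (sqV0.map (yon S)).flip.paste_horiz sqW.flip
  rw [hab] at big
  -- the map `V ⟶ G`
  obtain ⟨q', hq1, hq2⟩ := sqG.exists_lift ((yon S).map (v₂ ≫ w₂)) ((yon S).map (v₁ ≫ b)) (by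
    rw [Functor.map_comp, Functor.map_comp, Category.assoc]; exact big.w)
  obtain ⟨q, rfl⟩ := (yon S).map_surjective q'
  have hq1' : q ≫ g₁ = v₂ ≫ w₂ := (yon S).map_injective (by simpa using hq1)
  have hq2' : q ≫ g₂ = v₁ ≫ b := (yon S).map_injective (by simpa using hq2)
  have sqQ : IsPullback ((yon S).map q) ((yon S).map v₁) ((yon S).map g₂) ((yon S).map b) := by
    refine IsPullback.of_right (h₁₂ := (yon S).map g₁) ?_ ?_ sqG
    · rw [← Functor.map_comp, hq1', Functor.map_comp]; exact big
    · rw [← Functor.map_comp, ← Functor.map_comp, hq2']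
  have sqQS : IsPullback q.left v₁.left g₂.left b.left :=
    (isPullback_of_yon sqQ).map (Over.forget S)
  have hbsurj : Surjective b.left := by
    refine ⟨fun z => ⟨IsLocalRing.closedPoint (W.left.residueField w), ?_⟩⟩
    exact Subsingleton.elim (α := PrimeSpectrum (FieldPt.ofPt φ u).K) _ _
  have hqsurj : Surjective q.left :=
    MorphismProperty.of_isPullback (P := @Surjective) sqQS.flip hbsurj
  have hcG : CompactSpace ↥G.left := hqsurj.surj.compactSpace q.left.continuous
  obtain ⟨k', _, str', m, c, hm, hc, -, -⟩ :=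
    exists_mono_fieldPt_of_compact X.property φ hφ u g₁ g₂ sqG
  refine ⟨fieldPtOfHom str' m, mk_fieldPtOfHom_of_factor φ u str' m c hc, ?_⟩
  rw [fieldPtOfHom_toHom]
  exact hm

end Groth.Agent.Lib.Helper37.DecentPoint
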