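import Mathlib
import Groth.Agent.Lib.Helper37.DecentPoint6
import Groth.Agent.Lib.Helper23.AlgSpMor3
import Groth.Agent.Lib.Helper23.AlgSpDiag5
import Groth.Agent.Lib.Helper46.STLocal

/-!
# Decency descends along quasi-compact (étale) surjective morphisms (helper37)

`exists_surjective_of_cover` (covering `K ×_Y T` by `K ×_X V` for a chart `V` of `X ×_Y T`),
`repWith_quasiCompact_comp_of_isQuasiCompactMor`, `isDecent_of_quasiCompact_surjective` (S10384),
`exists_mono_of_quasiCompact_etale_surjective` (S10385).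
-/

set_option autoImplicit false
universe u
open CategoryTheory CategoryTheory.Limits AlgebraicGeometry
open AlgSp
open Groth.Agent.Lib.Helper36.AlgSpCharts
open Groth.Agent.Lib.Helper37.AlgSpPoints Groth.Agent.Lib.Helper37.AlgSpFibres
open Groth.Agent.Lib.Helper37.ClosedPoint Groth.Agent.Lib.Helper37.OnePoint
open Groth.Agent.Lib.Helper37.Residual Groth.Agent.Lib.Helper37.QuotField
open Groth.Agent.Lib.Helper37.AlgSpDecent

namespace Groth.Agent.Lib.Helper37.DecentPoint

variable {S : Scheme.{u}}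

/-- Covering a double fibre product: if `Z' = X ×_Y T`, `W = K ×_Y T`, `c : V ⟶ Z'` is a surjective
chart and `N = K ×_X V`, then `N ⟶ W` is surjective. -/
theorem exists_surjective_of_cover {X Y Z' : Sp S} {T K W V N : Over S} (f : X ⟶ Y)
    (t : (yon S).obj T ⟶ Y) (z₁ : Z' ⟶ X) (z₂ : Z' ⟶ (yon S).obj T) (sqZ : IsPullback z₁ z₂ f t)
    (k : (yon S).obj K ⟶ X) (w₁ : W ⟶ K) (w₂ : W ⟶ T)
    (sqW : IsPullback ((yon S).map w₁) ((yon S).map w₂) (k ≫ f) t)
    (c : (yon S).obj V ⟶ Z') (hc : RepWith @Surjective c) (n₁ : N ⟶ K) (n₂ : N ⟶ V)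
    (sqN : IsPullback ((yon S).map n₁) ((yon S).map n₂) k (c ≫ z₁)) :
    ∃ ν : N ⟶ W, Surjective ν.left ∧ ν ≫ w₁ = n₁ := by
  obtain ⟨ω, hω1, hω2⟩ := sqZ.exists_lift ((yon S).map w₁ ≫ k) ((yon S).map w₂) (by
    rw [Category.assoc]; exact sqW.w)
  have sqL : IsPullback ω ((yon S).map w₁) z₁ k :=
    IsPullback.of_right (by rw [hω2]; exact sqW.flip) hω1 sqZ.flip
  obtain ⟨ν', hν1, hν2⟩ := sqL.exists_lift ((yon S).map n₂ ≫ c) ((yon S).map n₁) (by
    rw [Category.assoc]; exact sqN.w.symm)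
  obtain ⟨ν, rfl⟩ := (yon S).map_surjective ν'
  have sqM : IsPullback ((yon S).map ν) ((yon S).map n₂) ω c :=
    IsPullback.of_right (by rw [hν2]; exact sqN) hν1 sqL.flip
  refine ⟨ν, hc.property ω _ _ sqM.flip, (yon S).map_injective (by simpa using hν2)⟩

/-- A representable quasi-compact morphism from a scheme followed by a quasi-compact morphism of
algebraic spaces is representable quasi-compact. -/
theorem repWith_quasiCompact_comp_of_isQuasiCompactMor {X Y : Sp S} (hY : IsAlgSpace Y) {K : Over S}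
    (k : (yon S).obj K ⟶ X) (hk : RepWith @QuasiCompact k) (f : X ⟶ Y)
    (hf : IsQuasiCompactMor f) : RepWith @QuasiCompact (k ≫ f) := by
  have hrep : Representable (k ≫ f) := hY.representable_from_yon _
  refine Groth.Agent.Lib.Helper23.AlgSpMor.repWith_of_affine @QuasiCompact _ hrep fun T hT t => ?_
  have sqW := hrep.isPullback' t
  refine ⟨hrep.pullback t, (yon S).map (hrep.fst' t), hrep.snd t, sqW, ?_⟩
  have sqZ := IsPullback.of_hasPullback f t
  have hZ' : IsQuasiCompactSp (pullback f t) :=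
    hf (IsAlgSpace.yon_obj T) (Groth.Agent.Lib.Helper23.AlgSpMor.isQuasiCompactSp_yon T) t _ _ sqZ
  obtain ⟨V, c, hce, hcs, hVc⟩ := hZ'
  have hVc' : CompactSpace ↥V.left := hVc
  have sqN := hk.rep.isPullback' (c ≫ pullback.fst f t)
  obtain ⟨ν, hν, -⟩ := exists_surjective_of_cover f t _ _ sqZ k _ _ sqW c hcs _ _ sqN
  have h1 : QuasiCompact (hk.rep.snd (c ≫ pullback.fst f t)).left := hk.property_snd _
  have h2 : CompactSpace ↥(hk.rep.pullback (c ≫ pullback.fst f t)).left :=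
    QuasiCompact.compactSpace_of_compactSpace (hk.rep.snd (c ≫ pullback.fst f t)).left
  have h3 : CompactSpace ↥(hrep.pullback t).left := hν.surj.compactSpace ν.left.continuous
  exact (HasAffineProperty.iff_of_isAffine (P := @QuasiCompact)).2 h3

/-- S10384. -/
theorem isDecent_of_quasiCompact_surjective {X Y : Space S} (f : X ⟶ Y)
    (hq : IsQuasiCompactMor f.hom) (hs : IsSurjectiveMor f.hom)
    (hX : IsDecent X.obj) : IsDecent Y.obj := by
  intro y
  obtain ⟨x, rfl⟩ := hs y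
  obtain ⟨p, rfl, -, hpq⟩ := hX x
  have hq' : RepWith @QuasiCompact (p.map f.hom).toHom := by
    rw [FieldPt.toHom_map]
    exact repWith_quasiCompact_comp_of_isQuasiCompactMor Y.property p.toHom hpq f.hom hq
  obtain ⟨p', hp', hm, hpq'⟩ := exists_mono_qc_of_qc Y (p.map f.hom) hq'
  exact ⟨p', hp'.trans (Points.map_mk f.hom p).symm, hm, hpq'⟩

/-- S10385. -/
theorem exists_mono_of_quasiCompact_etale_surjective {X Y : Space S} (f : X ⟶ Y)
    (hq : IsQuasiCompactMor f.hom) (he : IsEtaleMor f.hom) (hs : IsSurjectiveMor f.hom)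
    (hX : ∀ x : Points X.obj, ∃ p : FieldPt X.obj, Points.mk p = x ∧ Mono p.toHom)
    (y : Points Y.obj) : ∃ q : FieldPt Y.obj, Points.mk q = y ∧ Mono q.toHom := by
  obtain ⟨x, rfl⟩ := hs y
  obtain ⟨U, a, hae, has⟩ := X.property.atlas
  obtain ⟨u, rfl⟩ := ofPt_surjective a has x
  obtain ⟨p, hpx, hpm⟩ := hX (Points.ofPt a u)
  have hφ : RepWith @Etale (a ≫ f.hom) := he a hae
  have hPXY : (FieldPt.ofPt a u).toHom ≫ f.hom = (FieldPt.ofPt (a ≫ f.hom) u).toHom := by
    rw [FieldPt.toHom_ofPt, FieldPt.toHom_ofPt, Category.assoc]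
    rfl
  have hprep : Representable p.toHom := X.property.representable_from_yon _
  have hPXrep : Representable (FieldPt.ofPt a u).toHom := X.property.representable_from_yon _
  have hPYrep : Representable (FieldPt.ofPt (a ≫ f.hom) u).toHom :=
    Y.property.representable_from_yon _
  -- `E = X ×_Y T`
  have sqE := IsPullback.of_hasPullback f.hom (FieldPt.ofPt (a ≫ f.hom) u).toHom
  have hTc : CompactSpace ↥(FieldPt.ofPt (a ≫ f.hom) u).pt.left :=
    inferInstanceAs (CompactSpace ↥(Spec (CommRingCat.of (FieldPt.ofPt (a ≫ f.hom) u).K)))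
  have hEqc : IsQuasiCompactSp (pullback f.hom (FieldPt.ofPt (a ≫ f.hom) u).toHom) :=
    hq (IsAlgSpace.yon_obj _) (Groth.Agent.Lib.Helper23.AlgSpMor.isQuasiCompactSp_yon _) _ _ _ sqE
  have hEalg : IsAlgSpace (pullback f.hom (FieldPt.ofPt (a ≫ f.hom) u).toHom) :=
    Groth.Agent.Lib.Helper23.AlgSpMor.isAlgSpace_of_isPullback X.property (IsAlgSpace.yon_obj _)
      Y.property.diag sqE
  have he₂ : IsEtaleMor (pullback.snd f.hom (FieldPt.ofPt (a ≫ f.hom) u).toHom) :=
    Groth.Agent.Lib.Helper46.STLocal.isEtaleMor_baseChange X.property Y.property hEalg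
      (IsAlgSpace.yon_obj _) sqE he
  obtain ⟨V, c, hce, hcs, hVc⟩ := hEqc
  have hVc' : CompactSpace ↥V.left := hVc
  obtain ⟨v, hv⟩ := (yon S).map_surjective
    (c ≫ pullback.snd f.hom (FieldPt.ofPt (a ≫ f.hom) u).toHom)
  have hvE : Etale v.left := (repWith_yon_map_iff @Etale v).1 (by rw [hv]; exact he₂ c hce)
  have hVfin : Finite ↥V.left :=
    finite_of_etale_over_field (FieldPt.ofPt (a ≫ f.hom) u).K v.left
  -- `G = T ×_Y T`
  have sqG := hPYrep.isPullback' (FieldPt.ofPt (a ≫ f.hom) u).toHom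
  -- `N = T ×_X V`
  have sqN := hPXrep.isPullback' (c ≫ pullback.fst f.hom (FieldPt.ofPt (a ≫ f.hom) u).toHom)
  let k : (yon S).obj (FieldPt.ofPt (a ≫ f.hom) u).pt ⟶ X.obj := (FieldPt.ofPt a u).toHom
  have hk : k ≫ f.hom = (FieldPt.ofPt (a ≫ f.hom) u).toHom := hPXY
  have sqG' : IsPullback ((yon S).map (hPYrep.fst' (FieldPt.ofPt (a ≫ f.hom) u).toHom))
      ((yon S).map (hPYrep.snd (FieldPt.ofPt (a ≫ f.hom) u).toHom))
      (k ≫ f.hom) (FieldPt.ofPt (a ≫ f.hom) u).toHom := by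
    rw [hk]; exact sqG
  -- `M = Spec κ ×_X V`
  obtain ⟨cu, hcu⟩ := exists_factor_of_mono_fieldPt p (FieldPt.ofPt a u) hpx hpm hprep
  have sqM := hprep.isPullback' (c ≫ pullback.fst f.hom (FieldPt.ofPt (a ≫ f.hom) u).toHom)
  set M := hprep.pullback (c ≫ pullback.fst f.hom (FieldPt.ofPt (a ≫ f.hom) u).toHom)
  set m₁ := hprep.fst' (c ≫ pullback.fst f.hom (FieldPt.ofPt (a ≫ f.hom) u).toHom)
  set m₂ := hprep.snd (c ≫ pullback.fst f.hom (FieldPt.ofPt (a ≫ f.hom) u).toHom)
  set N := hPXrep.pullback (c ≫ pullback.fst f.hom (FieldPt.ofPt (a ≫ f.hom) u).toHom)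
  set n₁ := hPXrep.fst' (c ≫ pullback.fst f.hom (FieldPt.ofPt (a ≫ f.hom) u).toHom)
  set n₂ := hPXrep.snd (c ≫ pullback.fst f.hom (FieldPt.ofPt (a ≫ f.hom) u).toHom)
  obtain ⟨ν, hν, -⟩ := exists_surjective_of_cover f.hom (FieldPt.ofPt (a ≫ f.hom) u).toHom _ _ sqE
    k _ _ sqG' c hcs n₁ n₂ sqN
  have hm₂m : Mono m₂ := (yon S).mono_of_mono_map sqM.mono_snd_of_mono
  have hMfin : Finite ↥M.left := Finite.of_injective _ m₂.left.injective
  obtain ⟨η', hη1, hη2⟩ := sqM.exists_lift ((yon S).map (n₁ ≫ cu)) ((yon S).map n₂) (by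
    rw [Functor.map_comp, Category.assoc, hcu]; exact sqN.w)
  obtain ⟨η, rfl⟩ := (yon S).map_surjective η'
  have sqL : IsPullback ((yon S).map η) ((yon S).map n₁) ((yon S).map m₁) ((yon S).map cu) := by
    refine IsPullback.of_right ?_ (by rw [hη1, Functor.map_comp]) sqM.flip
    rw [hη2, hcu]; exact sqN.flip
  have sqLS : IsPullback η.left n₁.left m₁.left cu.left := isPullback_left_of_yon sqL
  have hcuqc : QuasiCompact cu.left := by
    have : Finite ↥(FieldPt.ofPt a u).pt.left :=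
      inferInstanceAs (Finite (PrimeSpectrum (FieldPt.ofPt a u).K))
    exact quasiCompact_of_finite _
  have hηqc : QuasiCompact η.left :=
    MorphismProperty.of_isPullback (P := @QuasiCompact) sqLS.flip hcuqc
  have hNc : CompactSpace ↥N.left := QuasiCompact.compactSpace_of_compactSpace η.left
  have hGc : CompactSpace ↥(hPYrep.pullback (FieldPt.ofPt (a ≫ f.hom) u).toHom).left :=
    hν.surj.compactSpace ν.left.continuous
  obtain ⟨k', _, str', m, c', hm, hc', -, -⟩ :=
    exists_mono_fieldPt_of_compact Y.property (a ≫ f.hom) hφ u _ _ sqG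
  refine ⟨fieldPtOfHom str' m, mk_fieldPtOfHom_of_factor (a ≫ f.hom) u str' m c' hc', ?_⟩
  rw [fieldPtOfHom_toHom]
  exact hm

end Groth.Agent.Lib.Helper37.DecentPoint
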