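import Mathlib
import Groth.Agent.Lib.Helper37.DecentDescend
import Groth.Agent.Lib.Helper62.AlgSpMono
import Groth.Prelude.Def_AlgSpCov

/-!
# Decency is Zariski local (helper37)

`exists_point_of_isPullback_mixed`, `repWith_quasiCompact_of_isDecent` (in a decent space every
field-valued point is quasi-compact), `ofPt_comp_toHom`, `isDecent_of_zarCover` (S10364).
-/

set_option autoImplicit false
universe u
open CategoryTheory CategoryTheory.Limits AlgebraicGeometry
open AlgSp
open Groth.Agent.Lib.Helper36.AlgSpCharts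
open Groth.Agent.Lib.Helper37.AlgSpPoints Groth.Agent.Lib.Helper37.AlgSpFibres
open Groth.Agent.Lib.Helper37.ClosedPoint Groth.Agent.Lib.Helper37.OnePoint
open Groth.Agent.Lib.Helper37.Residual Groth.Agent.Lib.Helper37.QuotField
open Groth.Agent.Lib.Helper37.AlgSpDecent

namespace Groth.Agent.Lib.Helper37.DecentPoint

variable {S : Scheme.{u}}

/-- Points of a fibre product `X' ×_F T` with `T` a scheme. -/
theorem exists_point_of_isPullback_mixed {F X' : Sp S} {T T' : Over S} {t : (yon S).obj T ⟶ F}
    {jj : X' ⟶ F} {α : (yon S).obj T' ⟶ X'} {o : T' ⟶ T}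
    (sq : IsPullback α ((yon S).map o) jj t) (τ : ↥T.left) (x' : Points X')
    (e : Points.map jj x' = Points.ofPt t τ) :
    ∃ τ' : ↥T'.left, o.left τ' = τ ∧ Points.ofPt α τ' = x' := by
  rw [Points.ofPt_eq_map_ofScheme] at e
  obtain ⟨p, hp1, hp2⟩ := points_exists_of_isPullback sq x' _ e
  refine ⟨Points.toScheme T' p, ?_, ?_⟩
  · apply (Points.schemeEquiv T).injective
    change Points.ofScheme T _ = Points.ofScheme T τ
    rw [← hp2, ← ofPt_yon_map, ← Points.ofScheme_toScheme T' p, Points.toScheme_ofScheme,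
      Points.ofPt_eq_map_ofScheme]
  · rw [Points.ofPt_eq_map_ofScheme, Points.ofScheme_toScheme, hp1]

/-- In a decent space every field-valued point is quasi-compact. -/
theorem repWith_quasiCompact_of_isDecent {F : Sp S} (hF : IsDecent F) (q : FieldPt F) :
    RepWith @QuasiCompact q.toHom := by
  obtain ⟨p, hp, hm, hq⟩ := hF (Points.mk q)
  exact repWith_quasiCompact_of_mono_qc_point p q hm hq hp.symm

theorem ofPt_comp_toHom {F : Sp S} (p : FieldPt F) {W : Over S}
    (g : (yon S).obj W ⟶ (yon S).obj p.pt) (ω : ↥W.left) :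
    Points.ofPt (g ≫ p.toHom) ω = Points.mk p := by
  obtain ⟨g', rfl⟩ := (yon S).map_surjective g
  rw [ofPt_map_comp g' p.toHom ω, Points.ofPt_toHom]

/-- S10364: decency is Zariski local. -/
theorem isDecent_of_zarCover (X : Space S) {ι : Type u} (Xi : ι → Space S)
    (j : ∀ i, Xi i ⟶ X) (hj : IsZarCover (fun i => (Xi i).obj) (fun i => (j i).hom))
    (hd : ∀ i, IsDecent (Xi i).obj) : IsDecent X.obj := by
  obtain ⟨hjo', hjs'⟩ := hj
  have hjo : ∀ i, RepWith @IsOpenImmersion (j i).hom := hjo'
  have hjs : ∀ x : Points X.obj, ∃ i, x ∈ Set.range (Points.map (j i).hom) := hjs'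
  clear hjo' hjs'
  have hjm : ∀ i, Mono (j i).hom := fun i =>
    Groth.Agent.Lib.Helper62.mono_of_repWith @IsOpenImmersion
      (fun f hf => by have := hf; infer_instance) _ (hjo i)
  intro x
  obtain ⟨i, xi, rfl⟩ := hjs x
  obtain ⟨p, rfl, hpm, hpq⟩ := hd i xi
  have hmono : Mono (p.toHom ≫ (j i).hom) := @mono_comp _ _ _ _ _ _ hpm _ (hjm i)
  refine ⟨p.map (j i).hom, (Points.map_mk _ _).symm, ?_, ?_⟩
  · rw [FieldPt.toHom_map]; exact hmono
  rw [FieldPt.toHom_map]
  have hrep : Representable (p.toHom ≫ (j i).hom) := X.property.representable_from_yon _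
  refine ⟨hrep, fun T W t (fst : (yon S).obj W ⟶ (yon S).obj p.pt) snd sq => ?_⟩
  change QuasiCompact snd.left
  refine IsZariskiLocalAtTarget.of_forall_exists_morphismRestrict (P := @QuasiCompact) fun τ => ?_
  obtain ⟨i', x', hx'⟩ := hjs (Points.ofPt t τ)
  -- the open `T' = T ×_X X_{i'}` of `T`
  have sqT := (hjo i').rep.isPullback t
  set T' := (hjo i').rep.pullback t
  set α := (hjo i').rep.fst t
  set o := (hjo i').rep.snd t
  have hoo : IsOpenImmersion o.left := (hjo i').property_snd t
  obtain ⟨τ', hτ', -⟩ := exists_point_of_isPullback_mixed sqT τ x' hx'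
  refine ⟨o.left.opensRange, ⟨τ', hτ'⟩, ?_⟩
  rw [MorphismProperty.arrow_mk_iso_iff (@QuasiCompact) (morphismRestrictOpensRange snd.left o.left)]
  -- `W' = W ×_T T'`
  have sqW0 := IsPullback.of_hasPullback snd o
  have sqWS : IsPullback (pullback.fst snd o).left (pullback.snd snd o).left snd.left o.left :=
    sqW0.map (Over.forget S)
  suffices h : QuasiCompact (pullback.snd snd o).left by
    have e : pullback.snd snd.left o.left = sqWS.isoPullback.inv ≫ (pullback.snd snd o).left :=
      (Iso.eq_inv_comp _).mpr sqWS.isoPullback_hom_snd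
    rw [e]
    infer_instance
  have big : IsPullback ((yon S).map (pullback.fst snd o) ≫ fst) ((yon S).map (pullback.snd snd o))
      (p.toHom ≫ (j i).hom) ((yon S).map o ≫ t) := (sqW0.map (yon S)).paste_horiz sq
  by_cases hx : Points.map (j i).hom (Points.mk p) ∈ Set.range (Points.map (j i').hom)
  · obtain ⟨x'', hx''⟩ := hx
    have sqO := (hjo i').rep.isPullback (p.toHom ≫ (j i).hom)
    set O := (hjo i').rep.pullback (p.toHom ≫ (j i).hom)
    set β := (hjo i').rep.fst (p.toHom ≫ (j i).hom)
    set o' := (hjo i').rep.snd (p.toHom ≫ (j i).hom)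
    have ho'o : IsOpenImmersion o'.left := (hjo i').property_snd _
    obtain ⟨τ'', -, -⟩ := exists_point_of_isPullback_mixed sqO (IsLocalRing.closedPoint p.K) x''
      (hx''.trans (by rw [← Points.map_ofPt, Points.ofPt_toHom]))
    have hne : Nonempty ↥O.left := ⟨τ''⟩
    have hiso : IsIso o'.left :=
      Groth.Agent.Lib.Helper37.MonoField.isIso_of_mono_of_nonempty (K := p.K) o'.left
    have hiso' : IsIso o' := by
      have : IsIso ((Over.forget S).map o') := hiso
      exact isIso_of_reflects_iso _ (Over.forget S)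
    let q' : (yon S).obj (Over.mk p.str) ⟶ (Xi i').obj := (yon S).map (inv o') ≫ β
    have hq' : q' ≫ (j i').hom = p.toHom ≫ (j i).hom := by
      simp only [q', Category.assoc]
      rw [sqO.w, ← Category.assoc, ← Functor.map_comp, IsIso.inv_hom_id,
        CategoryTheory.Functor.map_id, Category.id_comp]
    have hq'qc : RepWith @QuasiCompact q' := by
      have := repWith_quasiCompact_of_isDecent (hd i') (fieldPtOfHom p.str q')
      rwa [fieldPtOfHom_toHom] at this
    have big' : IsPullback ((yon S).map (pullback.fst snd o) ≫ fst)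
        ((yon S).map (pullback.snd snd o)) (q' ≫ (j i').hom) (α ≫ (j i').hom) := by
      rw [hq', sqT.w]; exact big
    have small := isPullback_of_comp_mono (j i').hom big'
    exact hq'qc.property α _ _ small
  · have hemp : IsEmpty ↥(pullback snd o).left := by
      refine ⟨fun ω => hx ?_⟩
      have h1 : Points.ofPt (((yon S).map (pullback.fst snd o) ≫ fst) ≫ p.toHom ≫ (j i).hom) ω =
          Points.ofPt ((yon S).map (pullback.snd snd o) ≫ (yon S).map o ≫ t) ω :=
        congrArg (fun g => Points.ofPt g ω) big.w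
      refine ⟨Points.ofPt ((yon S).map (pullback.snd snd o) ≫ α) ω, ?_⟩
      calc Points.map (j i').hom (Points.ofPt ((yon S).map (pullback.snd snd o) ≫ α) ω)
          = Points.ofPt (((yon S).map (pullback.snd snd o) ≫ α) ≫ (j i').hom) ω := rfl
        _ = Points.ofPt ((yon S).map (pullback.snd snd o) ≫ (yon S).map o ≫ t) ω := by
            rw [Category.assoc, sqT.w]
        _ = Points.ofPt (((yon S).map (pullback.fst snd o) ≫ fst) ≫ p.toHom ≫ (j i).hom) ω :=
            h1.symm
        _ = Points.map (j i).hom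
              (Points.ofPt (((yon S).map (pullback.fst snd o) ≫ fst) ≫ p.toHom) ω) := by
            rw [← Category.assoc]; rfl
        _ = Points.map (j i).hom (Points.mk p) := by rw [ofPt_comp_toHom]
    have : Finite ↥(pullback snd o).left := Finite.of_subsingleton
    exact quasiCompact_of_finite _

end Groth.Agent.Lib.Helper37.DecentPoint
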