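import Mathlib
import Groth.Agent.Lib.Helper37.DecentZar
import Groth.Agent.Lib.Helper23.AlgSpMor7

/-!
# Decent morphisms: reduction to affine bases and étale covers of the target (helper37)

`isDecentMor_of_affine` (S10386), `exists_compact_opens_surjective`,
`isDecentMor_of_etale_cover` (S10387).
-/

set_option autoImplicit false
universe u
open CategoryTheory CategoryTheory.Limits AlgebraicGeometry
open AlgSp
open Groth.Agent.Lib.Helper36.AlgSpCharts
open Groth.Agent.Lib.Helper37.AlgSpPoints Groth.Agent.Lib.Helper37.AlgSpFibres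
open Groth.Agent.Lib.Helper37.ClosedPoint Groth.Agent.Lib.Helper37.OnePoint
open Groth.Agent.Lib.Helper37.Residual Groth.Agent.Lib.Helper37.QuotField
open Groth.Agent.Lib.Helper37.AlgSpDecent

namespace Groth.Agent.Lib.Helper37.DecentPoint

variable {S : Scheme.{u}}

/-- S10386: a morphism is decent as soon as its base changes to affine schemes are decent. -/
theorem isDecentMor_of_affine {X Y : Space S} (f : X ⟶ Y)
    (h : ∀ (Z : Over S) (g : (yon S).obj Z ⟶ Y.obj) (P : Sp S) (fst : P ⟶ X.obj)
      (snd : P ⟶ (yon S).obj Z), IsAffine Z.left → IsPullback fst snd f.hom g → IsDecent P) :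
    IsDecentMor f.hom := by
  intro T F' g fst snd sq
  have hF' : IsAlgSpace F' :=
    Groth.Agent.Lib.Helper23.AlgSpMor.isAlgSpace_of_isPullback X.property (IsAlgSpace.yon_obj T)
      Y.property.diag sq
  have sqV : ∀ V : T.left.affineOpens, IsPullback (pullback.fst snd ((yon S).map (openChartι V.1)))
      (pullback.snd snd ((yon S).map (openChartι V.1))) snd ((yon S).map (openChartι V.1)) :=
    fun V => IsPullback.of_hasPullback _ _
  have hPV : ∀ V : T.left.affineOpens,
      IsAlgSpace (pullback snd ((yon S).map (openChartι V.1))) := fun V =>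
    Groth.Agent.Lib.Helper23.AlgSpMor.isAlgSpace_of_isPullback hF' (IsAlgSpace.yon_obj _)
      (IsAlgSpace.yon_obj T).diag (sqV V)
  refine isDecent_of_zarCover ⟨F', hF'⟩
    (fun V : T.left.affineOpens => ⟨pullback snd ((yon S).map (openChartι V.1)), hPV V⟩)
    (fun V => ObjectProperty.homMk (pullback.fst snd ((yon S).map (openChartι V.1)))) ⟨?_, ?_⟩ ?_
  · intro V
    change RepWith @IsOpenImmersion (pullback.fst snd ((yon S).map (openChartι V.1)))
    refine MorphismProperty.of_isPullback (P := RepWith @IsOpenImmersion) (sqV V).flip ?_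
    refine (repWith_yon_map_iff @IsOpenImmersion _).2 ?_
    change IsOpenImmersion V.1.ι
    infer_instance
  · intro x
    obtain ⟨_, ⟨V, hV : IsAffineOpen V, rfl⟩, hτV, -⟩ :=
      T.left.isBasis_affineOpens.exists_subset_of_mem_open
        (a := Points.toScheme T (Points.map snd x)) (by trivial) isOpen_univ
    let τv : ↥(openChart V).left := ⟨Points.toScheme T (Points.map snd x), hτV⟩
    obtain ⟨y, hy, -⟩ := points_exists_of_isPullback (sqV ⟨V, hV⟩) x
      (Points.ofScheme (openChart V) τv) (by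
        rw [← Points.ofPt_eq_map_ofScheme, ofPt_yon_map]
        exact (Points.ofScheme_toScheme T _).symm)
    exact ⟨⟨V, hV⟩, y, hy⟩
  · intro V
    refine h (openChart V.1) ((yon S).map (openChartι V.1) ≫ g) _
      (pullback.fst snd ((yon S).map (openChartι V.1)) ≫ fst)
      (pullback.snd snd ((yon S).map (openChartι V.1))) V.2 ?_
    exact (sqV V).paste_horiz sq

/-- An étale surjective morphism to a quasi-compact scheme is already surjective on a
quasi-compact open of the source. -/
theorem exists_compact_opens_surjective {U Z : Scheme.{u}} (f : U ⟶ Z) [Etale f] [Surjective f]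
    [CompactSpace ↥Z] :
    ∃ U' : U.Opens, IsCompact (U' : Set ↥U) ∧ ∀ z : ↥Z, ∃ x ∈ U', f x = z := by
  have hA : ∀ x : ↥U, ∃ A : U.Opens, IsAffineOpen A ∧ x ∈ A := fun x => by
    obtain ⟨_, ⟨A, hA, rfl⟩, hxA, -⟩ :=
      U.isBasis_affineOpens.exists_subset_of_mem_open (a := x) (by trivial) isOpen_univ
    exact ⟨A, hA, hxA⟩
  choose A hAaff hxA using hA
  have hopen : ∀ x, IsOpen (f '' (A x : Set ↥U)) := fun x => f.isOpenMap _ (A x).2
  have hcover : (Set.univ : Set ↥Z) ⊆ ⋃ x, f '' (A x : Set ↥U) := fun z _ => by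
    obtain ⟨x, rfl⟩ := Surjective.surj (f := f) z
    exact Set.mem_iUnion.2 ⟨x, x, hxA x, rfl⟩
  obtain ⟨t, ht⟩ := isCompact_univ.elim_finite_subcover _ hopen hcover
  refine ⟨⨆ x ∈ t, A x, ?_, ?_⟩
  · simp only [TopologicalSpace.Opens.coe_iSup]
    exact t.isCompact_biUnion fun x _ => (hAaff x).isCompact
  · intro z
    obtain ⟨x, hx, y, hy, rfl⟩ : ∃ x ∈ t, z ∈ f '' (A x : Set ↥U) := by
      simpa using ht (Set.mem_univ z)
    refine ⟨y, ?_, rfl⟩
    simp only [TopologicalSpace.Opens.mem_iSup]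
    exact ⟨x, hx, hy⟩

/-- S10387. -/
theorem isDecentMor_of_etale_cover {X Y : Space S} (f : X ⟶ Y) {V : Over S}
    (p : (yon S).obj V ⟶ Y.obj) (hp : RepWith @Etale p) (hps : RepWith @Surjective p)
    (X' : Sp S) (fst : X' ⟶ X.obj) (snd : X' ⟶ (yon S).obj V) (hsq : IsPullback fst snd f.hom p)
    (h : IsDecentMor snd) : IsDecentMor f.hom := by
  refine isDecentMor_of_affine f fun Z g P fstP sndP hZ sqP => ?_
  -- `U = Z ×_Y V`
  have sqU := hp.rep.isPullback' g
  set U := hp.rep.pullback g
  set u₂ := hp.rep.fst' g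
  set u₁ := hp.rep.snd g
  have hu₁e : Etale u₁.left := hp.property_snd g
  have hu₁s : Surjective u₁.left := hps.property_snd g
  obtain ⟨U', hU'c, hU's⟩ := exists_compact_opens_surjective u₁.left
  -- the chart `c : U' ⟶ Z`
  let c : openChart U' ⟶ Z := openChartι U' ≫ u₁
  have hce : Etale c.left := by
    change Etale (U'.ι ≫ u₁.left)
    infer_instance
  have hcs : Surjective c.left := by
    refine ⟨fun z => ?_⟩
    obtain ⟨x, hx, rfl⟩ := hU's z
    exact ⟨⟨x, hx⟩, rfl⟩
  have hcc : CompactSpace ↥(openChart U').left := isCompact_iff_compactSpace.1 hU'c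
  have hcq : QuasiCompact c.left := (HasAffineProperty.iff_of_isAffine (P := @QuasiCompact)).2 hcc
  -- `P' = P ×_Z U'`
  have sqP' := IsPullback.of_hasPullback sndP ((yon S).map c)
  set P' := pullback sndP ((yon S).map c)
  set π₁ := pullback.fst sndP ((yon S).map c)
  set π₂ := pullback.snd sndP ((yon S).map c)
  have hP : IsAlgSpace P :=
    Groth.Agent.Lib.Helper23.AlgSpMor.isAlgSpace_of_isPullback X.property (IsAlgSpace.yon_obj Z)
      Y.property.diag sqP
  have hP' : IsAlgSpace P' :=
    Groth.Agent.Lib.Helper23.AlgSpMor.isAlgSpace_of_isPullback hP (IsAlgSpace.yon_obj _)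
      (IsAlgSpace.yon_obj Z).diag sqP'
  have hπ₁q : IsQuasiCompactMor π₁ :=
    Groth.Agent.Lib.Helper23.AlgSpMor.isQuasiCompactMor_of_repWith _
      ((RepWith @QuasiCompact).of_isPullback sqP'.flip
        ((repWith_yon_map_iff @QuasiCompact c).2 hcq))
  have hπ₁s : IsSurjectiveMor π₁ := by
    intro x
    obtain ⟨υ, hυ⟩ := hcs.surj (Points.toScheme Z (Points.map sndP x))
    obtain ⟨y, hy, -⟩ := points_exists_of_isPullback sqP' x (Points.ofScheme _ υ) (by
      rw [← Points.ofPt_eq_map_ofScheme, ofPt_yon_map, hυ]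
      exact (Points.ofScheme_toScheme Z _).symm)
    exact ⟨y, hy⟩
  have hP'd : IsDecent P' := by
    have big : IsPullback (π₁ ≫ fstP) π₂ f.hom ((yon S).map c ≫ g) := sqP'.paste_horiz sqP
    have hcg : (yon S).map c ≫ g = (yon S).map (openChartι U' ≫ u₂) ≫ p := by
      simp only [c, Functor.map_comp, Category.assoc, sqU.w]
    rw [hcg] at big
    obtain ⟨l, hl1, hl2⟩ := hsq.exists_lift (π₁ ≫ fstP)
      (π₂ ≫ (yon S).map (openChartι U' ≫ u₂)) (by rw [Category.assoc]; exact big.w)
    refine h ((yon S).map (openChartι U' ≫ u₂)) l π₂ ?_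
    refine IsPullback.of_right ?_ hl2 hsq
    rw [hl1]; exact big
  exact isDecent_of_quasiCompact_surjective (X := ⟨P', hP'⟩) (Y := ⟨P, hP⟩)
    (ObjectProperty.homMk π₁) hπ₁q hπ₁s hP'd

end Groth.Agent.Lib.Helper37.DecentPoint
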