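import Mathlib
import Groth.Agent.Lib.Helper37.DecentMor
import Groth.Prelude.Def_W4decUnivBdd

/-!
# Universally bounded fibres and decency (helper37)

`finite_of_isFinite_field`, `isDecent_of_hasUnivBddFibres` (S10430).
-/

set_option autoImplicit false
universe u
open CategoryTheory CategoryTheory.Limits AlgebraicGeometry
open AlgSp
open Groth.Agent.Lib.Helper36.AlgSpCharts
open Groth.Agent.Lib.Helper37.AlgSpPoints Groth.Agent.Lib.Helper37.AlgSpFibres
open Groth.Agent.Lib.Helper37.ClosedPoint Groth.Agent.Lib.Helper37.OnePoint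
open Groth.Agent.Lib.Helper37.Residual Groth.Agent.Lib.Helper37.QuotField
open Groth.Agent.Lib.Helper37.AlgSpDecent

namespace Groth.Agent.Lib.Helper37.DecentPoint

variable {S : Scheme.{u}}

/-- A scheme finite over the spectrum of a field has finitely many points. -/
theorem finite_of_isFinite_field {K : Type u} [Field K] {T : Scheme.{u}}
    (f : T ⟶ Spec (CommRingCat.of K)) [IsFinite f] : Finite ↥T := by
  have h := Scheme.Hom.finite_preimage_singleton f (IsLocalRing.closedPoint K)
  refine Set.finite_univ_iff.1 (h.subset fun w _ => ?_)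
  exact Subsingleton.elim (α := PrimeSpectrum K) _ _

/-- S10430. -/
theorem isDecent_of_hasUnivBddFibres (X : Space S)
    (h : ∀ (U : Over S) (φ : (yon S).obj U ⟶ X.obj), IsAffine U.left → RepWith @Etale φ →
      W4dec.HasUnivBddFibres φ) : IsDecent X.obj := by
  intro x
  refine exists_mono_qc_of_finite_fibres X x fun U φ hU hφ R s t hR => ?_
  obtain ⟨p, s₀, hp⟩ := exists_ofPt_toHom x
  have hpx : Points.mk p = x := by rw [← hp, Points.ofPt_toHom]
  have hprep : Representable p.toHom := X.property.representable_from_yon _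
  obtain ⟨n, hn⟩ := h U φ hU hφ
  obtain ⟨hfin, -⟩ := hn p _ (hprep.fst' φ) ((yon S).map (hprep.snd φ)) (hprep.isPullback' φ)
  have hfPU : Finite ↥(hprep.pullback φ).left := finite_of_isFinite_field (K := p.K) (hprep.fst' φ).left
  exact finite_fibres_of_finite_pullback X x p hpx hprep U φ hφ hfPU R s t hR

end Groth.Agent.Lib.Helper37.DecentPoint
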