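import Mathlib
import Groth.Agent.Lib.Helper37.AlgSpDecent
import Groth.Agent.Lib.Helper37.EtaleFibres
import Groth.Agent.Lib.Helper37.UnivBdd
import Groth.Agent.Lib.Helper23.AlgSpMono
import Groth.Agent.Lib.Helper23.AlgSpDiag

/-!
# Finiteness of the fibre of `|X ×_Y Z| → |X| × |Z|` over a pair (helper37, S10389)

* `isFinite_of_locallyQuasiFinite_field`: a locally quasi-finite morphism `Spec A ⟶ Spec K` (`K` a field) is finite.
* `isFinite_factor_of_quasiFinite`: if `g` is quasi-finite at `z` (chart `h : U ⟶ V`, `u ↦ z`) and the image point is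
  represented by a monomorphism `Spec k ⟶ Y`, then `Spec κ(u) ⟶ Spec k` is finite.
* `exists_point_of_pair`: points of `X ×_Y Z` over `(mk ξ, mk ζ)` come from points of a scheme representing `ξ ×_Y ζ`.
* `finite_fibre_over_pair` (S10389).
-/

set_option autoImplicit false
universe u
open CategoryTheory CategoryTheory.Limits AlgebraicGeometry Opposite

namespace Groth.Agent.Lib.Helper37.PairFibre

open AlgSp Groth.Agent.Lib.Helper36.AlgSpCharts Groth.Agent.Lib.Helper23.AlgSpMor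
open Groth.Agent.Lib.Helper37.AlgSpPoints Groth.Agent.Lib.Helper37.AlgSpDecent

variable {S : Scheme.{u}}

/-- A locally quasi-finite morphism from an affine scheme to the spectrum of a field is finite. -/
theorem isFinite_of_locallyQuasiFinite_field {K : Type u} [Field K] {A : CommRingCat.{u}}
    (c : Spec A ⟶ Spec (CommRingCat.of K)) [LocallyQuasiFinite c] : IsFinite c := by
  obtain ⟨φ, rfl⟩ : ∃ φ, c = Spec.map φ := ⟨Spec.preimage c, (Spec.map_preimage c).symm⟩
  have h1 : φ.hom.QuasiFinite := (HasRingHomProperty.Spec_iff (P := @LocallyQuasiFinite)).1 inferInstance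
  rw [IsFinite.SpecMap_iff]
  algebraize [φ.hom]
  have : Algebra.QuasiFinite K A := h1
  exact Module.Finite.of_quasiFinite (R := K) (S := A)

/-- Step D: the residue field of a point at which `h` is quasi-finite is finite over the field of a monomorphic point
of the target. -/
theorem isFinite_factor_of_quasiFinite {Y : Space S} (r : FieldPt Y.obj)
    {U V : Over S} (b : (yon S).obj V ⟶ Y.obj) (hbe : RepWith @Etale b) (h : U ⟶ V) (u : ↥U.left)
    (W₀ : U.left.Opens) (huW₀ : u ∈ W₀) (hlqf : LocallyQuasiFinite (W₀.ι ≫ h.left))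
    (c : Over.mk (U.left.fromSpecResidueField u ≫ U.hom) ⟶ r.pt)
    (hc : (yon S).map c ≫ r.toHom = (yon S).map (resPt u) ≫ (yon S).map h ≫ b) :
    IsFinite c.left := by
  have sqE := hbe.rep.isPullback' r.toHom
  obtain ⟨eV, heV⟩ : ∃ e : hbe.rep.pullback r.toHom ⟶ V, e = hbe.rep.fst' r.toHom := ⟨_, rfl⟩
  obtain ⟨ek, hek⟩ : ∃ e : hbe.rep.pullback r.toHom ⟶ r.pt, e = hbe.rep.snd r.toHom := ⟨_, rfl⟩
  rw [← heV, ← hek] at sqE
  have hek_et : Etale ek.left := by rw [hek]; exact hbe.property_snd r.toHom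
  obtain ⟨l', hl1, hl2⟩ := sqE.exists_lift ((yon S).map (resPt u ≫ h)) ((yon S).map c) (by
    rw [hc, Functor.map_comp, Category.assoc])
  obtain ⟨l, rfl⟩ := (yon S).map_surjective l'
  have hl1' : l ≫ eV = resPt u ≫ h := (yon S).map_injective (by rw [Functor.map_comp, hl1])
  have hl2' : l ≫ ek = c := (yon S).map_injective (by rw [Functor.map_comp, hl2])
  -- `Spec κ(u) ⟶ U ⟶ V` is locally quasi-finite
  have hrange : Set.range (U.left.fromSpecResidueField u) ⊆ Set.range W₀.ι := by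
    rintro _ ⟨s, rfl⟩
    rw [Scheme.Opens.range_ι, Scheme.fromSpecResidueField_apply]
    exact huW₀
  let j₀ : Spec (U.left.residueField u) ⟶ (W₀ : Scheme.{u}) :=
    IsOpenImmersion.lift W₀.ι (U.left.fromSpecResidueField u) hrange
  have hj₀ : j₀ ≫ W₀.ι = U.left.fromSpecResidueField u := IsOpenImmersion.lift_fac _ _ _
  have h1 : LocallyQuasiFinite (U.left.fromSpecResidueField u) := inferInstance
  have h2 : LocallyQuasiFinite j₀ := by
    have : LocallyQuasiFinite (j₀ ≫ W₀.ι) := by rw [hj₀]; exact h1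
    exact LocallyQuasiFinite.of_comp j₀ W₀.ι
  have h3 : LocallyQuasiFinite (U.left.fromSpecResidueField u ≫ h.left) := by
    rw [← hj₀, Category.assoc]
    infer_instance
  have h4 : LocallyQuasiFinite (l.left ≫ eV.left) := by
    have : l.left ≫ eV.left = U.left.fromSpecResidueField u ≫ h.left :=
      congrArg (fun m => Over.Hom.left m) hl1'
    rw [this]; exact h3
  have h5 : LocallyQuasiFinite l.left := LocallyQuasiFinite.of_comp l.left eV.left
  have h6 : LocallyQuasiFinite ek.left :=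
    Groth.Agent.Lib.Helper37.EtaleFibres.locallyQuasiFinite_of_etale ek.left
  have h7 : LocallyQuasiFinite c.left := by
    have : c.left = l.left ≫ ek.left := (congrArg (fun m => Over.Hom.left m) hl2').symm
    rw [this]; infer_instance
  exact isFinite_of_locallyQuasiFinite_field (K := r.K) (A := U.left.residueField u) c.left

/-- Points of `W = X ×_Y Z` over `(mk ξ, mk ζ)` come from points of a scheme representing `ξ ×_Y ζ`. -/
theorem exists_point_of_pair {X Y Z W : Sp S} (f : X ⟶ Y) (g : Z ⟶ Y) (p : W ⟶ X) (q : W ⟶ Z)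
    (hW : IsPullback p q f g) (ξ : FieldPt X) (ζ : FieldPt Z) {P₀ : Over S} (a₁ : P₀ ⟶ ξ.pt) (a₂ : P₀ ⟶ ζ.pt)
    (sqP : IsPullback ((yon S).map a₁) ((yon S).map a₂) (ξ.toHom ≫ f) (ζ.toHom ≫ g))
    (lam : (yon S).obj P₀ ⟶ W) (hl1 : lam ≫ p = (yon S).map a₁ ≫ ξ.toHom)
    (hl2 : lam ≫ q = (yon S).map a₂ ≫ ζ.toHom) (w : Points W)
    (hwx : Points.map p w = Points.mk ξ) (hwz : Points.map q w = Points.mk ζ) :
    ∃ t : ↥P₀.left, Points.ofPt lam t = w := by
  have sq1 := IsPullback.of_hasPullback p ξ.toHom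
  obtain ⟨w₁, hw₁, -⟩ := points_exists_of_isPullback sq1 w
    (Points.ofPt (𝟙 _) (IsLocalRing.closedPoint ξ.K)) (by
      rw [hwx, Points.map_ofPt, Category.id_comp, Points.ofPt_toHom])
  have sq2 := IsPullback.of_hasPullback (pullback.fst p ξ.toHom ≫ q) ζ.toHom
  obtain ⟨w₂, hw₂, -⟩ := points_exists_of_isPullback sq2 w₁
    (Points.ofPt (𝟙 _) (IsLocalRing.closedPoint ζ.K)) (by
      rw [Points.map_comp, hw₁, hwz, Points.map_ofPt, Category.id_comp, Points.ofPt_toHom])
  have sqA : IsPullback (pullback.fst p ξ.toHom ≫ q) (pullback.snd p ξ.toHom) g (ξ.toHom ≫ f) :=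
    sq1.paste_horiz hW.flip
  have sqB := sq2.flip.paste_vert sqA
  let e := sqB.isoIsPullback _ _ sqP.flip
  have he1 : e.hom ≫ (yon S).map a₂ = pullback.snd (pullback.fst p ξ.toHom ≫ q) ζ.toHom :=
    IsPullback.isoIsPullback_hom_fst _ _ sqB sqP.flip
  have he2 : e.hom ≫ (yon S).map a₁ =
      pullback.fst (pullback.fst p ξ.toHom ≫ q) ζ.toHom ≫ pullback.snd p ξ.toHom :=
    IsPullback.isoIsPullback_hom_snd _ _ sqB sqP.flip
  have hel : e.hom ≫ lam =
      pullback.fst (pullback.fst p ξ.toHom ≫ q) ζ.toHom ≫ pullback.fst p ξ.toHom := by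
    apply hW.hom_ext
    · rw [Category.assoc, hl1, ← Category.assoc, he2, Category.assoc, Category.assoc, sq1.w]
    · rw [Category.assoc, hl2, ← Category.assoc, he1, Category.assoc, sq2.w]
  refine ⟨Points.toScheme P₀ (Points.map e.hom w₂), ?_⟩
  rw [Points.ofPt_eq_map_ofScheme, Points.ofScheme_toScheme, ← Points.map_comp, hel, Points.map_comp,
    hw₂, hw₁]

/-- **S10389**. -/
theorem finite_fibre_over_pair {X Y Z W : Space S} (f : X ⟶ Y)
    (g : Z ⟶ Y) (p : W ⟶ X) (q : W ⟶ Z) (hW : IsPullback p.hom q.hom f.hom g.hom) (x : Points X.obj)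
    (z : Points Z.obj) (hxz : Points.map f.hom x = Points.map g.hom z)
    (hy : ∃ r : FieldPt Y.obj, Points.mk r = Points.map g.hom z ∧ Mono r.toHom)
    (hg : HasAtMor (fun U _ h u => ∃ W : U.Opens, u ∈ W ∧ LocallyQuasiFinite (W.ι ≫ h) ∧
      LocallyOfFiniteType (W.ι ≫ h)) g.hom z) :
    {w : Points W.obj | Points.map p.hom w = x ∧ Points.map q.hom w = z}.Finite := by
  obtain ⟨r, hr, hrm⟩ := hy
  obtain ⟨U, V, a, b, h, u, hae, hbe, hab, hu, W₀, huW₀, hlqf, -⟩ := hg
  obtain ⟨ξ, hξ⟩ : ∃ ξ : FieldPt X.obj, Points.mk ξ = x := by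
    induction x using Points.ind with
    | h ξ => exact ⟨ξ, rfl⟩
  have hrrep : Representable r.toHom := Y.property.representable_from_yon _
  obtain ⟨ζ, hζ⟩ : ∃ ζ : FieldPt Z.obj, ζ = FieldPt.ofPt a u := ⟨_, rfl⟩
  have hζz : Points.mk ζ = z := by rw [hζ]; exact hu
  have h1 : Points.mk r = Points.mk (ξ.map f.hom) := by
    rw [hr, ← hxz, ← hξ]; rfl
  have h2 : Points.mk r = Points.mk (ζ.map g.hom) := by
    rw [hr, ← hζz]; rfl
  obtain ⟨cξ, hcξ⟩ : ∃ c : ξ.pt ⟶ r.pt, (yon S).map c ≫ r.toHom = ξ.toHom ≫ f.hom := by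
    obtain ⟨c, hc⟩ := exists_factor_of_mono_fieldPt r (ξ.map f.hom) h1 hrm hrrep
    exact ⟨c, hc.trans (FieldPt.toHom_map _ _)⟩
  obtain ⟨cζ, hcζ⟩ : ∃ c : ζ.pt ⟶ r.pt, (yon S).map c ≫ r.toHom = ζ.toHom ≫ g.hom := by
    obtain ⟨c, hc⟩ := exists_factor_of_mono_fieldPt r (ζ.map g.hom) h2 hrm hrrep
    exact ⟨c, hc.trans (FieldPt.toHom_map _ _)⟩
  -- `cζ` is finite
  have hcζfin : IsFinite cζ.left := by
    subst hζ
    let cζ' : Over.mk (U.left.fromSpecResidueField u ≫ U.hom) ⟶ r.pt := cζ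
    have hcζ' : (yon S).map cζ' ≫ r.toHom = (yon S).map (resPt u) ≫ (yon S).map h ≫ b :=
      hcζ.trans (by rw [FieldPt.toHom_ofPt, Category.assoc, hab]; rfl)
    exact isFinite_factor_of_quasiFinite r b hbe h u W₀ huW₀ hlqf cζ' hcζ'
  -- the scheme `P₀`
  have sqP0 := IsPullback.of_hasPullback cξ cζ
  obtain ⟨a₁, ha₁⟩ : ∃ m : pullback cξ cζ ⟶ ξ.pt, m = pullback.fst cξ cζ := ⟨_, rfl⟩
  obtain ⟨a₂, ha₂⟩ : ∃ m : pullback cξ cζ ⟶ ζ.pt, m = pullback.snd cξ cζ := ⟨_, rfl⟩
  rw [← ha₁, ← ha₂] at sqP0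
  have sqPS : IsPullback a₁.left a₂.left cξ.left cζ.left := sqP0.map (Over.forget S)
  have hfin1 : IsFinite a₁.left := MorphismProperty.of_isPullback (P := @IsFinite) sqPS.flip hcζfin
  have hP₀fin : Finite ↥(pullback cξ cζ).left :=
    @Groth.Agent.Lib.Helper37.DecentPoint.finite_of_isFinite_field ξ.K _ _ a₁.left hfin1
  have sqP' : IsPullback ((yon S).map a₁) ((yon S).map a₂) ((yon S).map cξ ≫ r.toHom)
      ((yon S).map cζ ≫ r.toHom) := isPullback_comp_mono r.toHom (sqP0.map (yon S))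
  rw [hcξ, hcζ] at sqP'
  obtain ⟨lam, hl1, hl2⟩ := hW.exists_lift ((yon S).map a₁ ≫ ξ.toHom) ((yon S).map a₂ ≫ ζ.toHom) (by
    rw [Category.assoc, Category.assoc, sqP'.w])
  refine (Set.finite_range (Points.ofPt lam)).subset ?_
  rintro w ⟨hwx, hwz⟩
  exact exists_point_of_pair f.hom g.hom p.hom q.hom hW ξ ζ a₁ a₂ sqP' lam hl1 hl2 w
    (hwx.trans hξ.symm) (hwz.trans hζz.symm)

end Groth.Agent.Lib.Helper37.PairFibre
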