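import Mathlib
import Groth.Agent.Lib.Helper37.DecentMor
import Groth.Agent.Lib.Helper37.DecentPoint
import Groth.Agent.Lib.Helper23.AlgSpQc2

/-!
# Representable and quasi-separated morphisms are decent (helper37, S10423)
-/

set_option autoImplicit false
universe u
open CategoryTheory CategoryTheory.Limits AlgebraicGeometry Opposite

namespace Groth.Agent.Lib.Helper37.DecentMor2

open AlgSp Groth.Agent.Lib.Helper36.AlgSpCharts Groth.Agent.Lib.Helper23.AlgSpMor
open Groth.Agent.Lib.Helper37.AlgSpPoints Groth.Agent.Lib.Helper37.AlgSpFibres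
open Groth.Agent.Lib.Helper37.AlgSpDecent Groth.Agent.Lib.Helper37.DecentPoint

variable {S : Scheme.{u}}

/-- Schemes are decent. -/
theorem isDecent_yon (T : Over S) : IsDecent ((yon S).obj T) := by
  intro x
  refine ⟨FieldPt.ofPt (𝟙 _) (Points.toScheme T x), Points.ofScheme_toScheme T x,
    mono_toHom_ofPt _ _, repWith_quasiCompact_toHom_ofPt _ (repWith_id _ T) _⟩

/-- A representable morphism is decent. -/
theorem isDecentMor_of_representable {F G : Sp S} (f : F ⟶ G) (hf : Representable f) :
    IsDecentMor f := by
  intro T F' g fst snd sq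
  exact isDecent_of_representable snd ((Representable (S := S)).of_isPullback sq hf)
    (isDecent_yon T)

/-- A quasi-separated morphism to an affine scheme has quasi-separated source. -/
theorem isQuasiSeparatedSp_of_isQuasiSeparatedMor_affine {P : Sp S} {Z : Over S} [IsAffine Z.left]
    (snd : P ⟶ (yon S).obj Z) (h : IsQuasiSeparatedMor snd) : IsQuasiSeparatedSp P := by
  rw [isQuasiSeparatedSp_iff_terminal]
  have hZ : IsQuasiSeparatedMor (terminal.from ((yon S).obj Z)) := by
    rw [← isQuasiSeparatedSp_iff_terminal]
    refine (repWith_diag_yon_iff @QuasiCompact Z).2 ?_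
    have : QuasiSeparated Z.hom := inferInstance
    exact this.1
  have e : terminal.from P = snd ≫ terminal.from ((yon S).obj Z) := Subsingleton.elim _ _
  rw [e]
  exact (RepWith (S := S) @QuasiCompact).diagonal.comp_mem _ _ h hZ

/-- A quasi-separated morphism of algebraic spaces is decent. -/
theorem isDecentMor_of_isQuasiSeparatedMor {X Y : Space S} (f : X ⟶ Y)
    (hf : IsQuasiSeparatedMor f.hom) : IsDecentMor f.hom := by
  refine isDecentMor_of_affine f fun Z g P fst snd hZ sq => ?_
  have hP : IsAlgSpace P :=
    Groth.Agent.Lib.Helper23.AlgSpMor.isAlgSpace_of_isPullback X.property (IsAlgSpace.yon_obj Z)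
      Y.property.diag sq
  have hsnd : IsQuasiSeparatedMor snd :=
    (RepWith (S := S) @QuasiCompact).diagonal.of_isPullback sq hf
  exact isDecent_of_isQuasiSeparatedSp ⟨P, hP⟩ (isQuasiSeparatedSp_of_isQuasiSeparatedMor_affine snd hsnd)

end Groth.Agent.Lib.Helper37.DecentMor2
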