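import Mathlib

/-!
# Degree bound from fibre degrees over an Artinian base (helper37; algebra for S10424)

* `finrank_tensor_le`, `finrank_le_of_fibres`: if `A` is a finite algebra over a field `K` and every fibre `B ⊗_A A/p` of an
  `A`-algebra `B` has `K`-dimension at most `m · dim_K (A/p)`, then `dim_K B ≤ m · dim_K A` (composition series induction).
-/

set_option autoImplicit false
universe u
open TensorProduct

namespace Groth.Agent.Lib.Helper37.UbfComp

/-- **Degree bound by fibres** (module form). Let `A` be a finite algebra over a field `K` and `B` an `A`-algebra such that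
for every maximal ideal `p` of `A` the fibre `B ⊗_A A/p` is finite over `K` of dimension at most `m · dim_K (A/p)`. Then
for every `A`-module `M` finite over `K`, `B ⊗_A M` is finite over `K` of dimension at most `m · dim_K M`. -/
theorem finrank_tensor_le (K A B : Type u) [Field K] [CommRing A] [CommRing B] [Algebra K A]
    [Algebra A B] [Algebra K B] [IsScalarTower K A B] [Module.Finite K A] (m : ℕ)
    (h : ∀ p : Ideal A, p.IsMaximal → Module.Finite K (B ⊗[A] (A ⧸ p)) ∧
      Module.finrank K (B ⊗[A] (A ⧸ p)) ≤ m * Module.finrank K (A ⧸ p)) :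
    ∀ (d : ℕ) (M : Type u) [AddCommGroup M] [Module A M] [Module K M] [IsScalarTower K A M]
      [Module.Finite K M], Module.finrank K M = d →
      Module.Finite K (B ⊗[A] M) ∧ Module.finrank K (B ⊗[A] M) ≤ m * Module.finrank K M := by
  intro d
  induction d using Nat.strong_induction_on with
  | _ d ih =>
  intro M _ _ _ _ _ hd
  by_cases hM : Subsingleton M
  · have : Subsingleton (B ⊗[A] M) := inferInstance
    refine ⟨inferInstance, ?_⟩
    rw [Module.finrank_zero_of_subsingleton]
    exact Nat.zero_le _
  rw [not_subsingleton_iff_nontrivial] at hM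
  have hNoeth : IsNoetherianRing A := IsNoetherianRing.of_finite K A
  have hMfinA : Module.Finite A M := Module.Finite.of_restrictScalars_finite K A M
  have hMN : IsNoetherian A M := inferInstance
  -- a maximal proper submodule
  obtain ⟨M', hM'⟩ : ∃ M' : Submodule A M, IsCoatom M' := by
    obtain ⟨M', hM'⟩ := (eq_top_or_exists_le_coatom (⊥ : Submodule A M)).resolve_left bot_ne_top
    exact ⟨M', hM'.1⟩
  have hsimple : IsSimpleModule A (M ⧸ M') := isSimpleModule_iff_isCoatom.2 hM'
  obtain ⟨p, hp, ⟨e⟩⟩ := isSimpleModule_iff_quot_maximal.1 hsimple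
  obtain ⟨hfinp, hrankp⟩ := h p hp
  -- the induction hypothesis for `M'`
  have hfinM' : Module.Finite K ↥M' :=
    Module.Finite.of_injective (M'.subtype.restrictScalars K) M'.injective_subtype
  have hlt : Module.finrank K ↥M' < Module.finrank K M := by
    have : (M'.restrictScalars K) ≠ ⊤ := by
      intro htop
      apply hM'.1
      exact (Submodule.restrictScalars_eq_top_iff K A M).1 htop
    exact Submodule.finrank_lt this
  obtain ⟨hfin', hrank'⟩ := ih _ (hd ▸ hlt) ↥M' rfl
  -- the exact sequence
  have hex : Function.Exact (LinearMap.lTensor B M'.subtype) (LinearMap.lTensor B M'.mkQ) :=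
    lTensor_exact B (LinearMap.exact_subtype_mkQ M') (Submodule.mkQ_surjective M')
  have hsurj : Function.Surjective (LinearMap.lTensor B M'.mkQ) :=
    LinearMap.lTensor_surjective B (Submodule.mkQ_surjective M')
  let F : B ⊗[A] ↥M' →ₗ[K] B ⊗[A] M := (LinearMap.lTensor B M'.subtype).restrictScalars K
  let G : B ⊗[A] M →ₗ[K] B ⊗[A] (M ⧸ M') := (LinearMap.lTensor B M'.mkQ).restrictScalars K
  let E : B ⊗[A] (M ⧸ M') ≃ₗ[K] B ⊗[A] (A ⧸ p) := (LinearEquiv.lTensor B e).restrictScalars K
  have hfinQ : Module.Finite K (B ⊗[A] (M ⧸ M')) := Module.Finite.equiv E.symm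
  have hkerG : LinearMap.ker G = LinearMap.range F := by
    ext x
    exact hex x
  have hfinker : Module.Finite K ↥(LinearMap.ker G) := by
    rw [hkerG]
    exact Module.Finite.range F
  have hfinquot : Module.Finite K ((B ⊗[A] M) ⧸ LinearMap.ker G) :=
    Module.Finite.equiv (G.quotKerEquivOfSurjective hsurj).symm
  have hfin : Module.Finite K (B ⊗[A] M) := Module.Finite.of_submodule_quotient (LinearMap.ker G)
  refine ⟨hfin, ?_⟩
  have h1 := G.finrank_range_add_finrank_ker
  have h2 : Module.finrank K ↥(LinearMap.range G) = Module.finrank K (B ⊗[A] (A ⧸ p)) := by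
    have hG : Function.Surjective G := hsurj
    rw [LinearMap.range_eq_top.2 hG, finrank_top]
    exact E.finrank_eq
  have h3 : Module.finrank K ↥(LinearMap.ker G) ≤ Module.finrank K (B ⊗[A] ↥M') := by
    rw [hkerG]
    exact F.finrank_range_le
  have h4 : Module.finrank K (M ⧸ M') + Module.finrank K ↥M' = Module.finrank K M :=
    Submodule.finrank_quotient_add_finrank (M'.restrictScalars K)
  have h5 : Module.finrank K (M ⧸ M') = Module.finrank K (A ⧸ p) :=
    (e.restrictScalars K).finrank_eq
  calc Module.finrank K (B ⊗[A] M)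
      = Module.finrank K ↥(LinearMap.range G) + Module.finrank K ↥(LinearMap.ker G) := h1.symm
    _ ≤ m * Module.finrank K (A ⧸ p) + m * Module.finrank K ↥M' := by
        rw [h2]; exact add_le_add hrankp (h3.trans hrank')
    _ = m * Module.finrank K M := by rw [← h4, h5, mul_add]

/-- **Degree bound by fibres** (algebra form). -/
theorem finrank_le_of_fibres (K A B : Type u) [Field K] [CommRing A] [CommRing B] [Algebra K A]
    [Algebra A B] [Algebra K B] [IsScalarTower K A B] [Module.Finite K A] (m : ℕ)
    (h : ∀ p : Ideal A, p.IsMaximal → Module.Finite K (B ⊗[A] (A ⧸ p)) ∧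
      Module.finrank K (B ⊗[A] (A ⧸ p)) ≤ m * Module.finrank K (A ⧸ p)) :
    Module.Finite K B ∧ Module.finrank K B ≤ m * Module.finrank K A := by
  obtain ⟨h1, h2⟩ := finrank_tensor_le K A B m h _ A rfl
  let E : B ⊗[A] A ≃ₗ[K] B := (TensorProduct.rid A B).restrictScalars K
  exact ⟨Module.Finite.equiv E, E.finrank_eq ▸ h2⟩

end Groth.Agent.Lib.Helper37.UbfComp
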