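import Mathlib
import Groth.Agent.Lib.Helper37.UnivBdd

/-!
# Universally bounded fibres: degree computations (helper37, S10428)
-/

set_option autoImplicit false
universe u
open CategoryTheory CategoryTheory.Limits AlgebraicGeometry Opposite

namespace Groth.Agent.Lib.Helper37.UnivBdd

open AlgSp Groth.Agent.Lib.Helper37.AlgSpPoints

/-- The number of primes of a finite algebra over a field is at most its dimension. -/
theorem card_primeSpectrum_le_finrank (K A : Type*) [Field K] [CommRing A] [Algebra K A]
    [Module.Finite K A] : Nat.card (PrimeSpectrum A) ≤ Module.finrank K A := by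
  have hart : IsArtinianRing A := IsArtinianRing.of_finite K A
  have hfin : Finite (PrimeSpectrum A) := inferInstance
  let _ : Fintype (PrimeSpectrum A) := Fintype.ofFinite _
  rw [IsArtinianRing.finrank_eq_sum_primeSpectrum A K, Nat.card_eq_fintype_card,
    ← Finset.card_univ, Finset.card_eq_sum_ones]
  refine Finset.sum_le_sum fun p _ => ?_
  have : Module.Finite K (Localization.AtPrime p.asIdeal) :=
    Module.Finite.of_surjective (Algebra.algHom K A (Localization.AtPrime p.asIdeal)).toLinearMap
      (IsArtinianRing.localization_surjective p.asIdeal.primeCompl (Localization.AtPrime p.asIdeal))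
  exact Module.finrank_pos

/-- The rank of a finite morphism `Spec A ⟶ Spec K` is the dimension of `A`. -/
theorem finrank_SpecMap_field {K : Type u} [Field K] {A : CommRingCat.{u}}
    (ψ : CommRingCat.of K ⟶ A) (hψ : ψ.hom.Finite) (s : ↥(Spec (CommRingCat.of K))) :
    (Spec.map ψ).finrank s = @Module.finrank K A _ _ ψ.hom.toAlgebra.toModule := by
  algebraize [ψ.hom]
  have hflat : ψ.hom.Flat := by
    change Module.Flat K A
    infer_instance
  rw [Scheme.Hom.finrank_SpecMap_eq_finrank hψ hflat]
  change Module.rankAtStalk (R := K) A s = _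
  rw [Module.rankAtStalk_eq_finrank_of_free]
  rfl

/-- A scheme finite over the spectrum of a field has at most as many points as its degree. -/
theorem card_le_finrank_of_isFinite {K : Type u} [Field K] {T : Scheme.{u}}
    (c : T ⟶ Spec (CommRingCat.of K)) [IsFinite c] (s : ↥(Spec (CommRingCat.of K))) :
    Nat.card ↥T ≤ c.finrank s := by
  have haff : IsAffine T := isAffine_of_isAffineHom c
  let iso : T ≅ Spec Γ(T, ⊤) := T.isoSpec
  let ψ : CommRingCat.of K ⟶ Γ(T, ⊤) := Spec.preimage (iso.inv ≫ c)
  have hψ' : Spec.map ψ = iso.inv ≫ c := Spec.map_preimage _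
  have hfin' : IsFinite (Spec.map ψ) := by rw [hψ']; infer_instance
  have hψfin : ψ.hom.Finite := (IsFinite.SpecMap_iff ψ).1 hfin'
  have hflat : Flat (Spec.map ψ) := by
    rw [Flat.SpecMap_iff]
    algebraize [ψ.hom]
    change Module.Flat K Γ(T, ⊤)
    infer_instance
  have hc : c = iso.hom ≫ Spec.map ψ := by rw [hψ', Iso.hom_inv_id_assoc]
  rw [hc, Scheme.Hom.finrank_comp_left_of_isIso, finrank_SpecMap_field ψ hψfin]
  algebraize [ψ.hom]
  have : Module.Finite K Γ(T, ⊤) := hψfin
  have e : Nat.card ↥T = Nat.card (PrimeSpectrum Γ(T, ⊤)) :=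
    Nat.card_congr iso.hom.homeomorph.toEquiv
  rw [e]
  exact card_primeSpectrum_le_finrank K Γ(T, ⊤)

variable {S : Scheme.{u}}

/-- S10428: universally bounded fibres bound the cardinality of the fibres of `|U| → |X|`. -/
theorem encard_fibre_le_of_hasUnivBddFibres (X : Space S) {U : Over S}
    (φ : (yon S).obj U ⟶ X.obj) (hφ : W4dec.HasUnivBddFibres φ) :
    ∃ n : ℕ, ∀ x : Points X.obj, (Points.ofPt φ ⁻¹' {x}).encard ≤ n := by
  obtain ⟨n, hn⟩ := hφ
  refine ⟨n, fun x => ?_⟩
  obtain ⟨q, s, hq⟩ := exists_ofPt_toHom x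
  have hprep : Representable q.toHom := X.property.representable_from_yon _
  have sq := hprep.isPullback' φ
  obtain ⟨hfin, hrank⟩ := hn q _ (hprep.fst' φ) ((yon S).map (hprep.snd φ)) sq
  have hfT : Finite ↥(hprep.pullback φ).left := Groth.Agent.Lib.Helper37.DecentPoint.finite_of_isFinite_field (K := q.K) (hprep.fst' φ).left
  have hsub : Points.ofPt φ ⁻¹' {x} ⊆ Set.range (hprep.snd φ).left := by
    intro w hw
    have e : Points.ofPt q.toHom s = Points.ofPt φ w := by rw [hq]; exact hw.symm
    obtain ⟨r, -, hr⟩ := (ofPt_eq_ofPt_iff sq s w).1 e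
    exact ⟨r, hr⟩
  calc (Points.ofPt φ ⁻¹' {x}).encard ≤ (Set.range (hprep.snd φ).left).encard := Set.encard_le_encard hsub
    _ ≤ (Set.univ : Set ↥(hprep.pullback φ).left).encard := by
        rw [← Set.image_univ]; exact Set.encard_image_le _ _
    _ = (Nat.card ↥(hprep.pullback φ).left : ℕ∞) := by
        rw [Set.encard_univ, ENat.card_eq_coe_natCard]
    _ ≤ n := by
        exact_mod_cast (card_le_finrank_of_isFinite (K := q.K) (hprep.fst' φ).left s).trans (hrank s)

end Groth.Agent.Lib.Helper37.UnivBdd
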