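import Mathlib
import Groth.Agent.Lib.Helper37.UnivBdd2
import Groth.Agent.Lib.Helper23.AlgSpInj2
import Groth.Agent.S0084

/-!
# Universally bounded fibres: field extensions and base change (helper37, S10426)
-/

set_option autoImplicit false
universe u
open CategoryTheory CategoryTheory.Limits AlgebraicGeometry Opposite

namespace Groth.Agent.Lib.Helper37.UnivBdd

open AlgSp Groth.Agent.Lib.Helper37.AlgSpPoints Groth.Agent.Lib.Helper23.AlgSpMor
  Groth.Agent.Lib.Helper36.AlgSpCharts

/-- A morphism between spectra of fields is surjective, flat and quasi-compact. -/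
theorem fpqc_of_fields {K Ω : Type u} [Field K] [Field Ω]
    (b : Spec (CommRingCat.of Ω) ⟶ Spec (CommRingCat.of K)) :
    (@Surjective ⊓ @Flat ⊓ @QuasiCompact : MorphismProperty Scheme.{u}) b := by
  refine ⟨⟨⟨fun s => ⟨IsLocalRing.closedPoint Ω, Subsingleton.elim (α := PrimeSpectrum K) _ _⟩⟩, ?_⟩,
    inferInstance⟩
  obtain ⟨φ, rfl⟩ : ∃ φ, b = Spec.map φ := ⟨Spec.preimage b, (Spec.map_preimage b).symm⟩
  rw [Flat.SpecMap_iff]
  algebraize [φ.hom]
  change Module.Flat K Ω
  infer_instance

/-- Finiteness and the degree of a scheme over a field can be computed after a field extension. -/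
theorem isFinite_and_finrank_of_isPullback_fields {K Ω : Type u} [Field K] [Field Ω]
    {T T' : Scheme.{u}} (c : T ⟶ Spec (CommRingCat.of K)) (c' : T' ⟶ Spec (CommRingCat.of Ω))
    (τ : T' ⟶ T) (b : Spec (CommRingCat.of Ω) ⟶ Spec (CommRingCat.of K))
    (sq : IsPullback c' τ b c) (hc' : IsFinite c') (n : ℕ) (hn : ∀ y, c'.finrank y ≤ n) :
    IsFinite c ∧ ∀ s, c.finrank s ≤ n := by
  have hfin : IsFinite c :=
    Groth.Agent.S0084.result.of_isPullback sq (fpqc_of_fields b) hc'
  refine ⟨hfin, fun s => ?_⟩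
  have hflat : Flat c := by
    have haff : IsAffine T := isAffine_of_isAffineHom c
    obtain ⟨φ, hφ⟩ : ∃ φ, T.isoSpec.inv ≫ c = Spec.map φ :=
      ⟨Spec.preimage _, (Spec.map_preimage _).symm⟩
    have h1 : Flat (Spec.map φ) := by
      rw [Flat.SpecMap_iff]
      algebraize [φ.hom]
      change Module.Flat K _
      infer_instance
    have h2 : c = T.isoSpec.hom ≫ Spec.map φ := by rw [← hφ, Iso.hom_inv_id_assoc]
    rw [h2]
    infer_instance
  have e := Scheme.Hom.finrank_of_isPullback τ c' c b sq.flip (IsLocalRing.closedPoint Ω)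
  rw [Subsingleton.elim (α := PrimeSpectrum K) s (b (IsLocalRing.closedPoint Ω)), ← e]
  exact hn _

/-- A morphism from an empty scheme to the spectrum of a field is finite of degree zero. -/
theorem isFinite_and_finrank_of_isEmpty {K : Type u} [Field K] {T : Scheme.{u}} [IsEmpty ↥T]
    (c : T ⟶ Spec (CommRingCat.of K)) (n : ℕ) : IsFinite c ∧ ∀ s, c.finrank s ≤ n := by
  have hfin : IsFinite c := inferInstance
  refine ⟨hfin, fun s => ?_⟩
  by_contra hlt
  push Not at hlt
  have hflat : Flat c := by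
    have haff : IsAffine T := isAffine_of_isAffineHom c
    obtain ⟨φ, hφ⟩ : ∃ φ, T.isoSpec.inv ≫ c = Spec.map φ :=
      ⟨Spec.preimage _, (Spec.map_preimage _).symm⟩
    have h1 : Flat (Spec.map φ) := by
      rw [Flat.SpecMap_iff]
      algebraize [φ.hom]
      change Module.Flat K _
      infer_instance
    have h2 : c = T.isoSpec.hom ≫ Spec.map φ := by rw [← hφ, Iso.hom_inv_id_assoc]
    rw [h2]
    infer_instance
  have h1 : 1 ≤ c.finrank := fun s' => by
    rw [Subsingleton.elim (α := PrimeSpectrum K) s' s]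
    change 1 ≤ c.finrank s
    omega
  have := (Scheme.Hom.one_le_finrank_iff_surjective c).1 h1
  obtain ⟨t, -⟩ := this.surj s
  exact IsEmpty.false t

variable {S : Scheme.{u}}

/-- Degree bounds can be checked after passing to a point of `Y` over the given point of `X`
(S10426). -/
theorem hasUnivBddFibres_of_baseChange {X Y : Space S} (g : Y ⟶ X)
    {U V : Over S} (f : (yon S).obj U ⟶ X.obj)
    (fst : (yon S).obj V ⟶ (yon S).obj U) (f' : (yon S).obj V ⟶ Y.obj)
    (h : IsPullback fst f' f g.hom)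
    (him : Set.range (Points.ofPt f) ⊆ Set.range (Points.map g.hom))
    (hf' : W4dec.HasUnivBddFibres f') : W4dec.HasUnivBddFibres f := by
  obtain ⟨n, hn⟩ := hf'
  refine ⟨n, fun q T c snd sq => ?_⟩
  obtain ⟨σ, rfl⟩ := (yon S).map_surjective snd
  by_cases hT : IsEmpty ↥T.left
  · exact isFinite_and_finrank_of_isEmpty (K := q.K) c.left n
  · rw [not_isEmpty_iff] at hT
    obtain ⟨t⟩ := hT
    have e1 : Points.ofPt f (σ.left t) = Points.mk q := by
      rw [← ofPt_map_comp, ← sq.w, ofPt_map_comp, Points.ofPt_toHom]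
    obtain ⟨y, hy⟩ := him ⟨_, e1⟩
    obtain ⟨q', rfl⟩ := Points.mk_surjective y
    have hrel : Points.mk (q'.map g.hom) = Points.mk q := by rw [← Points.map_mk, hy]
    obtain ⟨Ω, _, w, a, b, hab⟩ := (rel_iff_toHom _ _).1 (Points.mk_eq_mk_iff.1 hrel)
    rw [FieldPt.toHom_map] at hab
    let a' : Over.mk w ⟶ q'.pt := a
    have hab' : (yon S).map a' ≫ q'.toHom ≫ g.hom = (yon S).map b ≫ q.toHom := hab
    let q'' : FieldPt Y.obj := fieldPtOfHom w ((yon S).map a' ≫ q'.toHom)
    have hq''t : q''.toHom = (yon S).map a' ≫ q'.toHom := toHom_fieldPtOfHom _ _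
    let b' : q''.pt ⟶ q.pt := b
    have hq'' : q''.toHom ≫ g.hom = (yon S).map b' ≫ q.toHom := by
      exact (congrArg (fun m => m ≫ g.hom) hq''t).trans ((Category.assoc _ _ _).trans hab')
    have hrep : Representable q''.toHom := Y.property.representable_from_yon _
    have sq' := hrep.isPullback' f'
    obtain ⟨hfin', hrank'⟩ := hn q'' _ (hrep.fst' f') ((yon S).map (hrep.snd f')) sq'
    have big : IsPullback ((yon S).map (hrep.fst' f')) ((yon S).map (hrep.snd f') ≫ fst)
        (q''.toHom ≫ g.hom) f := sq'.paste_vert h.flip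
    have comm : ((yon S).map (hrep.fst' f') ≫ (yon S).map b') ≫ q.toHom =
        ((yon S).map (hrep.snd f') ≫ fst) ≫ f := by
      rw [Category.assoc, ← hq'', big.w]
    obtain ⟨τ, hτ⟩ := (yon S).map_surjective (sq.lift _ _ comm)
    have hτ1 : (yon S).map τ ≫ (yon S).map c = (yon S).map (hrep.fst' f') ≫ (yon S).map b' := by
      rw [hτ, sq.lift_fst]
    have hτ2 : (yon S).map τ ≫ (yon S).map σ = (yon S).map (hrep.snd f') ≫ fst := by
      rw [hτ, sq.lift_snd]
    have left : IsPullback ((yon S).map (hrep.fst' f')) ((yon S).map τ) ((yon S).map b')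
        ((yon S).map c) := by
      refine IsPullback.of_bot ?_ hτ1.symm sq
      rw [hτ2, ← hq'']
      exact big
    have leftS := isPullback_left_of_yon left
    exact isFinite_and_finrank_of_isPullback_fields (K := q.K) (Ω := Ω) c.left (hrep.fst' f').left
      τ.left b'.left leftS hfin' n hrank'

end Groth.Agent.Lib.Helper37.UnivBdd
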