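import Mathlib
import Groth.Agent.Lib.Helper37.UnivBdd3

/-!
# Universally bounded fibres: flat surjective descent on the chart (helper37, S10427)
-/

set_option autoImplicit false
universe u
open CategoryTheory CategoryTheory.Limits AlgebraicGeometry Opposite

namespace Groth.Agent.Lib.Helper37.UnivBdd

open AlgSp Groth.Agent.Lib.Helper37.AlgSpPoints Groth.Agent.Lib.Helper23.AlgSpMor
  Groth.Agent.Lib.Helper36.AlgSpCharts

/-- The ring map `K ⟶ Γ(T, ⊤)` of a morphism from an affine scheme to `Spec K`. -/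
noncomputable def ringMapOf {K : Type u} [Field K] {T : Scheme.{u}} [IsAffine T]
    (c : T ⟶ Spec (CommRingCat.of K)) : CommRingCat.of K ⟶ Γ(T, ⊤) :=
  Spec.preimage (T.isoSpec.inv ≫ c)

lemma SpecMap_ringMapOf {K : Type u} [Field K] {T : Scheme.{u}} [IsAffine T]
    (c : T ⟶ Spec (CommRingCat.of K)) : Spec.map (ringMapOf c) = T.isoSpec.inv ≫ c :=
  Spec.map_preimage _

lemma eq_isoSpec_hom_comp {K : Type u} [Field K] {T : Scheme.{u}} [IsAffine T]
    (c : T ⟶ Spec (CommRingCat.of K)) : c = T.isoSpec.hom ≫ Spec.map (ringMapOf c) := by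
  rw [SpecMap_ringMapOf, Iso.hom_inv_id_assoc]

lemma isFinite_iff_ringMapOf {K : Type u} [Field K] {T : Scheme.{u}} [IsAffine T]
    (c : T ⟶ Spec (CommRingCat.of K)) : IsFinite c ↔ (ringMapOf c).hom.Finite := by
  rw [← IsFinite.SpecMap_iff, SpecMap_ringMapOf]
  exact (MorphismProperty.cancel_left_of_respectsIso @IsFinite T.isoSpec.inv c).symm

lemma flat_SpecMap_field {K : Type u} [Field K] {A : CommRingCat.{u}} (ψ : CommRingCat.of K ⟶ A) :
    Flat (Spec.map ψ) := by
  rw [Flat.SpecMap_iff]
  algebraize [ψ.hom]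
  change Module.Flat K A
  infer_instance

lemma finrank_eq_ringMapOf {K : Type u} [Field K] {T : Scheme.{u}} [IsAffine T]
    (c : T ⟶ Spec (CommRingCat.of K)) (hc : (ringMapOf c).hom.Finite)
    (s : ↥(Spec (CommRingCat.of K))) :
    c.finrank s = @Module.finrank K Γ(T, ⊤) _ _ (ringMapOf c).hom.toAlgebra.toModule := by
  have h1 : Flat (Spec.map (ringMapOf c)) := flat_SpecMap_field _
  have h2 : IsFinite (Spec.map (ringMapOf c)) := (IsFinite.SpecMap_iff _).2 hc
  conv_lhs => rw [eq_isoSpec_hom_comp c]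
  rw [Scheme.Hom.finrank_comp_left_of_isIso, finrank_SpecMap_field _ hc]

/-- Finiteness and degree over a field pass to the target of a flat surjective morphism. -/
theorem isFinite_and_finrank_of_flat_surjective {K : Type u} [Field K] {TU TV : Scheme.{u}}
    (r : TU ⟶ TV) [Flat r] [Surjective r] (cV : TV ⟶ Spec (CommRingCat.of K))
    (hfin : IsFinite (r ≫ cV)) (n : ℕ) (hn : ∀ s, (r ≫ cV).finrank s ≤ n) :
    IsFinite cV ∧ ∀ s, cV.finrank s ≤ n := by
  have hfU : Finite ↥TU := Groth.Agent.Lib.Helper37.DecentPoint.finite_of_isFinite_field (r ≫ cV)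
  have haffU : IsAffine TU := isAffine_of_isAffineHom (r ≫ cV)
  have hdU : DiscreteTopology ↥TU := by
    have hF : (ringMapOf (r ≫ cV)).hom.Finite := (isFinite_iff_ringMapOf _).1 hfin
    algebraize [(ringMapOf (r ≫ cV)).hom]
    have : Module.Finite K Γ(TU, ⊤) := hF
    have hart : IsArtinianRing Γ(TU, ⊤) := IsArtinianRing.of_finite K _
    have : DiscreteTopology ↥(Spec Γ(TU, ⊤)) :=
      inferInstanceAs (DiscreteTopology (PrimeSpectrum Γ(TU, ⊤)))
    exact TU.isoSpec.hom.homeomorph.symm.discreteTopology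
  have hfV : Finite ↥TV := Finite.of_surjective r r.surjective
  have hT1 : T1Space ↥TV := by
    rw [t1Space_iff_specializes_imp_eq]
    intro x y hxy
    obtain ⟨y', rfl⟩ := r.surjective y
    obtain ⟨x', hx', rfl⟩ := Flat.generalizingMap r hxy
    rw [hx'.eq]
  have hdV : DiscreteTopology ↥TV := inferInstance
  have haffV : IsAffine TV := inferInstance
  -- ring level
  have hFF : r.appTop.hom.FaithfullyFlat :=
    (Flat.flat_and_surjective_iff_faithfullyFlat_of_isAffine (f := r)).1 ⟨inferInstance, inferInstance⟩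
  have hinj : Function.Injective r.appTop.hom := hFF.injective
  have hψ : ringMapOf (r ≫ cV) = ringMapOf cV ≫ r.appTop := by
    apply Spec.map_injective
    rw [Spec.map_comp, SpecMap_ringMapOf, SpecMap_ringMapOf, ← Category.assoc,
      ← Scheme.isoSpec_inv_naturality, Category.assoc]
  have hF : (ringMapOf (r ≫ cV)).hom.Finite := (isFinite_iff_ringMapOf _).1 hfin
  rw [hψ] at hF
  have hrankU : ∀ s, (r ≫ cV).finrank s =
      @Module.finrank K Γ(TU, ⊤) _ _ (ringMapOf cV ≫ r.appTop).hom.toAlgebra.toModule := by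
    intro s
    rw [finrank_eq_ringMapOf _ ((isFinite_iff_ringMapOf _).1 hfin)]
    rw [hψ]
  algebraize [(ringMapOf cV).hom, r.appTop.hom, (ringMapOf cV ≫ r.appTop).hom]
  have hst : IsScalarTower K Γ(TV, ⊤) Γ(TU, ⊤) := IsScalarTower.of_algebraMap_eq' rfl
  have hFU : Module.Finite K Γ(TU, ⊤) := hF
  let L : Γ(TV, ⊤) →ₗ[K] Γ(TU, ⊤) := (IsScalarTower.toAlgHom K Γ(TV, ⊤) Γ(TU, ⊤)).toLinearMap
  have hL : Function.Injective L := hinj
  have hFV : Module.Finite K Γ(TV, ⊤) := Module.Finite.of_injective L hL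
  have hcVfin : (ringMapOf cV).hom.Finite := hFV
  refine ⟨(isFinite_iff_ringMapOf cV).2 hcVfin, fun s => ?_⟩
  rw [finrank_eq_ringMapOf cV hcVfin]
  refine le_trans (LinearMap.finrank_le_finrank_of_injective hL) ?_
  rw [← hrankU s]
  exact hn s

variable {S : Scheme.{u}}

/-- S10427: universally bounded fibres descend along a flat surjective morphism of charts. -/
theorem hasUnivBddFibres_of_flat_surjective (X : Space S) {U V : Over S} (f : U ⟶ V)
    [Surjective f.left] [Flat f.left] (h : (yon S).obj V ⟶ X.obj)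
    (hg : W4dec.HasUnivBddFibres ((yon S).map f ≫ h)) : W4dec.HasUnivBddFibres h := by
  obtain ⟨n, hn⟩ := hg
  refine ⟨n, fun q T c snd sq => ?_⟩
  obtain ⟨σ, rfl⟩ := (yon S).map_surjective snd
  have sqO : IsPullback (pullback.fst σ f) (pullback.snd σ f) σ f := IsPullback.of_hasPullback σ f
  have sqY := sqO.map (yon S)
  have big := sqY.paste_horiz sq
  rw [← Functor.map_comp] at big
  obtain ⟨hfin, hrank⟩ := hn q _ (pullback.fst σ f ≫ c) ((yon S).map (pullback.snd σ f)) big
  have sqL := sqO.map (Over.forget S)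
  have hflat : Flat (pullback.fst σ f).left :=
    MorphismProperty.of_isPullback (P := @Flat) sqL.flip (inferInstance : Flat f.left)
  have hsurj : Surjective (pullback.fst σ f).left :=
    MorphismProperty.of_isPullback (P := @Surjective) sqL.flip (inferInstance : Surjective f.left)
  exact isFinite_and_finrank_of_flat_surjective (K := q.K) (pullback.fst σ f).left c.left hfin n hrank

end Groth.Agent.Lib.Helper37.UnivBdd
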