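import Mathlib
import Groth.Agent.Lib.Helper37.FibDeg
import Groth.Agent.Lib.Helper37.UnivBdd4

/-!
# Composition of degrees over a field (helper37; scheme part of S10424)

* `isScalarTower_right`, `finite_finrank_fibre`: the fibre `B ⊗_A A/p` as a `K`-vector space.
* `finite_finrank_comp_Spec`: `Spec B ⟶ Spec A ⟶ Spec K` with `A` finite over `K` and all field fibres of `Spec B ⟶ Spec A`
  finite of degree `≤ m`: then `B` is finite over `K` of degree `≤ m · dim_K A`.
* `discreteTopology_of_isFinite_field`, `isFinite_finrank_comp`: the same for arbitrary schemes `T ⟶ T' ⟶ Spec K`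
  (`T` is automatically finite discrete, hence affine).
-/

set_option autoImplicit false
universe u
open CategoryTheory CategoryTheory.Limits AlgebraicGeometry Opposite TensorProduct

namespace Groth.Agent.Lib.Helper37.UbfComp

open Groth.Agent.Lib.Helper37.UnivBdd

section
attribute [local instance] Algebra.TensorProduct.rightAlgebra

theorem isScalarTower_right (K A B : Type u) [Field K] [CommRing A] [CommRing B] [Algebra K A]
    [Algebra A B] [Algebra K B] [IsScalarTower K A B] (p : Ideal A) :
    IsScalarTower K (A ⧸ p) (B ⊗[A] (A ⧸ p)) := by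
  have h1 : IsScalarTower A (A ⧸ p) (B ⊗[A] (A ⧸ p)) := Algebra.TensorProduct.right_isScalarTower
  refine ⟨fun k a x => ?_⟩
  rw [← algebraMap_smul A k a, ← algebraMap_smul A k (a • x), smul_assoc]

/-- Fibre degree over a residue field of `A`, as `K`-dimension. -/
theorem finite_finrank_fibre (K A B : Type u) [Field K] [CommRing A] [CommRing B] [Algebra K A]
    [Algebra A B] [Algebra K B] [IsScalarTower K A B] [Module.Finite K A] (p : Ideal A) [p.IsMaximal] (m : ℕ)
    (hfin : (Algebra.TensorProduct.includeRight (R := A) (A := B) (B := A ⧸ p)).toRingHom.Finite)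
    (hrank : @Module.finrank (A ⧸ p) (B ⊗[A] (A ⧸ p)) _ _
      (Algebra.TensorProduct.includeRight (R := A) (A := B) (B := A ⧸ p)).toRingHom.toAlgebra.toModule ≤ m) :
    Module.Finite K (B ⊗[A] (A ⧸ p)) ∧
      Module.finrank K (B ⊗[A] (A ⧸ p)) ≤ m * Module.finrank K (A ⧸ p) := by
  let _ := Ideal.Quotient.field p
  have ht := isScalarTower_right K A B p
  have hfin' : Module.Finite (A ⧸ p) (B ⊗[A] (A ⧸ p)) := hfin
  have hrank' : Module.finrank (A ⧸ p) (B ⊗[A] (A ⧸ p)) ≤ m := hrank
  have hfinK : Module.Finite K (B ⊗[A] (A ⧸ p)) := Module.Finite.trans (A ⧸ p) _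
  refine ⟨hfinK, ?_⟩
  rw [← Module.finrank_mul_finrank K (A ⧸ p) (B ⊗[A] (A ⧸ p)), mul_comm]
  exact Nat.mul_le_mul_right _ hrank'

end

/-- **Core** (spectra): composition of a finite `Spec A ⟶ Spec K` with `Spec B ⟶ Spec A` whose fibres over all field points
are finite of degree at most `m`. -/
theorem finite_finrank_comp_Spec {K : Type u} [Field K] {A B : CommRingCat.{u}}
    (ψ : CommRingCat.of K ⟶ A) (φ : A ⟶ B) (hψ : ψ.hom.Finite) (m : ℕ)
    (H : ∀ (L : Type u) [Field L] (y : Spec (CommRingCat.of L) ⟶ Spec A) (P : Scheme.{u})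
      (cP : P ⟶ Spec (CommRingCat.of L)) (pP : P ⟶ Spec B), IsPullback cP pP y (Spec.map φ) →
      IsFinite cP ∧ ∀ s, cP.finrank s ≤ m) :
    (ψ ≫ φ).hom.Finite ∧ @Module.finrank K B _ _ (ψ ≫ φ).hom.toAlgebra.toModule ≤
      m * @Module.finrank K A _ _ ψ.hom.toAlgebra.toModule := by
  algebraize [ψ.hom, φ.hom, (ψ ≫ φ).hom]
  have : IsScalarTower K A B := IsScalarTower.of_algebraMap_eq fun _ => rfl
  have hfinA : Module.Finite K A := hψ
  have h := finrank_le_of_fibres K A B m ?_
  · exact ⟨h.1, h.2⟩
  · intro p hp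
    let _ := Ideal.Quotient.field p
    have sq0 := isPullback_SpecMap_of_isPushout _ _ _ _
      (CommRingCat.isPushout_tensorProduct A B (A ⧸ p))
    have sq : IsPullback
        (Spec.map (CommRingCat.ofHom (S := (B : Type u) ⊗[(A : Type u)] ((A : Type u) ⧸ p))
          (Algebra.TensorProduct.includeRight (R := A) (A := B) (B := A ⧸ p)).toRingHom))
        (Spec.map (CommRingCat.ofHom (S := (B : Type u) ⊗[(A : Type u)] ((A : Type u) ⧸ p))
          (Algebra.TensorProduct.includeLeftRingHom)))
        (Spec.map (CommRingCat.ofHom (algebraMap A (A ⧸ p)))) (Spec.map φ) := sq0.flip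
    obtain ⟨h1, h2⟩ := H (A ⧸ p) _ _ _ _ sq
    have hfin := (IsFinite.SpecMap_iff _).1 h1
    have hrank := h2 (IsLocalRing.closedPoint _)
    rw [finrank_SpecMap_field _ hfin] at hrank
    exact finite_finrank_fibre K A B p m hfin hrank

/-- A scheme finite over the spectrum of a field is discrete. -/
theorem discreteTopology_of_isFinite_field {K : Type u} [Field K] {T : Scheme.{u}}
    (c : T ⟶ Spec (CommRingCat.of K)) [IsFinite c] : DiscreteTopology ↥T := by
  have haff : IsAffine T := isAffine_of_isAffineHom c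
  have hF : (ringMapOf c).hom.Finite := (isFinite_iff_ringMapOf _).1 inferInstance
  algebraize [(ringMapOf c).hom]
  have : Module.Finite K Γ(T, ⊤) := hF
  have hart : IsArtinianRing Γ(T, ⊤) := IsArtinianRing.of_finite K _
  have : DiscreteTopology ↥(Spec Γ(T, ⊤)) :=
    inferInstanceAs (DiscreteTopology (PrimeSpectrum Γ(T, ⊤)))
  exact T.isoSpec.hom.homeomorph.symm.discreteTopology

/-- **Composition of degrees** (schemes): if `c' : T' ⟶ Spec K` is finite of degree at most `n` and the fibres of
`d : T ⟶ T'` over all field points are finite of degree at most `m`, then `d ≫ c'` is finite of degree at most `m * n`. -/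
theorem isFinite_finrank_comp {K : Type u} [Field K] {T T' : Scheme.{u}} (d : T ⟶ T')
    (c' : T' ⟶ Spec (CommRingCat.of K)) [IsFinite c'] (n m : ℕ) (hn : ∀ s, c'.finrank s ≤ n)
    (H : ∀ (L : Type u) [Field L] (y : Spec (CommRingCat.of L) ⟶ T') (P : Scheme.{u})
      (cP : P ⟶ Spec (CommRingCat.of L)) (pP : P ⟶ T), IsPullback cP pP y d →
      IsFinite cP ∧ ∀ s, cP.finrank s ≤ m) :
    IsFinite (d ≫ c') ∧ ∀ s, (d ≫ c').finrank s ≤ m * n := by
  have hfT' : Finite ↥T' := Groth.Agent.Lib.Helper37.DecentPoint.finite_of_isFinite_field c'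
  have haffT' : IsAffine T' := isAffine_of_isAffineHom c'
  have hdT' : DiscreteTopology ↥T' := discreteTopology_of_isFinite_field c'
  -- fibres of `d`
  have hfib : ∀ t' : ↥T', (d ⁻¹' {t'}).Finite ∧
      ∀ t₁ t₂ : ↥T, d t₁ = t' → d t₂ = t' → t₁ ⤳ t₂ → t₁ = t₂ := by
    intro t'
    have sq := IsPullback.of_hasPullback (T'.fromSpecResidueField t') d
    obtain ⟨h1, -⟩ := H (T'.residueField t') (T'.fromSpecResidueField t') _ _ _ sq
    have hPfin : Finite ↥(pullback (T'.fromSpecResidueField t') d) :=
      Groth.Agent.Lib.Helper37.DecentPoint.finite_of_isFinite_field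
        (K := T'.residueField t') (pullback.fst (T'.fromSpecResidueField t') d)
    have hPd : DiscreteTopology ↥(pullback (T'.fromSpecResidueField t') d) :=
      discreteTopology_of_isFinite_field (K := T'.residueField t')
        (pullback.fst (T'.fromSpecResidueField t') d)
    have hrange : Set.range (pullback.snd (T'.fromSpecResidueField t') d) = d ⁻¹' {t'} := by
      rw [Scheme.Pullback.range_snd, Scheme.range_fromSpecResidueField]
    refine ⟨?_, fun t₁ t₂ h₁ h₂ hs => ?_⟩
    · rw [← hrange]
      exact Set.finite_range _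
    · obtain ⟨p₁, rfl⟩ : t₁ ∈ Set.range (pullback.snd (T'.fromSpecResidueField t') d) := by
        rw [hrange]; exact h₁
      obtain ⟨p₂, rfl⟩ : t₂ ∈ Set.range (pullback.snd (T'.fromSpecResidueField t') d) := by
        rw [hrange]; exact h₂
      have hemb := (pullback.snd (T'.fromSpecResidueField t') d).isEmbedding
      have := hemb.isInducing.specializes_iff.1 hs
      rw [this.eq]
  have hfT : Finite ↥T := by
    refine Set.finite_univ_iff.1 ((Set.finite_iUnion fun t' => (hfib t').1).subset fun t _ => ?_)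
    exact Set.mem_iUnion.2 ⟨d t, rfl⟩
  have hT1 : T1Space ↥T := by
    rw [t1Space_iff_specializes_imp_eq]
    intro x y hxy
    have h1 : d x = d y := (hxy.map d.continuous).eq
    exact (hfib (d y)).2 x y h1 rfl hxy
  have hdT : DiscreteTopology ↥T := inferInstance
  have haffT : IsAffine T := inferInstance
  -- ring level
  have hψ : ringMapOf (d ≫ c') = ringMapOf c' ≫ d.appTop := by
    apply Spec.map_injective
    rw [Spec.map_comp, SpecMap_ringMapOf, SpecMap_ringMapOf, ← Category.assoc,
      ← Scheme.isoSpec_inv_naturality, Category.assoc]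
  have hc'fin : (ringMapOf c').hom.Finite := (isFinite_iff_ringMapOf c').1 inferInstance
  have key := finite_finrank_comp_Spec (ringMapOf c') d.appTop hc'fin m ?_
  · obtain ⟨k1, k2⟩ := key
    rw [← hψ] at k1 k2
    refine ⟨(isFinite_iff_ringMapOf _).2 k1, fun s => ?_⟩
    rw [finrank_eq_ringMapOf _ k1]
    refine k2.trans (Nat.mul_le_mul_left _ ?_)
    rw [← finrank_eq_ringMapOf c' hc'fin (IsLocalRing.closedPoint K)]
    exact hn _
  · intro L _ y P cP pP sq
    have bot : IsPullback (Spec.map d.appTop) T.isoSpec.inv T'.isoSpec.inv d :=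
      IsPullback.of_vert_isIso ⟨Scheme.isoSpec_inv_naturality d⟩
    exact H L (y ≫ T'.isoSpec.inv) P cP (pP ≫ T.isoSpec.inv) (sq.paste_vert bot)

end Groth.Agent.Lib.Helper37.UbfComp
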