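import Mathlib
import Groth.Agent.Lib.Helper37.UbfSpec

/-!
# Universally bounded fibres compose (helper37, S10424)

* `fibres_of_degFibresLE`: scheme-level form of `W4dec.DegFibresLE m (yon f)` for a morphism of schemes `f` over `S`.
* `hasUnivBddFibres_comp`: if `V ⟶ U` and `U ⟶ X` have universally bounded fibres (bounds `m`, `n`), so does `V ⟶ X`
  (bound `m * n`).
-/

set_option autoImplicit false
universe u
open CategoryTheory CategoryTheory.Limits AlgebraicGeometry Opposite

namespace Groth.Agent.Lib.Helper37.UbfComp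

open AlgSp Groth.Agent.Lib.Helper37.AlgSpPoints Groth.Agent.Lib.Helper23.AlgSpMor
  Groth.Agent.Lib.Helper36.AlgSpCharts Groth.Agent.Lib.Helper37.UnivBdd

variable {S : Scheme.{u}}

/-- Scheme-level form of a degree bound for a morphism of schemes over `S`. -/
theorem fibres_of_degFibresLE {U V : Over S} (f : V ⟶ U) (m : ℕ)
    (hm : W4dec.DegFibresLE m ((yon S).map f)) (L : Type u) [Field L]
    (y : Spec (CommRingCat.of L) ⟶ U.left) (P : Scheme.{u}) (cP : P ⟶ Spec (CommRingCat.of L))
    (pP : P ⟶ V.left) (sq : IsPullback cP pP y f.left) :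
    IsFinite cP ∧ ∀ s, cP.finrank s ≤ m := by
  let yU : Over.mk (y ≫ U.hom) ⟶ U := Over.homMk y rfl
  let qL : FieldPt ((yon S).obj U) := fieldPtOfHom (y ≫ U.hom) ((yon S).map yU)
  have hqL : qL.toHom = (yon S).map yU := toHom_fieldPtOfHom _ _
  let PO : Over S := Over.mk (cP ≫ y ≫ U.hom)
  let cPO : PO ⟶ qL.pt := Over.homMk cP rfl
  have hw : pP ≫ V.hom = cP ≫ y ≫ U.hom := by
    rw [← Over.w f, ← Category.assoc, ← sq.w, Category.assoc]
  let pPO : PO ⟶ V := Over.homMk pP hw
  let yU' : qL.pt ⟶ U := yU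
  have hpbS : IsPullback cPO.left pPO.left yU'.left f.left := sq
  have hpbO : IsPullback cPO pPO yU' f :=
    IsPullback.of_map (Over.forget S) (Over.OverMorphism.ext hpbS.w) hpbS
  have sqq : IsPullback ((yon S).map cPO) ((yon S).map pPO) qL.toHom ((yon S).map f) := by
    rw [hqL]
    exact hpbO.map (yon S)
  exact hm qL PO cPO ((yon S).map pPO) sqq

/-- **S10424**: universally bounded fibres compose. -/
theorem hasUnivBddFibres_comp (X : Space S) {U V : Over S} (f : V ⟶ U)
    (g : (yon S).obj U ⟶ X.obj) (hf : W4dec.HasUnivBddFibres ((yon S).map f))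
    (hg : W4dec.HasUnivBddFibres g) : W4dec.HasUnivBddFibres ((yon S).map f ≫ g) := by
  obtain ⟨m, hm⟩ := hf
  obtain ⟨n, hn⟩ := hg
  refine ⟨m * n, fun q T c snd sq => ?_⟩
  obtain ⟨σ, rfl⟩ := (yon S).map_surjective snd
  have hrep : Representable g := X.property.representable_from_yon g
  have sq' := hrep.isPullback' q.toHom
  obtain ⟨hfin', hrank'⟩ := hn q _ (hrep.snd q.toHom) ((yon S).map (hrep.fst' q.toHom)) sq'.flip
  have comm : ((yon S).map σ ≫ (yon S).map f) ≫ g = (yon S).map c ≫ q.toHom := by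
    rw [Category.assoc, ← sq.w]
  obtain ⟨δ, hδ⟩ := (yon S).map_surjective (sq'.lift _ _ comm)
  have hδ1 : (yon S).map δ ≫ (yon S).map (hrep.fst' q.toHom) = (yon S).map σ ≫ (yon S).map f := by
    rw [hδ, sq'.lift_fst]
  have hδ2 : (yon S).map δ ≫ (yon S).map (hrep.snd q.toHom) = (yon S).map c := by
    rw [hδ, sq'.lift_snd]
  have left : IsPullback ((yon S).map δ) ((yon S).map σ) ((yon S).map (hrep.fst' q.toHom))
      ((yon S).map f) := by
    refine IsPullback.of_right ?_ hδ1 sq'.flip
    rw [hδ2]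
    exact sq
  have leftS := isPullback_left_of_yon left
  have hc : c.left = δ.left ≫ (hrep.snd q.toHom).left := by
    have : c = δ ≫ hrep.snd q.toHom := (yon S).map_injective (by rw [Functor.map_comp, hδ2])
    rw [this]
    rfl
  have key := isFinite_finrank_comp (K := q.K) δ.left (hrep.snd q.toHom).left n m hrank' ?_
  · rw [hc]
    exact key
  · intro L _ y P cP pP sqP
    exact fibres_of_degFibresLE f m hm L (y ≫ (hrep.fst' q.toHom).left) P cP (pP ≫ σ.left)
      (sqP.paste_vert leftS)

end Groth.Agent.Lib.Helper37.UbfComp
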