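import Mathlib
import Groth.Agent.Lib.Helper37.UbfComp
import Groth.Agent.Lib.Helper58.BddFib
import Groth.Agent.S7441

/-!
# Universally bounded fibres: finite open covers and quasi-compact étale morphisms (helper37; for S10429)

* `finiteOfDegLE_iff_isFinite`: helper58's `BddFib.FiniteOfDegLE` over a field vs `IsFinite` + Mathlib's `finrank`.
* `finiteOfDegLE_of_finite_openCover`: degree bounds add up over a finite open cover of a scheme over a field.
* `exists_bound_of_etale`, `hasUnivBddFibres_yon_of_etale`: quasi-compact étale morphisms of schemes have universally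
  bounded fibres (via S7441).
* `degFibresLE_of_fibres`: scheme-level criterion for `W4dec.DegFibresLE m (yon f)`.
* `hasUnivBddFibres_of_finite_openCover`: universally bounded fibres on a finite open cover of the source.
-/

set_option autoImplicit false
universe u
open CategoryTheory CategoryTheory.Limits AlgebraicGeometry Opposite

namespace Groth.Agent.Lib.Helper37.UbfCover

open AlgSp Groth.Agent.Lib.Helper37.AlgSpPoints Groth.Agent.Lib.Helper23.AlgSpMor
  Groth.Agent.Lib.Helper36.AlgSpCharts Groth.Agent.Lib.Helper37.UnivBdd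
  Groth.Agent.Lib.Helper37.AlgSpFibres Groth.Agent.Lib.Helper58.BddFibLib

theorem ringMapOf_eq {K : Type u} [Field K] {T : Scheme.{u}} [IsAffine T]
    (p : T ⟶ Spec (CommRingCat.of K)) :
    ringMapOf p = (Scheme.ΓSpecIso (CommRingCat.of K)).inv ≫ p.appTop := by
  apply Spec.map_injective
  rw [SpecMap_ringMapOf, Iso.inv_comp_eq]
  exact Groth.Agent.Lib.Helper58.BddFibLib.eq_isoSpec_hom_comp p

/-- helper58's `FiniteOfDegLE` over a field is finiteness plus a bound on Mathlib's rank function. -/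
theorem finiteOfDegLE_iff_isFinite {K : Type u} [Field K] {T : Scheme.{u}}
    (p : T ⟶ Spec (CommRingCat.of K)) (n : ℕ) :
    BddFib.FiniteOfDegLE (CommRingCat.of K) p n ↔ (IsFinite p ∧ ∀ s, p.finrank s ≤ n) := by
  constructor
  · rintro ⟨haff, hfin, hrank⟩
    have e := ringMapOf_eq p
    have h1 : (ringMapOf p).hom.Finite := by rw [e]; exact hfin
    refine ⟨(isFinite_iff_ringMapOf p).2 h1, fun s => ?_⟩
    rw [finrank_eq_ringMapOf p h1 s]
    have h2 : @Module.finrank K Γ(T, ⊤) _ _ ((Scheme.ΓSpecIso (CommRingCat.of K)).inv ≫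
        p.appTop).hom.toAlgebra.toModule ≤ n := hrank
    rw [← e] at h2
    exact h2
  · rintro ⟨hfin, hrank⟩
    have haff : IsAffine T := isAffine_of_isAffineHom p
    have e := ringMapOf_eq p
    have h1 : (ringMapOf p).hom.Finite := (isFinite_iff_ringMapOf p).1 hfin
    have h2 := hrank (IsLocalRing.closedPoint K)
    rw [finrank_eq_ringMapOf p h1] at h2
    rw [e] at h1 h2
    exact ⟨haff, h1, h2⟩

/-- Degree bounds over a finite open cover of the source add up. -/
theorem finiteOfDegLE_of_finite_openCover {K : Type u} [Field K] {T : Scheme.{u}}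
    (c : T ⟶ Spec (CommRingCat.of K)) {ι : Type u} [Fintype ι] (O : ι → T.Opens)
    (hO : ∀ t : T, ∃ i, t ∈ O i) (N : ι → ℕ)
    (h : ∀ i, BddFib.FiniteOfDegLE (CommRingCat.of K) ((O i).ι ≫ c) (N i)) :
    BddFib.FiniteOfDegLE (CommRingCat.of K) c (∑ i, N i) := by
  have hfinI : ∀ i, Finite ↥(O i).toScheme := fun i => (card_le_of_finiteOfDegLE _ (N i) (h i)).1
  have hdiscI : ∀ i, DiscreteTopology ↥(O i).toScheme := fun i =>
    discrete_of_finiteOfDegLE _ (N i) (h i)
  have hcov : ∀ t : T, ∃ i, t ∈ Set.range (O i).ι := by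
    intro t
    obtain ⟨i, hi⟩ := hO t
    exact ⟨i, ⟨t, hi⟩, rfl⟩
  have hfin : Finite ↥T := by
    refine Finite.of_surjective (fun z : Σ i, ↥(O i).toScheme => (O z.1).ι z.2) ?_
    intro t
    obtain ⟨i, z, hz⟩ := hcov t
    exact ⟨⟨i, z⟩, hz⟩
  have hdisc : DiscreteTopology ↥T := by
    rw [discreteTopology_iff_isOpen_singleton]
    intro t
    obtain ⟨i, z, rfl⟩ := hcov t
    have := (O i).ι.isOpenEmbedding.isOpenMap _ (isOpen_discrete ({z} : Set _))
    simpa using this
  have hT : IsAffine T := inferInstance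
  rw [finiteOfDegLE_iff]
  refine ⟨hT, ?_⟩
  let 𝒱 : Scheme.OpenCover.{u} T :=
    { I₀ := ι
      X := fun i => (O i).toScheme
      f := fun i => (O i).ι
      mem₀ := by
        rw [Scheme.presieve₀_mem_precoverage_iff]
        exact ⟨hcov, fun i => inferInstance⟩ }
  refine ringFinDegLE_of_jointly_injective (fun i => Γ((O i).toScheme, ⊤)) _
    (fun i => (O i).ι.appTop.hom) ?_ N ?_
  · intro a ha
    exact Scheme.zero_of_zero_cover a 𝒱 ha
  · intro i
    have := (finiteOfDegLE_iff _ _).mp (h i)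
    have e : ((Scheme.ΓSpecIso (CommRingCat.of K)).inv ≫ ((O i).ι ≫ c).appTop).hom =
        ((O i).ι.appTop.hom).comp ((Scheme.ΓSpecIso (CommRingCat.of K)).inv ≫ c.appTop).hom := by
      rw [Scheme.Hom.comp_appTop]
      rfl
    rw [← e]
    exact this.2

/-- **Quasi-compact étale morphisms of schemes have universally bounded fibres** (scheme-level form; from S7441). -/
theorem exists_bound_of_etale {W U : Scheme.{u}} (r : W ⟶ U) [Etale r] [CompactSpace ↥W] :
    ∃ N : ℕ, ∀ (L : Type u) [Field L] (y : Spec (CommRingCat.of L) ⟶ U) (P : Scheme.{u})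
      (cP : P ⟶ Spec (CommRingCat.of L)) (pP : P ⟶ W), IsPullback cP pP y r →
      IsFinite cP ∧ ∀ s, cP.finrank s ≤ N := by
  have : LocallyQuasiFinite r := locallyQuasiFinite_of_etale r
  obtain ⟨N, hN⟩ := Groth.Agent.S7441.result r
  refine ⟨N, fun L _ y P cP pP sq => ?_⟩
  have h1 := finiteOfDegLE_pullback_snd_of_fibreDegLE r N hN L y
  have h2 : BddFib.FiniteOfDegLE (CommRingCat.of L) cP N :=
    finiteOfDegLE_of_iso sq.flip.isoPullback cP (pullback.snd r y) (sq.flip.isoPullback_hom_snd) N h1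
  exact (finiteOfDegLE_iff_isFinite cP N).1 h2

variable {S : Scheme.{u}}

/-- Converse of `UbfComp.fibres_of_degFibresLE`. -/
theorem degFibresLE_of_fibres {U V : Over S} (f : V ⟶ U) (m : ℕ)
    (H : ∀ (L : Type u) [Field L] (y : Spec (CommRingCat.of L) ⟶ U.left) (P : Scheme.{u})
      (cP : P ⟶ Spec (CommRingCat.of L)) (pP : P ⟶ V.left), IsPullback cP pP y f.left →
      IsFinite cP ∧ ∀ s, cP.finrank s ≤ m) : W4dec.DegFibresLE m ((yon S).map f) := by
  intro q T c snd sq
  obtain ⟨σ, rfl⟩ := (yon S).map_surjective snd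
  obtain ⟨y, hy⟩ := (yon S).map_surjective q.toHom
  rw [← hy] at sq
  have sqS := isPullback_left_of_yon sq
  exact H q.K y.left T.left c.left σ.left sqS

/-- A quasi-compact étale morphism of schemes over `S` has universally bounded fibres. -/
theorem hasUnivBddFibres_yon_of_etale {U W : Over S} (r : W ⟶ U) [Etale r.left]
    [CompactSpace ↥W.left] : W4dec.HasUnivBddFibres ((yon S).map r) := by
  obtain ⟨N, hN⟩ := exists_bound_of_etale r.left
  exact ⟨N, degFibresLE_of_fibres r N hN⟩

/-- Universally bounded fibres can be checked on a finite open cover of the source. -/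
theorem hasUnivBddFibres_of_finite_openCover {F : Sp S} {V : Over S} (ψ : (yon S).obj V ⟶ F)
    {ι : Type u} [Fintype ι] (O : ι → V.left.Opens) (hO : ∀ v : ↥V.left, ∃ i, v ∈ O i)
    (h : ∀ i, W4dec.HasUnivBddFibres ((yon S).map (openι V (O i)) ≫ ψ)) :
    W4dec.HasUnivBddFibres ψ := by
  choose N hN using h
  refine ⟨∑ i, N i, fun q T c snd sq => ?_⟩
  obtain ⟨σ, rfl⟩ := (yon S).map_surjective snd
  refine (finiteOfDegLE_iff_isFinite (K := q.K) c.left _).1 ?_
  refine finiteOfDegLE_of_finite_openCover (K := q.K) c.left (fun i => σ.left ⁻¹ᵁ (O i))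
    (fun t => hO (σ.left t)) N fun i => ?_
  refine (finiteOfDegLE_iff_isFinite (K := q.K) ((σ.left ⁻¹ᵁ (O i)).ι ≫ c.left) _).2 ?_
  have hpbS := isPullback_morphismRestrict σ.left (O i)
  have hw : (σ.left ∣_ (O i)) ≫ (openOver V (O i)).hom = (openOver T (σ.left ⁻¹ᵁ (O i))).hom := by
    change (σ.left ∣_ (O i)) ≫ (O i).ι ≫ V.hom = (σ.left ⁻¹ᵁ (O i)).ι ≫ T.hom
    rw [← Category.assoc, morphismRestrict_ι, Category.assoc, Over.w σ]
  let res : openOver T (σ.left ⁻¹ᵁ (O i)) ⟶ openOver V (O i) := Over.homMk (σ.left ∣_ (O i)) hw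
  have hpbS' : IsPullback res.left (openι T (σ.left ⁻¹ᵁ (O i))).left (openι V (O i)).left σ.left :=
    hpbS
  have hpbO : IsPullback res (openι T (σ.left ⁻¹ᵁ (O i))) (openι V (O i)) σ :=
    IsPullback.of_map (Over.forget S) (Over.OverMorphism.ext hpbS'.w) hpbS'
  have hpbY := hpbO.map (yon S)
  have pasted := hpbY.flip.paste_horiz sq
  rw [← Functor.map_comp] at pasted
  exact hN i q (openOver T (σ.left ⁻¹ᵁ (O i))) (openι T (σ.left ⁻¹ᵁ (O i)) ≫ c)
    ((yon S).map res) pasted

end Groth.Agent.Lib.Helper37.UbfCover
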