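import Mathlib
import Groth.Agent.Lib.Helper23.AlgSpClosed
import Groth.Prelude.Def_SGA1
import Groth.Prelude.Def_Flat

/-!
# Universally submersive morphisms / universal homeomorphisms: representable vs points (helper37)

On top of helper23's `AlgSpClosed` pattern: `isQuotientMap_points_of_repWith`,
`isHomeomorph_points_of_repWith`, `surjective_points_of_repWith`, and the two equivalences
`RepWith SGA1.UnivSubmersive f ↔ IsUnivSubmersiveMor f`, `RepWith FlatMor.IsUnivHomeo f ↔ IsUnivHomeoMor f`
for representable `f` (both directions as separate lemmas).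
-/

universe u
open CategoryTheory CategoryTheory.Limits AlgebraicGeometry
open AlgSp Topology
open Groth.Agent.Lib.Helper37.AlgSpPoints Groth.Agent.Lib.Helper12.AlgSpPoints
open Groth.Agent.Lib.Helper23.AlgSpMor

namespace Groth.Agent.Lib.Helper37.UnivTop

variable {S : Scheme.{u}}

theorem isQuotientMap_points_yon_map_iff {T T' : Over S} (φ : T ⟶ T') :
    IsQuotientMap (Points.map ((yon S).map φ)) ↔ IsQuotientMap φ.left := by
  rw [Points.map_yon_map_eq]
  constructor
  · intro h
    have := ((Points.schemeHomeo T').symm.isQuotientMap.comp h).comp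
      (Points.schemeHomeo T).isQuotientMap
    convert this using 1
    ext t
    simp
  · intro h
    exact ((Points.schemeHomeo T').isQuotientMap.comp h).comp (Points.schemeHomeo T).symm.isQuotientMap

theorem isHomeomorph_points_yon_map_iff {T T' : Over S} (φ : T ⟶ T') :
    IsHomeomorph (Points.map ((yon S).map φ)) ↔ IsHomeomorph φ.left := by
  rw [Points.map_yon_map_eq]
  constructor
  · intro h
    have := ((Points.schemeHomeo T').symm.isHomeomorph.comp h).comp
      (Points.schemeHomeo T).isHomeomorph
    convert this using 1
    ext t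
    simp
  · intro h
    exact ((Points.schemeHomeo T').isHomeomorph.comp h).comp (Points.schemeHomeo T).symm.isHomeomorph

/-- Surjectivity on points from surjectivity of all represented base changes. -/
theorem surjective_points_of_repWith {X Y : Sp S} (f : X ⟶ Y) (hf : RepWith @Surjective f) :
    Function.Surjective (Points.map f) := by
  intro y
  obtain ⟨q, s, rfl⟩ := exists_ofPt_toHom y
  have hs : Surjective (hf.rep.snd q.toHom).left := hf.property_snd q.toHom
  obtain ⟨w, hw⟩ := hs.surj s
  refine ⟨Points.ofPt (hf.rep.fst q.toHom) w, ?_⟩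
  rw [Points.map_ofPt, (hf.rep.isPullback q.toHom).w, ofPt_map_comp, hw]

/-- A representable morphism whose represented base changes are quotient maps is a quotient map on
points. -/
theorem isQuotientMap_points_of_repWith {X Y : Sp S} (f : X ⟶ Y)
    (hf : RepWith (topologically fun f => IsQuotientMap f) f) : IsQuotientMap (Points.map f) := by
  have hsurj : Function.Surjective (Points.map f) := by
    apply surjective_points_of_repWith
    refine ⟨hf.rep, fun T V g fst snd sq => ?_⟩
    have : IsQuotientMap snd.left := hf.property g fst snd sq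
    exact ⟨this.surjective⟩
  refine (isQuotientMap_iff _).2 ⟨isCoinducing_iff.2 fun W =>
    ⟨fun hW => ?_, fun hW => hW.preimage (Points.continuous_map f)⟩, hsurj⟩
  refine Points.isOpen_iff.2 fun T g => ?_
  have hq : IsQuotientMap (hf.rep.snd g).left := hf.property_snd g
  rw [← hq.isOpen_preimage]
  have : (hf.rep.snd g).left ⁻¹' (Points.ofPt g ⁻¹' W) =
      Points.ofPt (hf.rep.fst g) ⁻¹' (Points.map f ⁻¹' W) := by
    ext w
    simp only [Set.mem_preimage]
    rw [Points.map_ofPt, (hf.rep.isPullback g).w, ofPt_map_comp]
  rw [this]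
  exact hW.preimage (Points.continuous_ofPt _)

instance : (topologically fun {α β} [TopologicalSpace α] [TopologicalSpace β] (f : α → β) =>
    IsQuotientMap f).RespectsIso :=
  topologically_respectsIso _ (fun e ↦ e.isQuotientMap) (fun _ _ hf hg ↦ hg.comp hf)

instance : (topologically fun {α β} [TopologicalSpace α] [TopologicalSpace β] (f : α → β) =>
    IsHomeomorph f).RespectsIso :=
  topologically_respectsIso _ (fun e ↦ e.isHomeomorph) (fun _ _ hf hg ↦ hg.comp hf)

theorem isUnivSubmersiveMor_of_repWith {X Y : Sp S} (f : X ⟶ Y)
    (hf : RepWith SGA1.UnivSubmersive f) : IsUnivSubmersiveMor f := by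
  intro Z Z' _ g fst snd sq
  have h1 : RepWith SGA1.UnivSubmersive snd := (RepWith SGA1.UnivSubmersive).of_isPullback sq hf
  exact isQuotientMap_points_of_repWith snd
    ⟨h1.rep, fun T V g fst snd sq => MorphismProperty.universally_le
      (topologically fun f => IsQuotientMap f) snd.left
      (h1.property g fst snd sq : SGA1.UnivSubmersive snd.left)⟩

theorem repWith_univSubmersive_of_isUnivSubmersiveMor {X Y : Sp S} (f : X ⟶ Y)
    (hrep : Representable f) (hf : IsUnivSubmersiveMor f) : RepWith SGA1.UnivSubmersive f := by
  refine ⟨hrep, fun U V u fst g sq => ?_⟩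
  change SGA1.UnivSubmersive g.left
  refine MorphismProperty.universally_mk' _ _ fun {T} j _ => ?_
  have hpaste := isPullback_bc_paste g j sq
  have := hf (IsAlgSpace.yon_obj _) _ _ _ hpaste
  exact (isQuotientMap_points_yon_map_iff (bcFst g j)).1 this

/-- A representable morphism whose represented base changes are homeomorphisms is a homeomorphism on
points. -/
theorem isHomeomorph_points_of_repWith {X Y : Sp S} (f : X ⟶ Y)
    (hf : RepWith (topologically fun f => IsHomeomorph f) f) : IsHomeomorph (Points.map f) := by
  refine ⟨Points.continuous_map f, ?_, ?_, ?_⟩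
  · exact isOpenMap_points_of_repWith (P := topologically fun f => IsHomeomorph f)
      (fun _ _ g hg => (hg : IsHomeomorph g).isOpenMap) f hf
  · intro x₁ x₂ h
    obtain ⟨q, hq⟩ := Points.mk_surjective (Points.map f x₁)
    have hhom : IsHomeomorph (hf.rep.snd q.toHom).left := hf.property_snd q.toHom
    obtain ⟨v₁, hv₁⟩ := exists_fibre_point f hf.rep x₁ q hq
    obtain ⟨v₂, hv₂⟩ := exists_fibre_point f hf.rep x₂ q (hq.trans h)
    have hsub : Subsingleton ↥(q.pt.left) := by
      change Subsingleton (PrimeSpectrum q.K)
      infer_instance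
    have : v₁ = v₂ := hhom.injective (Subsingleton.elim _ _)
    rw [← hv₁, ← hv₂, this]
  · apply surjective_points_of_repWith
    refine ⟨hf.rep, fun T V g fst snd sq => ?_⟩
    have : IsHomeomorph snd.left := hf.property g fst snd sq
    exact ⟨this.surjective⟩

theorem isUnivHomeoMor_of_repWith {X Y : Sp S} (f : X ⟶ Y)
    (hf : RepWith FlatMor.IsUnivHomeo f) : IsUnivHomeoMor f := by
  intro Z Z' _ g fst snd sq
  have h1 : RepWith FlatMor.IsUnivHomeo snd := (RepWith FlatMor.IsUnivHomeo).of_isPullback sq hf
  exact isHomeomorph_points_of_repWith snd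
    ⟨h1.rep, fun T V g fst snd sq => MorphismProperty.universally_le
      (topologically fun f => IsHomeomorph f) snd.left
      (h1.property g fst snd sq : FlatMor.IsUnivHomeo snd.left)⟩

theorem repWith_isUnivHomeo_of_isUnivHomeoMor {X Y : Sp S} (f : X ⟶ Y)
    (hrep : Representable f) (hf : IsUnivHomeoMor f) : RepWith FlatMor.IsUnivHomeo f := by
  refine ⟨hrep, fun U V u fst g sq => ?_⟩
  change FlatMor.IsUnivHomeo g.left
  refine MorphismProperty.universally_mk' _ _ fun {T} j _ => ?_
  have hpaste := isPullback_bc_paste g j sq
  have := hf (IsAlgSpace.yon_obj _) _ _ _ hpaste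
  exact (isHomeomorph_points_yon_map_iff (bcFst g j)).1 this

end Groth.Agent.Lib.Helper37.UnivTop
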