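import Groth.Prelude.Def_AlgSpInf

/-!
# Formally smooth / etale / unramified morphisms of sheaves: formal properties (helper37)
-/

set_option autoImplicit false
universe u
open CategoryTheory CategoryTheory.Limits AlgebraicGeometry Opposite

namespace Groth.Agent.Lib.Helper37.AlgSpFormal

open AlgSp

variable {S : Scheme.{u}}

/-- Change the maps of a lifting square, keeping the thickening. -/
noncomputable abbrev reSq {F G F' G' : Sp S} {f : F ⟶ G} (sq : InfSq f) (f' : F' ⟶ G')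
    (top : (yon S).obj sq.ptT ⟶ F') (bot : (yon S).obj sq.ptT' ⟶ G')
    (comm : top ≫ f' = (yon S).map sq.j ≫ bot) : InfSq f' where
  A := sq.A
  commRing := sq.commRing
  I := sq.I
  sq_zero := sq.sq_zero
  str := sq.str
  top := top
  bot := bot
  comm := comm

/-- Reformulation of `HasLift` for a re-labelled square. -/
theorem hasLift_reSq {F G F' G' : Sp S} {f : F ⟶ G} (sq : InfSq f) {f' : F' ⟶ G'}
    {top : (yon S).obj sq.ptT ⟶ F'} {bot : (yon S).obj sq.ptT' ⟶ G'}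
    {comm : top ≫ f' = (yon S).map sq.j ≫ bot} (h : (reSq sq f' top bot comm).HasLift) :
    ∃ l : (yon S).obj sq.ptT' ⟶ F', (yon S).map sq.j ≫ l = top ∧ l ≫ f' = bot := h

theorem hasUniq_reSq {F G F' G' : Sp S} {f : F ⟶ G} (sq : InfSq f) {f' : F' ⟶ G'}
    {top : (yon S).obj sq.ptT ⟶ F'} {bot : (yon S).obj sq.ptT' ⟶ G'}
    {comm : top ≫ f' = (yon S).map sq.j ≫ bot} (h : (reSq sq f' top bot comm).HasUniq)
    (l l' : (yon S).obj sq.ptT' ⟶ F') (h1 : (yon S).map sq.j ≫ l = top) (h2 : l ≫ f' = bot)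
    (h3 : (yon S).map sq.j ≫ l' = top) (h4 : l' ≫ f' = bot) : l = l' := h l l' h1 h2 h3 h4

/-- composition: formally smooth -/
theorem smooth_comp {F G H : Sp S} (a : F ⟶ G) (b : G ⟶ H) (ha : IsFormallySmoothMor a)
    (hb : IsFormallySmoothMor b) : IsFormallySmoothMor (a ≫ b) := by
  intro sq
  have c1 : (sq.top ≫ a) ≫ b = (yon S).map sq.j ≫ sq.bot := by
    rw [Category.assoc]; exact sq.comm
  obtain ⟨lb, h1, h2⟩ := hasLift_reSq sq (hb (reSq sq b (sq.top ≫ a) sq.bot c1))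
  obtain ⟨l, h3, h4⟩ := hasLift_reSq sq (ha (reSq sq a sq.top lb h1.symm))
  exact ⟨l, h3, by rw [← Category.assoc, h4]; exact h2⟩

/-- composition: formally unramified -/
theorem unramified_comp {F G H : Sp S} (a : F ⟶ G) (b : G ⟶ H) (ha : IsFormallyUnramifiedMor a)
    (hb : IsFormallyUnramifiedMor b) : IsFormallyUnramifiedMor (a ≫ b) := by
  intro sq l l' h1 h2 h3 h4
  have c1 : (sq.top ≫ a) ≫ b = (yon S).map sq.j ≫ sq.bot := by
    rw [Category.assoc]; exact sq.comm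
  have e1 : (yon S).map sq.j ≫ (l ≫ a) = sq.top ≫ a := by rw [← Category.assoc, h1]
  have e3 : (yon S).map sq.j ≫ (l' ≫ a) = sq.top ≫ a := by rw [← Category.assoc, h3]
  have e2 : (l ≫ a) ≫ b = sq.bot := by rw [Category.assoc]; exact h2
  have e4 : (l' ≫ a) ≫ b = sq.bot := by rw [Category.assoc]; exact h4
  have e : l ≫ a = l' ≫ a :=
    hasUniq_reSq sq (hb (reSq sq b (sq.top ≫ a) sq.bot c1)) (l ≫ a) (l' ≫ a) e1 e2 e3 e4
  exact hasUniq_reSq sq (ha (reSq sq a sq.top (l ≫ a) e1.symm)) l l' h1 rfl h3 e.symm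

theorem smooth_of_etale {F G : Sp S} {a : F ⟶ G} (ha : IsFormallyEtaleMor a) :
    IsFormallySmoothMor a := fun sq => (ha sq).exists

theorem unramified_of_etale {F G : Sp S} {a : F ⟶ G} (ha : IsFormallyEtaleMor a) :
    IsFormallyUnramifiedMor a := fun sq _ _ h1 h2 h3 h4 => (ha sq).unique ⟨h1, h2⟩ ⟨h3, h4⟩

theorem etale_of_smooth_of_unramified {F G : Sp S} {a : F ⟶ G} (h1 : IsFormallySmoothMor a)
    (h2 : IsFormallyUnramifiedMor a) : IsFormallyEtaleMor a := fun sq => by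
  obtain ⟨l, hl1, hl2⟩ := h1 sq
  exact ⟨l, ⟨hl1, hl2⟩, fun l' hl' => h2 sq l' l hl'.1 hl'.2 hl1 hl2⟩

theorem etale_comp {F G H : Sp S} (a : F ⟶ G) (b : G ⟶ H) (ha : IsFormallyEtaleMor a)
    (hb : IsFormallyEtaleMor b) : IsFormallyEtaleMor (a ≫ b) :=
  etale_of_smooth_of_unramified (smooth_comp a b (smooth_of_etale ha) (smooth_of_etale hb))
    (unramified_comp a b (unramified_of_etale ha) (unramified_of_etale hb))

/-- permanence -/
theorem unramified_of_comp {F G H : Sp S} (a : F ⟶ G) (b : G ⟶ H)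
    (h : IsFormallyUnramifiedMor (a ≫ b)) : IsFormallyUnramifiedMor a := by
  intro sq l l' h1 h2 h3 h4
  have c1 : sq.top ≫ a ≫ b = (yon S).map sq.j ≫ sq.bot ≫ b := by
    rw [← Category.assoc, sq.comm, Category.assoc]
  have e2 : l ≫ a ≫ b = sq.bot ≫ b := by rw [← Category.assoc, h2]
  have e4 : l' ≫ a ≫ b = sq.bot ≫ b := by rw [← Category.assoc, h4]
  exact hasUniq_reSq sq (h (reSq sq (a ≫ b) sq.top (sq.bot ≫ b) c1)) l l' h1 e2 h3 e4

theorem smooth_of_comp {F G H : Sp S} (a : F ⟶ G) (b : G ⟶ H) (hb : IsFormallyUnramifiedMor b)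
    (h : IsFormallySmoothMor (a ≫ b)) : IsFormallySmoothMor a := by
  intro sq
  have c1 : sq.top ≫ a ≫ b = (yon S).map sq.j ≫ sq.bot ≫ b := by
    rw [← Category.assoc, sq.comm, Category.assoc]
  obtain ⟨l, h1, h2⟩ := hasLift_reSq sq (h (reSq sq (a ≫ b) sq.top (sq.bot ≫ b) c1))
  refine ⟨l, h1, ?_⟩
  have c2 : (sq.top ≫ a) ≫ b = (yon S).map sq.j ≫ sq.bot ≫ b := by
    rw [Category.assoc]; exact c1
  have e1 : (yon S).map sq.j ≫ (l ≫ a) = sq.top ≫ a := by rw [← Category.assoc, h1]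
  have e2 : (l ≫ a) ≫ b = sq.bot ≫ b := by rw [Category.assoc]; exact h2
  exact hasUniq_reSq sq (hb (reSq sq b (sq.top ≫ a) (sq.bot ≫ b) c2)) (l ≫ a) sq.bot e1 e2
    sq.comm.symm rfl

theorem etale_of_comp {F G H : Sp S} (a : F ⟶ G) (b : G ⟶ H) (hb : IsFormallyUnramifiedMor b)
    (h : IsFormallyEtaleMor (a ≫ b)) : IsFormallyEtaleMor a :=
  etale_of_smooth_of_unramified (smooth_of_comp a b hb (smooth_of_etale h))
    (unramified_of_comp a b (unramified_of_etale h))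

/-- base change -/
theorem smooth_of_isPullback {F G H P : Sp S} {a : F ⟶ G} {b : H ⟶ G} {b' : P ⟶ F} {a' : P ⟶ H}
    (hP : IsPullback b' a' a b) (ha : IsFormallySmoothMor a) : IsFormallySmoothMor a' := by
  intro sq
  have c1 : (sq.top ≫ b') ≫ a = (yon S).map sq.j ≫ sq.bot ≫ b := by
    rw [Category.assoc, hP.w, ← Category.assoc, sq.comm, Category.assoc]
  obtain ⟨lF, h1, h2⟩ := hasLift_reSq sq (ha (reSq sq a (sq.top ≫ b') (sq.bot ≫ b) c1))
  refine ⟨hP.lift lF sq.bot h2, ?_, hP.lift_snd _ _ _⟩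
  apply hP.hom_ext
  · rw [Category.assoc, hP.lift_fst]; exact h1
  · rw [Category.assoc, hP.lift_snd]; exact sq.comm.symm

theorem unramified_of_isPullback {F G H P : Sp S} {a : F ⟶ G} {b : H ⟶ G} {b' : P ⟶ F}
    {a' : P ⟶ H} (hP : IsPullback b' a' a b) (ha : IsFormallyUnramifiedMor a) :
    IsFormallyUnramifiedMor a' := by
  intro sq l l' h1 h2 h3 h4
  have c1 : (sq.top ≫ b') ≫ a = (yon S).map sq.j ≫ sq.bot ≫ b := by
    rw [Category.assoc, hP.w, ← Category.assoc, sq.comm, Category.assoc]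
  have e1 : (yon S).map sq.j ≫ (l ≫ b') = sq.top ≫ b' := by rw [← Category.assoc, h1]
  have e3 : (yon S).map sq.j ≫ (l' ≫ b') = sq.top ≫ b' := by rw [← Category.assoc, h3]
  have e2 : (l ≫ b') ≫ a = sq.bot ≫ b := by rw [Category.assoc, hP.w, ← Category.assoc, h2]
  have e4 : (l' ≫ b') ≫ a = sq.bot ≫ b := by rw [Category.assoc, hP.w, ← Category.assoc, h4]
  apply hP.hom_ext
  · exact hasUniq_reSq sq (ha (reSq sq a (sq.top ≫ b') (sq.bot ≫ b) c1)) (l ≫ b') (l' ≫ b')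
      e1 e2 e3 e4
  · exact h2.trans h4.symm

theorem etale_of_isPullback {F G H P : Sp S} {a : F ⟶ G} {b : H ⟶ G} {b' : P ⟶ F} {a' : P ⟶ H}
    (hP : IsPullback b' a' a b) (ha : IsFormallyEtaleMor a) : IsFormallyEtaleMor a' :=
  etale_of_smooth_of_unramified (smooth_of_isPullback hP (smooth_of_etale ha))
    (unramified_of_isPullback hP (unramified_of_etale ha))

end Groth.Agent.Lib.Helper37.AlgSpFormal
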