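import Mathlib
import Groth.Agent.Lib.Helper37.OnePoint
import Groth.Agent.Lib.Helper23.RedInduced
import Groth.Agent.Lib.Helper23.ProperClosed2
import Groth.Agent.Lib.Helper62.AlgSpMono
import Groth.Agent.Lib.Helper5.LargestOpenSp

/-!
# Residual space at a closed point is a closed subspace (helper37, S10416)
-/

set_option autoImplicit false
universe u
open CategoryTheory CategoryTheory.Limits AlgebraicGeometry Opposite

namespace Groth.Agent.Lib.Helper37.ResidualClosed

open AlgSp Groth.Agent.Lib.Helper36.AlgSpCharts Groth.Agent.Lib.Helper23.AlgSpMor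
open Groth.Agent.Lib.Helper37.AlgSpPoints Groth.Agent.Lib.Helper37.OnePoint

variable {S : Scheme.{u}}

/-- A closed subspace of a locally Noetherian sheaf is locally Noetherian. -/
theorem isLocNoethSp_of_isClosedImmersion {Z X : Sp S} (i : Z ⟶ X)
    (hi : RepWith @IsClosedImmersion i) (hX : IsLocNoethSp X) : IsLocNoethSp Z := by
  obtain ⟨U₀, p₀, hp₀e, hp₀s, hN⟩ := hX
  have hN' : IsLocallyNoetherian U₀.left := hN
  have sq := hi.rep.isPullback p₀
  have hci : IsClosedImmersion (hi.rep.snd p₀).left := hi.property_snd p₀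
  have : IsLocallyNoetherian (hi.rep.pullback p₀).left :=
    LocallyOfFiniteType.isLocallyNoetherian (hi.rep.snd p₀).left
  exact ⟨hi.rep.pullback p₀, hi.rep.fst p₀, (RepWith @Etale).of_isPullback sq.flip hp₀e,
    (RepWith @Surjective).of_isPullback sq.flip hp₀s, this⟩

/-- S10416: in a locally Noetherian algebraic space, a point is closed iff its residual space is a
closed subspace. -/
theorem isClosed_singleton_iff_residual_isClosedImmersion {X Z : Space S}
    (hX : IsLocNoethSp X.obj) (x : Points X.obj) (i : Z ⟶ X) [Mono i.hom]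
    (hi : Set.range (Points.map i.hom) = {x})
    (hZ : ∃ (k : Type u) (_ : Field k) (str : Spec (CommRingCat.of k) ⟶ S)
      (p : (yon S).obj (Over.mk str) ⟶ Z.obj),
        LocP @LocallyOfFinitePresentation p ∧ LocP @Flat p ∧ IsSurjectiveMor p) :
    IsClosed ({x} : Set (Points X.obj)) ↔ RepWith @IsClosedImmersion i.hom := by
  constructor
  · intro hx
    obtain ⟨Z₀, i₀, hZ₀, hci, hrange, hred⟩ :=
      Groth.Agent.Lib.Helper23.ClosedDescent.exists_isRedInduced X.property {x} hx
    let Z' : Space S := ⟨Z₀, hZ₀⟩
    let i' : Z' ⟶ X := ObjectProperty.homMk i₀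
    have hmono : Mono i'.hom :=
      Groth.Agent.Lib.Helper62.mono_of_repWith @IsClosedImmersion
        (fun f hf => by have := hf; infer_instance) _ hci
    have hmono₀ : Mono i₀ := hmono
    have hinj : Function.Injective (Points.map i₀) :=
      Groth.Agent.Lib.Helper5.LargestOpenSp.injective_map_of_mono i₀
    have hne : Nonempty (Points Z'.obj) := by
      obtain ⟨z, -⟩ : x ∈ Set.range (Points.map i₀) := by rw [hrange]; rfl
      exact ⟨z⟩
    have hsub : Subsingleton (Points Z'.obj) := by
      refine ⟨fun a b => hinj ?_⟩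
      have ha : Points.map i₀ a ∈ ({x} : Set _) := hrange.subset ⟨a, rfl⟩
      have hb : Points.map i₀ b ∈ ({x} : Set _) := hrange.subset ⟨b, rfl⟩
      exact ha.trans hb.symm
    have hN : IsLocNoethSp Z'.obj := isLocNoethSp_of_isClosedImmersion i₀ hci hX
    have hZ' := (reduced_locNoeth_one_point_iff Z').1 ⟨hred, hN, hne, hsub⟩
    obtain ⟨e, he⟩ := residual_space_unique X x i i' hi hrange hZ hZ'
    have h1 : i.hom = e.inv.hom ≫ i₀ := by
      have : i = e.inv ≫ i' := by rw [← he, Iso.inv_hom_id_assoc]
      rw [this]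
      rfl
    rw [h1]
    have hiso : IsIso e.inv.hom := by
      refine ⟨e.hom.hom, ?_, ?_⟩
      · have := congrArg (fun m => m.hom) e.inv_hom_id
        exact this
      · have := congrArg (fun m => m.hom) e.hom_inv_id
        exact this
    exact (MorphismProperty.cancel_left_of_respectsIso (RepWith (S := S) @IsClosedImmersion)
      e.inv.hom i₀).2 hci
  · intro h
    have := Groth.Agent.Lib.Helper23.ClosedDescent.isClosed_range_of_repWith_isClosedImmersion i.hom h
    rwa [hi] at this

end Groth.Agent.Lib.Helper37.ResidualClosed
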