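import Mathlib
import Groth.Agent.Lib.Helper37.ResidualClosed
import Groth.Agent.Lib.Helper23.AlgSpTopo

/-!
# Integral closed subspaces with prescribed irreducible closed support (helper37, S10496)

* `irreducibleSpace_of_isInducing`: the source of an inducing map with irreducible range is irreducible.
* `exists_integral_closed_subspace`: the reduced induced closed subspace on an irreducible closed subset of a decent
  algebraic space is integral.
-/

set_option autoImplicit false
universe u
open CategoryTheory CategoryTheory.Limits AlgebraicGeometry Opposite TopologicalSpace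

namespace Groth.Agent.Lib.Helper37.IntegralSub

open AlgSp Groth.Agent.Lib.Helper37.AlgSpPoints Groth.Agent.Lib.Helper37.AlgSpFibres

variable {S : Scheme.{u}}

/-- The source of an inducing map whose range is irreducible is an irreducible space. -/
theorem irreducibleSpace_of_isInducing {A B : Type*} [TopologicalSpace A] [TopologicalSpace B]
    {f : A → B} (hf : Topology.IsInducing f) (h : IsIrreducible (Set.range f)) : IrreducibleSpace A := by
  obtain ⟨⟨_, a, rfl⟩, hpre⟩ := h
  have : PreirreducibleSpace A := by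
    refine ⟨fun O₁ O₂ hO₁ hO₂ ⟨a₁, _, ha₁⟩ ⟨a₂, _, ha₂⟩ => ?_⟩
    obtain ⟨O₁', hO₁', rfl⟩ := hf.isOpen_iff.1 hO₁
    obtain ⟨O₂', hO₂', rfl⟩ := hf.isOpen_iff.1 hO₂
    obtain ⟨_, ⟨z, rfl⟩, hz1, hz2⟩ := hpre O₁' O₂' hO₁' hO₂' ⟨f a₁, ⟨a₁, rfl⟩, ha₁⟩ ⟨f a₂, ⟨a₂, rfl⟩, ha₂⟩
    exact ⟨z, Set.mem_univ _, hz1, hz2⟩
  exact ⟨⟨a⟩⟩

/-- **S10496.** -/
theorem exists_integral_closed_subspace (X : Space S) (hX : IsDecent X.obj) (T : Set (Points X.obj))
    (hT : IsClosed T) (hTi : IsIrreducible T) :
    ∃ (Z : Space S) (i : Z ⟶ X), RepWith @IsClosedImmersion i.hom ∧ IsIntegralSp Z.obj ∧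
      Set.range (Points.map i.hom) = T := by
  obtain ⟨Z₀, i₀, hZ₀, hci, hrange, hred⟩ :=
    Groth.Agent.Lib.Helper23.ClosedDescent.exists_isRedInduced X.property T hT
  let Z' : Space S := ⟨Z₀, hZ₀⟩
  let i' : Z' ⟶ X := ObjectProperty.homMk i₀
  refine ⟨Z', i', hci, ⟨hred, ?_, ?_⟩, hrange⟩
  · exact Groth.Agent.Lib.Helper37.AlgSpDecent.isDecent_of_representable i₀ hci.rep hX
  · have hind : Topology.IsInducing (Points.map i₀) :=
      Groth.Agent.Lib.Helper23.AlgSpMor.isInducing_points_of_repWith (Q := @IsClosedImmersion)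
        (fun f hf => by have := hf; exact f.isClosedEmbedding.isInducing) X.property _ hci
    exact irreducibleSpace_of_isInducing hind (by rw [hrange]; exact hTi)

end Groth.Agent.Lib.Helper37.IntegralSub
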