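import Groth.Agent.S10500
import Groth.Agent.S10423
import Groth.Agent.S10381
import Groth.Agent.Lib.Helper37.IntegralSub
import Groth.Agent.Lib.Helper23.AlgSpProper2
import Groth.Agent.Lib.Helper23.SchImage
import Groth.Agent.Lib.Helper23.AlgSpTopo
import Groth.Agent.Lib.Helper30.DecentSober

/-!
# An alteration inside a proper surjective morphism to an integral space (helper37)

* `isCompact_fibre_of_isQuasiCompactMor` : the fibre (in `|X|`) of a quasi-compact morphism over a point is
  quasi-compact.
* `exists_alteration_sub` : for `f : X ⟶ Y` proper surjective with `Y` integral, the closure `X'` of a point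
  closed in the generic fibre is an integral closed subspace, proper and dominant over `Y`, whose generic
  point is the only point over the generic point of `Y`.
-/

set_option autoImplicit false
set_option linter.style.haveILetI false
set_option linter.unusedSectionVars false
universe u
open CategoryTheory CategoryTheory.Limits AlgebraicGeometry Topology TopologicalSpace
open AlgSp

namespace Groth.Agent.Lib.Helper37.AlterationSub

open Groth.Agent.Lib.Helper37.AlgSpPoints Groth.Agent.Lib.Helper37.AlgSpFibres
  Groth.Agent.Lib.Helper23.AlgSpMor Groth.Agent.Lib.Helper37.IntegralSub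

variable {S : Scheme.{u}}

/-- the fibre over a point of a quasi-compact morphism is quasi-compact -/
theorem isCompact_fibre_of_isQuasiCompactMor {X Y : Sp S} (f : X ⟶ Y)
    (hf : IsQuasiCompactMor f) (y : Points Y) : IsCompact (Points.map f ⁻¹' {y}) := by
  obtain ⟨p, s, hps⟩ := exists_ofPt_toHom y
  have sq : IsPullback (pullback.fst f p.toHom) (pullback.snd f p.toHom) f p.toHom :=
    IsPullback.of_hasPullback _ _
  haveI : CompactSpace ↥p.pt.left :=
    inferInstanceAs (CompactSpace ↥(Spec (CommRingCat.of p.K)))
  haveI : Subsingleton ↥p.pt.left := inferInstanceAs (Subsingleton (PrimeSpectrum p.K))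
  have hqc : IsQuasiCompactSp (pullback f p.toHom) :=
    hf (IsAlgSpace.yon_obj _) (isQuasiCompactSp_yon _) p.toHom _ _ sq
  haveI := compactSpace_points_of_isQuasiCompactSp hqc
  have hy : Points.map p.toHom (Points.ofScheme _ s) = y := by
    rw [← Points.ofPt_eq_map_ofScheme, hps]
  have himg : Points.map f ⁻¹' {y} = Set.range (Points.map (pullback.fst f p.toHom)) := by
    apply Set.Subset.antisymm
    · intro x hx
      have e : Points.map f x = Points.map p.toHom (Points.ofScheme _ s) := by
        rw [hy]; exact hx
      obtain ⟨q, hq1, -⟩ := points_exists_of_isPullback sq x _ e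
      exact ⟨q, hq1⟩
    · rintro _ ⟨q, rfl⟩
      show Points.map f (Points.map (pullback.fst f p.toHom) q) = y
      rw [← Points.map_comp, sq.w, Points.map_comp]
      obtain ⟨s', hs'⟩ := (Points.schemeEquiv _).surjective (Points.map (pullback.snd f p.toHom) q)
      rw [← hs']
      have hss : s' = s := Subsingleton.elim _ _
      rw [hss]
      exact hy
  rw [himg]
  exact isCompact_range (Points.continuous_map _)

/-- **An alteration inside a proper surjective morphism**: the closure of a point closed in the generic
fibre. -/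
theorem exists_alteration_sub {X Y : Space S} (f : X ⟶ Y) (hf : IsProperMor f.hom)
    (hs : IsSurjectiveMor f.hom) (hY : IsIntegralSp Y.obj) :
    ∃ (X' : Space S) (i : X' ⟶ X) (x₀ : Points X'.obj) (y : Points Y.obj),
      RepWith @IsClosedImmersion i.hom ∧ IsIntegralSp X'.obj ∧
      IsProperMor (i ≫ f).hom ∧ IsDominantMor (i ≫ f).hom ∧
      IsGenericPoint x₀ (Set.univ : Set (Points X'.obj)) ∧
      IsGenericPoint y (Set.univ : Set (Points Y.obj)) ∧
      ∀ x'' : Points X'.obj, Points.map (i ≫ f).hom x'' = y → x'' = x₀ := by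
  have hYd : IsDecent Y.obj := hY.2.1
  have hqs : IsQuasiSeparatedMor f.hom := repWith_quasiCompact_of_isClosedImmersion _ hf.1
  have hXd : IsDecent X.obj :=
    Groth.Agent.S10381.result f ((Groth.Agent.S10423.result f).2 hqs) hYd
  haveI : IrreducibleSpace (Points Y.obj) := hY.2.2
  haveI : QuasiSober (Points Y.obj) :=
    Groth.Agent.Lib.Helper30.DecentSober.quasiSober_of_isDecent Y hYd
  obtain ⟨y, hy⟩ : ∃ y : Points Y.obj, IsGenericPoint y (Set.univ : Set (Points Y.obj)) :=
    ⟨genericPoint (Points Y.obj), genericPoint_spec _⟩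
  haveI hT0 : T0Space (Points X.obj) := t0Space_points_of_isDecent X hXd
  have hFc : IsCompact (Points.map f.hom ⁻¹' {y}) :=
    isCompact_fibre_of_isQuasiCompactMor f.hom hf.2.1.2 y
  obtain ⟨xs, hxs⟩ := hs y
  haveI : CompactSpace ↥(Points.map f.hom ⁻¹' {y}) := isCompact_iff_compactSpace.1 hFc
  obtain ⟨x₁, -, hx₁⟩ :=
    (isClosed_univ : IsClosed (Set.univ : Set ↥(Points.map f.hom ⁻¹' {y}))).exists_closed_singleton
      ⟨⟨xs, hxs⟩, trivial⟩
  have hxF : Points.map f.hom x₁.1 = y := x₁.2
  have hclosedF : ∀ x'' : Points X.obj, Points.map f.hom x'' = y → x₁.1 ⤳ x'' → x'' = x₁.1 := by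
    intro x'' h1 h2
    have h3 : x₁ ⤳ (⟨x'', h1⟩ : ↥(Points.map f.hom ⁻¹' {y})) :=
      Topology.IsInducing.subtypeVal.specializes_iff.1 h2
    have h4 := specializes_iff_mem_closure.1 h3
    rw [hx₁.closure_eq] at h4
    exact congrArg Subtype.val h4
  obtain ⟨X', i, hci, hX'i, hrange⟩ := exists_integral_closed_subspace X hXd (closure {x₁.1})
    isClosed_closure isIrreducible_singleton.closure
  have hind : Topology.IsInducing (Points.map i.hom) :=
    isInducing_points_of_repWith (Q := @IsClosedImmersion)
      (fun f hf => by have := hf; exact f.isClosedEmbedding.isInducing) X.property _ hci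
  haveI := Groth.Agent.Lib.Helper23.ClosedDescent.mono_of_repWith_isClosedImmersion i.hom hci
  have hinj := Groth.Agent.Lib.Helper5.LargestOpenSp.injective_map_of_mono i.hom
  obtain ⟨x₀, hx₀⟩ : x₁.1 ∈ Set.range (Points.map i.hom) := by
    rw [hrange]; exact subset_closure rfl
  have hx₀g : IsGenericPoint x₀ (Set.univ : Set (Points X'.obj)) := by
    rw [isGenericPoint_def]
    apply Set.eq_univ_of_forall
    intro x''
    rw [← specializes_iff_mem_closure, ← hind.specializes_iff, hx₀, specializes_iff_mem_closure,
      ← hrange]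
    exact ⟨x'', rfl⟩
  have hp' : IsProperMor (i ≫ f).hom :=
    isProperMor_comp X'.property X.property Y.property i.hom f.hom
      (isProperMor_of_repWith_isClosedImmersion X'.property X.property i.hom hci) hf
  have hmap : Points.map (i ≫ f).hom x₀ = y := by
    show Points.map (i.hom ≫ f.hom) x₀ = y
    rw [Points.map_comp, hx₀, hxF]
  have hd' : IsDominantMor (i ≫ f).hom := by
    show DenseRange _
    have hdy : Dense ({y} : Set (Points Y.obj)) := dense_iff_closure_eq.2 hy.def
    refine hdy.mono ?_
    rintro _ rfl
    exact ⟨x₀, hmap⟩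
  refine ⟨X', i, x₀, y, hci, hX'i, hp', hd', hx₀g, hy, ?_⟩
  intro x'' hx''
  apply hinj
  rw [hx₀]
  apply hclosedF
  · have h5 : Points.map (i.hom ≫ f.hom) x'' = y := hx''
    rwa [Points.map_comp] at h5
  · rw [specializes_iff_mem_closure, ← hrange]
    exact ⟨x'', rfl⟩

end Groth.Agent.Lib.Helper37.AlterationSub
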