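import Groth.Agent.Lib.Helper30.DecentDim

/-!
# Chains of specializations: lifting along closed maps and concatenation (helper37)
-/

set_option autoImplicit false
set_option linter.style.haveILetI false
set_option linter.unusedSectionVars false
universe u
open Topology TopologicalSpace

namespace Groth.Agent.Lib.Helper37.ChainLift

open Groth.Agent.Lib.Helper30.DecentDim

/-- chains of specializations lift along closed continuous maps, from any chosen point over the top -/
theorem exists_chain_lift_of_isClosedMap {A B : Type*} [TopologicalSpace A] [TopologicalSpace B]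
    (g : A → B) (hg : Continuous g) (hc : IsClosedMap g) :
    ∀ (n : ℕ) (ys : Fin (n + 1) → B), IsSpecChain ys → ∀ a : A, g a = ys (Fin.last n) →
      ∃ xs : Fin (n + 1) → A, xs (Fin.last n) = a ∧ (∀ i, g (xs i) = ys i) ∧ IsSpecChain xs := by
  intro n
  induction n with
  | zero =>
    intro ys _ a ha
    refine ⟨fun _ => a, rfl, fun i => ?_, fun i => i.elim0⟩
    have : i = Fin.last 0 := Fin.ext (by simp only [Fin.val_last]; omega)
    rw [this]
    exact ha
  | succ n ih =>
    intro ys hys a ha
    have htail : IsSpecChain (fun i : Fin (n + 1) => ys i.succ) := fun i => by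
      have := hys i.succ
      rwa [← Fin.succ_castSucc] at this
    obtain ⟨xs', hxs'l, hxs', hxs'c⟩ := ih (fun i => ys i.succ) htail a (by
      rw [ha, Fin.succ_last])
    have hcl : IsClosed (g '' closure {xs' 0}) := hc _ isClosed_closure
    have h1 : ys (Fin.succ 0) ∈ g '' closure {xs' 0} := ⟨xs' 0, subset_closure rfl, hxs' 0⟩
    have h01 : ys (Fin.succ 0) ⤳ ys (Fin.castSucc 0) := (hys 0).1
    obtain ⟨x₀, hx₀c, hx₀⟩ := h01.mem_closed hcl h1
    have hx₀s : xs' 0 ⤳ x₀ := specializes_iff_mem_closure.2 hx₀c
    refine ⟨Fin.cons x₀ xs', ?_, fun i => ?_, fun i => ?_⟩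
    · rw [← Fin.succ_last, Fin.cons_succ]
      exact hxs'l
    · refine Fin.cases ?_ (fun j => ?_) i
      · exact hx₀
      · rw [Fin.cons_succ]
        exact hxs' j
    · refine Fin.cases ?_ (fun j => ?_) i
      · refine ⟨?_, fun hs => (hys 0).2 ?_⟩
        · change (Fin.cons x₀ xs' : Fin (n + 2) → A) (Fin.succ 0) ⤳ x₀
          rw [Fin.cons_succ]
          exact hx₀s
        · have hs' : x₀ ⤳ xs' 0 := by
            have : (Fin.cons x₀ xs' : Fin (n + 2) → A) (Fin.succ 0) = xs' 0 := Fin.cons_succ _ _ _
            rw [← this]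
            exact hs
          have := hs'.map hg
          rw [hx₀, hxs' 0] at this
          exact this
      · have := hxs'c j
        rw [← Fin.succ_castSucc, Fin.cons_succ, Fin.cons_succ]
        exact this

/-- concatenation of a lower chain `bs` and an upper chain `as` sharing the point `bs (last) = as 0` -/
theorem exists_append {A : Type*} [TopologicalSpace A] {m : ℕ} (as : Fin (m + 1) → A)
    (ha : IsSpecChain as) :
    ∀ (n : ℕ) (bs : Fin (n + 1) → A), IsSpecChain bs → bs (Fin.last n) = as 0 →
      ∃ cs : Fin (m + n + 1) → A, IsSpecChain cs ∧ cs 0 = bs 0 := by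
  intro n
  induction n with
  | zero =>
    intro bs _ hj
    exact ⟨as, ha, hj.symm⟩
  | succ n ih =>
    intro bs hbs hj
    have htail : IsSpecChain (fun i : Fin (n + 1) => bs i.succ) := fun i => by
      have := hbs i.succ
      rwa [← Fin.succ_castSucc] at this
    obtain ⟨cs', hcs', hcs'0⟩ := ih (fun i => bs i.succ) htail (by rw [Fin.succ_last]; exact hj)
    refine ⟨(Fin.cons (bs 0) cs' : Fin (m + n + 1 + 1) → A), fun i => ?_, rfl⟩
    refine Fin.cases ?_ (fun j => ?_) i
    · have h0 := hbs 0
      change (Fin.cons (bs 0) cs' : Fin (m + n + 1 + 1) → A) (Fin.succ 0) ⤳ bs 0 ∧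
        ¬ bs 0 ⤳ (Fin.cons (bs 0) cs' : Fin (m + n + 1 + 1) → A) (Fin.succ 0)
      rw [Fin.cons_succ, hcs'0]
      exact h0
    · have := hcs' j
      rw [← Fin.succ_castSucc, Fin.cons_succ, Fin.cons_succ]
      exact this

/-- chains are preserved and reflected by inducing maps -/
theorem isSpecChain_comp_of_isInducing {A B : Type*} [TopologicalSpace A] [TopologicalSpace B]
    {f : A → B} (hf : IsInducing f) {n : ℕ} {xs : Fin (n + 1) → A} (h : IsSpecChain xs) :
    IsSpecChain (fun i => f (xs i)) := fun i =>
  ⟨hf.specializes_iff.2 (h i).1, fun hs => (h i).2 (hf.specializes_iff.1 hs)⟩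

/-- the two-point chain -/
theorem isSpecChain_pair {A : Type*} [TopologicalSpace A] {a b : A} (h : b ⤳ a) (hn : ¬ a ⤳ b) :
    IsSpecChain (![a, b] : Fin (1 + 1) → A) := by
  intro i
  have : i = 0 := Fin.ext (by omega)
  subst this
  exact ⟨h, hn⟩

end Groth.Agent.Lib.Helper37.ChainLift
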