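import Mathlib

set_option autoImplicit false
universe u
open CategoryTheory CategoryTheory.Limits AlgebraicGeometry

/-!
# Fibres of `Y₁ ×_S Y₂ → Y₁ × Y₂` over (closed point, point) are finite

Marketplace sub-lemma FIB for helper70 (S7909): for `p₁` locally of finite type, `y₁` a closed
point of `Y₁` and `y₂ : Y₂`, only finitely many points of `Y₁ ×_S Y₂` lie over `(y₁, y₂)`.
-/

namespace Groth.Agent.Lib.Helper37.ContrFIB

theorem finite_residueFieldMap_of_isClosed {X S : Scheme.{u}} (f : X ⟶ S)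
    [LocallyOfFiniteType f] (x : X) (hx : IsClosed ({x} : Set X)) :
    (f.residueFieldMap x).hom.Finite := by
  have hcl : IsClosed ({f.asFiber x} : Set (f.fiber (f x))) := by
    have : ({f.asFiber x} : Set _) = (f.fiberι (f x)) ⁻¹' {x} := by
      ext w
      simp only [Set.mem_singleton_iff, Set.mem_preimage]
      constructor
      · rintro rfl; exact f.fiberι_asFiber x
      · intro h
        exact (f.fiberι _).isEmbedding.injective (h.trans (f.fiberι_asFiber x).symm)
    rw [this]; exact hx.preimage (f.fiberι _).continuous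
  have : IsClosedImmersion (f.asFiberHom x) :=
    .of_isPreimmersion _ (by rw [f.range_asFiberHom]; exact hcl)
  have : LocallyOfFiniteType (f.fiberToSpecResidueField (f x)) :=
    MorphismProperty.pullback_snd _ _ inferInstance
  have h2 : IsFinite (f.asFiberHom x ≫ f.fiberToSpecResidueField (f x)) :=
    (isFinite_iff_locallyOfFiniteType_of_jacobsonSpace
      (f := f.asFiberHom x ≫ f.fiberToSpecResidueField (f x))).mpr inferInstance
  rw [f.asFiberHom_fiberToSpecResidueField, IsFinite.SpecMap_iff] at h2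
  exact h2

theorem finite_primeSpectrum_pushout {R A B : CommRingCat.{u}} (a : R ⟶ A) (b : R ⟶ B)
    (hB : IsField B) (ha : a.hom.Finite) :
    Finite (PrimeSpectrum (pushout a b : CommRingCat.{u})) := by
  have h1 : (pushout.inl b a).hom.Finite :=
    RingHom.finite_isStableUnderBaseChange.pushout_inl RingHom.finite_respectsIso b a ha
  letI := hB.toField
  letI alg : Algebra B (pushout b a : CommRingCat.{u}) := (pushout.inl b a).hom.toAlgebra
  haveI : Module.Finite B (pushout b a : CommRingCat.{u}) := h1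
  haveI : IsArtinianRing (pushout b a : CommRingCat.{u}) := IsArtinianRing.of_finite B _
  haveI : Finite (PrimeSpectrum (pushout b a : CommRingCat.{u})) := inferInstance
  exact Finite.of_equiv _
    (PrimeSpectrum.comapEquiv (pushoutSymmetry a b).commRingCatIsoToRingEquiv).toEquiv.symm

theorem finite_fiber_pullback {S Y₁ Y₂ : Scheme.{u}} (p₁ : Y₁ ⟶ S) (p₂ : Y₂ ⟶ S)
    [LocallyOfFiniteType p₁] (y₁ : Y₁) (hy₁ : IsClosed ({y₁} : Set Y₁)) (y₂ : Y₂) :
    {z : ↥(pullback p₁ p₂) | (pullback.fst p₁ p₂) z = y₁ ∧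
      (pullback.snd p₁ p₂) z = y₂}.Finite := by
  by_cases hne : ∃ z : ↥(pullback p₁ p₂),
      (pullback.fst p₁ p₂) z = y₁ ∧ (pullback.snd p₁ p₂) z = y₂
  swap
  · convert Set.finite_empty
    ext z
    simp only [Set.mem_ofPred_eq, Set.mem_empty_iff_false, iff_false]
    intro hz
    exact hne ⟨z, hz⟩
  obtain ⟨z₀, hz1, hz2⟩ := hne
  have h : p₁ y₁ = p₂ y₂ := by
    rw [← hz1, ← hz2, ← Scheme.Hom.comp_apply, ← Scheme.Hom.comp_apply, pullback.condition]
  let T : Scheme.Pullback.Triplet p₁ p₂ := .mk' y₁ y₂ h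
  haveI : Finite (Spec T.tensor) := by
    refine finite_primeSpectrum_pushout _ _ (Field.toIsField _) ?_
    rw [CommRingCat.hom_comp]
    exact RingHom.Finite.comp (finite_residueFieldMap_of_isClosed p₁ y₁ hy₁)
      (RingHom.Finite.of_surjective _ (ConcreteCategory.bijective_of_isIso _).2)
  refine (Set.finite_range
    (fun p : Spec T.tensor => Scheme.Pullback.carrierEquiv.symm ⟨T, p⟩)).subset ?_
  rintro z ⟨hz1, hz2⟩
  obtain ⟨⟨T', p⟩, hTp⟩ : ∃ q, Scheme.Pullback.carrierEquiv.symm q = z :=
    ⟨Scheme.Pullback.carrierEquiv z, Equiv.symm_apply_apply _ _⟩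
  have hT : T' = T := by
    apply Scheme.Pullback.Triplet.ext
    · rw [← Scheme.Pullback.carrierEquiv_symm_fst T' p, hTp, hz1]; rfl
    · rw [← Scheme.Pullback.carrierEquiv_symm_snd T' p, hTp, hz2]; rfl
  subst hT
  exact ⟨p, hTp⟩

end Groth.Agent.Lib.Helper37.ContrFIB
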