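import Mathlib
import Groth.Prelude.Def_Found

/-!
# Algebraic input for the curve criterion

* `exists_field_point`: for `φ : B → A` of finite type and a prime `P₁` of `A` over `q`, there is
  a field `L`, finite over the fraction field of `B ⧸ q`, and a ring map `A → L` killing `P₁`.
* `CurveRing`: the integral closure of `B ⧸ q` in `L` and its basic properties.
-/

set_option autoImplicit false
set_option linter.style.haveILetI false
set_option linter.unusedSectionVars false
universe u
open TensorProduct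

namespace Groth.Agent.Lib.Helper37.CurveAlg

/-- For `φ : B → A` of finite type and a prime `P₁` of `A` over `q`, there is a field `L` finite
over the fraction field of `B ⧸ q` and a ring map `A → L` over `B` killing `P₁`. -/
theorem exists_field_point {B A : Type u} [CommRing B] [CommRing A] (φ : B →+* A)
    (hφ : φ.FiniteType) (P₁ : Ideal A) [P₁.IsPrime] (q : Ideal B) [q.IsPrime]
    (hq : P₁.comap φ = q) :
    ∃ (L : Type u) (_ : Field L) (_ : Algebra (B ⧸ q) L) (_ : Algebra (FractionRing (B ⧸ q)) L)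
      (_ : IsScalarTower (B ⧸ q) (FractionRing (B ⧸ q)) L)
      (_ : FiniteDimensional (FractionRing (B ⧸ q)) L) (χ : A →+* L),
      P₁ ≤ RingHom.ker χ ∧ ∀ b, χ (φ b) = algebraMap (B ⧸ q) L (Ideal.Quotient.mk q b) := by
  classical
  let ψ : (B ⧸ q) →+* (A ⧸ P₁) := Ideal.quotientMap P₁ φ (le_of_eq hq.symm)
  have hψinj : Function.Injective ψ := Ideal.quotientMap_injective' (le_of_eq hq)
  letI : Algebra (B ⧸ q) (A ⧸ P₁) := ψ.toAlgebra
  have hft : Algebra.FiniteType (B ⧸ q) (A ⧸ P₁) := by
    have h1 : ((Ideal.Quotient.mk P₁).comp φ).FiniteType :=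
      (RingHom.FiniteType.of_surjective _ Ideal.Quotient.mk_surjective).comp hφ
    have h2 : (ψ.comp (Ideal.Quotient.mk q)) = (Ideal.Quotient.mk P₁).comp φ := by
      ext; rfl
    rw [← h2] at h1
    exact RingHom.FiniteType.of_comp_finiteType h1
  let K := FractionRing (B ⧸ q)
  let T := K ⊗[B ⧸ q] (A ⧸ P₁)
  haveI : Algebra.FiniteType K T := inferInstance
  have hinj : Function.Injective (Algebra.TensorProduct.includeLeft : K →ₐ[B ⧸ q] T) :=
    Algebra.TensorProduct.includeLeft_injective (S := B ⧸ q) hψinj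
  haveI : Nontrivial T := hinj.nontrivial
  obtain ⟨𝔐, h𝔐⟩ := Ideal.exists_maximal T
  letI : Field (T ⧸ 𝔐) := Ideal.Quotient.field 𝔐
  haveI : Algebra.FiniteType K (T ⧸ 𝔐) :=
    Algebra.FiniteType.of_surjective (Ideal.Quotient.mkₐ K 𝔐) (Ideal.Quotient.mkₐ_surjective K 𝔐)
  haveI : Module.Finite K (T ⧸ 𝔐) := finite_of_finite_type_of_isJacobsonRing K (T ⧸ 𝔐)
  refine ⟨T ⧸ 𝔐, inferInstance, inferInstance, inferInstance, inferInstance, inferInstance,
    (Ideal.Quotient.mk 𝔐).comp ((Algebra.TensorProduct.includeRight :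
      (A ⧸ P₁) →ₐ[B ⧸ q] T).toRingHom.comp (Ideal.Quotient.mk P₁)), ?_, ?_⟩
  · intro x hx
    rw [RingHom.mem_ker]
    simp [Ideal.Quotient.eq_zero_iff_mem.mpr hx]
  · intro b
    have h1 : (Algebra.TensorProduct.includeRight : (A ⧸ P₁) →ₐ[B ⧸ q] T)
        (Ideal.Quotient.mk P₁ (φ b)) = algebraMap (B ⧸ q) T (Ideal.Quotient.mk q b) := by
      have : Ideal.Quotient.mk P₁ (φ b) = algebraMap (B ⧸ q) (A ⧸ P₁) (Ideal.Quotient.mk q b) :=
        rfl
      rw [this, AlgHom.commutes]
    change Ideal.Quotient.mk 𝔐 ((Algebra.TensorProduct.includeRight :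
      (A ⧸ P₁) →ₐ[B ⧸ q] T) (Ideal.Quotient.mk P₁ (φ b))) = _
    rw [h1]
    rfl

section CurveRing

variable {B : Type u} [CommRing B] (q : Ideal B) [q.IsPrime]
  (L : Type u) [Field L] [Algebra (B ⧸ q) L] [Algebra (FractionRing (B ⧸ q)) L]
  [IsScalarTower (B ⧸ q) (FractionRing (B ⧸ q)) L] [FiniteDimensional (FractionRing (B ⧸ q)) L]

/-- The integral closure of `B ⧸ q` in `L`. -/
abbrev CurveRing : Subalgebra (B ⧸ q) L := integralClosure (B ⧸ q) L

/-- The ring map `B → CurveRing`. -/
noncomputable def toCurveRing : B →+* CurveRing q L :=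
  (algebraMap (B ⧸ q) (CurveRing q L)).comp (Ideal.Quotient.mk q)

omit [FiniteDimensional (FractionRing (B ⧸ q)) L] in
theorem algebraMap_injective : Function.Injective (algebraMap (B ⧸ q) L) := by
  rw [IsScalarTower.algebraMap_eq (B ⧸ q) (FractionRing (B ⧸ q)) L]
  exact (algebraMap (FractionRing (B ⧸ q)) L).injective.comp
    (IsFractionRing.injective (B ⧸ q) (FractionRing (B ⧸ q)))

omit [FiniteDimensional (FractionRing (B ⧸ q)) L] in
theorem algebraMap_curveRing_injective :
    Function.Injective (algebraMap (B ⧸ q) (CurveRing q L)) := by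
  intro x y h
  apply algebraMap_injective q L
  have := congrArg (fun z : CurveRing q L => (z : L)) h
  exact this

theorem finite_curveRing (hB : CAlg.IsNagata B) : Module.Finite (B ⧸ q) (CurveRing q L) :=
  hB.2 q L inferInstance

theorem finiteType_toCurveRing (hB : CAlg.IsNagata B) : (toCurveRing q L).FiniteType := by
  haveI := finite_curveRing q L hB
  have h1 : (algebraMap (B ⧸ q) (CurveRing q L)).FiniteType :=
    RingHom.Finite.finiteType (RingHom.finite_algebraMap.mpr inferInstance)
  exact h1.comp (RingHom.FiniteType.of_surjective _ Ideal.Quotient.mk_surjective)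

instance : IsIntegrallyClosed (CurveRing q L) :=
  integralClosure.isIntegrallyClosedOfFiniteExtension (FractionRing (B ⧸ q))

theorem isFractionRing_curveRing : IsFractionRing (CurveRing q L) L :=
  integralClosure.isFractionRing_of_finite_extension (FractionRing (B ⧸ q)) L

theorem ker_toCurveRing : RingHom.ker (toCurveRing q L) = q := by
  ext x
  rw [RingHom.mem_ker, toCurveRing, RingHom.comp_apply,
    map_eq_zero_iff _ (algebraMap_curveRing_injective q L), Ideal.Quotient.eq_zero_iff_mem]

/-- Lying over for `B → CurveRing`. -/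
theorem exists_prime_over (m : Ideal B) [m.IsPrime] (hqm : q ≤ m) :
    ∃ n : Ideal (CurveRing q L), n.IsPrime ∧ n.comap (toCurveRing q L) = m := by
  have hker : RingHom.ker (Ideal.Quotient.mk q) ≤ m := by rw [Ideal.mk_ker]; exact hqm
  haveI : (m.map (Ideal.Quotient.mk q)).IsPrime :=
    Ideal.map_isPrime_of_surjective Ideal.Quotient.mk_surjective hker
  have hcm : (m.map (Ideal.Quotient.mk q)).comap (Ideal.Quotient.mk q) = m := by
    rw [Ideal.comap_map_of_surjective _ Ideal.Quotient.mk_surjective, ← RingHom.ker_eq_comap_bot,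
      Ideal.mk_ker, sup_eq_left.mpr hqm]
  obtain ⟨n, hn, hnm⟩ := Ideal.exists_ideal_over_prime_of_isIntegral_of_isDomain
    (S := CurveRing q L) (m.map (Ideal.Quotient.mk q)) (by
      rw [(RingHom.injective_iff_ker_eq_bot _).mp (algebraMap_curveRing_injective q L)]
      exact bot_le)
  refine ⟨n, hn, ?_⟩
  rw [toCurveRing, ← Ideal.comap_comap, hnm, hcm]

/-- Primes of the curve ring strictly below a prime over `m` vanish, when there is no prime
strictly between `q` and `m`. -/
theorem eq_bot_of_lt (m : Ideal B) [m.IsPrime]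
    (hco : ∀ p : Ideal B, p.IsPrime → q < p → p ≤ m → p = m)
    (n : Ideal (CurveRing q L)) [n.IsPrime] (hn : n.comap (toCurveRing q L) = m)
    (P : Ideal (CurveRing q L)) [P.IsPrime] (hP : P < n) : P = ⊥ := by
  obtain ⟨x, hxn, hxP⟩ := SetLike.exists_of_lt hP
  have hlt : P.comap (algebraMap (B ⧸ q) (CurveRing q L)) <
      n.comap (algebraMap (B ⧸ q) (CurveRing q L)) :=
    Ideal.comap_lt_comap_of_integral_mem_sdiff hP.le ⟨hxn, hxP⟩
      (Algebra.IsIntegral.isIntegral x)
  have hlt' : P.comap (toCurveRing q L) < m := by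
    rw [← hn]
    refine lt_of_le_of_ne (Ideal.comap_mono hP.le) ?_
    intro h
    apply hlt.ne
    have h1 : ∀ I : Ideal (CurveRing q L), I.comap (algebraMap (B ⧸ q) (CurveRing q L)) =
        (I.comap (toCurveRing q L)).map (Ideal.Quotient.mk q) := by
      intro I
      rw [toCurveRing, ← Ideal.comap_comap,
        Ideal.map_comap_of_surjective _ Ideal.Quotient.mk_surjective]
    rw [h1, h1, h]
  have hqP : q ≤ P.comap (toCurveRing q L) := by
    intro x hx
    have hx' : x ∈ RingHom.ker (toCurveRing q L) := (ker_toCurveRing q L).symm ▸ hx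
    rw [Ideal.mem_comap, (RingHom.mem_ker).mp hx']
    exact P.zero_mem
  have hPq : P.comap (toCurveRing q L) = q := by
    by_contra hne
    exact hlt'.ne (hco _ inferInstance (lt_of_le_of_ne hqP (Ne.symm hne)) hlt'.le)
  apply Ideal.eq_bot_of_comap_eq_bot (R := B ⧸ q)
  have h1 : P.comap (algebraMap (B ⧸ q) (CurveRing q L)) =
      (P.comap (toCurveRing q L)).map (Ideal.Quotient.mk q) := by
    rw [toCurveRing, ← Ideal.comap_comap,
      Ideal.map_comap_of_surjective _ Ideal.Quotient.mk_surjective]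
  rw [h1, hPq, Ideal.map_quotient_self]

/-- A prime of the curve ring over `m ≠ q` has height one. -/
theorem height_eq_one (m : Ideal B) [m.IsPrime] (hqm : q < m)
    (hco : ∀ p : Ideal B, p.IsPrime → q < p → p ≤ m → p = m)
    (n : Ideal (CurveRing q L)) [n.IsPrime] (hn : n.comap (toCurveRing q L) = m) :
    n.height = 1 := by
  apply le_antisymm
  · rw [show (1 : ℕ∞) = ((1 : ℕ) : ℕ∞) from rfl, Ideal.height_le_iff]
    intro P hP hPn
    haveI := hP
    rw [eq_bot_of_lt q L m hco n hn P hPn]
    simp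
  · rw [Order.one_le_iff_pos, pos_iff_ne_zero, Ne, Ideal.height_eq_zero_iff_eq_bot]
    rintro rfl
    exact hqm.ne ((ker_toCurveRing q L).symm.trans ((RingHom.ker_eq_comap_bot _).trans hn))

omit [FiniteDimensional (FractionRing (B ⧸ q)) L] in
theorem comap_algebraMap_eq (I : Ideal (CurveRing q L)) :
    I.comap (algebraMap (B ⧸ q) (CurveRing q L)) =
      (I.comap (toCurveRing q L)).map (Ideal.Quotient.mk q) := by
  rw [toCurveRing, ← Ideal.comap_comap,
    Ideal.map_comap_of_surjective _ Ideal.Quotient.mk_surjective]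

omit [FiniteDimensional (FractionRing (B ⧸ q)) L] in
/-- Incomparability for `B → CurveRing`. -/
theorem eq_of_le_of_comap_eq (n y : Ideal (CurveRing q L)) [n.IsPrime] (hle : n ≤ y)
    (h : y.comap (toCurveRing q L) = n.comap (toCurveRing q L)) : y = n := by
  by_contra hne
  have hlt : n < y := lt_of_le_of_ne hle (Ne.symm hne)
  obtain ⟨x, hxy, hxn⟩ := SetLike.exists_of_lt hlt
  have h1 := Ideal.comap_lt_comap_of_integral_mem_sdiff (R := B ⧸ q) hlt.le ⟨hxy, hxn⟩
    (Algebra.IsIntegral.isIntegral x)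
  apply h1.ne
  rw [comap_algebraMap_eq, comap_algebraMap_eq, h]

end CurveRing

end Groth.Agent.Lib.Helper37.CurveAlg
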