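import Mathlib

/-!
# Topological / commutative algebra input for the curve criterion

* `exists_prime_coheight_one`: in a Noetherian ring, between primes `q₀ ≤ m` and for `a ∈ m ∖ q₀`
  there is a prime `q₀ ≤ q < m` not containing `a` with no prime strictly between `q` and `m`.
* `exists_coheight_one_of_not_isClosed`: a constructible non-closed subset `T` of the spectrum of
  a Noetherian ring admits `q ∈ T`, `m ∉ T` with `q < m` of coheight one and `m` closed in a basic
  open.
-/

set_option autoImplicit false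
set_option linter.style.haveILetI false
universe u
open PrimeSpectrum Topology

namespace Groth.Agent.Lib.Helper37.CurveTop

/-- In a Noetherian domain, a prime of height at most one containing a nonzero element `a` is a
minimal prime over `(a)`. -/
theorem mem_minimalPrimes_of_height_le_one {R : Type u} [CommRing R] [IsDomain R]
    [IsNoetherianRing R] (P : Ideal R) [P.IsPrime] (hP : P.height ≤ 1) (a : R) (ha0 : a ≠ 0)
    (haP : a ∈ P) : P ∈ (Ideal.span {a}).minimalPrimes := by
  refine ⟨⟨inferInstance, (Ideal.span_singleton_le_iff_mem P).mpr haP⟩, ?_⟩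
  rintro Q ⟨hQp, hQa⟩ hQP
  by_contra hne
  have hlt : Q < P := lt_of_le_of_ne hQP (fun h => hne (h ▸ le_rfl))
  haveI := hQp
  have h1 : Q.height < P.height := Ideal.height_strict_mono_of_isPrime_of_isPrime hlt
  have h2 : Q.height = 0 := by
    have : Q.height < 1 := lt_of_lt_of_le h1 hP
    exact Order.lt_one_iff.mp this
  rw [Ideal.height_eq_zero_iff_eq_bot] at h2
  apply ha0
  have : a ∈ Q := (Ideal.span_singleton_le_iff_mem Q).mp hQa
  rw [h2] at this
  exact this

/-- In a Noetherian domain with a prime `m`, if a nonzero `a` lies in every nonzero prime below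
`m`, then every nonzero prime below `m` equals `m`. -/
theorem eq_of_forall_mem {R : Type u} [CommRing R] [IsDomain R] [IsNoetherianRing R]
    (m : Ideal R) [m.IsPrime] (a : R) (ha0 : a ≠ 0)
    (ha : ∀ P : Ideal R, P.IsPrime → P ≠ ⊥ → P ≤ m → a ∈ P) (P : Ideal R) [P.IsPrime]
    (hP0 : P ≠ ⊥) (hPm : P ≤ m) : P = m := by
  classical
  by_contra hne
  have hlt : P < m := lt_of_le_of_ne hPm hne
  have hm0 : m ≠ ⊥ := fun h => hP0 (le_bot_iff.mp (h ▸ hlt.le))
  have ham : a ∈ m := ha _ inferInstance hm0 le_rfl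
  have hP1 : 1 ≤ P.height := by
    rw [Order.one_le_iff_pos, pos_iff_ne_zero, Ne, Ideal.height_eq_zero_iff_eq_bot]
    exact hP0
  have hm2 : 1 < m.height :=
    lt_of_le_of_lt hP1 (Ideal.height_strict_mono_of_isPrime_of_isPrime hlt)
  have hfin : (Ideal.span {a}).minimalPrimes.Finite :=
    Ideal.finite_minimalPrimes_of_isNoetherianRing R _
  have hnot : ¬ ((m : Set R) ⊆ ⋃ Q ∈ (hfin.toFinset : Set (Ideal R)), (Q : Set R)) := by
    intro hsub
    rw [Ideal.subset_union_prime (R := R) (s := hfin.toFinset) (f := fun Q => Q) ⊥ ⊥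
      (fun Q hQ _ _ => ((hfin.mem_toFinset).mp hQ).1.1)] at hsub
    obtain ⟨Q, hQ, hmQ⟩ := hsub
    have hQmin := (hfin.mem_toFinset).mp hQ
    haveI := hQmin.1.1
    have h1 : Q.height ≤ 1 :=
      Ideal.height_le_one_of_isPrincipal_of_mem_minimalPrimes (Ideal.span {a}) Q hQmin
    exact absurd hm2 (not_lt.mpr ((Ideal.height_mono hmQ).trans h1))
  obtain ⟨b, hbm, hbn⟩ := Set.not_subset.mp hnot
  have hbn' : ∀ Q ∈ (Ideal.span {a}).minimalPrimes, b ∉ Q := by
    intro Q hQ hbQ
    apply hbn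
    simp only [Set.mem_iUnion]
    exact ⟨Q, Finset.mem_coe.mpr ((hfin.mem_toFinset).mpr hQ), hbQ⟩
  have hb0 : b ≠ 0 := by
    rintro rfl
    have hane : Ideal.span {a} ≠ ⊤ := by
      intro h
      have : (Ideal.span {a}) ≤ m := (Ideal.span_singleton_le_iff_mem m).mpr ham
      rw [h] at this
      exact (Ideal.IsPrime.ne_top inferInstance) (top_le_iff.mp this)
    obtain ⟨⟨Q, hQ⟩⟩ := Ideal.nonempty_minimalPrimes hane
    exact hbn' Q hQ Q.zero_mem
  obtain ⟨Pb, hPb, hPbm⟩ := Ideal.exists_minimalPrimes_le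
    (show Ideal.span {b} ≤ m from (Ideal.span_singleton_le_iff_mem m).mpr hbm)
  haveI := hPb.1.1
  have hbPb : b ∈ Pb := hPb.1.2 (Ideal.mem_span_singleton_self b)
  have hPb0 : Pb ≠ ⊥ := by
    rintro rfl
    exact hb0 (by simpa using hbPb)
  have hPb1 : Pb.height ≤ 1 :=
    Ideal.height_le_one_of_isPrincipal_of_mem_minimalPrimes (Ideal.span {b}) Pb hPb
  have haPb : a ∈ Pb := ha Pb inferInstance hPb0 hPbm
  exact hbn' Pb (mem_minimalPrimes_of_height_le_one Pb hPb1 a ha0 haPb) hbPb

/-- Between primes `q₀ ≤ m` of a Noetherian ring and for `a ∈ m ∖ q₀` there is a prime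
`q₀ ≤ q < m`, `a ∉ q`, with no prime strictly between `q` and `m`. -/
theorem exists_prime_coheight_one {B : Type u} [CommRing B] [IsNoetherianRing B]
    (q₀ m : Ideal B) [q₀.IsPrime] [m.IsPrime] (hle : q₀ ≤ m) (a : B) (haq : a ∉ q₀)
    (ham : a ∈ m) :
    ∃ q : Ideal B, q.IsPrime ∧ q₀ ≤ q ∧ q ≤ m ∧ a ∉ q ∧ q ≠ m ∧
      ∀ p : Ideal B, p.IsPrime → q < p → p ≤ m → p = m := by
  classical
  let Sg : Set (Ideal B) := {q | q.IsPrime ∧ q₀ ≤ q ∧ q ≤ m ∧ a ∉ q}
  have hne : Sg.Nonempty := ⟨q₀, inferInstance, le_rfl, hle, haq⟩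
  obtain ⟨q, ⟨hqp, hq₀, hqm, haq'⟩, hmax⟩ := set_has_maximal_iff_noetherian.mpr
    (inferInstance : IsNoetherian B B) Sg hne
  haveI := hqp
  refine ⟨q, hqp, hq₀, hqm, haq', fun h => haq' (h ▸ ham), fun p hp hlt hpm => ?_⟩
  haveI := hp
  have hker : RingHom.ker (Ideal.Quotient.mk q) ≤ m := by rw [Ideal.mk_ker]; exact hqm
  haveI : (m.map (Ideal.Quotient.mk q)).IsPrime :=
    Ideal.map_isPrime_of_surjective Ideal.Quotient.mk_surjective hker
  have hcm : (m.map (Ideal.Quotient.mk q)).comap (Ideal.Quotient.mk q) = m := by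
    rw [Ideal.comap_map_of_surjective _ Ideal.Quotient.mk_surjective, ← RingHom.ker_eq_comap_bot,
      Ideal.mk_ker, sup_eq_left.mpr hqm]
  have key : ∀ P : Ideal (B ⧸ q), P.IsPrime → P ≠ ⊥ → P ≤ m.map (Ideal.Quotient.mk q) →
      Ideal.Quotient.mk q a ∈ P := by
    intro P hPp hP0 hPm
    haveI := hPp
    have hqle : q ≤ P.comap (Ideal.Quotient.mk q) := by
      intro x hx
      rw [Ideal.mem_comap, Ideal.Quotient.eq_zero_iff_mem.mpr hx]
      exact P.zero_mem
    have hcomap : q < P.comap (Ideal.Quotient.mk q) := by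
      refine lt_of_le_of_ne hqle ?_
      intro h
      apply hP0
      rw [eq_bot_iff]
      intro y hy
      obtain ⟨x, rfl⟩ := Ideal.Quotient.mk_surjective y
      have : x ∈ P.comap (Ideal.Quotient.mk q) := hy
      rw [← h] at this
      rw [Ideal.mem_bot, Ideal.Quotient.eq_zero_iff_mem]
      exact this
    by_contra hnot
    refine hmax (P.comap (Ideal.Quotient.mk q))
      ⟨Ideal.comap_isPrime _ _, hq₀.trans hqle, ?_, hnot⟩ hcomap
    rw [← hcm]
    exact Ideal.comap_mono hPm
  have ha0' : Ideal.Quotient.mk q a ≠ 0 := by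
    rwa [Ne, Ideal.Quotient.eq_zero_iff_mem]
  have hpq : p.map (Ideal.Quotient.mk q) ≠ ⊥ := by
    intro h
    have : p ≤ q := by
      intro x hx
      have : Ideal.Quotient.mk q x ∈ p.map (Ideal.Quotient.mk q) := Ideal.mem_map_of_mem _ hx
      rw [h, Ideal.mem_bot, Ideal.Quotient.eq_zero_iff_mem] at this
      exact this
    exact lt_irrefl _ (lt_of_lt_of_le hlt this)
  haveI : (p.map (Ideal.Quotient.mk q)).IsPrime :=
    Ideal.map_isPrime_of_surjective Ideal.Quotient.mk_surjective (by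
      rw [Ideal.mk_ker]; exact hlt.le)
  have h1 := eq_of_forall_mem (m.map (Ideal.Quotient.mk q)) (Ideal.Quotient.mk q a) ha0' key
    (p.map (Ideal.Quotient.mk q)) hpq (Ideal.map_mono hpm)
  have h2 : p = (p.map (Ideal.Quotient.mk q)).comap (Ideal.Quotient.mk q) := by
    rw [Ideal.comap_map_of_surjective _ Ideal.Quotient.mk_surjective, ← RingHom.ker_eq_comap_bot,
      Ideal.mk_ker, sup_eq_left.mpr hlt.le]
  rw [h2, h1, hcm]

/-- Closed subsets of the spectrum of a Noetherian ring are constructible. -/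
theorem isConstructible_of_isClosed {B : Type u} [CommRing B] [IsNoetherianRing B]
    {F : Set (PrimeSpectrum B)} (hF : IsClosed F) : IsConstructible F := by
  rw [← isConstructible_compl]
  exact IsRetrocompact.isConstructible hF.isOpen_compl
    (fun _ _ _ => TopologicalSpace.NoetherianSpace.isCompact _)

/-- Open subsets of the spectrum of a Noetherian ring are constructible. -/
theorem isConstructible_of_isOpen {B : Type u} [CommRing B] [IsNoetherianRing B]
    {F : Set (PrimeSpectrum B)} (hF : IsOpen F) : IsConstructible F :=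
  IsRetrocompact.isConstructible hF
    (fun _ _ _ => TopologicalSpace.NoetherianSpace.isCompact _)

/-- A constructible set containing `q₀` contains a principal open of `V(q₀)`. -/
theorem exists_basicOpen_subset {B : Type u} [CommRing B] {T : Set (PrimeSpectrum B)}
    (hT : IsConstructible T) (q₀ : PrimeSpectrum B) (hq : q₀ ∈ T) :
    ∃ a : B, a ∉ q₀.asIdeal ∧ ∀ y : PrimeSpectrum B, q₀ ≤ y → a ∉ y.asIdeal → y ∈ T := by
  obtain ⟨S, rfl⟩ := exists_constructibleSetData_iff.mpr hT
  simp only [ConstructibleSetData.toSet, Set.mem_iUnion] at hq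
  obtain ⟨C, hC, hqC⟩ := hq
  refine ⟨C.f, ?_, fun y hy hay => ?_⟩
  · intro h
    exact hqC.2 (by simpa [mem_zeroLocus] using h)
  · refine Set.mem_biUnion hC ⟨?_, ?_⟩
    · rw [mem_zeroLocus]
      exact fun x hx => hy ((mem_zeroLocus _ _).mp hqC.1 hx)
    · intro h
      exact hay (by simpa [mem_zeroLocus] using h)

/-- A nonempty constructible subset of the spectrum of a Noetherian ring contains a point which is
closed in a principal open. -/
theorem exists_locally_closed_point {B : Type u} [CommRing B] [IsNoetherianRing B]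
    {E : Set (PrimeSpectrum B)} (hE : IsConstructible E) (hne : E.Nonempty) :
    ∃ (a : B) (m : PrimeSpectrum B), m ∈ E ∧ a ∉ m.asIdeal ∧
      ∀ y : PrimeSpectrum B, m ≤ y → a ∉ y.asIdeal → y = m := by
  obtain ⟨S, rfl⟩ := exists_constructibleSetData_iff.mpr hE
  obtain ⟨x, hx⟩ := hne
  simp only [ConstructibleSetData.toSet, Set.mem_iUnion] at hx
  obtain ⟨C, hC, hxC⟩ := hx
  let Sg : Set (Ideal B) := {I | I.IsPrime ∧ Set.range C.g ⊆ (I : Set B) ∧ C.f ∉ I}
  have hSg : Sg.Nonempty := ⟨x.asIdeal, x.2, (mem_zeroLocus _ _).mp hxC.1, fun h =>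
    hxC.2 (by simpa [mem_zeroLocus] using h)⟩
  obtain ⟨I, ⟨hIp, hIg, hIf⟩, hmax⟩ := set_has_maximal_iff_noetherian.mpr
    (inferInstance : IsNoetherian B B) Sg hSg
  refine ⟨C.f, ⟨I, hIp⟩, Set.mem_biUnion hC ⟨(mem_zeroLocus _ _).mpr hIg, fun h =>
    hIf (by simpa [mem_zeroLocus] using h)⟩, hIf, fun y hy hay => ?_⟩
  by_contra hne
  have hlt : I < y.asIdeal := lt_of_le_of_ne hy (fun h => hne (PrimeSpectrum.ext h.symm))
  exact hmax y.asIdeal ⟨y.2, hIg.trans hy, hay⟩ hlt

/-- The key topological statement: a constructible non-closed subset `T` of the spectrum of a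
Noetherian ring has a point `q ∈ T` and a point `m ∉ T`, closed in the principal open `D(a)`, with
`q < m` and no prime strictly in between. -/
theorem exists_coheight_one_of_not_isClosed {B : Type u} [CommRing B] [IsNoetherianRing B]
    {T : Set (PrimeSpectrum B)} (hT : IsConstructible T) (hnc : ¬ IsClosed T) :
    ∃ (a : B) (q m : PrimeSpectrum B), a ∉ m.asIdeal ∧
      (∀ y : PrimeSpectrum B, m ≤ y → a ∉ y.asIdeal → y = m) ∧ q ∈ T ∧ m ∉ T ∧ q < m ∧
      ∀ p : PrimeSpectrum B, q < p → p ≤ m → p = m := by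
  have hE : IsConstructible (closure T \ T) :=
    (isConstructible_of_isClosed isClosed_closure).sdiff hT
  have hne : (closure T \ T).Nonempty := by
    by_contra h
    rw [Set.not_nonempty_iff_eq_empty, Set.sdiff_eq_empty] at h
    exact hnc (closure_subset_iff_isClosed.mp h)
  obtain ⟨a, m, ⟨hmcl, hmT⟩, ham, hmax⟩ := exists_locally_closed_point hE hne
  obtain ⟨S', _, g, hg⟩ := exists_range_eq_of_isConstructible hT
  have hmz : m ∈ zeroLocus ((RingHom.ker g : Ideal B) : Set B) := by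
    rw [← closure_range_comap, hg]; exact hmcl
  have hker : RingHom.ker g ≤ m.asIdeal := (mem_zeroLocus _ _).mp hmz
  obtain ⟨p₀, hp₀min, hp₀le⟩ := Ideal.exists_minimalPrimes_le hker
  have hp₀min' : p₀ ∈ ((⊥ : Ideal S').comap g).minimalPrimes := by
    rwa [← RingHom.ker_eq_comap_bot]
  obtain ⟨P', hP'prime, -, hP'⟩ := Ideal.exists_comap_eq_of_mem_minimalPrimes g p₀ hp₀min'
  haveI : p₀.IsPrime := hp₀min.1.1
  let q₀ : PrimeSpectrum B := ⟨p₀, inferInstance⟩
  have hq₀T : q₀ ∈ T := by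
    rw [← hg]
    exact ⟨⟨P', hP'prime⟩, PrimeSpectrum.ext hP'⟩
  obtain ⟨a', ha'q, ha'T⟩ := exists_basicOpen_subset hT q₀ hq₀T
  have ha'm : a' ∈ m.asIdeal := by
    by_contra h
    exact hmT (ha'T m hp₀le h)
  obtain ⟨q, hqp, hq₀q, hqm, ha'q', hqne, hco⟩ :=
    exists_prime_coheight_one p₀ m.asIdeal hp₀le a' ha'q ha'm
  refine ⟨a, ⟨q, hqp⟩, m, ham, hmax, ha'T _ hq₀q ha'q', hmT, ?_, fun p hqp' hpm => ?_⟩
  · exact lt_of_le_of_ne hqm (fun h => hqne (congrArg PrimeSpectrum.asIdeal h))
  · exact PrimeSpectrum.ext (hco p.asIdeal p.2 hqp' hpm)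

end Groth.Agent.Lib.Helper37.CurveTop
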