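import Mathlib
import Groth.Prelude
import Groth.Agent.Lib.Helper38.Nagata
import Groth.Agent.Lib.Helper38.NagataFT6

/-!
# Nagata algebraic spaces under morphisms locally of finite type

* `isNagata_affineOpens_of_locallyOfFiniteType`: a scheme locally of finite type over a scheme all
  of whose affine opens have Nagata rings has the same property (cover an affine open by basic
  opens mapping into affine opens of the target; Helper38: finite type over Nagata is Nagata, and
  Nagata is local on finite principal covers).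
* `exists_chart_over_surjective`: chart diagrams over a given étale surjective chart of the target.
* `isNagataSp_of_locP_lft`: the statement for algebraic spaces.
-/

set_option autoImplicit false
set_option linter.style.haveILetI false
universe u
open CategoryTheory CategoryTheory.Limits AlgebraicGeometry TopologicalSpace
open AlgSp

namespace Groth.Agent.Lib.Helper37.NagataSp

/-- Schemes locally of finite type over a scheme all of whose affine opens have Nagata coordinate
rings have the same property. -/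
theorem isNagata_affineOpens_of_locallyOfFiniteType {U V : Scheme.{u}} (h : U ⟶ V)
    [LocallyOfFiniteType h]
    (hV : ∀ W : V.Opens, IsAffineOpen W → CAlg.IsNagata ↑Γ(V, W)) :
    ∀ W : U.Opens, IsAffineOpen W → CAlg.IsNagata ↑Γ(U, W) := by
  intro W hW
  classical
  -- local data
  have key : ∀ x : W, ∃ r : Γ(U, W), (x : U) ∈ U.basicOpen r ∧ CAlg.IsNagata ↑Γ(U, U.basicOpen r) := by
    intro x
    obtain ⟨V₁, hV₁, hxV₁, -⟩ := exists_isAffineOpen_mem_and_subset
      (show h.base x.1 ∈ (⊤ : V.Opens) from trivial)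
    obtain ⟨r, hr1, hr2⟩ := hW.exists_basicOpen_le (V := h ⁻¹ᵁ V₁) ⟨x.1, hxV₁⟩ x.2
    refine ⟨r, hr2, ?_⟩
    have hft := h.finiteType_appLE hV₁ (hW.basicOpen r) hr1
    letI : Algebra Γ(V, V₁) Γ(U, U.basicOpen r) := (h.appLE V₁ (U.basicOpen r) hr1).hom.toAlgebra
    haveI : Algebra.FiniteType Γ(V, V₁) Γ(U, U.basicOpen r) := RingHom.finiteType_algebraMap.mp hft
    exact Groth.Agent.Lib.Helper38.NagataFT6.isNagata_of_finiteType _ (hV V₁ hV₁) _
  choose r hr1 hr2 using key
  -- finite subcover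
  have hcov : (W : Set U) ⊆ ⋃ x : W, (U.basicOpen (r x) : Set U) := fun x hx =>
    Set.mem_iUnion.mpr ⟨⟨x, hx⟩, hr1 ⟨x, hx⟩⟩
  obtain ⟨t, ht⟩ := hW.isCompact.elim_finite_subcover (fun x : W => (U.basicOpen (r x) : Set U))
    (fun x => (U.basicOpen (r x)).isOpen) hcov
  let s : Set Γ(U, W) := Set.range (fun x : t => r x.1)
  have hsfin : s.Finite := Set.finite_range _
  have hspan : Ideal.span s = ⊤ := by
    rw [← hW.self_le_iSup_basicOpen_iff]
    intro x hx
    obtain ⟨y, hy, hxy⟩ := Set.mem_iUnion₂.mp (ht hx)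
    simp only [TopologicalSpace.Opens.mem_iSup]
    exact ⟨⟨r y, ⟨y, hy⟩, rfl⟩, hxy⟩
  haveI : Finite ↥s := hsfin.to_subtype
  haveI : ∀ i : ↥s, IsLocalization.Away (i : Γ(U, W)) ↑Γ(U, U.basicOpen (i : Γ(U, W))) :=
    fun i => hW.isLocalization_basicOpen (i : Γ(U, W))
  refine Groth.Agent.Lib.Helper38.Nagata.isNagata_of_cover ↑Γ(U, W) (ι := ↥s)
    (fun i => (i : Γ(U, W))) (by rw [Subtype.range_coe]; exact hspan)
    (fun i => ↑Γ(U, U.basicOpen (i : Γ(U, W)))) (fun i => ?_)
  obtain ⟨_, y, rfl⟩ := i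
  exact hr2 y.1

/-- A morphism of algebraic spaces admits a chart diagram `U → V` over any étale surjective chart
`V → Y`, with `U → X` étale surjective. -/
theorem exists_chart_over_surjective {S : Scheme.{u}} {X Y : AlgSp.Space S} (f : X ⟶ Y)
    {V : Over S} (b : (yon S).obj V ⟶ Y.obj) (hbe : RepWith @Etale b) (hbs : RepWith @Surjective b) :
    ∃ (U : Over S) (a : (yon S).obj U ⟶ X.obj) (h : U ⟶ V), RepWith @Etale a ∧ RepWith @Surjective a ∧
      a ≫ f.hom = (yon S).map h ≫ b := by
  obtain ⟨U₀, c, hce, hcs⟩ := X.property.atlas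
  have sq := hbe.rep.isPullback' (c ≫ f.hom)
  have hu₁e : Etale (hbe.rep.snd (c ≫ f.hom)).left := hbe.property_snd (c ≫ f.hom)
  have hu₁s : Surjective (hbe.rep.snd (c ≫ f.hom)).left := hbs.property_snd (c ≫ f.hom)
  refine ⟨hbe.rep.pullback (c ≫ f.hom), (yon S).map (hbe.rep.snd (c ≫ f.hom)) ≫ c,
    hbe.rep.fst' (c ≫ f.hom), ?_, ?_, ?_⟩
  · exact (RepWith @Etale).comp_mem _ _ ((repWith_yon_map_iff @Etale _).2 hu₁e) hce
  · exact (RepWith @Surjective).comp_mem _ _ ((repWith_yon_map_iff @Surjective _).2 hu₁s) hcs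
  · rw [Category.assoc]
    exact sq.w.symm

/-- An algebraic space locally of finite type over a Nagata algebraic space is Nagata. -/
theorem isNagataSp_of_locP_lft {S : Scheme.{u}} {X Y : AlgSp.Space S} (f : X ⟶ Y)
    (hf : AlgSp.LocP @LocallyOfFiniteType f.hom)
    (hY : AlgSp.EtaleLocally (fun U => ∀ V : U.Opens, IsAffineOpen V → CAlg.IsNagata ↑Γ(U, V)) Y.obj) :
    AlgSp.EtaleLocally (fun U => ∀ V : U.Opens, IsAffineOpen V → CAlg.IsNagata ↑Γ(U, V)) X.obj := by
  obtain ⟨V₀, b, hbe, hbs, hNag⟩ := hY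
  obtain ⟨U, a, h, hae, has, hcomm⟩ := exists_chart_over_surjective f b hbe hbs
  haveI : LocallyOfFiniteType h.left := hf a b h hae hbe hcomm
  exact ⟨U, a, hae, has, isNagata_affineOpens_of_locallyOfFiniteType h.left hNag⟩

end Groth.Agent.Lib.Helper37.NagataSp
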