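import Mathlib
import Groth.Agent.Lib.Helper37.CurveTop
import Groth.Agent.Lib.Helper37.CurveAlg
import Groth.Agent.Lib.Helper37.NagataSp

/-!
# The curve criterion: core construction

`CurveLift f q` is the lifting property of `f : X ⟶ Y` (over `q : Y ⟶ S`) against local rings of
dimension one at closed points of normal integral schemes of finite type over `S`.

* `exists_lift_point`: the curve construction from a Noetherian normal domain.
* `mem_image_of_curveLift`, `isClosed_image_of_curveLift`: over a base with Nagata affine opens,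
  `CurveLift f q` makes images of closed sets closed as soon as they are constructible.
-/

set_option autoImplicit false
set_option linter.style.haveILetI false
universe u
open CategoryTheory CategoryTheory.Limits AlgebraicGeometry IsLocalRing TopologicalSpace Topology

namespace Groth.Agent.Lib.Helper37.CurveCore

open Groth.Agent.Lib.Helper37.CurveTop Groth.Agent.Lib.Helper37.CurveAlg

/-- The lifting property against one-dimensional local rings at closed points of normal integral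
schemes of finite type over the base. -/
def CurveLift {X Y S : Scheme.{u}} (f : X ⟶ Y) (q : Y ⟶ S) : Prop :=
  ∀ (C : Scheme.{u}) (r : C ⟶ S) [IsIntegral C] [LocallyOfFiniteType r] [QuasiCompact r],
    (∀ x : C, IsIntegrallyClosed (C.presheaf.stalk x)) →
    ∀ (c : C), IsClosed ({c} : Set C) → ringKrullDim (C.presheaf.stalk c) = 1 →
    ∀ (U : C.Opens), (U : Set C) = {c}ᶜ →
    ∀ (u : (U : Scheme.{u}) ⟶ X) (g : C ⟶ Y), g ≫ q = r → u ≫ f = U.ι ≫ g →
    ∀ (k : Spec (CommRingCat.of (FractionRing (C.presheaf.stalk c))) ⟶ (U : Scheme.{u})),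
      k ≫ U.ι = Spec.map (CommRingCat.ofHom (algebraMap (C.presheaf.stalk c)
        (FractionRing (C.presheaf.stalk c)))) ≫ C.fromSpecStalk c →
    ∃ l : Spec (C.presheaf.stalk c) ⟶ X, l ≫ f = C.fromSpecStalk c ≫ g ∧
      Spec.map (CommRingCat.ofHom (algebraMap (C.presheaf.stalk c)
        (FractionRing (C.presheaf.stalk c)))) ≫ l = k ≫ u

/-- Step 1: a point of `Z` over `𝔮` gives a field point finite over `κ(𝔮)`. -/
theorem exists_field_point_over {X Y : Scheme.{u}} (f : X ⟶ Y) [LocallyOfFiniteType f]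
    (Z : Set X) (hZ : IsClosed Z) {N : Y.Opens} (hN : IsAffineOpen N)
    (𝔮 : PrimeSpectrum Γ(Y, N)) (hqT : hN.fromSpec.base 𝔮 ∈ f.base '' Z) :
    ∃ (L : Type u) (_ : Field L) (_ : Algebra (Γ(Y, N) ⧸ 𝔮.asIdeal) L)
      (_ : Algebra (FractionRing (Γ(Y, N) ⧸ 𝔮.asIdeal)) L)
      (_ : IsScalarTower (Γ(Y, N) ⧸ 𝔮.asIdeal) (FractionRing (Γ(Y, N) ⧸ 𝔮.asIdeal)) L)
      (_ : FiniteDimensional (FractionRing (Γ(Y, N) ⧸ 𝔮.asIdeal)) L)
      (xL : Spec (CommRingCat.of L) ⟶ X),
      xL ≫ f = Spec.map (CommRingCat.ofHom ((algebraMap (Γ(Y, N) ⧸ 𝔮.asIdeal) L).comp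
        (Ideal.Quotient.mk 𝔮.asIdeal))) ≫ hN.fromSpec ∧ ∀ pt, xL.base pt ∈ Z := by
  obtain ⟨z₁, hz₁Z, hz₁⟩ := hqT
  have hz₁N : z₁ ∈ f ⁻¹ᵁ N := by
    change f.base z₁ ∈ N
    rw [hz₁]
    exact hN.range_fromSpec.le ⟨𝔮, rfl⟩
  obtain ⟨M, hM, hz₁M, hMN⟩ := exists_isAffineOpen_mem_and_subset hz₁N
  have e : M ≤ f ⁻¹ᵁ N := hMN
  obtain ⟨P₁, hP₁⟩ : z₁ ∈ Set.range hM.fromSpec.base := by
    rw [hM.range_fromSpec]; exact hz₁M
  have hsq := IsAffineOpen.SpecMap_appLE_fromSpec f hN hM e
  have hq : P₁.asIdeal.comap (f.appLE N M e).hom = 𝔮.asIdeal := by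
    have h1 : hN.fromSpec.base ((Spec.map (f.appLE N M e)).base P₁) = hN.fromSpec.base 𝔮 := by
      rw [← hz₁, ← hP₁]
      exact congrArg (fun t => t.base P₁) hsq
    have h2 := hN.fromSpec.isOpenEmbedding.injective h1
    exact congrArg PrimeSpectrum.asIdeal h2
  obtain ⟨L, hL1, hL2, hL3, hL4, hL5, χ, hχ₁, hχ₂⟩ :=
    exists_field_point (f.appLE N M e).hom (f.finiteType_appLE hN hM e) P₁.asIdeal 𝔮.asIdeal hq
  refine ⟨L, hL1, hL2, hL3, hL4, hL5, Spec.map (CommRingCat.ofHom χ) ≫ hM.fromSpec, ?_, ?_⟩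
  · rw [Category.assoc, ← hsq, ← Category.assoc, ← Spec.map_comp]
    congr 2
    ext b
    exact hχ₂ b
  · intro pt
    have hle : P₁.asIdeal ≤ ((Spec.map (CommRingCat.ofHom χ)).base pt).asIdeal := by
      intro x hx
      have : χ x = 0 := hχ₁ hx
      change χ x ∈ pt.asIdeal
      rw [this]
      exact pt.asIdeal.zero_mem
    have hsp : P₁ ⤳ (Spec.map (CommRingCat.ofHom χ)).base pt :=
      (PrimeSpectrum.le_iff_specializes (R := Γ(X, M)) P₁ _).mp hle
    have hsp' := hsp.map hM.fromSpec.continuous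
    rw [hP₁] at hsp'
    exact hsp'.mem_closed hZ hz₁Z

/-- Step 2 (topology): the union of a principal-open piece of an open set containing the generic
point with a height one point closed in the principal open is open. -/
theorem isOpen_curveSet {R : Type u} [CommRing R] [IsDomain R] [IsNoetherianRing R]
    (n : PrimeSpectrum R) (a' : R) (ha' : a' ∉ n.asIdeal)
    (hbelow : ∀ P : Ideal R, P.IsPrime → P < n.asIdeal → P = ⊥)
    (hcl : ∀ y : PrimeSpectrum R, n.asIdeal ≤ y.asIdeal → a' ∉ y.asIdeal → y = n)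
    (U' : Set (PrimeSpectrum R)) (hU' : IsOpen U')
    (hη : (⟨⊥, Ideal.isPrime_bot⟩ : PrimeSpectrum R) ∈ U') :
    IsOpen ({y : PrimeSpectrum R | y ∈ U' ∧ a' ∉ y.asIdeal} ∪ {n}) := by
  have hD : IsOpen {y : PrimeSpectrum R | a' ∉ y.asIdeal} := by
    have : {y : PrimeSpectrum R | a' ∉ y.asIdeal} = (PrimeSpectrum.basicOpen a' : Set _) := by
      ext y; rfl
    rw [this]
    exact (PrimeSpectrum.basicOpen a').2
  have hO : IsOpen {y : PrimeSpectrum R | y ∈ U' ∧ a' ∉ y.asIdeal} := hU'.inter hD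
  have hn : ({n} : Set (PrimeSpectrum R)) =
      PrimeSpectrum.zeroLocus (n.asIdeal : Set R) ∩ {y : PrimeSpectrum R | a' ∉ y.asIdeal} := by
    ext y
    simp only [Set.mem_singleton_iff, Set.mem_inter_iff, PrimeSpectrum.mem_zeroLocus,
      SetLike.coe_subset_coe, Set.mem_ofPred_eq]
    constructor
    · rintro rfl
      exact ⟨le_rfl, ha'⟩
    · rintro ⟨h1, h2⟩
      exact hcl y h1 h2
  apply PrimeSpectrum.isOpen_of_stableUnderGeneralization_of_isConstructible
  · intro y y' hy'y hy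
    have hle : y'.asIdeal ≤ y.asIdeal := (PrimeSpectrum.le_iff_specializes y' y).mpr hy'y
    rcases hy with hy | hy
    · left
      exact hO.stableUnderGeneralization hy'y hy
    · rw [Set.mem_singleton_iff] at hy
      subst hy
      by_cases hyy : y'.asIdeal = y.asIdeal
      · right
        exact PrimeSpectrum.ext hyy
      · left
        have h0 := hbelow y'.asIdeal y'.2 (lt_of_le_of_ne hle hyy)
        have hy'η : y' = ⟨⊥, Ideal.isPrime_bot⟩ := PrimeSpectrum.ext h0
        refine ⟨hy'η ▸ hη, ?_⟩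
        rw [h0]
        intro h
        apply ha'
        rw [(Ideal.mem_bot).mp h]
        exact y.asIdeal.zero_mem
  · refine (isConstructible_of_isOpen hO).union ?_
    rw [hn]
    exact (isConstructible_of_isClosed (PrimeSpectrum.isClosed_zeroLocus _)).inter
      (isConstructible_of_isOpen hD)

/-- Step 3: the curve construction. Given a Noetherian normal domain `R` with a morphism
`Spec R ⟶ Y` locally of finite type, a height one prime `n` closed in a principal open, and a
point of `X` with values in the fraction field of `R` over `Spec R ⟶ Y` lying in the closed set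
`Z`, the curve lifting property produces a point of `Z` over the image of `n`. -/
theorem exists_lift_point {X Y S : Scheme.{u}} (f : X ⟶ Y) (q : Y ⟶ S)
    [LocallyOfFiniteType f] [LocallyOfFiniteType q]
    (H : CurveLift f q) (Z : Set X) (hZ : IsClosed Z)
    (R : Type u) [CommRing R] [IsDomain R] [IsNoetherianRing R] [IsIntegrallyClosed R]
    (g₀ : Spec (CommRingCat.of R) ⟶ Y) [LocallyOfFiniteType g₀]
    (n : PrimeSpectrum R) (a' : R) (ha' : a' ∉ n.asIdeal) (hht : n.asIdeal.height = 1)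
    (hbelow : ∀ P : Ideal R, P.IsPrime → P < n.asIdeal → P = ⊥)
    (hcl : ∀ y : PrimeSpectrum R, n.asIdeal ≤ y.asIdeal → a' ∉ y.asIdeal → y = n)
    (L : Type u) [Field L] [Algebra R L] [IsFractionRing R L]
    (xL : Spec (CommRingCat.of L) ⟶ X)
    (hxL : xL ≫ f = Spec.map (CommRingCat.ofHom (algebraMap R L)) ≫ g₀)
    (hxLZ : ∀ pt, xL.base pt ∈ Z) :
    ∃ x' ∈ Z, f.base x' = g₀.base n := by
  classical
  let C₀ : Scheme.{u} := Spec (CommRingCat.of R)
  haveI : IsDomain (CommRingCat.of R) := ‹IsDomain R›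
  haveI : IsIntegral C₀ := inferInstance
  let η : C₀ := (⟨⊥, Ideal.isPrime_bot⟩ : PrimeSpectrum R)
  let tS : R →+* C₀.presheaf.stalk η := (StructureSheaf.toStalk R η).hom
  have hloc : ∀ y : PrimeSpectrum R,
      @IsLocalization.AtPrime R _ (C₀.presheaf.stalk y) _
        (StructureSheaf.toStalk R y).hom.toAlgebra y.asIdeal _ := fun y =>
    StructureSheaf.IsLocalization.to_stalk R y
  letI algη : Algebra R (C₀.presheaf.stalk η) := (StructureSheaf.toStalk R η).hom.toAlgebra
  haveI := hloc η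
  have hunits : ∀ y : nonZeroDivisors R, IsUnit (tS y) := by
    intro y
    have hy : (y : R) ∈ (η : PrimeSpectrum R).asIdeal.primeCompl := by
      change (y : R) ∉ (⊥ : Ideal R)
      rw [Ideal.mem_bot]
      exact nonZeroDivisors.ne_zero y.2
    exact @IsLocalization.map_units R _ ((η : PrimeSpectrum R).asIdeal.primeCompl)
      (C₀.presheaf.stalk η) _ ((StructureSheaf.toStalk R η).hom.toAlgebra) (hloc η) ⟨y.1, hy⟩
  let ψ : L →+* C₀.presheaf.stalk η := IsLocalization.lift (M := nonZeroDivisors R) hunits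
  have hψ : ∀ r, ψ (algebraMap R L r) = tS r := IsLocalization.lift_eq hunits
  let φη : Spec (C₀.presheaf.stalk η) ⟶ X := Spec.map (CommRingCat.ofHom ψ) ≫ xL
  have hφη : φη ≫ f = C₀.fromSpecStalk η ≫ g₀ := by
    rw [Category.assoc, hxL, ← Category.assoc, ← Spec.map_comp, Spec.fromSpecStalk_eq']
    congr 2
    ext r
    exact hψ r
  obtain ⟨U', hηU', u', hu'₁, hu'₂⟩ := spread_out_of_isGermInjective' g₀ f φη hφη
  -- `u'` maps into `Z`
  have hu'Z : ∀ y : (U' : Scheme.{u}), u'.base y ∈ Z := by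
    intro y
    let η' : (U' : Scheme.{u}) := ⟨η, hηU'⟩
    have h1 : (U'.fromSpecStalkOfMem η hηU').base (closedPoint _) = η' := by
      apply U'.ι.isOpenEmbedding.injective
      have := congrArg (fun t => t.base (closedPoint (C₀.presheaf.stalk η)))
        (U'.fromSpecStalkOfMem_ι η hηU')
      exact this.trans Scheme.fromSpecStalk_closedPoint
    have h2 : u'.base η' ∈ Z := by
      rw [← h1]
      have := congrArg (fun t => t.base (closedPoint (C₀.presheaf.stalk η))) hu'₁
      change (U'.fromSpecStalkOfMem η hηU' ≫ u').base _ ∈ Z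
      rw [← this]
      exact hxLZ _
    have hsp : η' ⤳ y := by
      refine (U'.ι.isOpenEmbedding.isInducing.specializes_iff).mp ?_
      exact (PrimeSpectrum.le_iff_specializes (R := R) η (U'.ι.base y)).mp bot_le
    exact (hsp.map u'.continuous).mem_closed hZ h2
  -- the curve
  have hG : IsOpen ({y : PrimeSpectrum R | y ∈ (U' : Set C₀) ∧ a' ∉ y.asIdeal} ∪ {n}) :=
    isOpen_curveSet n a' ha' hbelow hcl (U' : Set C₀) U'.2 hηU'
  let Cop : C₀.Opens := ⟨{y : PrimeSpectrum R | y ∈ (U' : Set C₀) ∧ a' ∉ y.asIdeal} ∪ {n}, hG⟩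
  let c : (Cop : Scheme.{u}) := ⟨n, Or.inr rfl⟩
  haveI : Nonempty Cop := ⟨c⟩
  haveI : IsIntegral (Cop : Scheme.{u}) := inferInstance
  let g : (Cop : Scheme.{u}) ⟶ Y := Cop.ι ≫ g₀
  let r : (Cop : Scheme.{u}) ⟶ S := g ≫ q
  haveI : LocallyOfFiniteType r := inferInstance
  haveI : NoetherianSpace C₀ := inferInstanceAs (NoetherianSpace (PrimeSpectrum R))
  haveI : NoetherianSpace (Cop : Scheme.{u}) := inferInstanceAs (NoetherianSpace (Cop.1 : Set C₀))
  haveI : QuasiCompact r := ⟨fun _ _ _ => NoetherianSpace.isCompact _⟩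
  have hnorm₀ : ∀ y : C₀, IsIntegrallyClosed (C₀.presheaf.stalk y) := fun y => by
    letI : Algebra R (C₀.presheaf.stalk y) := (StructureSheaf.toStalk R y).hom.toAlgebra
    haveI := hloc y
    exact isIntegrallyClosed_of_isLocalization (C₀.presheaf.stalk y)
      (y : PrimeSpectrum R).asIdeal.primeCompl (Ideal.primeCompl_le_nonZeroDivisors _)
  have hnorm : ∀ x : (Cop : Scheme.{u}),
      IsIntegrallyClosed ((Cop : Scheme.{u}).presheaf.stalk x) := fun x => by
    haveI := hnorm₀ (Cop.ι.base x)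
    exact IsIntegrallyClosed.of_equiv (asIso (Cop.ι.stalkMap x)).commRingCatIsoToRingEquiv
  have hdim : ringKrullDim ((Cop : Scheme.{u}).presheaf.stalk c) = 1 := by
    rw [← ringKrullDim_eq_of_ringEquiv (asIso (Cop.ι.stalkMap c)).commRingCatIsoToRingEquiv]
    have : ringKrullDim (C₀.presheaf.stalk (Cop.ι.base c)) = n.asIdeal.height := by
      change ringKrullDim (C₀.presheaf.stalk (n : C₀)) = _
      letI : Algebra R (C₀.presheaf.stalk (n : C₀)) := (StructureSheaf.toStalk R n).hom.toAlgebra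
      haveI := hloc n
      exact IsLocalization.AtPrime.ringKrullDim_eq_height n.asIdeal _
    rw [this, hht]
    rfl
  have hclosed : IsClosed ({c} : Set (Cop : Scheme.{u})) := by
    have : ({c} : Set (Cop : Scheme.{u})) =
        Cop.ι.base ⁻¹' (PrimeSpectrum.zeroLocus (n.asIdeal : Set R)) := by
      ext x
      change x = c ↔ (n.asIdeal : Set R) ⊆ ((x.1 : PrimeSpectrum R).asIdeal : Set R)
      constructor
      · rintro rfl
        exact le_rfl
      · intro h
        apply Subtype.ext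
        rcases x.2 with ⟨-, hx⟩ | hx
        · exact hcl x.1 h hx
        · exact hx
    rw [this]
    exact (PrimeSpectrum.isClosed_zeroLocus _).preimage Cop.ι.continuous
  let U : (Cop : Scheme.{u}).Opens := ⟨{c}ᶜ, hclosed.isOpen_compl⟩
  have hrange : Set.range (U.ι ≫ Cop.ι).base ⊆ Set.range U'.ι.base := by
    rintro _ ⟨x, rfl⟩
    rw [Scheme.Opens.range_ι]
    have hx : x.1 ≠ c := x.2
    rcases x.1.2 with ⟨h, -⟩ | h
    · exact h
    · exact absurd (Subtype.ext (Set.mem_singleton_iff.mp h)) hx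
  let incl : (U : Scheme.{u}) ⟶ (U' : Scheme.{u}) :=
    IsOpenImmersion.lift U'.ι (U.ι ≫ Cop.ι) hrange
  have hincl : incl ≫ U'.ι = U.ι ≫ Cop.ι := IsOpenImmersion.lift_fac _ _ _
  let u : (U : Scheme.{u}) ⟶ X := incl ≫ u'
  have hu : u ≫ f = U.ι ≫ g := by
    rw [Category.assoc, hu'₂, ← Category.assoc, hincl, Category.assoc]
  let alg := Spec.map (CommRingCat.ofHom (algebraMap ((Cop : Scheme.{u}).presheaf.stalk c)
    (FractionRing ((Cop : Scheme.{u}).presheaf.stalk c))))
  have hkrange : Set.range (alg ≫ (Cop : Scheme.{u}).fromSpecStalk c).base ⊆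
      Set.range U.ι.base := by
    rintro _ ⟨pt, rfl⟩
    rw [Scheme.Opens.range_ι]
    change _ ∈ ({c}ᶜ : Set _)
    intro hc
    have h1 : ((Cop : Scheme.{u}).fromSpecStalk c).base (alg.base pt) =
        ((Cop : Scheme.{u}).fromSpecStalk c).base
          (closedPoint ((Cop : Scheme.{u}).presheaf.stalk c)) := by
      rw [Scheme.fromSpecStalk_closedPoint]
      exact hc
    have h2 := ((Cop : Scheme.{u}).fromSpecStalk c).isEmbedding.injective h1
    have h3 : maximalIdeal ((Cop : Scheme.{u}).presheaf.stalk c) = ⊥ := by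
      have : (alg.base pt).asIdeal = ⊥ := by
        ext a
        change algebraMap ((Cop : Scheme.{u}).presheaf.stalk c)
          (FractionRing ((Cop : Scheme.{u}).presheaf.stalk c)) a ∈ pt.asIdeal ↔ a ∈ (⊥ : Ideal _)
        have hpt : pt.asIdeal = ⊥ :=
          (Ideal.eq_bot_or_top pt.asIdeal).resolve_right pt.2.ne_top
        rw [hpt, Ideal.mem_bot, Ideal.mem_bot, map_eq_zero_iff _
          (IsFractionRing.injective ((Cop : Scheme.{u}).presheaf.stalk c)
            (FractionRing ((Cop : Scheme.{u}).presheaf.stalk c)))]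
      rw [← this, h2]
      rfl
    have h4 : ringKrullDim ((Cop : Scheme.{u}).presheaf.stalk c) = 0 :=
      ringKrullDim_eq_zero_of_isField (IsLocalRing.isField_iff_maximalIdeal_eq.mpr h3)
    rw [hdim] at h4
    exact one_ne_zero h4
  let k := IsOpenImmersion.lift U.ι (alg ≫ (Cop : Scheme.{u}).fromSpecStalk c) hkrange
  have hk : k ≫ U.ι = alg ≫ (Cop : Scheme.{u}).fromSpecStalk c :=
    IsOpenImmersion.lift_fac _ _ _
  obtain ⟨l, hl₁, hl₂⟩ := H (Cop : Scheme.{u}) r hnorm c hclosed hdim U rfl u g rfl hu k hk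
  refine ⟨l.base (closedPoint ((Cop : Scheme.{u}).presheaf.stalk c)), ?_, ?_⟩
  · let pt : Spec (CommRingCat.of (FractionRing ((Cop : Scheme.{u}).presheaf.stalk c))) :=
      closedPoint (FractionRing ((Cop : Scheme.{u}).presheaf.stalk c))
    have h1 : l.base (alg.base pt) ∈ Z := by
      have := congrArg (fun t => t.base pt) hl₂
      change (alg ≫ l).base pt ∈ Z
      rw [this]
      exact hu'Z _
    have hsp : alg.base pt ⤳ closedPoint ((Cop : Scheme.{u}).presheaf.stalk c) :=
      IsLocalRing.specializes_closedPoint _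
    exact (hsp.map l.continuous).mem_closed hZ h1
  · have := congrArg (fun t => t.base (closedPoint ((Cop : Scheme.{u}).presheaf.stalk c))) hl₁
    change (l ≫ f).base _ = _
    rw [this]
    change g₀.base (Cop.ι.base (((Cop : Scheme.{u}).fromSpecStalk c).base
      (closedPoint ((Cop : Scheme.{u}).presheaf.stalk c)))) = _
    rw [Scheme.fromSpecStalk_closedPoint]
    rfl

/-- Step 4: a coheight one specialisation `𝔮 < 𝔪` in an affine open of `Y`, with `𝔪` closed in a
principal open and `𝔮` in the image of the closed set `Z`, has `𝔪` in the image of `Z`. -/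
theorem mem_image_of_curveLift {X Y S : Scheme.{u}} (f : X ⟶ Y) (q : Y ⟶ S)
    [LocallyOfFiniteType f] [LocallyOfFiniteType q]
    (hS : ∀ W : S.Opens, IsAffineOpen W → CAlg.IsNagata ↑Γ(S, W))
    (H : CurveLift f q) (Z : Set X) (hZ : IsClosed Z)
    {N : Y.Opens} (hN : IsAffineOpen N)
    (a : Γ(Y, N)) (𝔮 𝔪 : PrimeSpectrum Γ(Y, N)) (ha : a ∉ 𝔪.asIdeal)
    (hmax : ∀ y : PrimeSpectrum Γ(Y, N), 𝔪.asIdeal ≤ y.asIdeal → a ∉ y.asIdeal → y = 𝔪)
    (hlt : 𝔮.asIdeal < 𝔪.asIdeal)
    (hco : ∀ p : Ideal Γ(Y, N), p.IsPrime → 𝔮.asIdeal < p → p ≤ 𝔪.asIdeal → p = 𝔪.asIdeal)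
    (hqT : hN.fromSpec.base 𝔮 ∈ f.base '' Z) : hN.fromSpec.base 𝔪 ∈ f.base '' Z := by
  have hB : CAlg.IsNagata Γ(Y, N) :=
    Groth.Agent.Lib.Helper37.NagataSp.isNagata_affineOpens_of_locallyOfFiniteType q hS N hN
  haveI : IsNoetherianRing Γ(Y, N) := hB.1
  obtain ⟨L, hL1, hL2, hL3, hL4, hL5, xL, hxL, hxLZ⟩ := exists_field_point_over f Z hZ hN 𝔮 hqT
  haveI : Module.Finite (Γ(Y, N) ⧸ 𝔮.asIdeal) (CurveRing 𝔮.asIdeal L) :=
    finite_curveRing 𝔮.asIdeal L hB
  haveI : IsNoetherianRing (CurveRing 𝔮.asIdeal L) :=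
    IsNoetherianRing.of_finite (Γ(Y, N) ⧸ 𝔮.asIdeal) (CurveRing 𝔮.asIdeal L)
  haveI : IsFractionRing (CurveRing 𝔮.asIdeal L) L := isFractionRing_curveRing 𝔮.asIdeal L
  obtain ⟨n, hn, hnm⟩ := exists_prime_over 𝔮.asIdeal L 𝔪.asIdeal hlt.le
  let ρ := toCurveRing 𝔮.asIdeal L
  let g₀ : Spec (CommRingCat.of (CurveRing 𝔮.asIdeal L)) ⟶ Y :=
    Spec.map (CommRingCat.ofHom ρ) ≫ hN.fromSpec
  haveI : LocallyOfFiniteType (Spec.map (CommRingCat.ofHom ρ)) :=
    (HasRingHomProperty.Spec_iff (P := @LocallyOfFiniteType)).mpr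
      (finiteType_toCurveRing 𝔮.asIdeal L hB)
  haveI : LocallyOfFiniteType g₀ := inferInstance
  have hg₀ : xL ≫ f = Spec.map (CommRingCat.ofHom
      (algebraMap (CurveRing 𝔮.asIdeal L) L)) ≫ g₀ := by
    rw [hxL, ← Category.assoc, ← Spec.map_comp]
    rfl
  obtain ⟨x', hx'Z, hx'⟩ := exists_lift_point f q H Z hZ (CurveRing 𝔮.asIdeal L) g₀ ⟨n, hn⟩ (ρ a)
    (by
      intro h
      apply ha
      rw [← hnm]
      exact h)
    (height_eq_one 𝔮.asIdeal L 𝔪.asIdeal hlt hco n hnm)
    (fun P hP hPn => by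
      haveI := hP
      exact eq_bot_of_lt 𝔮.asIdeal L 𝔪.asIdeal hco n hnm P hPn)
    (fun y hny hay => by
      have h1 : y.asIdeal.comap ρ = 𝔪.asIdeal := by
        have h2 : 𝔪.asIdeal ≤ y.asIdeal.comap ρ := by
          rw [← hnm]
          exact Ideal.comap_mono hny
        exact congrArg PrimeSpectrum.asIdeal
          (hmax ⟨y.asIdeal.comap ρ, Ideal.comap_isPrime _ _⟩ h2 hay)
      exact PrimeSpectrum.ext (eq_of_le_of_comap_eq 𝔮.asIdeal L n y.asIdeal hny (h1.trans hnm.symm)))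
    L xL hg₀ hxLZ
  refine ⟨x', hx'Z, hx'.trans ?_⟩
  change hN.fromSpec.base ((Spec.map (CommRingCat.ofHom ρ)).base ⟨n, hn⟩) = _
  congr 1
  exact PrimeSpectrum.ext hnm

/-- **Core closedness statement.** If `f` has the curve lifting property over a base with Nagata
affine opens and the image of the closed set `Z` is constructible in every affine open of `Y`,
then the image of `Z` is closed. -/
theorem isClosed_image_of_curveLift {X Y S : Scheme.{u}} (f : X ⟶ Y) (q : Y ⟶ S)
    [LocallyOfFiniteType f] [LocallyOfFiniteType q]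
    (hS : ∀ W : S.Opens, IsAffineOpen W → CAlg.IsNagata ↑Γ(S, W))
    (H : CurveLift f q) (Z : Set X) (hZ : IsClosed Z)
    (hT : ∀ (N : Y.Opens) (hN : IsAffineOpen N),
      IsConstructible (hN.fromSpec.base ⁻¹' (f.base '' Z))) :
    IsClosed (f.base '' Z) := by
  rw [← closure_subset_iff_isClosed]
  intro w hw
  obtain ⟨N, hN, hwN, -⟩ := exists_isAffineOpen_mem_and_subset
    (show w ∈ (⊤ : Y.Opens) from trivial)
  have hB : CAlg.IsNagata Γ(Y, N) :=
    Groth.Agent.Lib.Helper37.NagataSp.isNagata_affineOpens_of_locallyOfFiniteType q hS N hN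
  haveI : IsNoetherianRing Γ(Y, N) := hB.1
  obtain ⟨pw, hpw⟩ : w ∈ Set.range hN.fromSpec.base := by
    rw [hN.range_fromSpec]; exact hwN
  by_contra hwT
  have hnc : ¬ IsClosed (hN.fromSpec.base ⁻¹' (f.base '' Z)) := by
    intro hcl
    apply hwT
    have h1 : pw ∈ hN.fromSpec.base ⁻¹' closure (f.base '' Z) := by
      change hN.fromSpec.base pw ∈ closure (f.base '' Z)
      rw [hpw]; exact hw
    rw [hN.fromSpec.isOpenEmbedding.isOpenMap.preimage_closure_eq_closure_preimage
      hN.fromSpec.continuous, hcl.closure_eq] at h1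
    rw [← hpw]
    exact h1
  obtain ⟨a, 𝔮, 𝔪, ha, hmax, hqT, hmT, hlt, hco⟩ :=
    exists_coheight_one_of_not_isClosed (hT N hN) hnc
  exact hmT (mem_image_of_curveLift f q hS H Z hZ hN a 𝔮 𝔪 ha hmax hlt
    (fun p hp hqp hpm => congrArg PrimeSpectrum.asIdeal
      (hco ⟨p, hp⟩ hqp hpm)) hqT)

end Groth.Agent.Lib.Helper37.CurveCore
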