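import Mathlib
import Groth.Agent.Lib.Helper37.CurveCore
import Groth.Agent.Lib.Helper50.UnivOC

/-!
# The curve criterion for universal closedness over a Nagata base

* `CurveLift.of_isPullback`: stability of the curve lifting property under base change.
* `universallyClosed_of_curveLift`: a quasi-compact morphism of schemes locally of finite type
  over a base with Nagata affine opens having the curve lifting property is universally closed.
* `curveLift_of_universallyClosed`: the converse, by the valuative criterion.
-/

set_option autoImplicit false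
set_option linter.style.haveILetI false
universe u
open CategoryTheory CategoryTheory.Limits AlgebraicGeometry IsLocalRing TopologicalSpace Topology

namespace Groth.Agent.Lib.Helper37.CurveCrit

open Groth.Agent.Lib.Helper37.CurveCore Groth.Agent.Lib.Helper50

/-- Closed subsets of a Noetherian space are constructible. -/
theorem isConstructible_of_isClosed_of_noetherianSpace {α : Type*} [TopologicalSpace α]
    [NoetherianSpace α] {F : Set α} (hF : IsClosed F) : IsConstructible F := by
  rw [← isConstructible_compl]
  exact IsRetrocompact.isConstructible hF.isOpen_compl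
    (fun _ _ _ => NoetherianSpace.isCompact _)

/-- Closed subsets of a locally Noetherian scheme are locally constructible. -/
theorem isLocallyConstructible_of_isClosed {X : Scheme.{u}} [IsLocallyNoetherian X] {Z : Set X}
    (hZ : IsClosed Z) : IsLocallyConstructible Z := by
  intro x
  obtain ⟨U, hU, hxU, -⟩ := exists_isAffineOpen_mem_and_subset
    (show x ∈ (⊤ : X.Opens) from trivial)
  haveI : IsNoetherianRing Γ(X, U) := IsLocallyNoetherian.component_noetherian ⟨U, hU⟩
  haveI : NoetherianSpace (U : Set X) := noetherianSpace_of_isAffineOpen U hU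
  exact ⟨U, U.2.mem_nhds hxU, U.2, isConstructible_of_isClosed_of_noetherianSpace
    (hZ.preimage continuous_subtype_val)⟩

/-- Chevalley: the image of a closed set under a quasi-compact morphism locally of finite type to a
locally Noetherian scheme is constructible in every affine open. -/
theorem isConstructible_preimage_image {X Y : Scheme.{u}} (f : X ⟶ Y) [LocallyOfFiniteType f]
    [QuasiCompact f] [IsLocallyNoetherian Y] {Z : Set X} (hZ : IsClosed Z) {N : Y.Opens}
    (hN : IsAffineOpen N) : IsConstructible (hN.fromSpec.base ⁻¹' (f.base '' Z)) := by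
  haveI : IsLocallyNoetherian X := LocallyOfFiniteType.isLocallyNoetherian f
  haveI : LocallyOfFinitePresentation f :=
    (LocallyOfFinitePresentation.iff_locallyOfFiniteType (f := f)).mpr inferInstance
  have h1 := f.isLocallyConstructible_image (isLocallyConstructible_of_isClosed hZ)
  exact (h1.preimage_of_isOpenEmbedding hN.fromSpec.isOpenEmbedding).isConstructible

theorem CurveLift.of_isPullback {X Y S X' Y' : Scheme.{u}} {f : X ⟶ Y} {q : Y ⟶ S}
    (H : CurveLift f q) {f' : X' ⟶ Y'} {t' : X' ⟶ X} {t : Y' ⟶ Y}
    (h : IsPullback t' f' f t) : CurveLift f' (t ≫ q) := by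
  intro C r _ _ _ hnorm c hc hdim U hU u g hg hu k hk
  obtain ⟨l, hl₁, hl₂⟩ := H C r hnorm c hc hdim U hU (u ≫ t') (g ≫ t)
    (by rw [Category.assoc, hg])
    (by rw [Category.assoc, h.w, ← Category.assoc, hu, Category.assoc]) k hk
  refine ⟨h.lift l (C.fromSpecStalk c ≫ g) (by rw [hl₁, Category.assoc]), h.lift_snd _ _ _, ?_⟩
  apply h.hom_ext
  · rw [Category.assoc, h.lift_fst, hl₂, Category.assoc]
  · rw [Category.assoc, h.lift_snd, Category.assoc, hu, ← Category.assoc k U.ι g, hk,
      Category.assoc]

/-- The curve lifting property makes a quasi-compact morphism a closed map. -/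
theorem isClosedMap_of_curveLift {X Y S : Scheme.{u}} (f : X ⟶ Y) (q : Y ⟶ S)
    [LocallyOfFiniteType f] [QuasiCompact f] [LocallyOfFiniteType q]
    (hS : ∀ W : S.Opens, IsAffineOpen W → CAlg.IsNagata ↑Γ(S, W))
    (H : CurveLift f q) : IsClosedMap f.base := by
  haveI : IsLocallyNoetherian S := ⟨fun U => (hS U.1 U.2).1⟩
  haveI : IsLocallyNoetherian Y := LocallyOfFiniteType.isLocallyNoetherian q
  intro Z hZ
  exact isClosed_image_of_curveLift f q hS H Z hZ
    (fun N hN => isConstructible_preimage_image f hZ hN)

theorem universallyClosed_of_curveLift {X Y S : Scheme.{u}} (f : X ⟶ Y) (q : Y ⟶ S)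
    [LocallyOfFiniteType f] [QuasiCompact f] [LocallyOfFiniteType q]
    (hS : ∀ W : S.Opens, IsAffineOpen W → CAlg.IsNagata ↑Γ(S, W))
    (H : CurveLift f q) : UniversallyClosed f := by
  refine universallyClosed_of_affineSpace f (fun n _ => ?_)
  haveI : LocallyOfFiniteType ((𝔸(ULift.{u} (Fin n); Y) ↘ Y) ≫ q) := inferInstance
  exact isClosedMap_of_curveLift (pullback.snd f (𝔸(ULift.{u} (Fin n); Y) ↘ Y))
    ((𝔸(ULift.{u} (Fin n); Y) ↘ Y) ≫ q) hS
    (CurveLift.of_isPullback H (IsPullback.of_hasPullback f (𝔸(ULift.{u} (Fin n); Y) ↘ Y)))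

/-- A Noetherian integrally closed local domain of dimension one is a valuation ring. -/
theorem valuationRing_of_dim_one (A : Type u) [CommRing A] [IsDomain A] [IsNoetherianRing A]
    [IsLocalRing A] [IsIntegrallyClosed A] (hdim : ringKrullDim A = 1) : ValuationRing A := by
  have hnf : ¬ IsField A := fun h => by
    rw [ringKrullDim_eq_zero_of_isField h] at hdim
    exact zero_ne_one hdim
  have h := (IsDiscreteValuationRing.TFAE A hnf).out 1 3
  rw [h]
  refine ⟨inferInstance, maximalIdeal A, ⟨?_, inferInstance⟩, fun P ⟨hP0, hPp⟩ => ?_⟩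
  · intro h
    exact hnf (IsLocalRing.isField_iff_maximalIdeal_eq.mpr h)
  · haveI : Ring.KrullDimLE 1 A := Ring.krullDimLE_iff.mpr (by rw [hdim]; rfl)
    exact IsLocalRing.eq_maximalIdeal
      (Ring.krullDimLE_one_iff_of_noZeroDivisors.mp inferInstance P hP0 hPp)

theorem curveLift_of_valuative {X Y S : Scheme.{u}} (f : X ⟶ Y) (q : Y ⟶ S)
    [LocallyOfFiniteType q]
    (hS : ∀ W : S.Opens, IsAffineOpen W → CAlg.IsNagata ↑Γ(S, W))
    (H : ValuativeCriterion.Existence f) : CurveLift f q := by
  intro C r _ _ _ hnorm c hc hdim U hU u g hg hu k hk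
  haveI : IsLocallyNoetherian S := ⟨fun U => (hS U.1 U.2).1⟩
  haveI : IsLocallyNoetherian C := LocallyOfFiniteType.isLocallyNoetherian r
  haveI : IsNoetherianRing (C.presheaf.stalk c) := inferInstance
  haveI := hnorm c
  haveI : ValuationRing (C.presheaf.stalk c) := valuationRing_of_dim_one _ hdim
  haveI hdom : IsDomain (C.presheaf.stalk c) := inferInstance
  let sq : ValuativeCommSq f :=
    { R := C.presheaf.stalk c
      domain := hdom
      K := FractionRing (C.presheaf.stalk c)
      i₁ := k ≫ u
      i₂ := C.fromSpecStalk c ≫ g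
      commSq := ⟨by
        rw [Category.assoc, hu, ← Category.assoc k U.ι g, hk, Category.assoc]⟩ }
  obtain ⟨⟨l, h1, h2⟩⟩ := H sq
  exact ⟨l, h2, h1⟩

theorem curveLift_of_universallyClosed {X Y S : Scheme.{u}} (f : X ⟶ Y) (q : Y ⟶ S)
    [LocallyOfFiniteType q]
    (hS : ∀ W : S.Opens, IsAffineOpen W → CAlg.IsNagata ↑Γ(S, W))
    [UniversallyClosed f] : CurveLift f q := by
  have h1 : (ValuativeCriterion.Existence ⊓ @QuasiCompact) f := by
    rw [← UniversallyClosed.eq_valuativeCriterion]
    infer_instance
  exact curveLift_of_valuative f q hS h1.1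

end Groth.Agent.Lib.Helper37.CurveCrit
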