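import Mathlib
import Groth.Agent.Lib.Helper37.CurveCrit
import Groth.Agent.Lib.Helper50.DvrSep

/-!
# The curve criterion for separatedness over a Nagata base

* `CurveUnique f q`: uniqueness of lifts against local rings of dimension one at closed points of
  normal integral schemes of finite type over the base.
* `curveLift_diagonal`: `CurveUnique f q` gives `CurveLift` for the diagonal of `f`.
* `isSeparated_of_curveUnique`, `curveUnique_of_isSeparated`.
-/

set_option autoImplicit false
set_option linter.style.haveILetI false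
universe u
open CategoryTheory CategoryTheory.Limits AlgebraicGeometry IsLocalRing TopologicalSpace Topology

namespace Groth.Agent.Lib.Helper37.CurveSep

open Groth.Agent.Lib.Helper37.CurveCore Groth.Agent.Lib.Helper37.CurveCrit Groth.Agent.Lib.Helper50

/-- Uniqueness of lifts against one-dimensional local rings at closed points of normal integral
schemes of finite type over the base. -/
def CurveUnique {X Y S : Scheme.{u}} (f : X ⟶ Y) (q : Y ⟶ S) : Prop :=
  ∀ (C : Scheme.{u}) (r : C ⟶ S) [IsIntegral C] [LocallyOfFiniteType r] [QuasiCompact r],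
    (∀ x : C, IsIntegrallyClosed (C.presheaf.stalk x)) →
    ∀ (c : C), IsClosed ({c} : Set C) → ringKrullDim (C.presheaf.stalk c) = 1 →
    ∀ (U : C.Opens), (U : Set C) = {c}ᶜ →
    ∀ (u : (U : Scheme.{u}) ⟶ X) (g : C ⟶ Y), g ≫ q = r → u ≫ f = U.ι ≫ g →
    ∀ (k : Spec (CommRingCat.of (FractionRing (C.presheaf.stalk c))) ⟶ (U : Scheme.{u})),
      k ≫ U.ι = Spec.map (CommRingCat.ofHom (algebraMap (C.presheaf.stalk c)
        (FractionRing (C.presheaf.stalk c)))) ≫ C.fromSpecStalk c →
    ∀ l l' : Spec (C.presheaf.stalk c) ⟶ X,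
      l ≫ f = C.fromSpecStalk c ≫ g →
      Spec.map (CommRingCat.ofHom (algebraMap (C.presheaf.stalk c)
        (FractionRing (C.presheaf.stalk c)))) ≫ l = k ≫ u →
      l' ≫ f = C.fromSpecStalk c ≫ g →
      Spec.map (CommRingCat.ofHom (algebraMap (C.presheaf.stalk c)
        (FractionRing (C.presheaf.stalk c)))) ≫ l' = k ≫ u → l = l'

theorem curveLift_diagonal {X Y S : Scheme.{u}} (f : X ⟶ Y) (q : Y ⟶ S)
    (H : CurveUnique f q) :
    CurveLift (pullback.diagonal f) (pullback.fst f f ≫ f ≫ q) := by
  intro C r _ _ _ hnorm c hc hdim U hU u g hg hu k hk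
  have hu₁ : u = U.ι ≫ g ≫ pullback.fst f f := by
    rw [← Category.assoc, ← hu, Category.assoc, pullback.diagonal_fst, Category.comp_id]
  have hu₂ : u = U.ι ≫ g ≫ pullback.snd f f := by
    rw [← Category.assoc, ← hu, Category.assoc, pullback.diagonal_snd, Category.comp_id]
  have hl := H C r hnorm c hc hdim U hU u (g ≫ pullback.fst f f ≫ f)
    (by rw [Category.assoc, Category.assoc, hg])
    (by rw [← Category.assoc, ← Category.assoc, Category.assoc U.ι, ← hu₁]) k hk
    (C.fromSpecStalk c ≫ g ≫ pullback.fst f f) (C.fromSpecStalk c ≫ g ≫ pullback.snd f f)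
    (by simp only [Category.assoc])
    (by rw [← Category.assoc, ← hk, Category.assoc, ← hu₁])
    (by simp only [Category.assoc, pullback.condition])
    (by rw [← Category.assoc, ← hk, Category.assoc, ← hu₂])
  refine ⟨C.fromSpecStalk c ≫ g ≫ pullback.fst f f, ?_, ?_⟩
  · apply pullback.hom_ext
    · simp only [Category.assoc, pullback.diagonal_fst, Category.comp_id]
    · rw [Category.assoc, pullback.diagonal_snd, Category.comp_id, hl, Category.assoc]
  · rw [← Category.assoc, ← hk, Category.assoc, ← hu₁]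

theorem isSeparated_of_curveUnique {X Y S : Scheme.{u}} (f : X ⟶ Y) (q : Y ⟶ S)
    [LocallyOfFiniteType f] [LocallyOfFiniteType q]
    (hS : ∀ W : S.Opens, IsAffineOpen W → CAlg.IsNagata ↑Γ(S, W))
    (H : CurveUnique f q) : IsSeparated f := by
  haveI : IsLocallyNoetherian S := ⟨fun U => (hS U.1 U.2).1⟩
  haveI : IsLocallyNoetherian Y := LocallyOfFiniteType.isLocallyNoetherian q
  haveI : IsLocallyNoetherian X := LocallyOfFiniteType.isLocallyNoetherian f
  haveI := isLocallyNoetherian_pullback_self f
  haveI : LocallyOfFiniteType (pullback.fst f f ≫ f ≫ q) := inferInstance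
  have hcm := isClosedMap_of_curveLift (pullback.diagonal f) (pullback.fst f f ≫ f ≫ q) hS
    (curveLift_diagonal f q H)
  exact ⟨IsClosedImmersion.of_isPreimmersion _ hcm.isClosed_range⟩

theorem curveUnique_of_isSeparated {X Y S : Scheme.{u}} (f : X ⟶ Y) (q : Y ⟶ S)
    [LocallyOfFiniteType q]
    (hS : ∀ W : S.Opens, IsAffineOpen W → CAlg.IsNagata ↑Γ(S, W))
    [IsSeparated f] : CurveUnique f q := by
  intro C r _ _ _ hnorm c hc hdim U hU u g hg hu k hk l l' hl₁ hl₂ hl'₁ hl'₂
  haveI : IsLocallyNoetherian S := ⟨fun U => (hS U.1 U.2).1⟩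
  haveI : IsLocallyNoetherian C := LocallyOfFiniteType.isLocallyNoetherian r
  haveI : IsNoetherianRing (C.presheaf.stalk c) := inferInstance
  haveI := hnorm c
  haveI : ValuationRing (C.presheaf.stalk c) := valuationRing_of_dim_one _ hdim
  haveI hdom : IsDomain (C.presheaf.stalk c) := inferInstance
  let sq : ValuativeCommSq f :=
    { R := C.presheaf.stalk c
      domain := hdom
      K := FractionRing (C.presheaf.stalk c)
      i₁ := k ≫ u
      i₂ := C.fromSpecStalk c ≫ g
      commSq := ⟨by
        rw [Category.assoc, hu, ← Category.assoc k U.ι g, hk, Category.assoc]⟩ }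
  have hU := IsSeparated.valuativeCriterion f sq
  let s₁ : sq.commSq.LiftStruct := ⟨l, hl₂, hl₁⟩
  let s₂ : sq.commSq.LiftStruct := ⟨l', hl'₂, hl'₁⟩
  exact congrArg CommSq.LiftStruct.l (hU.elim s₁ s₂)

end Groth.Agent.Lib.Helper37.CurveSep
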