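import Groth.Agent.Lib.Helper37.ChainLift
import Groth.Agent.Lib.Helper73.DimFormula.Fiber
import Groth.Agent.Lib.Helper23.AlgSpProper
import Groth.Agent.S10459
import Groth.Agent.S10486
import Groth.Agent.Lib.Helper30.DecentSober

/-!
# `dim X = dim Y + r` for proper dominant morphisms of integral algebraic spaces (helper37)

The inequality `≤` is helper36's `Groth.Agent.S10459.result`.  For `≥`: a chain of length `r` in the
generic fibre (dimension function `trdeg` on a chart fibre, helper73), the lifting of chains of `|Y|` along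
the closed map `|X| → |Y|`, and concatenation.
-/

set_option autoImplicit false
set_option linter.style.haveILetI false
set_option linter.unusedSectionVars false
universe u
open CategoryTheory CategoryTheory.Limits AlgebraicGeometry Topology TopologicalSpace
open AlgSp

namespace Groth.Agent.Lib.Helper37.DimProper

open Groth.Agent.Lib.Helper37.AlgSpPoints Groth.Agent.Lib.Helper37.AlgSpFibres
  Groth.Agent.Lib.Helper30.DecentDim Groth.Agent.Lib.Helper37.ChainLift
  Groth.Agent.Lib.Helper23.AlgSpMor Groth.Agent.Lib.Helper73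

variable {S : Scheme.{u}}

attribute [local instance] specializationPreorder

/-- a chain of length `r` in the generic fibre -/
theorem exists_fibre_chain {X Y : Space S} (hXi : IsIntegralSp X.obj) (hYi : IsIntegralSp Y.obj)
    (f : X ⟶ Y) (hft : LocP @LocallyOfFiniteType f.hom) (hd : IsDominantMor f.hom)
    (x : Points X.obj) (hx : IsGenericPoint x (Set.univ : Set (Points X.obj)))
    (y : Points Y.obj) (hy : IsGenericPoint y (Set.univ : Set (Points Y.obj))) (r : ℕ)
    (hr : HasAtMor (fun _ _ h u => Dual3.resTrdeg h u = (r : Cardinal.{u})) f.hom x) :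
    ∃ zs : Fin (r + 1) → Points X.obj, IsSpecChain zs ∧ ∀ i, Points.map f.hom (zs i) = y := by
  have hfx : Points.map f.hom x = y :=
    Groth.Agent.S10486.map_generic_eq hYi.2.1 f hd x hx y hy
  have hXd : IsDecent X.obj := hXi.2.1
  obtain ⟨U, V, a, b, h, u, ha, hb, w, hu, hQ⟩ := hr
  haveI : LocallyOfFiniteType h.left := hft a b h ha hb w
  have h3 : Dual3.resTrdeg h.left u = Groth.Agent.Lib.Helper73.resTrdeg h.left u := rfl
  rw [h3, resTrdeg_eq_natCast h.left u] at hQ
  have hQ' : trdegNat (k := V.left.residueField (h.left u))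
      (h.left.fiberToSpecResidueField (h.left u)) (h.left.asFiber u) = r := by
    exact_mod_cast hQ
  have hδ := isDimFun_trdegNat (k := V.left.residueField (h.left u))
    (h.left.fiberToSpecResidueField (h.left u))
  obtain ⟨t₀, -, hzt, ht0⟩ := hδ.exists_specializes_zero isOpen_univ
    (Set.mem_univ (h.left.asFiber u))
  obtain ⟨p, hp1, hp2, hp3⟩ := hδ.exists_ltSeries hzt
  have hlen : p.length = r := by
    rw [ht0, hQ'] at hp3
    omega
  subst hlen
  have hpc : IsSpecChain (fun i => p i) := by
    intro i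
    exact p.step i
  have hUc := isSpecChain_comp_of_isInducing
    (h.left.fiberι (h.left u)).isEmbedding.isInducing hpc
  have hXc := IsSpecChain.map_ofPt X hXd a ha hUc
  refine ⟨fun i => Points.ofPt a (h.left.fiberι (h.left u) (p i)), hXc, fun i => ?_⟩
  have hpi : h.left (h.left.fiberι (h.left u) (p i)) = h.left u :=
    (h.left.fiberHomeo (h.left u) (p i)).2
  rw [Points.map_ofPt, w, ofPt_map_comp, hpi, ← ofPt_map_comp, ← w, ← Points.map_ofPt, hu, hfx]

/-- `dim Y + r ≤ dim X` for a proper dominant morphism of integral algebraic spaces. -/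
theorem dim_add_le {X Y : Space S} (hXi : IsIntegralSp X.obj) (hYi : IsIntegralSp Y.obj)
    (f : X ⟶ Y) (hp : IsProperMor f.hom) (hd : IsDominantMor f.hom)
    (x : Points X.obj) (hx : IsGenericPoint x (Set.univ : Set (Points X.obj))) (r : ℕ)
    (hr : HasAtMor (fun _ _ h u => Dual3.resTrdeg h u = (r : Cardinal.{u})) f.hom x) :
    AlgSp.dim Y.obj + ((r : ℕ∞) : WithBot ℕ∞) ≤ AlgSp.dim X.obj := by
  have hXd : IsDecent X.obj := hXi.2.1
  have hYd : IsDecent Y.obj := hYi.2.1
  haveI : IrreducibleSpace (Points Y.obj) := hYi.2.2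
  haveI hqsY : QuasiSober (Points Y.obj) :=
    Groth.Agent.Lib.Helper30.DecentSober.quasiSober_of_isDecent Y hYd
  obtain ⟨y, hy⟩ : ∃ y : Points Y.obj, IsGenericPoint y (Set.univ : Set (Points Y.obj)) :=
    ⟨genericPoint (Points Y.obj), genericPoint_spec _⟩
  have hft : LocP @LocallyOfFiniteType f.hom := hp.2.1.1
  obtain ⟨zs, hzs, hzy⟩ := exists_fibre_chain hXi hYi f hft hd x hx y hy r hr
  have hcl : IsClosedMap (Points.map f.hom) :=
    isClosedMap_points_of_isUnivClosedMor Y.property f.hom hp.2.2
  have hcont := Points.continuous_map f.hom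
  have hT0 : T0Space (Points X.obj) := t0Space_points_of_isDecent X hXd
  rw [← topologicalKrullDim_points_eq_dim X hXd, ← topologicalKrullDim_points_eq_dim Y hYd]
  have key : ∀ (n : ℕ) (ys : Fin (n + 1) → Points Y.obj), IsSpecChain ys →
      ((r + n : ℕ) : WithBot ℕ∞) ≤ topologicalKrullDim (Points X.obj) := by
    intro n ys hys
    have hcl0 : IsClosed (Points.map f.hom '' closure {zs 0}) := hcl _ isClosed_closure
    have hy0 : y ∈ Points.map f.hom '' closure {zs 0} := ⟨zs 0, subset_closure rfl, hzy 0⟩
    have hyl : y ⤳ ys (Fin.last n) := by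
      rw [specializes_iff_mem_closure, hy.def]; trivial
    obtain ⟨t, htc, hty⟩ := hyl.mem_closed hcl0 hy0
    have hts : zs 0 ⤳ t := specializes_iff_mem_closure.2 htc
    obtain ⟨xs, hxl, hxy, hxc⟩ := exists_chain_lift_of_isClosedMap _ hcont hcl n ys hys t hty
    by_cases hcase : t ⤳ zs 0
    · have ht : t = zs 0 := (hcase.antisymm hts).eq
      obtain ⟨cs, hcs, -⟩ := exists_append zs hzs n xs hxc (by rw [hxl, ht])
      exact le_topologicalKrullDim_of_chain cs hcs
    · have hpair := isSpecChain_pair hts hcase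
      obtain ⟨cs1, hcs1, hcs10⟩ := exists_append zs hzs 1 ![t, zs 0] hpair rfl
      obtain ⟨cs, hcs, -⟩ := exists_append cs1 hcs1 n xs hxc (by rw [hxl, hcs10]; rfl)
      have h2 := le_topologicalKrullDim_of_chain cs hcs
      refine le_trans ?_ h2
      exact_mod_cast (by omega : r + n ≤ r + 1 + n)
  have hr0 : ((r : ℕ) : WithBot ℕ∞) ≤ topologicalKrullDim (Points X.obj) := by
    have h0 := key 0 (fun _ => y) (fun i => i.elim0)
    simpa using h0
  generalize topologicalKrullDim (Points X.obj) = D at key hr0 ⊢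
  induction D using WithBot.recBotCoe with
  | bot => exact absurd hr0 (by simp)
  | coe d =>
    induction d using ENat.recTopCoe with
    | top => exact le_top
    | coe M =>
      have hrM : r ≤ M := by exact_mod_cast hr0
      have hY : topologicalKrullDim (Points Y.obj) ≤ ((M - r : ℕ) : WithBot ℕ∞) := by
        apply topologicalKrullDim_le_of_chains
        intro n ys hys
        have h1 := key n ys hys
        have h' : r + n ≤ M := by exact_mod_cast h1
        exact_mod_cast (by omega : n ≤ M - r)
      calc topologicalKrullDim (Points Y.obj) + ((r : ℕ∞) : WithBot ℕ∞)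
          ≤ ((M - r : ℕ) : WithBot ℕ∞) + ((r : ℕ∞) : WithBot ℕ∞) := by gcongr
        _ = ((M : ℕ∞) : WithBot ℕ∞) := by
          have e : M - r + r = M := by omega
          have h1 : ((M - r : ℕ) : WithBot ℕ∞) = (((M - r : ℕ) : ℕ∞) : WithBot ℕ∞) := rfl
          rw [h1, ← WithBot.coe_add, ← Nat.cast_add, e]

/-- **`dim X = dim Y + r`** for a proper dominant morphism of integral algebraic spaces with `Y` locally
Noetherian. -/
theorem dim_eq {X Y : Space S} (f : X ⟶ Y) (hY : IsLocNoethSp Y.obj) (hXi : IsIntegralSp X.obj)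
    (hYi : IsIntegralSp Y.obj) (hd : IsDominantMor f.hom) (hp : IsProperMor f.hom)
    (x : Points X.obj) (hx : IsGenericPoint x (Set.univ : Set (Points X.obj))) (r : ℕ)
    (hr : HasAtMor (fun _ _ h u => Dual3.resTrdeg h u = (r : Cardinal.{u})) f.hom x) :
    AlgSp.dim X.obj = AlgSp.dim Y.obj + ((r : ℕ∞) : WithBot ℕ∞) :=
  le_antisymm (Groth.Agent.S10459.result f hY hXi hYi hd hp.2.1.1 x hx r hr)
    (dim_add_le hXi hYi f hp hd x hx r hr)

end Groth.Agent.Lib.Helper37.DimProper
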