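import Mathlib
import Groth.Agent.Lib.Helper5.LocalRep
import Groth.Agent.Lib.Helper5.YonCoprod

/-!
# Disjoint open covers by representables (helper37)

A sheaf `F` with a family of monomorphisms `h_{V_i} ⟶ F` through which every section lifts Zariski
locally and whose members are pairwise disjoint is representable by `∐ V_i`.
-/

set_option autoImplicit false
universe w u
open CategoryTheory CategoryTheory.Limits AlgebraicGeometry Opposite

namespace Groth.Agent.Lib.Helper37.DisjCover

open AlgSp Groth.Agent.Lib.Helper36.AlgSpCharts Groth.Agent.Lib.Helper23.AlgSpMor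
  Groth.Agent.Lib.Helper5.LocalRep Groth.Agent.Lib.Helper5

variable {S : Scheme.{u}}

/-- The comparison map `h_{∐ V_i} ⟶ F` induced by a family `h_{V_i} ⟶ F`. -/
noncomputable def sigmaDesc {F : Sp S} {ι : Type w} [Small.{u} ι] (V : ι → Over S)
    (e : ∀ i, (yon S).obj (V i) ⟶ F) : (yon S).obj (sigmaOver V) ⟶ F :=
  Cofan.IsColimit.desc (isColimitYonSigmaOver V) e

lemma ι_sigmaDesc {F : Sp S} {ι : Type w} [Small.{u} ι] (V : ι → Over S)
    (e : ∀ i, (yon S).obj (V i) ⟶ F) (i : ι) :
    (yon S).map (sigmaOverι V i) ≫ sigmaDesc V e = e i :=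
  Cofan.IsColimit.fac (isColimitYonSigmaOver V) e i

instance isOpenImmersion_sigmaOverι_left {ι : Type w} [Small.{u} ι] (V : ι → Over S) (i : ι) :
    IsOpenImmersion (sigmaOverι V i).left := by
  change IsOpenImmersion (Sigma.ι (fun i => (V i).left) i)
  infer_instance

lemma exists_mem_range_sigmaOverι {ι : Type w} [Small.{u} ι] (V : ι → Over S) (x : ↥(sigmaOver V).left) :
    ∃ i, x ∈ Set.range (sigmaOverι V i).left := by
  obtain ⟨i, y, hy⟩ := (sigmaOpenCover fun i => (V i).left).exists_eq x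
  exact ⟨i, y, hy⟩

/-- Restricting a morphism to `∐ V_i` to the preimage of the `i`-th summand. -/
lemma exists_lift_sigmaOverι {ι : Type w} [Small.{u} ι] (V : ι → Over S) {Z : Over S} (α : Z ⟶ sigmaOver V)
    (i : ι) (O : Z.left.Opens)
    (hO : ∀ z ∈ O, α.left z ∈ Set.range (sigmaOverι V i).left) :
    ∃ l : overOpens Z O ⟶ V i, l ≫ sigmaOverι V i = overOpensι Z O ≫ α := by
  have hr : Set.range (O.ι ≫ α.left) ⊆ Set.range (sigmaOverι V i).left := by
    rintro _ ⟨z, rfl⟩
    exact hO _ z.2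
  let l₀ : O.toScheme ⟶ (V i).left := IsOpenImmersion.lift (sigmaOverι V i).left _ hr
  have hl₀ : l₀ ≫ (sigmaOverι V i).left = O.ι ≫ α.left := IsOpenImmersion.lift_fac _ _ _
  have hw : l₀ ≫ (V i).hom = O.ι ≫ Z.hom := by
    rw [← Over.w (sigmaOverι V i), ← Category.assoc, hl₀, Category.assoc, Over.w α]
  refine ⟨Over.homMk l₀ hw, ?_⟩
  ext1
  exact hl₀

theorem isIso_sigmaDesc {F : Sp S} {ι : Type w} [Small.{u} ι] (V : ι → Over S)
    (e : ∀ i, (yon S).obj (V i) ⟶ F) (hmono : ∀ i, Mono (e i))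
    (hcov : ∀ (T : Over S) (g : (yon S).obj T ⟶ F) (t : ↥T.left), ∃ (i : ι) (O : T.left.Opens),
      t ∈ O ∧ ∃ l : overOpens T O ⟶ V i,
        (yon S).map l ≫ e i = (yon S).map (overOpensι T O) ≫ g)
    (hdisj : ∀ (i j : ι), i ≠ j → ∀ (T : Over S) (g : T ⟶ V i) (h : T ⟶ V j),
      (yon S).map g ≫ e i = (yon S).map h ≫ e j → IsEmpty ↥T.left) :
    IsIso (sigmaDesc V e) := by
  set φ := sigmaDesc V e with hφ
  have hι : ∀ i, (yon S).map (sigmaOverι V i) ≫ φ = e i := ι_sigmaDesc V e
  have hm : Mono φ := by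
    refine mono_of_yon_cancel φ fun Z a b hab => ?_
    obtain ⟨α, rfl⟩ := (yon S).map_surjective a
    obtain ⟨β, rfl⟩ := (yon S).map_surjective b
    -- local data at every point
    have key : ∀ z : ↥Z.left, ∃ O : Z.left.Opens, z ∈ O ∧
        (yon S).map (overOpensι Z O) ≫ (yon S).map α =
          (yon S).map (overOpensι Z O) ≫ (yon S).map β := by
      intro z
      obtain ⟨i, hi⟩ := exists_mem_range_sigmaOverι V (α.left z)
      obtain ⟨j, hj⟩ := exists_mem_range_sigmaOverι V (β.left z)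
      let O : Z.left.Opens := α.left ⁻¹ᵁ (sigmaOverι V i).left.opensRange ⊓
        β.left ⁻¹ᵁ (sigmaOverι V j).left.opensRange
      have hzO : z ∈ O := ⟨hi, hj⟩
      obtain ⟨lα, hlα⟩ := exists_lift_sigmaOverι V α i O fun w hw => hw.1
      obtain ⟨lβ, hlβ⟩ := exists_lift_sigmaOverι V β j O fun w hw => hw.2
      have hcomm : (yon S).map lα ≫ e i = (yon S).map lβ ≫ e j := by
        rw [← hι i, ← hι j, ← Category.assoc, ← Category.assoc, ← Functor.map_comp,
          ← Functor.map_comp, hlα, hlβ, Functor.map_comp, Functor.map_comp, Category.assoc,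
          Category.assoc, hab]
      have hij : i = j := by
        by_contra hne
        have := hdisj i j hne _ lα lβ hcomm
        exact this.false ⟨z, hzO⟩
      subst hij
      have hmi := hmono i
      have h2 : lα = lβ := (yon S).map_injective ((cancel_mono (e i)).1 hcomm)
      refine ⟨O, hzO, ?_⟩
      rw [← Functor.map_comp, ← Functor.map_comp, ← hlα, ← hlβ, h2]
    choose O hO1 hO2 using key
    exact hom_ext_of_cover (fun z : ↥Z.left => overOpens Z (O z)) (fun z => overOpensι Z (O z))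
      (fun z => by change IsOpenImmersion (O z).ι; infer_instance)
      (fun z => ⟨z, ⟨⟨z, hO1 z⟩, rfl⟩⟩) _ _ hO2
  have he : Epi φ := by
    refine epi_of_local_lift φ fun Z z pt => ?_
    obtain ⟨i, O, hptO, l, hl⟩ := hcov Z z pt
    refine ⟨O, hptO, (yon S).map (l ≫ sigmaOverι V i), ?_⟩
    rw [Functor.map_comp, Category.assoc, hι i, hl]
  exact isIso_of_mono_of_epi φ

theorem isRepresentable_of_disjoint_cover {F : Sp S} {ι : Type w} [Small.{u} ι] (V : ι → Over S)
    (e : ∀ i, (yon S).obj (V i) ⟶ F) (hmono : ∀ i, Mono (e i))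
    (hcov : ∀ (T : Over S) (g : (yon S).obj T ⟶ F) (t : ↥T.left), ∃ (i : ι) (O : T.left.Opens),
      t ∈ O ∧ ∃ l : overOpens T O ⟶ V i,
        (yon S).map l ≫ e i = (yon S).map (overOpensι T O) ≫ g)
    (hdisj : ∀ (i j : ι), i ≠ j → ∀ (T : Over S) (g : T ⟶ V i) (h : T ⟶ V j),
      (yon S).map g ≫ e i = (yon S).map h ≫ e j → IsEmpty ↥T.left) :
    F.obj.IsRepresentable := by
  have := isIso_sigmaDesc V e hmono hcov hdisj
  exact (representableByOfIso (asIso (sigmaDesc V e))).isRepresentable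

end Groth.Agent.Lib.Helper37.DisjCover
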