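import Mathlib
import Groth.Agent.Lib.Helper14.DvrDominate
import Groth.Agent.Lib.Helper38.NagataFT7

/-!
# Discrete valuation rings essentially of finite type dominating Nagata local rings

Refinements of `Helper14.DvrDominate` (and of `Helper50.exists_dvr_factor`) for Nagata rings: the
dominating discrete valuation ring can be chosen essentially of finite type over the local ring
(the normalisation of the one-dimensional local ring produced by blowing up is finite because the
ring is Nagata; `Helper38`).

* `exists_dvr_dominating_eft`, `exists_dvr_dominating_fg_eft`, `exists_dvr_factor_eft`.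
-/

set_option autoImplicit false
set_option linter.style.haveILetI false
universe u
open IsLocalRing

namespace Groth.Agent.Lib.Helper37.DvrEft

open Groth.Agent.Lib.Helper14.DvrDominate
open Groth.Agent.Lib.Helper38.NagataFT1 Groth.Agent.Lib.Helper38.NagataFT5
  Groth.Agent.Lib.Helper38.NagataFT6 Groth.Agent.Lib.Helper38.NagataFT7

/-- N-2 implies N-1. -/
theorem isN1_of_isN2 (D : Type u) [CommRing D] [IsDomain D] (h : CAlg.IsN2 D) : CAlg.IsN1 D :=
  h (FractionRing D) inferInstance

/-- A Nagata Noetherian local domain which is not a field is dominated by a discrete valuation ring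
of its fraction field which is essentially of finite type over it. -/
theorem exists_dvr_dominating_eft (R : Type u) [CommRing R] [IsDomain R]
    [IsNoetherianRing R] [IsLocalRing R] (hR : ¬ IsField R) (hNag : CAlg.IsNagata R)
    (K : Type u) [Field K] [Algebra R K] [IsFractionRing R K] :
    ∃ O : ValuationSubring K, IsDiscreteValuationRing O ∧
      ∃ ψ : R →+* O, (∀ r, ((ψ r : O) : K) = algebraMap R K r) ∧
        (∀ r ∈ maximalIdeal R, O.valuation (algebraMap R K r) < 1) ∧ ψ.EssFiniteType := by
  obtain ⟨R', hloc, hN, hdim, hlh, hess⟩ := exists_dimOne_dominating R hR K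
  have hinjR' : Function.Injective (algebraMap R' K) := Subtype.val_injective
  have : FaithfulSMul R' K := (faithfulSMul_iff_algebraMap_injective _ _).2 hinjR'
  have hFr : IsFractionRing R' K := IsFractionRing.of_field R' K (fun z => by
      obtain ⟨a, b, -, rfl⟩ := IsFractionRing.div_surjective (A := R) z
      exact ⟨algebraMap R R' a, algebraMap R R' b, rfl⟩)
  have hNagR' : CAlg.IsNagata R' := isNagata_of_essFiniteType R hNag R'
  have hN1 : CAlg.IsN1 R' := isN1_of_isN2 R' (isN2_of_isNagata R' hNagR')
  have hfin0 : Module.Finite R' (integralClosure R' K) := finite_integralClosure_of_isN1 R' hN1 K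
  obtain ⟨C, hC⟩ : ∃ C : Subalgebra R' K, C = integralClosure R' K := ⟨_, rfl⟩
  have hfinC : Module.Finite R' C := by rw [hC]; exact hfin0
  have hCic : IsIntegralClosure C R' K := by rw [hC]; infer_instance
  obtain ⟨hDed, hsurj, -, -⟩ := Groth.Agent.S6370.result R' K K C hdim
  have hm0 : maximalIdeal R' ≠ ⊥ := by
    intro h
    have hf : IsField R' := isField_iff_maximalIdeal_eq.2 h
    rw [ringKrullDim_eq_zero_of_isField hf] at hdim
    exact zero_ne_one hdim
  obtain ⟨Q, hQ⟩ := hsurj ⟨maximalIdeal R', inferInstance⟩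
  have hQcomap : Q.asIdeal.comap (algebraMap R' C) = maximalIdeal R' :=
    congrArg PrimeSpectrum.asIdeal hQ
  have hinjC : Function.Injective (algebraMap R' C) := by
    intro a b h
    exact Subtype.ext (congrArg (fun c : C => (c : K)) h)
  have hQ0 : Q.asIdeal ≠ ⊥ := by
    intro h
    rw [h, Ideal.comap_bot_of_injective _ hinjC] at hQcomap
    exact hm0 hQcomap.symm
  have hFrC : IsFractionRing C K := IsIntegralClosure.isFractionRing_of_finite_extension R' K K C
  have hS : Q.asIdeal.primeCompl ≤ nonZeroDivisors C := Ideal.primeCompl_le_nonZeroDivisors _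
  obtain ⟨D, hD⟩ : ∃ D : Subalgebra C K, D = Localization.subalgebra K Q.asIdeal.primeCompl hS :=
    ⟨_, rfl⟩
  have hDat : IsLocalization.AtPrime D Q.asIdeal := by
    rw [hD]
    exact Localization.subalgebra.isLocalization_subalgebra K Q.asIdeal.primeCompl hS
  have hDVR : IsDiscreteValuationRing D :=
    IsLocalization.AtPrime.isDiscreteValuationRing_of_dedekind_domain C hQ0 D
  have hFrD : IsFractionRing D K := by
    rw [hD]
    exact Localization.subalgebra.isFractionRing K Q.asIdeal.primeCompl hS
  let O : ValuationSubring K :=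
    { D.toSubring with
      mem_or_inv_mem' := fun x => by
        rcases ValuationRing.isInteger_or_isInteger D x with ⟨d, hd⟩ | ⟨d, hd⟩
        · left; rw [← hd]; exact d.2
        · right; rw [← hd]; exact d.2 }
  have hmemD : ∀ r : R, algebraMap R K r ∈ D := fun r =>
    (algebraMap C D (algebraMap R' C (algebraMap R R' r))).2
  -- the ring hom `R → O` and its essential finiteness
  let e : D →+* O :=
    { toFun := fun d => ⟨d.1, d.2⟩
      map_one' := rfl
      map_mul' := fun _ _ => rfl
      map_zero' := rfl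
      map_add' := fun _ _ => rfl }
  have he : Function.Surjective e := fun o => ⟨⟨o.1, o.2⟩, rfl⟩
  let ψ : R →+* O := e.comp ((algebraMap C D).comp ((algebraMap R' C).comp (algebraMap R R')))
  have h1 : (algebraMap R R').EssFiniteType := RingHom.essFiniteType_algebraMap.mpr hess
  have h2 : (algebraMap R' C).EssFiniteType :=
    RingHom.essFiniteType_algebraMap.mpr inferInstance
  have h3 : @RingHom.EssFiniteType C D _ _ (algebraMap C D) := by
    rw [RingHom.essFiniteType_algebraMap]
    exact Algebra.EssFiniteType.of_isLocalization D Q.asIdeal.primeCompl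
  have h4 : @RingHom.EssFiniteType D O _ _ e :=
    RingHom.FiniteType.essFiniteType (RingHom.FiniteType.of_surjective _ he)
  have hψ : ψ.EssFiniteType := ((h1.comp h2).comp h3).comp h4
  refine ⟨O, hDVR, ψ, fun r => rfl, ?_, hψ⟩
  intro r hr
  have hr' : algebraMap R R' r ∈ maximalIdeal R' := by
    rw [mem_maximalIdeal, mem_nonunits_iff]
    intro hu
    exact (mem_maximalIdeal _).1 hr (hlh.map_nonunit _ hu)
  have hrQ : algebraMap R' C (algebraMap R R' r) ∈ Q.asIdeal := by
    rw [← hQcomap] at hr'
    exact hr'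
  have hnu : ¬ IsUnit (algebraMap C D (algebraMap R' C (algebraMap R R' r))) := by
    rw [IsLocalization.AtPrime.isUnit_to_map_iff D Q.asIdeal]
    exact fun h => h hrQ
  have hlt := (O.valuation_lt_one_iff ⟨algebraMap R K r, hmemD r⟩).1 (by
    rw [mem_maximalIdeal, mem_nonunits_iff]
    exact hnu)
  exact hlt

/-- Finitely generated field extension version of `exists_dvr_dominating_eft`. -/
theorem exists_dvr_dominating_fg_eft (A : Type u) [CommRing A] [IsDomain A] [IsNoetherianRing A]
    [IsLocalRing A] (hA : ¬ IsField A) (hNag : CAlg.IsNagata A)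
    (K : Type u) [Field K] [Algebra A K] [IsFractionRing A K]
    (L : Type u) [Field L] [Algebra K L] [Algebra A L] [IsScalarTower A K L]
    (hfg : (⊤ : IntermediateField K L).FG) :
    ∃ R : ValuationSubring L, IsDiscreteValuationRing R ∧
      ∃ ψ : A →+* R, (∀ a, ((ψ a : R) : L) = algebraMap A L a) ∧
        (∀ a ∈ IsLocalRing.maximalIdeal A, R.valuation (algebraMap A L a) < 1) ∧
        ψ.EssFiniteType := by
  classical
  have hinjAL : Function.Injective (algebraMap A L) := by
    rw [IsScalarTower.algebraMap_eq A K L]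
    exact (algebraMap K L).injective.comp (IsFractionRing.injective A K)
  obtain ⟨V, hV, hVloc⟩ := IsLocalRing.exists_factor_valuationRing (algebraMap A L)
  obtain ⟨S, hS⟩ := hfg
  set S' : Finset L := S.image (fun a => if a ∈ V then a else a⁻¹) with hS'
  obtain ⟨B, hB⟩ : ∃ B : Subalgebra A L, B = Algebra.adjoin A (S' : Set L) := ⟨_, rfl⟩
  have hS'V : ∀ b ∈ S', b ∈ V := by
    intro b hb
    obtain ⟨a, -, rfl⟩ := Finset.mem_image.1 hb
    by_cases h : a ∈ V
    · simp [h]
    · simpa [h] using (V.mem_or_inv_mem a).resolve_left h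
  have hBV : ∀ b ∈ B, b ∈ V := by
    intro b hb
    rw [hB] at hb
    induction hb using Algebra.adjoin_induction with
    | mem b hb => exact hS'V b (Finset.mem_coe.1 hb)
    | algebraMap r => exact hV r
    | add _ _ _ _ h₁ h₂ => exact V.add_mem _ _ h₁ h₂
    | mul _ _ _ _ h₁ h₂ => exact V.mul_mem _ _ h₁ h₂
  have hFT : Algebra.FiniteType A B := by
    rw [hB]
    exact (Subalgebra.fg_iff_finiteType _).1 (Subalgebra.fg_adjoin_finset S')
  have hNB : IsNoetherianRing B := Algebra.FiniteType.isNoetherianRing A B
  have hFrac : ∀ z : L, ∃ x y : L, x ∈ B ∧ y ∈ B ∧ y ≠ 0 ∧ z = x / y := by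
    have key : ∀ z ∈ Algebra.adjoin K (S : Set L), ∃ x y : L, x ∈ B ∧ y ∈ B ∧ y ≠ 0 ∧ z = x / y := by
      intro z hz
      induction hz using Algebra.adjoin_induction with
      | mem a ha =>
        have haS' : (if a ∈ V then a else a⁻¹) ∈ B := by
          rw [hB]
          exact Algebra.subset_adjoin (Finset.mem_coe.2 (Finset.mem_image_of_mem _ ha))
        by_cases h : a ∈ V
        · rw [if_pos h] at haS'
          exact ⟨a, 1, haS', B.one_mem, one_ne_zero, by rw [div_one]⟩
        · rw [if_neg h] at haS'
          have ha0 : a ≠ 0 := by rintro rfl; exact h V.zero_mem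
          exact ⟨1, a⁻¹, B.one_mem, haS', inv_ne_zero ha0, by rw [one_div, inv_inv]⟩
      | algebraMap k =>
        obtain ⟨a, b, hb, rfl⟩ := IsFractionRing.div_surjective (A := A) k
        refine ⟨algebraMap A L a, algebraMap A L b, B.algebraMap_mem a, B.algebraMap_mem b, ?_, ?_⟩
        · rw [Ne, map_eq_zero_iff _ hinjAL]
          exact nonZeroDivisors.ne_zero hb
        · rw [map_div₀, ← IsScalarTower.algebraMap_apply, ← IsScalarTower.algebraMap_apply]
      | add _ _ _ _ h₁ h₂ =>
        obtain ⟨x, y, hx, hy, hy0, rfl⟩ := h₁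
        obtain ⟨x', y', hx', hy', hy0', rfl⟩ := h₂
        refine ⟨x * y' + x' * y, y * y', B.add_mem (B.mul_mem hx hy') (B.mul_mem hx' hy),
          B.mul_mem hy hy', mul_ne_zero hy0 hy0', ?_⟩
        field_simp
      | mul _ _ _ _ h₁ h₂ =>
        obtain ⟨x, y, hx, hy, hy0, rfl⟩ := h₁
        obtain ⟨x', y', hx', hy', hy0', rfl⟩ := h₂
        refine ⟨x * x', y * y', B.mul_mem hx hx', B.mul_mem hy hy', mul_ne_zero hy0 hy0', ?_⟩
        field_simp
    intro z
    have hz : z ∈ IntermediateField.adjoin K (S : Set L) := by rw [hS]; trivial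
    obtain ⟨r, hr, s, hs, rfl⟩ := IntermediateField.mem_adjoin_iff_div.1 hz
    obtain ⟨x, y, hx, hy, hy0, rfl⟩ := key r hr
    obtain ⟨x', y', hx', hy', hy0', rfl⟩ := key s hs
    by_cases hx'0 : x' = 0
    · exact ⟨0, 1, B.zero_mem, B.one_mem, one_ne_zero, by simp [hx'0]⟩
    · refine ⟨x * y', y * x', B.mul_mem hx hy', B.mul_mem hy hx', mul_ne_zero hy0 hx'0, ?_⟩
      field_simp
  have hinjB : Function.Injective (algebraMap B L) := Subtype.val_injective
  have : FaithfulSMul B L := (faithfulSMul_iff_algebraMap_injective _ _).2 hinjB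
  have hFrB : IsFractionRing B L := IsFractionRing.of_field B L (fun z => by
    obtain ⟨x, y, hx, hy, -, rfl⟩ := hFrac z
    exact ⟨⟨x, hx⟩, ⟨y, hy⟩, rfl⟩)
  let ι : B →+* V := Subring.inclusion (show B.toSubring ≤ V.toSubring from fun b hb => hBV b hb)
  obtain ⟨n, hn⟩ : ∃ n : Ideal B, n = (maximalIdeal V).comap ι := ⟨_, rfl⟩
  have hnp : n.IsPrime := by rw [hn]; exact Ideal.comap_isPrime ι _
  have hmn : ∀ a ∈ maximalIdeal A, algebraMap A B a ∈ n := by
    intro a ha
    rw [hn, Ideal.mem_comap, mem_maximalIdeal, mem_nonunits_iff]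
    intro hu
    exact (mem_maximalIdeal _).1 ha (hVloc.map_nonunit a hu)
  have hSn : n.primeCompl ≤ nonZeroDivisors B := Ideal.primeCompl_le_nonZeroDivisors _
  obtain ⟨Bn, hBn⟩ : ∃ Bn : Subalgebra B L, Bn = Localization.subalgebra L n.primeCompl hSn :=
    ⟨_, rfl⟩
  have hBnat : IsLocalization.AtPrime Bn n := by
    rw [hBn]
    exact Localization.subalgebra.isLocalization_subalgebra L n.primeCompl hSn
  have hBnFr : IsFractionRing Bn L := by
    rw [hBn]
    exact Localization.subalgebra.isFractionRing L n.primeCompl hSn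
  have hBnloc : IsLocalRing Bn := IsLocalization.AtPrime.isLocalRing Bn n
  have hBnN : IsNoetherianRing Bn := IsLocalization.isNoetherianRing n.primeCompl Bn hNB
  have hmBn : ∀ a ∈ maximalIdeal A, algebraMap B Bn (algebraMap A B a) ∈ maximalIdeal Bn := by
    intro a ha
    rw [IsLocalization.AtPrime.to_map_mem_maximal_iff Bn n]
    exact hmn a ha
  have hBnnf : ¬ IsField Bn := by
    intro hf
    have hm0 : maximalIdeal A ≠ ⊥ := fun h => hA (isField_iff_maximalIdeal_eq.2 h)
    obtain ⟨a, ham, ha0⟩ := Submodule.exists_mem_ne_zero_of_ne_bot hm0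
    have h1 := hmBn a ham
    rw [isField_iff_maximalIdeal_eq.1 hf, Ideal.mem_bot] at h1
    have h2 : algebraMap A L a = 0 := congrArg (fun b : Bn => (b : L)) h1
    exact ha0 ((map_eq_zero_iff _ hinjAL).1 h2)
  have hBNag : CAlg.IsNagata B := isNagata_of_finiteType A hNag B
  have hBnNag : CAlg.IsNagata Bn :=
    Groth.Agent.Lib.Helper38.Nagata.isNagata_of_isLocalization B hBNag n.primeCompl Bn
  obtain ⟨O, hO, ψ, hψ, hOlt, hψe⟩ := exists_dvr_dominating_eft Bn hBnnf hBnNag L
  have h1 : @RingHom.EssFiniteType A B _ _ (algebraMap A B) := by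
    rw [RingHom.essFiniteType_algebraMap]
    infer_instance
  have h2 : @RingHom.EssFiniteType B Bn _ _ (algebraMap B Bn) := by
    rw [RingHom.essFiniteType_algebraMap]
    exact Algebra.EssFiniteType.of_isLocalization Bn n.primeCompl
  refine ⟨O, hO, ψ.comp ((algebraMap B Bn).comp (algebraMap A B)), fun a => ?_, fun a ha => ?_,
    (h1.comp h2).comp hψe⟩
  · exact hψ _
  · exact hOlt _ (hmBn a ha)

/-- A Nagata Noetherian local ring mapping to a field `L`, finitely generated over the image, with
kernel not the maximal ideal: the map factors through a discrete valuation ring of `L` by a local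
homomorphism essentially of finite type. -/
theorem exists_dvr_factor_eft {B : Type u} [CommRing B] [IsNoetherianRing B] [IsLocalRing B]
    (hNag : CAlg.IsNagata B)
    {L : Type u} [Field L] (φ : B →+* L) (hker : RingHom.ker φ ≠ maximalIdeal B)
    (hfg : ∃ F : Finset L, Subfield.closure (Set.range φ ∪ ↑F) = ⊤) :
    ∃ R : ValuationSubring L, IsDiscreteValuationRing R ∧
      ∃ ψ : B →+* R, IsLocalHom ψ ∧ R.subtype.comp ψ = φ ∧ ψ.EssFiniteType := by
  classical
  set p := RingHom.ker φ with hp
  haveI : p.IsPrime := RingHom.ker_isPrime φ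
  let A := B ⧸ p
  haveI : IsLocalRing A :=
    IsLocalRing.of_surjective' (Ideal.Quotient.mk p) Ideal.Quotient.mk_surjective
  have hA : ¬ IsField A := by
    intro h
    have hmax : p.IsMaximal := Ideal.Quotient.maximal_of_isField p h
    exact hker (IsLocalRing.eq_maximalIdeal hmax)
  have hANag : CAlg.IsNagata A :=
    isNagata_of_surjective (Ideal.Quotient.mk p) Ideal.Quotient.mk_surjective hNag
  let φ' : A →+* L := RingHom.kerLift φ
  have hφ' : Function.Injective φ' := RingHom.kerLift_injective φ
  let K := FractionRing A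
  letI : Algebra A L := φ'.toAlgebra
  letI : Algebra K L := (IsFractionRing.lift (K := K) (g := φ') hφ').toAlgebra
  haveI : IsScalarTower A K L := IsScalarTower.of_algebraMap_eq (fun a => by
    change φ' a = IsFractionRing.lift hφ' (algebraMap A K a)
    rw [IsFractionRing.lift_algebraMap])
  obtain ⟨F, hF⟩ := hfg
  have hfg' : (⊤ : IntermediateField K L).FG := by
    refine ⟨F, ?_⟩
    rw [← IntermediateField.toSubfield_inj, IntermediateField.adjoin_toSubfield]
    apply top_unique
    change ⊤ ≤ _
    rw [← hF]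
    apply Subfield.closure_mono
    apply Set.union_subset_union_left
    rintro _ ⟨b, rfl⟩
    refine ⟨algebraMap A K (Ideal.Quotient.mk p b), ?_⟩
    rw [← IsScalarTower.algebraMap_apply A K L]
    rfl
  obtain ⟨R, hR, ψA, hψA, hlt, hψAe⟩ := exists_dvr_dominating_fg_eft A hA hANag K L hfg'
  have hmk : (Ideal.Quotient.mk p).EssFiniteType :=
    (RingHom.FiniteType.of_surjective _ Ideal.Quotient.mk_surjective).essFiniteType
  refine ⟨R, hR, ψA.comp (Ideal.Quotient.mk p), ⟨fun b hb => ?_⟩, ?_, hmk.comp hψAe⟩
  · by_contra hb'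
    have hbm : b ∈ maximalIdeal B := hb'
    have hbA : Ideal.Quotient.mk p b ∈ maximalIdeal A := by
      rw [IsLocalRing.mem_maximalIdeal, mem_nonunits_iff]
      intro hu
      have : IsLocalHom (Ideal.Quotient.mk p) :=
        IsLocalHom.of_surjective _ Ideal.Quotient.mk_surjective
      exact hb' (isUnit_of_map_unit (Ideal.Quotient.mk p) b hu)
    have h1 := hlt _ hbA
    have h2 : R.valuation ((ψA.comp (Ideal.Quotient.mk p)) b : L) = 1 :=
      (R.valuation_eq_one_iff _).mp hb
    rw [RingHom.comp_apply, hψA] at h2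
    exact absurd h2 (ne_of_lt h1)
  · ext b
    simp only [RingHom.comp_apply]
    exact hψA _

end Groth.Agent.Lib.Helper37.DvrEft
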