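import Mathlib
import Groth.Agent.Lib.Helper37.DvrEft
import Groth.Agent.Lib.Helper37.NagataSp
import Groth.Agent.Lib.Helper50.DvrCrit

/-!
# Discrete valuation rings essentially of finite type through a specialisation

Refinements of `Helper50.DvrSpec` over a base with Nagata affine opens: the discrete valuation ring
realising a specialisation `p x ⤳ y'` can be chosen essentially of finite type over the local ring
of `y'`, hence over an affine open of the base.

* `exists_dvr_spec_eft`, `exists_dvr_through_specialization_eft`;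
* `essFiniteType_germ`, `isNagata_stalk`, `essFiniteType_germ_stalkMap`;
* `IsEftOver`, `exists_dvr_through_specialization_over`.
-/

set_option autoImplicit false
set_option linter.style.haveILetI false
universe u
open CategoryTheory CategoryTheory.Limits AlgebraicGeometry IsLocalRing TopologicalSpace

namespace Groth.Agent.Lib.Helper37.DvrEftSpec

open Groth.Agent.Lib.Helper50 Groth.Agent.Lib.Helper37.DvrEft

/-- `Helper50.exists_dvr_spec` with the ring map exposed and essentially of finite type, for a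
Nagata local ring. -/
theorem exists_dvr_spec_eft {P : Scheme.{u}} [IsLocallyNoetherian P] (w : P)
    (hNag : CAlg.IsNagata (P.presheaf.stalk w)) {L : Type u} [Field L]
    (φ : P.presheaf.stalk w ⟶ CommRingCat.of L)
    (hker : RingHom.ker φ.hom ≠ maximalIdeal (P.presheaf.stalk w))
    (hfg : ∃ F : Finset L, Subfield.closure (Set.range φ.hom ∪ ↑F) = ⊤) :
    ∃ (A : ValuationSubring L) (ψ : P.presheaf.stalk w ⟶ CommRingCat.of A),
      IsDiscreteValuationRing A ∧
      (Spec.map ψ ≫ P.fromSpecStalk w).base (closedPoint A) = w ∧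
      Spec.map (CommRingCat.ofHom A.subtype) ≫ Spec.map ψ ≫ P.fromSpecStalk w =
        Spec.map φ ≫ P.fromSpecStalk w ∧ ψ.hom.EssFiniteType := by
  obtain ⟨R, hR, ψ, hψ, hcomp, hψe⟩ := exists_dvr_factor_eft hNag φ.hom hker hfg
  refine ⟨R, CommRingCat.ofHom ψ, hR, ?_, ?_, hψe⟩
  · haveI : IsLocalHom (CommRingCat.ofHom ψ).hom := hψ
    have h1 : (Spec.map (CommRingCat.ofHom ψ)).base (closedPoint R) =
        closedPoint (P.presheaf.stalk w) := Spec_closedPoint (f := CommRingCat.ofHom ψ)
    change (P.fromSpecStalk w).base ((Spec.map (CommRingCat.ofHom ψ)).base (closedPoint R)) = w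
    rw [h1]
    exact Scheme.fromSpecStalk_closedPoint
  · rw [← Category.assoc, ← Spec.map_comp]
    congr 2
    ext x
    exact congr($hcomp x)

/-- `Helper50.exists_dvr_through_specialization` with the ring map from the local ring exposed
and essentially of finite type, when that local ring is Nagata. -/
theorem exists_dvr_through_specialization_eft {X Y : Scheme.{u}} [IsLocallyNoetherian Y]
    (p : X ⟶ Y) [LocallyOfFiniteType p] (x : X) (y' : Y)
    (hNag : CAlg.IsNagata (Y.presheaf.stalk y')) (hsp : p.base x ⤳ y')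
    (hne : y' ≠ p.base x) :
    ∃ (A : ValuationSubring (X.residueField x)) (ψ : Y.presheaf.stalk y' ⟶ CommRingCat.of A),
      IsDiscreteValuationRing A ∧
      (Spec.map ψ ≫ Y.fromSpecStalk y').base (IsLocalRing.closedPoint A) = y' ∧
      Spec.map (CommRingCat.ofHom A.subtype) ≫ Spec.map ψ ≫ Y.fromSpecStalk y' =
        X.fromSpecResidueField x ≫ p ∧ ψ.hom.EssFiniteType := by
  classical
  set φ := specResMap p x y' hsp with hφ
  have hcomp := SpecMap_specResMap_fromSpecStalk p x y' hsp
  have hker : RingHom.ker φ.hom ≠ maximalIdeal (Y.presheaf.stalk y') := by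
    intro hk
    have h1 := apply_closedPoint_of_ker_eq (L := X.residueField x) y' φ hk
    rw [hcomp] at h1
    apply hne
    rw [← h1]
    exact congrArg p.base (Scheme.fromSpecResidueField_apply x _)
  have hfg : ∃ F : Finset (X.residueField x),
      Subfield.closure (Set.range φ.hom ∪ ↑F) = ⊤ := by
    obtain ⟨W, hW, hy'W, -⟩ := exists_isAffineOpen_mem_and_subset
      (show y' ∈ (⊤ : Y.Opens) from trivial)
    have hpx : p.base x ∈ W := hsp.mem_open W.2 hy'W
    obtain ⟨V, hV, hxV, hVW⟩ := exists_isAffineOpen_mem_and_subset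
      (show x ∈ p ⁻¹ᵁ W from hpx)
    have e : V ≤ p ⁻¹ᵁ W := hVW
    have hft := p.finiteType_appLE hW hV e
    let _ := (p.appLE W V e).hom.toAlgebra
    obtain ⟨F', hF'⟩ : (⊤ : Subalgebra Γ(Y, W) Γ(X, V)).FG := hft.out
    refine ⟨F'.image (X.evaluation V x hxV), ?_⟩
    set E := Subfield.closure (Set.range φ.hom ∪ ↑(F'.image (X.evaluation V x hxV))) with hE
    have hev : ∀ a : Γ(X, V), X.evaluation V x hxV a ∈ E := by
      intro a
      have ha : a ∈ Algebra.adjoin Γ(Y, W) (F' : Set Γ(X, V)) := by rw [hF']; trivial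
      induction ha using Algebra.adjoin_induction with
      | mem a ha =>
        apply Subfield.subset_closure
        right
        rw [Finset.coe_image]
        exact ⟨a, ha, rfl⟩
      | algebraMap r =>
        apply Subfield.subset_closure
        left
        exact ⟨Y.presheaf.germ W y' hy'W r, specResMap_germ p x y' hsp W hy'W V hxV e r⟩
      | add a b _ _ iha ihb => rw [map_add]; exact add_mem iha ihb
      | mul a b _ _ iha ihb => rw [map_mul]; exact mul_mem iha ihb
    apply top_unique
    intro k _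
    obtain ⟨a, b, -, rfl⟩ := exists_evaluation_div hV x hxV k
    exact div_mem (hev a) (hev b)
  obtain ⟨A, ψ, hA, hy, hAy, hψe⟩ := exists_dvr_spec_eft (L := X.residueField x) y' hNag φ hker hfg
  exact ⟨A, ψ, hA, hy, hAy.trans hcomp, hψe⟩

/-- The germ map at a point of an affine open is essentially of finite type (a localisation). -/
theorem essFiniteType_germ {Y : Scheme.{u}} {W : Y.Opens} (hW : IsAffineOpen W) (y : Y)
    (hy : y ∈ W) : (Y.presheaf.germ W y hy).hom.EssFiniteType := by
  letI : Algebra Γ(Y, W) (Y.presheaf.stalk y) :=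
    TopCat.Presheaf.algebra_section_stalk Y.presheaf ⟨y, hy⟩
  haveI := hW.isLocalization_stalk ⟨y, hy⟩
  have h : Algebra.EssFiniteType Γ(Y, W) (Y.presheaf.stalk y) :=
    Algebra.EssFiniteType.of_isLocalization (Y.presheaf.stalk y)
      (hW.primeIdealOf ⟨y, hy⟩).asIdeal.primeCompl
  rw [← RingHom.essFiniteType_algebraMap] at h
  exact h

/-- The stalk of a scheme with Nagata affine opens is Nagata. -/
theorem isNagata_stalk {Y : Scheme.{u}}
    (hY : ∀ W : Y.Opens, IsAffineOpen W → CAlg.IsNagata ↑Γ(Y, W)) (y : Y) :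
    CAlg.IsNagata (Y.presheaf.stalk y) := by
  obtain ⟨W, hW, hyW, -⟩ := exists_isAffineOpen_mem_and_subset
    (show y ∈ (⊤ : Y.Opens) from trivial)
  letI : Algebra Γ(Y, W) (Y.presheaf.stalk y) :=
    TopCat.Presheaf.algebra_section_stalk Y.presheaf ⟨y, hyW⟩
  haveI := hW.isLocalization_stalk ⟨y, hyW⟩
  exact Groth.Agent.Lib.Helper38.Nagata.isNagata_of_isLocalization ↑Γ(Y, W) (hY W hW)
    (hW.primeIdealOf ⟨y, hyW⟩).asIdeal.primeCompl (Y.presheaf.stalk y)

/-- The composite `Γ(S, U) → 𝒪_{S, g y} → 𝒪_{Y, y}` is essentially of finite type for `g` locally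
of finite type, and is compatible with the canonical morphisms from the spectra of local rings. -/
theorem essFiniteType_germ_stalkMap {Y S : Scheme.{u}} (g : Y ⟶ S) [LocallyOfFiniteType g]
    {U : S.Opens} (hU : IsAffineOpen U) (y : Y) (hy : g.base y ∈ U) :
    (S.presheaf.germ U (g.base y) hy ≫ g.stalkMap y).hom.EssFiniteType ∧
      Spec.map (S.presheaf.germ U (g.base y) hy ≫ g.stalkMap y) ≫ hU.fromSpec =
        Y.fromSpecStalk y ≫ g := by
  constructor
  · obtain ⟨W, hW, hyW, hWU⟩ := exists_isAffineOpen_mem_and_subset (show y ∈ g ⁻¹ᵁ U from hy)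
    have e : W ≤ g ⁻¹ᵁ U := hWU
    have h1 : S.presheaf.germ U (g.base y) hy ≫ g.stalkMap y =
        g.appLE U W e ≫ Y.presheaf.germ W y hyW := by
      rw [Scheme.Hom.germ_stalkMap, Scheme.Hom.appLE, Category.assoc, TopCat.Presheaf.germ_res]
    rw [h1, CommRingCat.hom_comp]
    exact (g.finiteType_appLE hU hW e).essFiniteType.comp (essFiniteType_germ hW y hyW)
  · rw [Spec.map_comp, Category.assoc, ← Scheme.SpecMap_stalkMap_fromSpecStalk,
      ← hU.fromSpecStalk_eq_fromSpecStalk hy]
    rfl

/-- `y : Spec A ⟶ Y` is essentially of finite type over `S` (via `g : Y ⟶ S`): `y ≫ g` factors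
through an affine open `U` of `S` by a ring map `Γ(S, U) ⟶ A` essentially of finite type. -/
def IsEftOver {Y S : Scheme.{u}} (g : Y ⟶ S) {A : Type u} [CommRing A]
    (y : Spec (CommRingCat.of A) ⟶ Y) : Prop :=
  ∃ (U : S.affineOpens) (φ : Γ(S, U.1) ⟶ CommRingCat.of A),
    Spec.map φ ≫ U.2.fromSpec = y ≫ g ∧ φ.hom.EssFiniteType

/-- Over a base with Nagata affine opens, a specialisation `p x ⤳ y'` (`y' ≠ p x`) is realised by
a discrete valuation ring of `κ(x)` essentially of finite type over the base. -/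
theorem exists_dvr_through_specialization_over {X Y S : Scheme.{u}} (p : X ⟶ Y) (g : Y ⟶ S)
    [LocallyOfFiniteType p] [LocallyOfFiniteType g]
    (hS : ∀ U : S.Opens, IsAffineOpen U → CAlg.IsNagata ↑Γ(S, U)) (x : X) (y' : Y)
    (hsp : p.base x ⤳ y') (hne : y' ≠ p.base x) :
    ∃ (A : ValuationSubring (X.residueField x)) (h : Spec (CommRingCat.of A) ⟶ Y),
      IsDiscreteValuationRing A ∧ h.base (IsLocalRing.closedPoint A) = y' ∧
      Spec.map (CommRingCat.ofHom A.subtype) ≫ h = X.fromSpecResidueField x ≫ p ∧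
      IsEftOver g h := by
  haveI : IsLocallyNoetherian S := ⟨fun U => (hS U.1 U.2).1⟩
  haveI : IsLocallyNoetherian Y := LocallyOfFiniteType.isLocallyNoetherian g
  have hY := Groth.Agent.Lib.Helper37.NagataSp.isNagata_affineOpens_of_locallyOfFiniteType g hS
  obtain ⟨A, ψ, hA, hcl, hcomp, hψe⟩ :=
    exists_dvr_through_specialization_eft p x y' (isNagata_stalk hY y') hsp hne
  obtain ⟨U, hU, hyU, -⟩ := exists_isAffineOpen_mem_and_subset
    (show g.base y' ∈ (⊤ : S.Opens) from trivial)
  obtain ⟨h1, h2⟩ := essFiniteType_germ_stalkMap g hU y' hyU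
  refine ⟨A, Spec.map ψ ≫ Y.fromSpecStalk y', hA, hcl, hcomp, ⟨U, hU⟩,
    (S.presheaf.germ U (g.base y') hyU ≫ g.stalkMap y') ≫ ψ, ?_, ?_⟩
  · rw [Spec.map_comp, Category.assoc, h2, Category.assoc]
  · rw [CommRingCat.hom_comp]
    exact h1.comp hψe

end Groth.Agent.Lib.Helper37.DvrEftSpec
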