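import Mathlib
import Groth.Agent.Lib.Helper37.DvrEftSpec
import Groth.Agent.Lib.Helper50.DvrSep

/-!
# Valuative criteria with discrete valuation rings essentially of finite type over a Nagata base

Let `S` have Nagata affine opens, `g : Y ⟶ S` locally of finite type and `f : X ⟶ Y` locally of
finite type.

* `DvrExistenceEft f g`: existence of lifts for squares over discrete valuation subrings `A` of
  fields with `Spec A ⟶ Y` essentially of finite type over `S`.
* `isClosedMap_of_dvrExistenceEft`, `universallyClosed_of_dvrExistenceEft` (for `f`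
  quasi-compact).
* `DvrUniquenessEft f g`, `isSeparated_of_dvrUniquenessEft`.
These refine `Helper50.DvrCrit` / `Helper50.DvrSep`.
-/

set_option autoImplicit false
set_option linter.style.haveILetI false
universe u
open CategoryTheory CategoryTheory.Limits AlgebraicGeometry IsLocalRing TopologicalSpace

namespace Groth.Agent.Lib.Helper37.DvrEftCrit

open Groth.Agent.Lib.Helper50 Groth.Agent.Lib.Helper37.DvrEftSpec

/-- Existence part of the valuative criterion tested on discrete valuation subrings of fields which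
are essentially of finite type over the base `S`. -/
def DvrExistenceEft {X Y S : Scheme.{u}} (f : X ⟶ Y) (g : Y ⟶ S) : Prop :=
  ∀ (L : Type u) [Field L] (A : ValuationSubring L), IsDiscreteValuationRing A →
    ∀ (x : Spec (CommRingCat.of L) ⟶ X) (y : Spec (CommRingCat.of A) ⟶ Y),
      x ≫ f = Spec.map (CommRingCat.ofHom A.subtype) ≫ y → IsEftOver g y →
      ∃ l : Spec (CommRingCat.of A) ⟶ X, l ≫ f = y ∧
        Spec.map (CommRingCat.ofHom A.subtype) ≫ l = x

theorem DvrExistenceEft.of_isPullback {X Y S X' Y' : Scheme.{u}} {f : X ⟶ Y} {g : Y ⟶ S}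
    (H : DvrExistenceEft f g) {f' : X' ⟶ Y'} {t' : X' ⟶ X} {t : Y' ⟶ Y}
    (h : IsPullback t' f' f t) : DvrExistenceEft f' (t ≫ g) := by
  intro L _ A hA x y hxy heft
  obtain ⟨U, φ, hφ, hφe⟩ := heft
  obtain ⟨l, hl₁, hl₂⟩ := H L A hA (x ≫ t') (y ≫ t) (by
    rw [Category.assoc, h.w, ← Category.assoc, hxy, Category.assoc])
    ⟨U, φ, by rw [hφ, Category.assoc], hφe⟩
  refine ⟨h.lift l y hl₁, h.lift_snd _ _ _, ?_⟩
  apply h.hom_ext
  · rw [Category.assoc, h.lift_fst, hl₂]
  · rw [Category.assoc, h.lift_snd, hxy]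

theorem isClosedMap_of_dvrExistenceEft {X Y S : Scheme.{u}} (f : X ⟶ Y) (g : Y ⟶ S)
    [LocallyOfFiniteType f] [QuasiCompact f] [LocallyOfFiniteType g]
    (hS : ∀ U : S.Opens, IsAffineOpen U → CAlg.IsNagata ↑Γ(S, U))
    (H : DvrExistenceEft f g) : IsClosedMap f.base := by
  haveI : IsLocallyNoetherian S := ⟨fun U => (hS U.1 U.2).1⟩
  haveI : IsLocallyNoetherian Y := LocallyOfFiniteType.isLocallyNoetherian g
  intro Z hZ
  rw [← closure_subset_iff_isClosed]
  intro w hw
  obtain ⟨N, hN, hwN, -⟩ := exists_isAffineOpen_mem_and_subset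
    (show w ∈ (⊤ : Y.Opens) from trivial)
  haveI : IsLocallyNoetherian X := LocallyOfFiniteType.isLocallyNoetherian f
  let V : X.Opens := f ⁻¹ᵁ N
  haveI : CompactSpace (V : Scheme.{u}) :=
    isCompact_iff_compactSpace.mp (QuasiCompact.isCompact_preimage (f := f) _ N.2 hN.isCompact)
  haveI : IsNoetherian (V : Scheme.{u}) := {}
  let Z' : Set (V : Scheme.{u}) := V.ι.base ⁻¹' Z
  have hZ' : IsClosed Z' := hZ.preimage V.ι.continuous
  haveI : QuasiSober Z' := hZ'.isClosedEmbedding_subtypeVal.quasiSober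
  let g₀ : Z' → Y := fun z => f.base (V.ι.base z.1)
  have hg₀ : Continuous g₀ :=
    f.continuous.comp (V.ι.continuous.comp continuous_subtype_val)
  have hrange : Set.range g₀ = (N : Set Y) ∩ f.base '' Z := by
    ext s
    constructor
    · rintro ⟨z, rfl⟩
      exact ⟨z.1.2, V.ι.base z.1, z.2, rfl⟩
    · rintro ⟨hsN, z, hzZ, rfl⟩
      exact ⟨⟨⟨z, hsN⟩, hzZ⟩, rfl⟩
  have hw' : w ∈ closure (Set.range g₀) := by
    rw [hrange]
    exact N.2.inter_closure ⟨hwN, hw⟩
  obtain ⟨ξ, -, hξ⟩ := exists_generic_specializes_of_mem_closure_range g₀ hg₀ w hw'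
  have hzZ : V.ι.base ξ.1 ∈ Z := ξ.2
  by_cases hne : w = f.base (V.ι.base ξ.1)
  · exact ⟨_, hzZ, hne.symm⟩
  obtain ⟨A, h, hA, hcl, hcomp, heft⟩ :=
    exists_dvr_through_specialization_over f g hS (V.ι.base ξ.1) w hξ hne
  obtain ⟨l, hl₁, hl₂⟩ := H _ A hA (X.fromSpecResidueField (V.ι.base ξ.1)) h hcomp.symm heft
  refine ⟨l.base (closedPoint A), ?_, ?_⟩
  · have h1 : (Spec.map (CommRingCat.ofHom A.subtype)).base
        (closedPoint (X.residueField (V.ι.base ξ.1))) ⤳ closedPoint A :=
      IsLocalRing.specializes_closedPoint _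
    have h2 := h1.map l.continuous
    have h3 : l.base ((Spec.map (CommRingCat.ofHom A.subtype)).base
        (closedPoint (X.residueField (V.ι.base ξ.1)))) = V.ι.base ξ.1 := by
      have := congrArg (fun q => q.base (closedPoint (X.residueField (V.ι.base ξ.1)))) hl₂
      exact this.trans (Scheme.fromSpecResidueField_apply (V.ι.base ξ.1) _)
    rw [h3] at h2
    exact h2.mem_closed hZ hzZ
  · rw [← hcl, ← hl₁]
    rfl

theorem universallyClosed_of_dvrExistenceEft {X Y S : Scheme.{u}} (f : X ⟶ Y) (g : Y ⟶ S)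
    [LocallyOfFiniteType f] [QuasiCompact f] [LocallyOfFiniteType g]
    (hS : ∀ U : S.Opens, IsAffineOpen U → CAlg.IsNagata ↑Γ(S, U))
    (H : DvrExistenceEft f g) : UniversallyClosed f := by
  refine universallyClosed_of_affineSpace f (fun n _ => ?_)
  haveI : LocallyOfFiniteType ((𝔸(ULift.{u} (Fin n); Y) ↘ Y) ≫ g) := inferInstance
  exact isClosedMap_of_dvrExistenceEft (pullback.snd f (𝔸(ULift.{u} (Fin n); Y) ↘ Y))
    ((𝔸(ULift.{u} (Fin n); Y) ↘ Y) ≫ g) hS
    (H.of_isPullback (IsPullback.of_hasPullback f (𝔸(ULift.{u} (Fin n); Y) ↘ Y)))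

/-- Uniqueness part of the valuative criterion tested on discrete valuation subrings of fields which
are essentially of finite type over the base `S`. -/
def DvrUniquenessEft {X Y S : Scheme.{u}} (f : X ⟶ Y) (g : Y ⟶ S) : Prop :=
  ∀ (L : Type u) [Field L] (A : ValuationSubring L), IsDiscreteValuationRing A →
    ∀ (l₁ l₂ : Spec (CommRingCat.of A) ⟶ X), l₁ ≫ f = l₂ ≫ f → IsEftOver g (l₁ ≫ f) →
      Spec.map (CommRingCat.ofHom A.subtype) ≫ l₁ = Spec.map (CommRingCat.ofHom A.subtype) ≫ l₂ →
      l₁ = l₂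

theorem mem_range_diagonal_of_dvrUniquenessEft {X Y S : Scheme.{u}} (f : X ⟶ Y) (g : Y ⟶ S)
    [LocallyOfFiniteType f] [LocallyOfFiniteType g]
    (hS : ∀ U : S.Opens, IsAffineOpen U → CAlg.IsNagata ↑Γ(S, U))
    (H : DvrUniquenessEft f g) (x : X) (w : ↥(pullback f f))
    (hw : (pullback.diagonal f).base x ⤳ w) :
    w ∈ Set.range (pullback.diagonal f).base := by
  by_cases hne : w = (pullback.diagonal f).base x
  · exact ⟨x, hne.symm⟩
  haveI : LocallyOfFiniteType (pullback.fst f f ≫ f ≫ g) := inferInstance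
  obtain ⟨A, y, hA, hcl, hcomp, U, φ, hφ, hφe⟩ :=
    exists_dvr_through_specialization_over (pullback.diagonal f) (pullback.fst f f ≫ f ≫ g) hS
      x w hw hne
  have h₁ : Spec.map (CommRingCat.ofHom A.subtype) ≫ y ≫ pullback.fst f f =
      X.fromSpecResidueField x := by
    rw [← Category.assoc, hcomp, Category.assoc, pullback.diagonal_fst, Category.comp_id]
  have h₂ : Spec.map (CommRingCat.ofHom A.subtype) ≫ y ≫ pullback.snd f f =
      X.fromSpecResidueField x := by
    rw [← Category.assoc, hcomp, Category.assoc, pullback.diagonal_snd, Category.comp_id]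
  have hf : (y ≫ pullback.fst f f) ≫ f = (y ≫ pullback.snd f f) ≫ f := by
    rw [Category.assoc, Category.assoc, pullback.condition]
  have heq := H _ A hA _ _ hf ⟨U, φ, by rw [hφ, Category.assoc, Category.assoc], hφe⟩
    (h₁.trans h₂.symm)
  have hy : y = (y ≫ pullback.fst f f) ≫ pullback.diagonal f := by
    apply pullback.hom_ext
    · rw [Category.assoc, pullback.diagonal_fst, Category.comp_id]
    · rw [Category.assoc, pullback.diagonal_snd, Category.comp_id, heq]
  refine ⟨(y ≫ pullback.fst f f).base (closedPoint A), ?_⟩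
  rw [← hcl]
  exact (congrArg (fun q => q.base (closedPoint A)) hy).symm

theorem isSeparated_of_dvrUniquenessEft {X Y S : Scheme.{u}} (f : X ⟶ Y) (g : Y ⟶ S)
    [LocallyOfFiniteType f] [LocallyOfFiniteType g]
    (hS : ∀ U : S.Opens, IsAffineOpen U → CAlg.IsNagata ↑Γ(S, U))
    (H : DvrUniquenessEft f g) : IsSeparated f := by
  haveI : IsLocallyNoetherian S := ⟨fun U => (hS U.1 U.2).1⟩
  haveI : IsLocallyNoetherian Y := LocallyOfFiniteType.isLocallyNoetherian g
  exact isSeparated_of_forall_generic f (fun η _ w hw =>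
    mem_range_diagonal_of_dvrUniquenessEft f g hS H η w hw)

end Groth.Agent.Lib.Helper37.DvrEftCrit
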