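import Mathlib
import Groth.Agent.Lib.Helper37.DvrEftCrit

/-!
# DVR valuative criteria reduce to discrete valuation rings essentially of finite type

Over a base with Nagata affine opens: the existence (resp. uniqueness) part of the valuative
criterion for discrete valuation rings holds for all squares as soon as it holds for those whose
ring is essentially of finite type over the base (`dvr_existence_iff_eft`,
`dvr_uniqueness_iff_eft`), in Mathlib's `ValuativeCommSq` language.
-/

set_option autoImplicit false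
set_option linter.style.haveILetI false
universe u
open CategoryTheory CategoryTheory.Limits AlgebraicGeometry IsLocalRing TopologicalSpace

namespace Groth.Agent.Lib.Helper37.DvrEftVal

open Groth.Agent.Lib.Helper50 Groth.Agent.Lib.Helper37.DvrEftSpec Groth.Agent.Lib.Helper37.DvrEftCrit

/-- Existence for `ValuativeCommSq`s over essentially-finite-type discrete valuation rings gives
`DvrExistenceEft`. -/
theorem dvrExistenceEft_of_valuativeCommSq {X Y S : Scheme.{u}} (f : X ⟶ Y) (g : Y ⟶ S)
    (H : ∀ sq : ValuativeCommSq f, IsDiscreteValuationRing sq.R →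
      (∃ (U : S.affineOpens) (φ : Γ(S, U.1) ⟶ CommRingCat.of sq.R),
        Spec.map φ ≫ U.2.fromSpec = sq.i₂ ≫ g ∧ φ.hom.EssFiniteType) →
      sq.commSq.HasLift) : DvrExistenceEft f g := by
  intro L _ A hA x y hxy heft
  let sq : ValuativeCommSq f :=
    { R := A
      K := L
      i₁ := x
      i₂ := y
      commSq := ⟨hxy⟩ }
  obtain ⟨⟨l, h1, h2⟩⟩ := H sq hA heft
  exact ⟨l, h2, h1⟩

/-- Uniqueness for `ValuativeCommSq`s over essentially-finite-type discrete valuation rings gives
`DvrUniquenessEft`. -/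
theorem dvrUniquenessEft_of_valuativeCommSq {X Y S : Scheme.{u}} (f : X ⟶ Y) (g : Y ⟶ S)
    (H : ∀ sq : ValuativeCommSq f, IsDiscreteValuationRing sq.R →
      (∃ (U : S.affineOpens) (φ : Γ(S, U.1) ⟶ CommRingCat.of sq.R),
        Spec.map φ ≫ U.2.fromSpec = sq.i₂ ≫ g ∧ φ.hom.EssFiniteType) →
      Subsingleton sq.commSq.LiftStruct) : DvrUniquenessEft f g := by
  intro L _ A hA l₁ l₂ hf heft hgen
  let sq : ValuativeCommSq f :=
    { R := A
      K := L
      i₁ := Spec.map (CommRingCat.ofHom A.subtype) ≫ l₁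
      i₂ := l₁ ≫ f
      commSq := ⟨by rw [Category.assoc]; rfl⟩ }
  have hU := H sq hA heft
  let s₁ : sq.commSq.LiftStruct := ⟨l₁, rfl, rfl⟩
  let s₂ : sq.commSq.LiftStruct := ⟨l₂, hgen.symm, hf.symm⟩
  exact congrArg CommSq.LiftStruct.l (hU.elim s₁ s₂)

theorem dvr_existence_iff_eft (S : Scheme.{u})
    (hS : ∀ U : S.Opens, IsAffineOpen U → CAlg.IsNagata ↑Γ(S, U))
    {X Y : Scheme.{u}} (f : X ⟶ Y) (g : Y ⟶ S)
    [QuasiCompact f] [LocallyOfFiniteType f] [LocallyOfFiniteType g] :
    (∀ sq : ValuativeCommSq f, IsDiscreteValuationRing sq.R → sq.commSq.HasLift) ↔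
    (∀ sq : ValuativeCommSq f, IsDiscreteValuationRing sq.R →
      (∃ (U : S.affineOpens) (φ : Γ(S, U.1) ⟶ CommRingCat.of sq.R),
        Spec.map φ ≫ U.2.fromSpec = sq.i₂ ≫ g ∧ φ.hom.EssFiniteType) →
      sq.commSq.HasLift) := by
  refine ⟨fun H sq hR _ => H sq hR, fun H sq _ => ?_⟩
  have huc : UniversallyClosed f :=
    universallyClosed_of_dvrExistenceEft f g hS (dvrExistenceEft_of_valuativeCommSq f g H)
  have h1 : (ValuativeCriterion.Existence ⊓ @QuasiCompact) f := by
    rw [← UniversallyClosed.eq_valuativeCriterion]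
    exact huc
  exact h1.1 sq

theorem dvr_uniqueness_iff_eft (S : Scheme.{u})
    (hS : ∀ U : S.Opens, IsAffineOpen U → CAlg.IsNagata ↑Γ(S, U))
    {X Y : Scheme.{u}} (f : X ⟶ Y) (g : Y ⟶ S)
    [LocallyOfFiniteType f] [LocallyOfFiniteType g] :
    (∀ sq : ValuativeCommSq f, IsDiscreteValuationRing sq.R → Subsingleton sq.commSq.LiftStruct) ↔
    (∀ sq : ValuativeCommSq f, IsDiscreteValuationRing sq.R →
      (∃ (U : S.affineOpens) (φ : Γ(S, U.1) ⟶ CommRingCat.of sq.R),
        Spec.map φ ≫ U.2.fromSpec = sq.i₂ ≫ g ∧ φ.hom.EssFiniteType) →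
      Subsingleton sq.commSq.LiftStruct) := by
  refine ⟨fun H sq hR _ => H sq hR, fun H sq _ => ?_⟩
  haveI : IsSeparated f :=
    isSeparated_of_dvrUniquenessEft f g hS (dvrUniquenessEft_of_valuativeCommSq f g H)
  exact IsSeparated.valuativeCriterion f sq

end Groth.Agent.Lib.Helper37.DvrEftVal
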