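import Mathlib
import Groth.Prelude.Def_AlgSt2
import Groth.Agent.Lib.Helper86.TwoYoneda
import Groth.Agent.Lib.Helper17.FibGrpd
import Groth.Agent.Lib.Helper17.FibEquiv

/-!
# Helper37.EdBridge — bridge from 2-fibre products to sections of the representing space

For a based functor `F : 𝒳 ⥤ᵇ 𝒴` of categories fibred in groupoids and `y₀` over `U`, if
`ofSp Fsp ≃ (Sch/U) ×_𝒴 𝒳`, then an object `x` of `𝒳` over `T` with `F x → y₀` over `g : T ⟶ U`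
gives a section `s ∈ Fsp(T)` such that whenever `s` is the restriction of `s₀ ∈ Fsp(T₀)` along
`c : T ⟶ T₀`, the object `x` descends along `c`.
-/

set_option autoImplicit false
set_option backward.isDefEq.respectTransparency false
set_option backward.isDefEq.respectTransparency.types false

universe u
open CategoryTheory AlgebraicGeometry Opposite FibCat

namespace Groth.Agent.Lib.Helper37.EdBridge

open Groth.Agent.Lib.Helper86.TwoYoneda Groth.Agent.Lib.Helper17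

variable {S : Scheme.{u}} {𝒳 𝒴 : AlgSt.Cat S}

/-- Bridge lemma. -/
theorem exists_section_of_fp [h𝒳 : FibCat.IsFibGrpd 𝒳.p] [h𝒴 : FibCat.IsFibGrpd 𝒴.p]
    [𝒴.p.IsFibered]
    (F : 𝒳 ⥤ᵇ 𝒴) {U : Over S} (y₀ : 𝒴.p.Fiber U)
    (Fsp : AlgSp.Sp S) (e : AlgSt.ofSp Fsp ⥤ᵇ FibCat.fp (pbB y₀) F) (he : FibCat.IsEquivOver e)
    {T : Over S} (g : T ⟶ U) (x : 𝒳.obj) (hx : 𝒳.p.obj x = T)
    (φ : F.obj x ⟶ y₀.1) (hφ : 𝒴.p.IsHomLift g φ) :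
    ∃ s : Fsp.obj.obj (op T),
      ∀ (T₀ : Over S) (s₀ : Fsp.obj.obj (op T₀)) (c : T ⟶ T₀), Fsp.obj.map c.op s₀ = s →
        ∃ (x₀ : 𝒳.obj) (χ : x ⟶ x₀), 𝒳.p.obj x₀ = T₀ ∧ 𝒳.p.IsHomLift c χ := by
  -- the object of the fibre product
  let a : Over U := Over.mk g
  have hpb : 𝒴.p.IsHomLift g (pbMap y₀ a) := (pbMap_sc y₀ a).toIsHomLift
  obtain ⟨θ, hθ1, hθ2, hθiso⟩ := FG.exists_factor h𝒴 g (pbMap y₀ a) hpb φ hφ
  let ι : (pbB y₀).obj a ≅ F.obj x := (asIso θ).symm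
  have hι : 𝒴.p.IsHomLift (𝟙 T) ι.hom := by
    change 𝒴.p.IsHomLift (𝟙 T) (inv θ)
    infer_instance
  let z : (FibCat.fp (pbB y₀) F).obj := ⟨{ fst := a, snd := x, iso := ι }, hι⟩
  have hz : (FibCat.fp (pbB y₀) F).p.obj z = T := rfl
  obtain ⟨G, ⟨e₁⟩, ⟨e₂⟩⟩ := he
  obtain ⟨w, hw⟩ : ∃ w : (AlgSt.ofSp Fsp).obj, w = G.obj z := ⟨_, rfl⟩
  have hwT : w.base = T := by
    rw [hw]
    exact (G.w_obj z).trans hz
  obtain ⟨T', s⟩ := w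
  change T' = T at hwT
  subst hwT
  refine ⟨s, ?_⟩
  intro T₀ s₀ c hc
  let w₀ : (AlgSt.ofSp Fsp).obj := ⟨T₀, s₀⟩
  let ψ : (⟨T', s⟩ : (AlgSt.ofSp Fsp).obj) ⟶ w₀ := ⟨c, hc⟩
  have hψ : (AlgSt.ofSp Fsp).p.IsHomLift c ψ := IsHomLift.map (Stk.EltObj.forget Fsp.obj) ψ
  -- the morphism in the fibre product
  have h1 : (FibCat.fp (pbB y₀) F).p.IsHomLift c (e.map ψ) :=
    BasedFunctor.preserves_isHomLift e c ψ
  have h2 : 𝒳.p.IsHomLift c ((FibCat.fpSnd (pbB y₀) F).map (e.map ψ)) :=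
    BasedFunctor.preserves_isHomLift (FibCat.fpSnd (pbB y₀) F) c (e.map ψ)
  -- the counit
  let ε : e.obj (G.obj z) ⟶ z := e₂.hom.toNatTrans.app z
  have hε : (FibCat.fp (pbB y₀) F).p.IsHomLift (𝟙 T') ε := BasedNatTrans.app_isHomLift e₂.hom z
  have hεiso : IsIso ε := counit_app_isIso e₂ z
  have hεinv : (FibCat.fp (pbB y₀) F).p.IsHomLift (𝟙 T') (inv ε) := inferInstance
  obtain ⟨ε', hε'⟩ : ∃ ε' : z ⟶ e.obj (⟨T', s⟩ : (AlgSt.ofSp Fsp).obj),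
      (FibCat.fp (pbB y₀) F).p.IsHomLift (𝟙 T') ε' := by
    rw [hw]
    exact ⟨inv ε, hεinv⟩
  have h3 : 𝒳.p.IsHomLift (𝟙 T') ((FibCat.fpSnd (pbB y₀) F).map ε') :=
    BasedFunctor.preserves_isHomLift (FibCat.fpSnd (pbB y₀) F) (𝟙 T') ε'
  let χ : x ⟶ (FibCat.fpSnd (pbB y₀) F).obj (e.obj w₀) :=
    (FibCat.fpSnd (pbB y₀) F).map ε' ≫ (FibCat.fpSnd (pbB y₀) F).map (e.map ψ)
  have hχ : 𝒳.p.IsHomLift (𝟙 T' ≫ c) χ := inferInstance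
  rw [Category.id_comp] at hχ
  exact ⟨_, χ, IsHomLift.codomain_eq 𝒳.p c χ, hχ⟩

end Groth.Agent.Lib.Helper37.EdBridge
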