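import Mathlib
import Groth.Agent.Lib.Helper73.DimFormula.EquidimAt

/-!
# Helper37.EdTrdeg — transcendence degree bounds from fibre dimension

Scheme-level lemmas: `resTrdeg` of `Spec` of a field extension is the transcendence degree, it is
bounded by the local fibre dimension for morphisms locally of finite type, and the resulting bound
`trdeg_k κ ≤ trdeg_k K + d` for a field point `Spec κ → Spec K` factoring a residue field point of
a scheme `X → Spec K` of fibre dimension `≤ d`.
-/

set_option autoImplicit false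
set_option backward.isDefEq.respectTransparency false
set_option backward.isDefEq.respectTransparency.types false

universe u
open CategoryTheory AlgebraicGeometry Opposite

namespace Groth.Agent.Lib.Helper37.EdTrdeg

open Groth.Agent.Lib.Helper73

/-- residue field of a point of `Spec` of a field -/
theorem trdeg_residueField_field (k K : Type u) [Field k] [Field K] [Algebra k K]
    (p : Spec (CommRingCat.of K)) :
    Algebra.trdeg k p.asIdeal.ResidueField = Algebra.trdeg k K := by
  have hp : p.asIdeal = ⊥ := Ideal.eq_bot_of_prime p.asIdeal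
  have hmax : p.asIdeal.IsMaximal := by rw [hp]; exact Ideal.bot_isMaximal
  have hsurj : Function.Surjective (algebraMap K p.asIdeal.ResidueField) :=
    Ideal.algebraMap_residueField_surjective p.asIdeal
  have hinj : Function.Injective (algebraMap K p.asIdeal.ResidueField) :=
    (algebraMap K p.asIdeal.ResidueField).injective
  let e : K ≃ₐ[k] p.asIdeal.ResidueField :=
    AlgEquiv.ofBijective (IsScalarTower.toAlgHom k K p.asIdeal.ResidueField) ⟨hinj, hsurj⟩
  exact e.trdeg_eq.symm

theorem resTrdeg_specMap_field (k K : Type u) [Field k] [Field K] [Algebra k K]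
    (p : Spec (CommRingCat.of K)) :
    resTrdeg (Spec.map (CommRingCat.ofHom (algebraMap k K))) p = Algebra.trdeg k K := by
  rw [resTrdeg_eq_trdeg_resMapOf, trdeg_residueField_Spec,
    trdeg_residueField_field]

theorem resTrdeg_field_of_preimage (k κ : Type u) [Field k] [Field κ]
    (α : Spec (CommRingCat.of κ) ⟶ Spec (CommRingCat.of k)) (p : Spec (CommRingCat.of κ)) :
    resTrdeg α p = @Algebra.trdeg k κ _ _ (Spec.preimage α).hom.toAlgebra := by
  letI : Algebra k κ := (Spec.preimage α).hom.toAlgebra
  have h : α = Spec.map (CommRingCat.ofHom (algebraMap k κ)) := (Spec.map_preimage α).symm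
  rw [← resTrdeg_specMap_field k κ p]
  exact resTrdeg_congr h p

theorem resTrdeg_le_of_fibreDimAt_le {X Y : Scheme.{u}} (g : X ⟶ Y) [LocallyOfFiniteType g]
    (u : X) (d : ℕ) (h : FlatMor.fibreDimAt g u ≤ (d : WithBot ℕ∞)) :
    resTrdeg g u ≤ (d : Cardinal.{u}) := by
  have h1 := resTrdegNat_le_fibreDimAt_of_specializes g u u specializes_rfl rfl
  have h2 : ((resTrdegNat g u : ℕ) : WithBot ℕ∞) ≤ (d : WithBot ℕ∞) := h1.trans h
  have h3 : resTrdegNat g u ≤ d := by exact_mod_cast h2
  rw [resTrdeg_eq_resTrdegNat]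
  exact_mod_cast h3

theorem resTrdeg_fromSpecResidueField {X : Scheme.{u}} (u : X)
    (p : Spec (X.residueField u)) :
    resTrdeg (X.fromSpecResidueField u) p = 0 := by
  have hb := residueFieldMap_bijective_of_isPreimmersion (X.fromSpecResidueField u) p
  unfold Groth.Agent.Lib.Helper73.resTrdeg
  letI := ((X.fromSpecResidueField u).residueFieldMap p).hom.toAlgebra
  have : Algebra.IsAlgebraic (X.residueField ((X.fromSpecResidueField u) p))
      ((Spec (X.residueField u)).residueField p) := by
    refine ⟨fun x => ?_⟩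
    obtain ⟨y, rfl⟩ := hb.2 x
    exact isAlgebraic_algebraMap y
  exact _root_.trdeg_eq_zero

/-- The scheme-level transcendence degree bound. -/
theorem trdeg_le_add_of_fibreDimAt_le (k K κ : Type u) [Field k] [Field K] [Field κ] [Algebra k K]
    (α : Spec (CommRingCat.of κ) ⟶ Spec (CommRingCat.of k))
    (ρ : Spec (CommRingCat.of κ) ⟶ Spec (CommRingCat.of K))
    (hρ : ρ ≫ Spec.map (CommRingCat.ofHom (algebraMap k K)) = α)
    {X : Scheme.{u}} (g : X ⟶ Spec (CommRingCat.of K)) [LocallyOfFiniteType g] (u : X) (d : ℕ)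
    (hd : FlatMor.fibreDimAt g u ≤ (d : WithBot ℕ∞))
    (c : Spec (X.residueField u) ⟶ Spec (CommRingCat.of κ))
    (hc : c ≫ ρ = X.fromSpecResidueField u ≫ g) :
    @Algebra.trdeg k κ _ _ (Spec.preimage α).hom.toAlgebra ≤ Algebra.trdeg k K + (d : Cardinal.{u}) := by
  let p : Spec (X.residueField u) := IsLocalRing.closedPoint _
  have h1 : resTrdeg α (c p) = Algebra.trdeg k K + resTrdeg ρ (c p) := by
    rw [resTrdeg_congr hρ.symm (c p), resTrdeg_comp, resTrdeg_specMap_field]
  have h2 : resTrdeg (c ≫ ρ) p = resTrdeg ρ (c p) + resTrdeg c p :=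
    resTrdeg_comp c ρ p
  have h3 : resTrdeg (X.fromSpecResidueField u ≫ g) p =
      resTrdeg g (X.fromSpecResidueField u p) := by
    rw [resTrdeg_comp, resTrdeg_fromSpecResidueField, add_zero]
  have h4 : X.fromSpecResidueField u p = u := Scheme.fromSpecResidueField_apply _ _
  have h5 : resTrdeg g (X.fromSpecResidueField u p) ≤ (d : Cardinal.{u}) := by
    rw [h4]
    exact resTrdeg_le_of_fibreDimAt_le g u d hd
  have h6 : resTrdeg ρ (c p) ≤ (d : Cardinal.{u}) := by
    calc resTrdeg ρ (c p) ≤ resTrdeg ρ (c p) + resTrdeg c p := le_self_add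
      _ = resTrdeg (c ≫ ρ) p := h2.symm
      _ = resTrdeg (X.fromSpecResidueField u ≫ g) p := resTrdeg_congr hc p
      _ = _ := h3
      _ ≤ _ := h5
  rw [← resTrdeg_field_of_preimage k κ α (c p), h1]
  exact add_le_add_right h6 _

end Groth.Agent.Lib.Helper37.EdTrdeg
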