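import Mathlib
import Groth.Prelude.Def_StCurv2
import Groth.Prelude.Def_SGA7a
import Groth.Agent.Lib.Helper37.DecentMor2
import Groth.Agent.Lib.Helper37.AlgSpDecent
import Groth.Agent.Lib.Helper36.AlgSpHasAtMor
import Groth.Agent.Lib.Helper37.EdTrdeg

/-!
# Helper37.EdSpace — field points of a quasi-separated algebraic space of bounded fibre dimension

A section over a field `L` of an algebraic space `F` over `Spec K` (over a base field `k`), with
`F → Spec K` quasi-separated, locally of finite type and of relative dimension `≤ d`, is the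
restriction of a section over a field `κ` with `trdeg_k κ ≤ trdeg_k K + d` (the residue field of
the point of `F` it defines, available because `F` is decent).
-/

set_option autoImplicit false
set_option backward.isDefEq.respectTransparency false
set_option backward.isDefEq.respectTransparency.types false

universe u
open CategoryTheory CategoryTheory.Limits AlgebraicGeometry Opposite

namespace Groth.Agent.Lib.Helper37.EdSpace

open AlgSp Groth.Agent.Lib.Helper37.AlgSpPoints Groth.Agent.Lib.Helper37.AlgSpDecent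
open Groth.Agent.Lib.Helper37.DecentPoint Groth.Agent.Lib.Helper37.DecentMor2
open Groth.Agent.Lib.Helper36.AlgSpHasAtMor Groth.Agent.Lib.Helper37.EdTrdeg

variable {k : Type u} [Field k]

/-- A section of a quasi-separated algebraic space over `Spec K` over a field `L` comes from a
section over a field of transcendence degree at most `trdeg_k K + d`. -/
theorem exists_fieldPt_factor {K L : Type u} [Field K] [Field L] [Algebra k K] [Algebra k L]
    (Fsp : AlgSp.Space (Spec (CommRingCat.of k)))
    (π : Fsp.obj ⟶ (yon (Spec (CommRingCat.of k))).obj (SGA7.pt (K := k) K)) (d : ℕ)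
    (h1 : AlgSp.LocP @LocallyOfFiniteType π) (h2 : AlgSp.IsQuasiSeparatedMor π)
    (h3 : CurvSt.RelDimLE d π)
    (s : Fsp.obj.obj.obj (op (SGA7.pt (K := k) L))) :
    ∃ (κ : Type u) (_ : Field κ) (str : Spec (CommRingCat.of κ) ⟶ Spec (CommRingCat.of k))
      (s₀ : Fsp.obj.obj.obj (op (Over.mk str))) (c : SGA7.pt (K := k) L ⟶ Over.mk str),
      Fsp.obj.obj.map c.op s₀ = s ∧
        @Algebra.trdeg k κ _ _ (Spec.preimage str).hom.toAlgebra ≤
          Algebra.trdeg k K + (d : Cardinal.{u}) := by
  let S := Spec (CommRingCat.of k)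
  let ℓ : FieldPt Fsp.obj := ⟨L, (SGA7.pt (K := k) L).hom, s⟩
  have haff : IsAffine (SGA7.pt (K := k) K).left := by
    change IsAffine (Spec (CommRingCat.of K))
    infer_instance
  have hqs : IsQuasiSeparatedSp Fsp.obj :=
    isQuasiSeparatedSp_of_isQuasiSeparatedMor_affine π h2
  have hdec := isDecent_of_isQuasiSeparatedSp Fsp hqs
  obtain ⟨m, hm1, hm2, hm3⟩ := hdec (Points.mk ℓ)
  obtain ⟨c, hc⟩ := exists_factor_of_mono_fieldPt m ℓ hm1 hm2 hm3.rep
  have hconv : Fsp.obj.obj.map c.op m.val = s := by
    have h := (J S).uliftYonedaEquiv_naturality m.toHom c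
    rw [hc, FieldPt.uliftYonedaEquiv_toHom, FieldPt.uliftYonedaEquiv_toHom] at h
    exact h
  refine ⟨m.K, m.field, m.str, m.val, c, hconv, ?_⟩
  -- the chart
  obtain ⟨U', a, hae, has⟩ := Fsp.property.atlas
  obtain ⟨u, hu⟩ := ofPt_surjective a has (Points.mk m)
  obtain ⟨h, hh⟩ := (yon S).map_surjective (a ≫ π)
  have hid : RepWith @Etale (𝟙 ((yon S).obj (SGA7.pt (K := k) K))) := repWith_id _ _
  have hw : a ≫ π = (yon S).map h ≫ 𝟙 _ := by rw [Category.comp_id, hh]
  have hlft : LocallyOfFiniteType h.left := h1 a (𝟙 _) h hae hid hw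
  let Y : AlgSp.Space S := ⟨(yon S).obj (SGA7.pt (K := k) K), IsAlgSpace.yon_obj _⟩
  let f : Fsp ⟶ Y := ObjectProperty.homMk π
  have hdim : FlatMor.fibreDimAt h.left u ≤ (d : WithBot ℕ∞) :=
    (hasAtMor_iff_forall_chart (isEtaleLocalGermMor_fibreDimAt (fun t => t ≤ (d : WithBot ℕ∞)))
      f (Points.mk m)).1 (h3 (Points.mk m)) U' (SGA7.pt (K := k) K) a (𝟙 _) h u hae hid hw hu
  -- the residue field point factors through `m`
  obtain ⟨c', hc'⟩ := exists_factor_of_mono_fieldPt m (FieldPt.ofPt a u) hu.symm hm2 hm3.rep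
  obtain ⟨ρ, hρ⟩ := (yon S).map_surjective (m.toHom ≫ π)
  have hcomm : c' ≫ ρ = Over.homMk (U'.left.fromSpecResidueField u) rfl ≫ h := by
    apply (yon S).map_injective
    rw [Functor.map_comp, Functor.map_comp, hρ, hh, ← Category.assoc, hc', FieldPt.toHom_ofPt,
      Category.assoc]
  have hcomm' : c'.left ≫ ρ.left = U'.left.fromSpecResidueField u ≫ h.left :=
    congrArg CommaMorphism.left hcomm
  exact trdeg_le_add_of_fibreDimAt_le k K m.K m.str ρ.left (Over.w ρ) h.left u d hdim c'.left hcomm'

end Groth.Agent.Lib.Helper37.EdSpace
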