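import Mathlib
import Groth.Prelude.Def_EssDim
import Groth.Agent.Lib.Helper17.FibGrpd

/-!
# Helper37.EdTransport — descent of classes along field points

If an object `x` of a category fibred in groupoids over `Spec L` admits a morphism to an object
over `Spec κ` lying over `Spec L ⟶ Spec κ`, then its class descends to the image of `κ` in `L`,
an intermediate field of the same transcendence degree.
-/

set_option autoImplicit false
set_option backward.isDefEq.respectTransparency false
set_option backward.isDefEq.respectTransparency.types false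

universe w v u
open CategoryTheory AlgebraicGeometry Opposite

namespace Groth.Agent.Lib.Helper37.EdTransport

open EssDim Groth.Agent.Lib.Helper17

variable {k : Type u} [Field k]
  (𝒳 : BasedCategory.{v, w} (Over (Spec (CommRingCat.of k)))) [h𝒳 : FibCat.IsFibGrpd 𝒳.p]
  {L : Type u} [Field L] [Algebra k L]

/-- If `x` over `Spec L` maps to an object over `Spec κ` along `Spec γ`, then the class of `x`
descends to the image of `γ`. -/
theorem descends_fieldRange (x : StkCnt.pts 𝒳 L) {κ : Type u} [Field κ] [Algebra k κ]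
    (γ : κ →ₐ[k] L) (x₀ : 𝒳.obj) (hx₀ : 𝒳.p.obj x₀ = SGA7.pt (K := k) κ) (χ : x.1 ⟶ x₀)
    (hχ : 𝒳.p.IsHomLift (resPt γ) χ) :
    Descends (Gerb.isoClPsh 𝒳) (Quot.mk (Gerb.IsoRel 𝒳 (SGA7.pt (K := k) L)) x) γ.fieldRange := by
  let e : κ ≃ₐ[k] γ.fieldRange := AlgEquiv.ofInjectiveField γ
  obtain ⟨y, ψ, hψ⟩ := FG.exists_lift_of_eq h𝒳 hx₀ (resPt e.toAlgHom)
  have hcomp : resPt γ = resPt γ.fieldRange.val ≫ resPt e.toAlgHom := by
    rw [← resPt_comp]
    rfl
  obtain ⟨θ, ⟨hθ1, hθ2⟩, -⟩ :=
    Functor.IsStronglyCartesian.universal_property 𝒳.p (resPt e.toAlgHom) ψ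
      (resPt γ.fieldRange.val) (resPt γ) hcomp χ
  rw [descends_isoCl_iff]
  exact ⟨⟨y, IsHomLift.codomain_eq 𝒳.p (resPt γ.fieldRange.val) θ⟩, θ, hθ1⟩

/-- If `x` over `Spec L` maps to an object over some `Spec κ → Spec k` along a morphism
`Spec L ⟶ Spec κ` over `Spec k`, then the class of `x` descends to an intermediate field
isomorphic to `κ` over `k`. -/
theorem exists_descends_of_factor (x : StkCnt.pts 𝒳 L) (κ : Type u) [Field κ]
    (str : Spec (CommRingCat.of κ) ⟶ Spec (CommRingCat.of k))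
    (c : SGA7.pt (K := k) L ⟶ Over.mk str) (x₀ : 𝒳.obj) (χ : x.1 ⟶ x₀)
    (hχ : 𝒳.p.IsHomLift c χ) :
    ∃ K' : IntermediateField k L,
      Descends (Gerb.isoClPsh 𝒳) (Quot.mk (Gerb.IsoRel 𝒳 (SGA7.pt (K := k) L)) x) K' ∧
      Algebra.trdeg k K' = @Algebra.trdeg k κ _ _ (Spec.preimage str).hom.toAlgebra := by
  letI : Algebra k κ := (Spec.preimage str).hom.toAlgebra
  have hstr : str = Spec.map (CommRingCat.ofHom (algebraMap k κ)) := (Spec.map_preimage str).symm
  have hT : Over.mk str = SGA7.pt (K := k) κ := congrArg Over.mk hstr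
  let c' : SGA7.pt (K := k) L ⟶ SGA7.pt (K := k) κ := c ≫ eqToHom hT
  have hχ' : 𝒳.p.IsHomLift c' χ := (IsHomLift.lift_comp_eqToHom_iff 𝒳.p c χ hT).mpr hχ
  let γr : κ →+* L := (Spec.preimage c'.left).hom
  have hw : c'.left ≫ Spec.map (CommRingCat.ofHom (algebraMap k κ)) =
      Spec.map (CommRingCat.ofHom (algebraMap k L)) := Over.w c'
  have hγ' : CommRingCat.ofHom (algebraMap k κ) ≫ Spec.preimage c'.left =
      CommRingCat.ofHom (algebraMap k L) := by
    apply Spec.map_injective
    rw [Spec.map_comp, Spec.map_preimage]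
    exact hw
  have hγ : ∀ r : k, γr (algebraMap k κ r) = algebraMap k L r := fun r =>
    congrArg (fun φ => φ.hom r) hγ'
  let γ : κ →ₐ[k] L := { γr with commutes' := hγ }
  have hc' : c' = resPt γ := by
    ext : 1
    rw [resPt_left]
    exact (Spec.map_preimage c'.left).symm
  rw [hc'] at hχ'
  exact ⟨γ.fieldRange, descends_fieldRange 𝒳 x γ x₀ (IsHomLift.codomain_eq 𝒳.p (resPt γ) χ) χ hχ',
    (AlgEquiv.ofInjectiveField γ).trdeg_eq.symm⟩

end Groth.Agent.Lib.Helper37.EdTransport
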