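import Mathlib
import Groth.Prelude.Def_EssDim
import Groth.Prelude.Def_AlgSt3
import Groth.Prelude.Def_StCurv2
import Groth.Agent.Lib.Helper37.EdBridge
import Groth.Agent.Lib.Helper37.EdSpace
import Groth.Agent.Lib.Helper37.EdTransport

/-!
# Helper37.EdRel — essential dimension and morphisms of bounded fibre dimension (S19742, S19743)

For `F : 𝒳 ⟶ 𝒴` representable by algebraic spaces, quasi-separated, locally of finite type and of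
fibre dimension `≤ d` over a field `k`: `ed(x) ≤ ed(F x) + d` and `ed 𝒳 ≤ ed 𝒴 + d`.
-/

set_option autoImplicit false
set_option backward.isDefEq.respectTransparency false
set_option backward.isDefEq.respectTransparency.types false

universe u
open CategoryTheory AlgebraicGeometry Opposite

namespace Groth.Agent.Lib.Helper37.EdRel

open EssDim Groth.Agent.Lib.Helper86.TwoYoneda

/-- S19742. -/
theorem edStAt_le_edStAt_image_add (k : Type u) [Field k]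
    (𝒳 𝒴 : AlgSt.Cat (Spec (CommRingCat.of k)))
    [h𝒳 : FibCat.IsFibGrpd 𝒳.p] [h𝒴 : FibCat.IsFibGrpd 𝒴.p]
    (F : 𝒳 ⥤ᵇ 𝒴) (d : ℕ)
    (hF : AlgSt.RepByAlgSpWith
      (AlgSp.LocP @LocallyOfFiniteType ⊓ AlgSp.IsQuasiSeparatedMor ⊓ fun _ _ g => CurvSt.RelDimLE d g) F)
    (L : Type u) [Field L] [Algebra k L] (x : StkCnt.pts 𝒳 L) :
    EssDim.edStAt 𝒳 x ≤ EssDim.edStAt 𝒴 ⟨F.obj x.1, (F.w_obj x.1).trans x.2⟩ + d := by
  haveI : 𝒴.p.IsFibered := isFibered_of_isFibGrpd h𝒴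
  let ξ' : FPt (Gerb.isoClPsh 𝒴) L := Quot.mk (Gerb.IsoRel 𝒴 (SGA7.pt (K := k) L))
    (⟨F.obj x.1, (F.w_obj x.1).trans x.2⟩ : StkCnt.pts 𝒴 L)
  haveI : Nonempty {K : IntermediateField k L // Descends (Gerb.isoClPsh 𝒴) ξ' K} :=
    ⟨⟨⊤, descends_top (P := Gerb.isoClPsh 𝒴) ξ'⟩⟩
  obtain ⟨⟨K, hK⟩, hKeq⟩ := ENat.exists_eq_iInf
    (fun K : {K : IntermediateField k L // Descends (Gerb.isoClPsh 𝒴) ξ' K} =>
      Cardinal.toENat (Algebra.trdeg k K.1))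
  have hR : EssDim.edStAt 𝒴 ⟨F.obj x.1, (F.w_obj x.1).trans x.2⟩ =
      Cardinal.toENat (Algebra.trdeg k K) := hKeq.symm
  rw [hR]
  obtain ⟨y₀, φ, hφ⟩ := (descends_isoCl_iff 𝒴 ⟨F.obj x.1, (F.w_obj x.1).trans x.2⟩ K).mp hK
  obtain ⟨Fsp, e, he, hP⟩ := hF (SGA7.pt (K := k) ↥K) (pbB y₀)
  obtain ⟨⟨hlft, hqs⟩, hdim⟩ := hP
  obtain ⟨s, hs⟩ := Groth.Agent.Lib.Helper37.EdBridge.exists_section_of_fp F y₀ Fsp.obj e he
    (resPt K.val) x.1 x.2 φ hφ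
  obtain ⟨κ, _, str, s₀, c, hc, hbound⟩ :=
    Groth.Agent.Lib.Helper37.EdSpace.exists_fieldPt_factor Fsp _ d hlft hqs hdim s
  obtain ⟨x₀, χ, hx₀, hχ⟩ := hs (Over.mk str) s₀ c hc
  obtain ⟨K', hK', htr⟩ :=
    Groth.Agent.Lib.Helper37.EdTransport.exists_descends_of_factor 𝒳 x κ str c x₀ χ hχ
  refine (edAt_le_of_descends hK').trans ?_
  rw [htr]
  calc Cardinal.toENat (@Algebra.trdeg k κ _ _ (Spec.preimage str).hom.toAlgebra)
      ≤ Cardinal.toENat (Algebra.trdeg k K + (d : Cardinal.{u})) :=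
        Cardinal.toENat.monotone' hbound
    _ = Cardinal.toENat (Algebra.trdeg k K) + d := by
        rw [map_add, map_natCast]

/-- S19743. -/
theorem edSt_le_edSt_add_of_relDimLE (k : Type u) [Field k]
    (𝒳 𝒴 : AlgSt.Cat (Spec (CommRingCat.of k)))
    [h𝒳 : FibCat.IsFibGrpd 𝒳.p] [h𝒴 : FibCat.IsFibGrpd 𝒴.p]
    (F : 𝒳 ⥤ᵇ 𝒴) (d : ℕ)
    (hF : AlgSt.RepByAlgSpWith
      (AlgSp.LocP @LocallyOfFiniteType ⊓ AlgSp.IsQuasiSeparatedMor ⊓ fun _ _ g => CurvSt.RelDimLE d g) F) :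
    EssDim.edSt 𝒳 ≤ EssDim.edSt 𝒴 + ((d : ℕ) : WithBot ℕ∞) := by
  unfold EssDim.edSt EssDim.ed
  refine iSup_le fun L => iSup_le fun _ => iSup_le fun _ => iSup_le fun ξ => ?_
  induction ξ using Quot.ind with
  | mk x =>
    have h1 := edStAt_le_edStAt_image_add k 𝒳 𝒴 F d hF L x
    have h2 : (EssDim.edStAt 𝒴 ⟨F.obj x.1, (F.w_obj x.1).trans x.2⟩ : WithBot ℕ∞) ≤
        EssDim.ed (Gerb.isoClPsh 𝒴) := edAt_le_ed _
    have h3 : ((EssDim.edStAt 𝒳 x : ℕ∞) : WithBot ℕ∞) ≤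
        ((EssDim.edStAt 𝒴 ⟨F.obj x.1, (F.w_obj x.1).trans x.2⟩ + (d : ℕ∞) : ℕ∞) : WithBot ℕ∞) :=
      WithBot.coe_le_coe.mpr h1
    refine h3.trans ?_
    rw [WithBot.coe_add]
    exact add_le_add h2 (le_of_eq rfl)

end Groth.Agent.Lib.Helper37.EdRel
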