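import Mathlib
import Groth.Agent.Lib.Helper5.LocalRep
import Groth.Agent.Lib.Helper5.YonCoprod
import Groth.Agent.Lib.Helper5.LargestOpenSp
import Groth.Agent.Lib.Helper36.OpenSubspace
import Groth.Agent.Lib.Helper37.QuotFieldSp
import Groth.Agent.Lib.Helper37.DecentField
import Groth.Agent.Lib.Helper37.DisjCover

/-!
# Algebraic spaces étale over a field are schemes (helper37, S10206)

Every point of such a space is open, the one-point open subspaces are spectra of fields (Theorem Q,
`QuotField.iso_field_of_etale_surjective_of_compact`) and the space is their disjoint union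
(`DisjCover.isRepresentable_of_disjoint_cover`).
-/

set_option autoImplicit false
universe u
open CategoryTheory CategoryTheory.Limits AlgebraicGeometry Opposite

namespace Groth.Agent.Lib.Helper37.EtaleOverField

open AlgSp Groth.Agent.Lib.Helper36.AlgSpCharts Groth.Agent.Lib.Helper23.AlgSpMor
  Groth.Agent.Lib.Helper5.LocalRep Groth.Agent.Lib.Helper5
  Groth.Agent.Lib.Helper36.OpenSubspace
open Groth.Agent.Lib.Helper37.AlgSpPoints Groth.Agent.Lib.Helper37.AlgSpFibres
open Groth.Agent.Lib.Helper37.ClosedPoint Groth.Agent.Lib.Helper37.OnePoint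
open Groth.Agent.Lib.Helper37.Residual Groth.Agent.Lib.Helper37.QuotField

variable {S : Scheme.{u}}

/-- The pair of projections of a fibre product over a sheaf is jointly monic, so the induced map to a
scheme-theoretic fibre product is a monomorphism. -/
theorem mono_lift_of_isPullback {X : Sp S} {K L R : Over S} (p : (yon S).obj K ⟶ X)
    (q : (yon S).obj L ⟶ X) (a : R ⟶ K) (b : R ⟶ L)
    (sq : IsPullback ((yon S).map a) ((yon S).map b) p q)
    {B : Scheme.{u}} (gK : K.left ⟶ B) (gL : L.left ⟶ B) (h : a.left ≫ gK = b.left ≫ gL) :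
    Mono (pullback.lift a.left b.left h) := by
  constructor
  intro T r₁ r₂ hr
  have h1 : r₁ ≫ a.left = r₂ ≫ a.left := by
    have := congrArg (· ≫ pullback.fst gK gL) hr
    simpa only [Category.assoc, pullback.lift_fst] using this
  have h2 : r₁ ≫ b.left = r₂ ≫ b.left := by
    have := congrArg (· ≫ pullback.snd gK gL) hr
    simpa only [Category.assoc, pullback.lift_snd] using this
  let T' : Over S := Over.mk (r₁ ≫ R.hom)
  let r₁' : T' ⟶ R := Over.homMk r₁ rfl
  have hw : r₂ ≫ R.hom = r₁ ≫ R.hom := by
    rw [← Over.w a, ← Category.assoc, ← h1, Category.assoc]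
  let r₂' : T' ⟶ R := Over.homMk r₂ hw
  have : r₁' = r₂' := by
    apply (yon S).map_injective
    apply sq.hom_ext
    · rw [← Functor.map_comp, ← Functor.map_comp]
      congr 1
      ext1
      exact h1
    · rw [← Functor.map_comp, ← Functor.map_comp]
      congr 1
      ext1
      exact h2
  exact congrArg CommaMorphism.left this

/-- An open point of a reduced scheme is the image of an open immersion from the spectrum of a field. -/
theorem exists_field_openImmersion_range {U : Scheme.{u}} [IsReduced U] (u : U)
    (h : IsOpen ({u} : Set U)) :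
    ∃ (K : Type u) (_ : Field K) (j : Spec (CommRingCat.of K) ⟶ U), IsOpenImmersion j ∧
      ∀ t, j t = u := by
  let V : U.Opens := ⟨{u}, h⟩
  have hsub : Subsingleton ↥V := (Set.subsingleton_singleton (a := u)).coe_sort
  have hne : Nonempty ↥V := ⟨⟨u, rfl⟩⟩
  have : IrreducibleSpace ↥(V : Scheme.{u}) := by
    have : Subsingleton ↥(V : Scheme.{u}) := hsub
    have : Nonempty ↥(V : Scheme.{u}) := hne
    exact { toPreirreducibleSpace := inferInstance, toNonempty := hne }
  have hint : IsIntegral (V : Scheme.{u}) := isIntegral_of_irreducibleSpace_of_isReduced _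
  have : Subsingleton ↥(V : Scheme.{u}) := hsub
  have hF : IsField Γ((V : Scheme.{u}), ⊤) := isField_of_isIntegral_of_subsingleton _
  let _ : Field Γ((V : Scheme.{u}), ⊤) := hF.toField
  refine ⟨Γ((V : Scheme.{u}), ⊤), inferInstance, (V : Scheme.{u}).isoSpec.inv ≫ V.ι,
    inferInstance, fun t => ?_⟩
  have h1 : (V.ι ((V : Scheme.{u}).isoSpec.inv t)) ∈ (V : Set U) :=
    ((V : Scheme.{u}).isoSpec.inv t).2
  exact h1

/-- A scheme étale over a field is reduced. -/
theorem isReduced_of_etale_field {k : Type u} [Field k] {U : Scheme.{u}}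
    (g : U ⟶ Spec (CommRingCat.of k)) [Etale g] : IsReduced U :=
  isReduced_of_isField_stalk fun v => isField_stalk_of_formallyUnramified_over_field g v

/-- For an algebraic space étale over a field, every point is open and the corresponding open
subspace is the spectrum of a field. -/
theorem exists_iso_field_openSub (X : Space S) (k : Type u) [Field k]
    (str : Spec (CommRingCat.of k) ⟶ S) (f : X.obj ⟶ (yon S).obj (Over.mk str))
    (hf : IsEtaleMor f) (x : Points X.obj) :
    IsOpen ({x} : Set (Points X.obj)) ∧
      ∃ (k' : Type u) (_ : Field k') (str' : Spec (CommRingCat.of k') ⟶ S),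
        Nonempty ((yon S).obj (Over.mk str') ≅ openSub X.obj {x}) := by
  obtain ⟨U, a, hae, has⟩ := X.property.atlas
  have hg' : RepWith @Etale (a ≫ f) := hf a hae
  obtain ⟨g, hg⟩ := (yon S).map_surjective (a ≫ f)
  have hge : Etale g.left := (repWith_yon_map_iff @Etale g).1 (hg ▸ hg')
  have hdisc : DiscreteTopology ↥U.left := discreteTopology_of_etale_field (k := k) g.left
  have hred : IsReduced U.left := isReduced_of_etale_field (k := k) g.left
  obtain ⟨u, hu⟩ := ofPt_surjective a has x
  have hopen : IsOpen ({u} : Set ↥U.left) := isOpen_discrete _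
  have hxopen : IsOpen ({x} : Set (Points X.obj)) := by
    have := isOpenMap_ofPt a hae _ hopen
    rwa [Set.image_singleton, hu] at this
  refine ⟨hxopen, ?_⟩
  obtain ⟨K, _, j, hj, hju⟩ := exists_field_openImmersion_range u hopen
  let jO : Over.mk (j ≫ U.hom) ⟶ U := Over.homMk j rfl
  have hje : Etale jO.left := by
    change Etale j
    infer_instance
  set p := (yon S).map jO ≫ a with hp
  have hpe : RepWith @Etale p :=
    (RepWith @Etale).comp_mem _ _ ((repWith_yon_map_iff @Etale _).2 hje) hae
  have hpx : ∀ t, Points.ofPt p t ∈ ({x} : Set (Points X.obj)) := by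
    intro t
    rw [hp, ofPt_map_comp]
    change Points.ofPt a (j t) = x
    rw [hju t, hu]
  obtain ⟨p', hp'⟩ := exists_lift_openSub X.obj {x} p hpx
  have hXx : IsAlgSpace (openSub X.obj {x}) := isAlgSpace_openSub X.obj X.property {x} hxopen
  have hp'e : RepWith @Etale p' :=
    repWith_of_comp_mono @Etale p' (openSubι X.obj {x}) (hp' ▸ hpe)
  have hp's : RepWith @Surjective p' := by
    refine repWith_surjective_of_ofPt_surjective p' hp'e.rep fun y => ?_
    refine ⟨IsLocalRing.closedPoint K, ?_⟩
    apply Groth.Agent.Lib.Helper5.LargestOpenSp.injective_map_of_mono (openSubι X.obj {x})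
    rw [Points.map_ofPt, hp']
    have h1 := range_map_openSubι X.obj {x}
    have hy : Points.map (openSubι X.obj {x}) y ∈ ({x} : Set _) := h1.subset ⟨y, rfl⟩
    exact (hpx _).trans hy.symm
  -- the self product
  have sq := hp'e.rep.isPullback' p'
  set R := hp'e.rep.pullback p' with hR
  set a' := hp'e.rep.fst' p' with ha'
  set b' := hp'e.rep.snd p' with hb'
  let gK : Over.mk (j ≫ U.hom) ⟶ Over.mk str := jO ≫ g
  have hgK : (yon S).map gK = p' ≫ openSubι X.obj {x} ≫ f := by
    rw [← Category.assoc, hp', hp, Category.assoc, ← hg, ← Functor.map_comp]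
  have hcomm : a' ≫ gK = b' ≫ gK := by
    apply (yon S).map_injective
    have e1 : (yon S).map (a' ≫ gK) = (yon S).map a' ≫ (yon S).map gK := Functor.map_comp _ _ _
    have e2 : (yon S).map (b' ≫ gK) = (yon S).map b' ≫ (yon S).map gK := Functor.map_comp _ _ _
    rw [e1, e2, hgK, ← Category.assoc, sq.w, Category.assoc]
  have hcomm' : a'.left ≫ gK.left = b'.left ≫ gK.left := congrArg CommaMorphism.left hcomm
  have hgKe : Etale gK.left := by
    change Etale (j ≫ g.left)
    infer_instance
  have hm : Mono (pullback.lift a'.left b'.left hcomm') :=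
    mono_lift_of_isPullback p' p' a' b' sq gK.left gK.left hcomm'
  have hQaff : IsAffine (pullback gK.left gK.left) := by
    change IsAffine (pullback (X := Spec (CommRingCat.of K)) (Y := Spec (CommRingCat.of K))
      (Z := Spec (CommRingCat.of k)) (j ≫ g.left) (j ≫ g.left))
    infer_instance
  have hQfin : Finite ↥(pullback gK.left gK.left) :=
    finite_of_etale_over_field K (pullback.fst gK.left gK.left)
  have hRfin : Finite ↥R.left :=
    Finite.of_injective _ (pullback.lift a'.left b'.left hcomm').injective
  have hRc : CompactSpace ↥R.left := Finite.compactSpace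
  obtain ⟨k', _, str', e, -⟩ :=
    iso_field_of_etale_surjective_of_compact K (j ≫ U.hom) p' hp'e hp's a' b' sq
  exact ⟨k', inferInstance, str', ⟨e⟩⟩

/-- **S10206**: an algebraic space étale over a field is a scheme. -/
theorem isRepresentable_of_isEtaleMor_field (X : Space S) (k : Type u) [Field k]
    (str : Spec (CommRingCat.of k) ⟶ S) (f : X.obj ⟶ (yon S).obj (Over.mk str))
    (hf : IsEtaleMor f) : X.obj.obj.IsRepresentable := by
  have key := exists_iso_field_openSub X k str f hf
  have hopen : ∀ x : Points X.obj, IsOpen ({x} : Set (Points X.obj)) := fun x => (key x).1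
  choose k' hk' str' e using fun x => (key x).2
  let ee : ∀ x, (yon S).obj (Over.mk (str' x)) ≅ openSub X.obj {x} := fun x => (e x).some
  have hsmall : Small.{u} (Points X.obj) := by
    obtain ⟨U, a, -, has⟩ := X.property.atlas
    exact small_of_surjective (ofPt_surjective a has)
  refine DisjCover.isRepresentable_of_disjoint_cover (fun x : Points X.obj => Over.mk (str' x))
    (fun x : Points X.obj => (ee x).hom ≫ openSubι X.obj {x}) (fun x => inferInstance) ?_ ?_
  · intro T g t
    let x := Points.ofPt g t
    obtain ⟨top, sq⟩ := exists_isPullback_openSub X.obj {x} (hopen x) g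
    refine ⟨x, preimageOpens X.obj {x} (hopen x) g, rfl, (yon S).preimage (top ≫ (ee x).inv), ?_⟩
    rw [Functor.map_preimage, Category.assoc, Iso.inv_hom_id_assoc, sq.w]
  · intro x y hxy T g h hgh
    refine ⟨fun t => hxy ?_⟩
    have h1 := ofPt_comp_openSubι_mem X.obj {x} ((yon S).map g ≫ (ee x).hom) t
    have h2 := ofPt_comp_openSubι_mem X.obj {y} ((yon S).map h ≫ (ee y).hom) t
    rw [Category.assoc] at h1 h2
    rw [hgh] at h1
    exact h1.symm.trans h2

end Groth.Agent.Lib.Helper37.EtaleOverField
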