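import Mathlib
import Groth.Agent.Lib.Helper37.ClosedPoint
import Groth.Agent.Lib.Helper37.DecentZar
import Groth.Agent.Lib.Helper37.Residual
import Groth.Agent.Lib.Helper5.LargestOpenSp

/-!
# The fibre over a quasi-compact monomorphic point is the topological fibre (helper37, S10390)

* `surjectiveOnStalks_of_mono_of_isField_stalk`: a monomorphism of schemes from a scheme with field stalks is
  surjective on stalks.
* `isPreimmersion_fibre_chart`: for a quasi-compact monomorphism `r : Spec k ⟶ Y` and an étale chart `V ⟶ Y`,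
  `Spec k ×_Y V ⟶ V` is a preimmersion.
* `isEmbedding_fibre` (S10390).
-/

set_option autoImplicit false
universe u
open CategoryTheory CategoryTheory.Limits AlgebraicGeometry Opposite

namespace Groth.Agent.Lib.Helper37.FibreHomeo

open AlgSp Groth.Agent.Lib.Helper36.AlgSpCharts Groth.Agent.Lib.Helper23.AlgSpMor
open Groth.Agent.Lib.Helper37.AlgSpPoints Groth.Agent.Lib.Helper37.AlgSpDecent
open Groth.Agent.Lib.Helper37.AlgSpFibres Groth.Agent.Lib.Helper37.ClosedPoint
open Groth.Agent.Lib.Helper37.Residual Groth.Agent.Lib.Helper37.DecentPoint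

variable {S : Scheme.{u}}

/-- A monomorphism of schemes whose source has only fields as local rings is surjective on stalks. -/
theorem surjectiveOnStalks_of_mono_of_isField_stalk {V W : Scheme.{u}} (g : V ⟶ W) [Mono g]
    (hfield : ∀ v : V, IsField (V.presheaf.stalk v)) : SurjectiveOnStalks g := by
  refine ⟨fun v => ?_⟩
  have hres := Scheme.residue_residueFieldMap g v
  have hfac := Scheme.Hom.SpecMap_residueFieldMap_fromSpecResidueField g v
  have hmono : Mono (Spec.map (g.residueFieldMap v)) := by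
    have : Mono (Spec.map (g.residueFieldMap v) ≫ W.fromSpecResidueField (g v)) := by
      rw [hfac]; infer_instance
    exact mono_of_mono _ (W.fromSpecResidueField (g v))
  have hiso1 : IsIso (Spec.map (g.residueFieldMap v)) :=
    Groth.Agent.Lib.Helper37.MonoField.isIso_of_mono_of_nonempty (K := W.residueField (g v)) _
  have hiso : IsIso (g.residueFieldMap v) := by
    have h2 : IsIso (Scheme.Spec.map (g.residueFieldMap v).op) := hiso1
    have h3 : IsIso (g.residueFieldMap v).op := isIso_of_reflects_iso _ Scheme.Spec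
    exact (isIso_op_iff _).1 h3
  have hbij : Function.Bijective (g.residueFieldMap v).hom :=
    (ConcreteCategory.isIso_iff_bijective _).1 hiso
  have hinj : Function.Injective (V.residue v).hom := by
    rw [RingHom.injective_iff_ker_eq_bot]
    change RingHom.ker (IsLocalRing.residue _) = ⊥
    rw [IsLocalRing.ker_residue]
    exact IsLocalRing.isField_iff_maximalIdeal_eq.1 (hfield v)
  intro y
  obtain ⟨b, hb⟩ := hbij.2 ((V.residue v).hom y)
  obtain ⟨a, ha⟩ := IsLocalRing.residue_surjective (R := W.presheaf.stalk (g v)) b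
  refine ⟨a, hinj ?_⟩
  have := congrArg (fun φ => φ.hom a) hres
  simp only [CommRingCat.hom_comp, RingHom.comp_apply] at this
  rw [← this, ← hb]
  congr 1

/-- **Lemma P**: the fibre of an étale chart over a quasi-compact monomorphic point is a preimmersion. -/
theorem isPreimmersion_fibre_chart {Y : Space S} (r : FieldPt Y.obj) (hm : Mono r.toHom)
    (hq : RepWith @QuasiCompact r.toHom) {V : Over S} (b : (yon S).obj V ⟶ Y.obj)
    (hbe : RepWith @Etale b) {E : Over S} (eV : E ⟶ V) (ek : E ⟶ r.pt)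
    (sqE : IsPullback ((yon S).map eV) ((yon S).map ek) b r.toHom) :
    IsPreimmersion eV.left := by
  have hek : Etale ek.left := hbe.property r.toHom _ _ sqE
  have hqc : QuasiCompact eV.left := hq.property b _ _ sqE.flip
  have hmono1 : Mono ((yon S).map eV) := sqE.mono_fst_of_mono
  have hmono2 : Mono eV := (yon S).mono_of_mono_map hmono1
  have hmono3 : Mono eV.left := inferInstance
  have hdisc : DiscreteTopology ↥E.left := discreteTopology_of_etale_field (k := r.K) ek.left
  have hfield : ∀ w, IsField (E.left.presheaf.stalk w) := fun w =>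
    isField_stalk_of_formallyUnramified_over_field (K := r.K) ek.left w
  have hstalk : SurjectiveOnStalks eV.left := surjectiveOnStalks_of_mono_of_isField_stalk eV.left hfield
  have hinj : Function.Injective eV.left := eV.left.injective
  have hfib : ∀ ε : ↥E.left, Points.ofPt b (eV.left ε) = Points.mk r := by
    intro ε
    rw [← ofPt_map_comp, sqE.w]
    exact ofPt_comp_toHom r _ ε
  have hfinfib : ∀ (V' : Over S) (b' : (yon S).obj V' ⟶ Y.obj), IsAffine V'.left → RepWith @Etale b' →
      (Points.ofPt b' ⁻¹' {Points.mk r}).Finite := by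
    intro V' b' hV' hb'
    have : CompactSpace ↥V'.left := inferInstance
    exact finite_fibre_of_qc_point r hq b' hb'
  -- key: every point is isolated by an open of `V`
  have key : ∀ ε : ↥E.left, ∃ O : Set ↥V.left, IsOpen O ∧ eV.left ε ∈ O ∧ eV.left ⁻¹' O ⊆ {ε} := by
    intro ε
    obtain ⟨_, ⟨(V' : V.left.Opens), hV', rfl⟩, hvV', -⟩ :=
      V.left.isBasis_affineOpens.exists_subset_of_mem_open (Set.mem_univ (eV.left ε)) isOpen_univ
    have hcomp : IsCompact (eV.left ⁻¹' (V' : Set ↥V.left)) :=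
      QuasiCompact.isCompact_preimage (f := eV.left) _ V'.2 hV'.isCompact
    have hFin : (eV.left ⁻¹' (V' : Set ↥V.left)).Finite := hcomp.finite_of_discrete
    have hns : ∀ ε' ∈ eV.left ⁻¹' (V' : Set ↥V.left), ε' ≠ ε →
        ∃ O : V.left.Opens, eV.left ε ∈ O ∧ eV.left ε' ∉ O := by
      intro ε' _ hne
      have hnot : ¬ eV.left ε' ⤳ eV.left ε := fun hs => hne
        (hinj (eq_of_specializes_of_finite_fibres (Points.mk r) hfinfib b hbe (eV.left ε) (eV.left ε')
          (hfib ε) (hfib ε') hs)).symm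
      rw [specializes_iff_forall_open] at hnot
      push Not at hnot
      obtain ⟨O, hO, h1, h2⟩ := hnot
      exact ⟨⟨O, hO⟩, h1, h2⟩
    choose! O hO using hns
    refine ⟨(V' : Set ↥V.left) ∩ ⋂ ε' ∈ (eV.left ⁻¹' (V' : Set ↥V.left)) \ {ε}, (O ε' : Set ↥V.left),
      V'.2.inter ((hFin.subset Set.sdiff_subset).isOpen_biInter fun ε' _ => (O ε').2), ⟨hvV', ?_⟩, ?_⟩
    · simp only [Set.mem_iInter]
      intro ε' hε'
      exact (hO ε' hε'.1 hε'.2).1
    · intro ε'' hε''
      by_contra hne
      have h1 := hε''.2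
      simp only [Set.mem_iInter] at h1
      exact (hO ε'' hε''.1 hne).2 (h1 ε'' ⟨hε''.1, hne⟩)
  have hind : Topology.IsInducing eV.left := by
    rw [Topology.isInducing_iff_nhds]
    intro ε
    apply le_antisymm (eV.left.continuous.tendsto ε).le_comap
    rw [nhds_discrete ↥E.left]
    obtain ⟨O, hO, hεO, hOsub⟩ := key ε
    intro s hs
    refine Filter.mem_comap.2 ⟨O, hO.mem_nhds hεO, fun x hx => ?_⟩
    have : x = ε := hOsub hx
    rw [this]
    exact hs
  exact { toSurjectiveOnStalks := hstalk, isEmbedding := ⟨hind, hinj⟩ }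

/-- **S10390**: the fibre over a quasi-compact monomorphic point is homeomorphic to the topological fibre. -/
theorem isEmbedding_fibre {X Y : Space S} (f : X ⟶ Y)
    (r : FieldPt Y.obj) (hm : Mono r.toHom) (hq : RepWith @QuasiCompact r.toHom)
    (Xk : Space S) (fst : Xk ⟶ X) (snd : Xk.obj ⟶ (yon S).obj r.pt)
    (hsq : IsPullback fst.hom snd f.hom r.toHom) :
    Topology.IsEmbedding (Points.map fst.hom) ∧
      Set.range (Points.map fst.hom) = Points.map f.hom ⁻¹' {Points.mk r} := by
  have hsndpt : ∀ w : Points Xk.obj, Points.map r.toHom (Points.map snd w) = Points.mk r := by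
    intro w
    obtain ⟨t, ht⟩ : ∃ t, Points.ofScheme r.pt t = Points.map snd w :=
      ⟨Points.toScheme r.pt _, Points.ofScheme_toScheme _ _⟩
    rw [← ht, ← Points.ofPt_eq_map_ofScheme, Points.ofPt_toHom]
  -- range
  have hrange : Set.range (Points.map fst.hom) = Points.map f.hom ⁻¹' {Points.mk r} := by
    ext x
    constructor
    · rintro ⟨w, rfl⟩
      change Points.map f.hom (Points.map fst.hom w) = Points.mk r
      rw [← Points.map_comp, hsq.w, Points.map_comp, hsndpt]
    · intro hx
      have hx' : Points.map f.hom x = Points.mk r := hx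
      obtain ⟨w, -, hw⟩ := points_exists_of_isPullback hsq.flip
        (Points.ofPt (𝟙 _) (IsLocalRing.closedPoint r.K)) x (by
          rw [hx', Points.map_ofPt, Category.id_comp, Points.ofPt_toHom])
      exact ⟨w, hw⟩
  refine ⟨⟨?_, ?_⟩, hrange⟩
  swap
  · have : Mono fst.hom := hsq.mono_fst_of_mono
    exact Groth.Agent.Lib.Helper5.LargestOpenSp.injective_map_of_mono fst.hom
  -- inducing
  obtain ⟨U₀, a₀, ha₀e, ha₀s⟩ := X.property.atlas
  obtain ⟨V, b, hbe, hbs⟩ := Y.property.atlas
  have sqU := hbe.rep.isPullback' (a₀ ≫ f.hom)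
  obtain ⟨h, hh⟩ : ∃ m : hbe.rep.pullback (a₀ ≫ f.hom) ⟶ V, m = hbe.rep.fst' (a₀ ≫ f.hom) := ⟨_, rfl⟩
  obtain ⟨π, hπ⟩ : ∃ m : hbe.rep.pullback (a₀ ≫ f.hom) ⟶ U₀, m = hbe.rep.snd (a₀ ≫ f.hom) := ⟨_, rfl⟩
  rw [← hh, ← hπ] at sqU
  have hπe : Etale π.left := by rw [hπ]; exact hbe.property_snd _
  have hπs : Surjective π.left := by rw [hπ]; exact hbs.property_snd _
  obtain ⟨a, ha⟩ : ∃ m : (yon S).obj (hbe.rep.pullback (a₀ ≫ f.hom)) ⟶ X.obj, m = (yon S).map π ≫ a₀ :=
    ⟨_, rfl⟩
  have hae : RepWith @Etale a := by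
    rw [ha]
    exact (RepWith @Etale).comp_mem _ _ ((repWith_yon_map_iff _ _).2 hπe) ha₀e
  have has : RepWith @Surjective a := by
    rw [ha]
    exact (RepWith @Surjective).comp_mem _ _ ((repWith_yon_map_iff _ _).2 hπs) ha₀s
  have haf : a ≫ f.hom = (yon S).map h ≫ b := by
    rw [ha, Category.assoc, sqU.w]
  -- the fibre chart
  have sqE := hbe.rep.isPullback' r.toHom
  obtain ⟨eV, heV⟩ : ∃ m : hbe.rep.pullback r.toHom ⟶ V, m = hbe.rep.fst' r.toHom := ⟨_, rfl⟩
  obtain ⟨ek, hek⟩ : ∃ m : hbe.rep.pullback r.toHom ⟶ r.pt, m = hbe.rep.snd r.toHom := ⟨_, rfl⟩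
  rw [← heV, ← hek] at sqE
  have hpre : IsPreimmersion eV.left := isPreimmersion_fibre_chart r hm hq b hbe eV ek sqE
  have sqUk0 := IsPullback.of_hasPullback h eV
  obtain ⟨j, hj⟩ : ∃ m : pullback h eV ⟶ hbe.rep.pullback (a₀ ≫ f.hom), m = pullback.fst h eV := ⟨_, rfl⟩
  obtain ⟨l, hl⟩ : ∃ m : pullback h eV ⟶ hbe.rep.pullback r.toHom, m = pullback.snd h eV := ⟨_, rfl⟩
  rw [← hj, ← hl] at sqUk0
  have sqUkS : IsPullback j.left l.left h.left eV.left := sqUk0.map (Over.forget S)
  have hjpre : IsPreimmersion j.left :=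
    MorphismProperty.of_isPullback (P := @IsPreimmersion) sqUkS.flip hpre
  have sqUk : IsPullback ((yon S).map j) ((yon S).map l) ((yon S).map h) ((yon S).map eV) :=
    sqUk0.map (yon S)
  have big : IsPullback ((yon S).map l ≫ (yon S).map ek) ((yon S).map j) r.toHom
      ((yon S).map h ≫ b) := sqUk.flip.paste_horiz sqE.flip
  rw [← haf] at big
  obtain ⟨ak, hak1, hak2⟩ := hsq.exists_lift ((yon S).map j ≫ a) ((yon S).map l ≫ (yon S).map ek) (by
    rw [Category.assoc, big.w])
  have sqK : IsPullback ak ((yon S).map j) fst.hom a := by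
    refine IsPullback.of_right ?_ hak1 hsq.flip
    rw [hak2]; exact big
  -- the topological argument
  have hcont : Continuous (Points.map fst.hom) := Points.continuous_map _
  refine ⟨le_antisymm (continuous_iff_le_induced.1 hcont) ?_⟩
  intro O hO
  rw [isOpen_induced_iff]
  have hOk : IsOpen (Points.ofPt ak ⁻¹' O) := hO.preimage (Points.continuous_ofPt ak)
  obtain ⟨OU, hOU, hOUeq⟩ := (j.left.isEmbedding.isInducing.isOpen_iff).1 hOk
  refine ⟨Points.ofPt a '' OU, isOpenMap_ofPt a hae OU hOU, ?_⟩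
  ext w
  constructor
  · rintro ⟨u', hu'O, hu'⟩
    obtain ⟨τ, hτ1, hτ2⟩ := exists_point_of_isPullback_mixed sqK u' w hu'.symm
    have : τ ∈ Points.ofPt ak ⁻¹' O := by
      rw [← hOUeq]
      change j.left τ ∈ OU
      rw [hτ1]; exact hu'O
    rw [← hτ2]
    exact this
  · intro hw
    obtain ⟨u', hu'⟩ := ofPt_surjective a has (Points.map fst.hom w)
    obtain ⟨τ, hτ1, hτ2⟩ := exists_point_of_isPullback_mixed sqK u' w hu'.symm
    have hτO : τ ∈ Points.ofPt ak ⁻¹' O := by
      change Points.ofPt ak τ ∈ O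
      rw [hτ2]; exact hw
    rw [← hOUeq] at hτO
    exact ⟨u', by rw [← hτ1]; exact hτO, hu'⟩

end Groth.Agent.Lib.Helper37.FibreHomeo
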