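import Mathlib
import Groth.Prelude.Def_W4c2lssmoduliGProp
import Groth.Agent.Lib.Helper50.DvrCrit

/-!
# `G`-universally closed morphisms: closed image and properness of the image

Let `f : R ⟶ S` and `q : S ⟶ T` be morphisms of schemes.  `GLift f q` is the scheme-level shadow of
"`f` is invariant and `f ≫ q` is `G`-universally closed": every discrete valuation subring `A` of a
field `L`, `L`-point `x` of `R` and `A`-point `y` of `T` with `q (f x) = y|_L` admit an `A`-point
`l` of `R` with `q (f l) = y` and `f (l|_L) = f x`.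

* `isClosed_image_of_dvr`: the "follow specialisations along DVRs inside a closed set" criterion
  for closedness of the image of a closed subset (a variant of Helper50's
  `isClosedMap_of_dvrExistence`).
* `isClosed_range_of_gLift`: with `q` separated, `f` has closed range.
* `isClosedMap_snd_of_gLift`: any base change of `Z ⟶ S ⟶ T` for a closed immersion `Z ⟶ S`
  with image inside `f(R)` is a closed map.
* `isClosed_range_and_isProper_of_gLift`: the scheme-level theorem.
* `gLift_of_isGUnivClosed`: `GLift` from the prelude's `IsInvariantMor` and `IsGUnivClosed`.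
* `isClosed_range_and_isProper_of_isGUnivClosed`: the statement over a field.
-/

set_option autoImplicit false
set_option linter.style.haveILetI false
universe u
open CategoryTheory CategoryTheory.Limits AlgebraicGeometry IsLocalRing TopologicalSpace

namespace Groth.Agent.Lib.Helper37.GUnivClosed

open Groth.Agent.Lib.Helper50

/-- A closed subset `D` of `X` has closed image under a quasi-compact morphism locally of finite
type to a locally Noetherian scheme as soon as specialisations along discrete valuation rings of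
residue fields of points of `D` can be followed inside `D`. -/
theorem isClosed_image_of_dvr {X Y : Scheme.{u}} [IsLocallyNoetherian Y] (π : X ⟶ Y)
    [LocallyOfFiniteType π] [QuasiCompact π] (D : Set X) (hD : IsClosed D)
    (H : ∀ z ∈ D, ∀ (A : ValuationSubring (X.residueField z)), IsDiscreteValuationRing A →
      ∀ y : Spec (CommRingCat.of A) ⟶ Y,
        Spec.map (CommRingCat.ofHom A.subtype) ≫ y = X.fromSpecResidueField z ≫ π →
        ∃ x' ∈ D, π.base x' = y.base (closedPoint A)) :
    IsClosed (π.base '' D) := by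
  rw [← closure_subset_iff_isClosed]
  intro w hw
  obtain ⟨N, hN, hwN, -⟩ := exists_isAffineOpen_mem_and_subset
    (show w ∈ (⊤ : Y.Opens) from trivial)
  haveI : IsLocallyNoetherian X := LocallyOfFiniteType.isLocallyNoetherian π
  let V : X.Opens := π ⁻¹ᵁ N
  haveI : CompactSpace (V : Scheme.{u}) :=
    isCompact_iff_compactSpace.mp (QuasiCompact.isCompact_preimage (f := π) _ N.2 hN.isCompact)
  haveI : IsNoetherian (V : Scheme.{u}) := {}
  let Z' : Set (V : Scheme.{u}) := V.ι.base ⁻¹' D
  have hZ' : IsClosed Z' := hD.preimage V.ι.continuous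
  haveI : QuasiSober Z' := hZ'.isClosedEmbedding_subtypeVal.quasiSober
  let g : Z' → Y := fun z => π.base (V.ι.base z.1)
  have hg : Continuous g :=
    π.continuous.comp (V.ι.continuous.comp continuous_subtype_val)
  have hrange : Set.range g = (N : Set Y) ∩ π.base '' D := by
    ext s
    constructor
    · rintro ⟨z, rfl⟩
      exact ⟨z.1.2, V.ι.base z.1, z.2, rfl⟩
    · rintro ⟨hsN, z, hzZ, rfl⟩
      exact ⟨⟨⟨z, hsN⟩, hzZ⟩, rfl⟩
  have hw' : w ∈ closure (Set.range g) := by
    rw [hrange]
    exact N.2.inter_closure ⟨hwN, hw⟩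
  obtain ⟨ξ, -, hξ⟩ := exists_generic_specializes_of_mem_closure_range g hg w hw'
  have hzD : V.ι.base ξ.1 ∈ D := ξ.2
  by_cases hne : w = π.base (V.ι.base ξ.1)
  · exact ⟨_, hzD, hne.symm⟩
  obtain ⟨A, h, hA, hcl, hcomp⟩ := exists_dvr_through_specialization π (V.ι.base ξ.1) w hξ hne
  obtain ⟨x', hx', hx'w⟩ := H _ hzD A hA h hcomp
  exact ⟨x', hx', hx'w.trans hcl⟩

/-- The scheme-level shadow of `G`-universal closedness of `f ≫ q` for an invariant `f`. -/
def GLift {R S T : Scheme.{u}} (f : R ⟶ S) (q : S ⟶ T) : Prop :=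
  ∀ (L : Type u) [Field L] (A : ValuationSubring L), IsDiscreteValuationRing A →
    ∀ (x : Spec (CommRingCat.of L) ⟶ R) (y : Spec (CommRingCat.of A) ⟶ T),
      x ≫ f ≫ q = Spec.map (CommRingCat.ofHom A.subtype) ≫ y →
      ∃ l : Spec (CommRingCat.of A) ⟶ R, l ≫ f ≫ q = y ∧
        Spec.map (CommRingCat.ofHom A.subtype) ≫ l ≫ f = x ≫ f

/-- Uniqueness of lifts along a separated morphism, for valuation subrings. -/
theorem eq_of_isSeparated_valSub {S T : Scheme.{u}} (q : S ⟶ T) [IsSeparated q]
    {L : Type u} [Field L] (A : ValuationSubring L)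
    (l₁ l₂ : Spec (CommRingCat.of A) ⟶ S) (h₁ : l₁ ≫ q = l₂ ≫ q)
    (h₂ : Spec.map (CommRingCat.ofHom A.subtype) ≫ l₁ =
      Spec.map (CommRingCat.ofHom A.subtype) ≫ l₂) : l₁ = l₂ := by
  let Sq : ValuativeCommSq q :=
    { R := A
      K := L
      i₁ := Spec.map (CommRingCat.ofHom A.subtype) ≫ l₁
      i₂ := l₁ ≫ q
      commSq := ⟨by rw [Category.assoc]; rfl⟩ }
  have hU := IsSeparated.valuativeCriterion q Sq
  let s₁ : Sq.commSq.LiftStruct := ⟨l₁, rfl, rfl⟩
  let s₂ : Sq.commSq.LiftStruct := ⟨l₂, h₂.symm, h₁.symm⟩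
  exact congrArg CommSq.LiftStruct.l (hU.elim s₁ s₂)

/-- With `q` separated, the lifting property `GLift f q` forces `f` to have closed range. -/
theorem isClosed_range_of_gLift {R S T : Scheme.{u}} [IsLocallyNoetherian S] [NoetherianSpace R]
    (f : R ⟶ S) [LocallyOfFiniteType f] (q : S ⟶ T) [IsSeparated q] (H : GLift f q) :
    IsClosed (Set.range f.base) := by
  rw [← closure_subset_iff_isClosed]
  intro w hw
  obtain ⟨ξ, -, hξ⟩ := exists_generic_specializes_of_mem_closure_range f.base f.continuous w hw
  by_cases hne : w = f.base ξ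
  · exact ⟨ξ, hne.symm⟩
  obtain ⟨A, h, hA, hcl, hcomp⟩ := exists_dvr_through_specialization f ξ w hξ hne
  obtain ⟨l, hl₁, hl₂⟩ := H _ A hA (R.fromSpecResidueField ξ) (h ≫ q) (by
    rw [← Category.assoc, ← hcomp, Category.assoc])
  have hlh : l ≫ f = h := by
    refine eq_of_isSeparated_valSub q A _ _ (by rw [Category.assoc, hl₁]) ?_
    rw [hl₂, hcomp]
  refine ⟨l.base (closedPoint A), ?_⟩
  rw [← hcl, ← hlh]
  rfl

/-- The generic point of the spectrum of a valuation subring specialises to the closed point. -/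
theorem specializes_closedPoint_valSub {L : Type u} [Field L] (A : ValuationSubring L)
    {X : Scheme.{u}} (l : Spec (CommRingCat.of A) ⟶ X) (x : Spec (CommRingCat.of L)) :
    (Spec.map (CommRingCat.ofHom A.subtype) ≫ l).base x ⤳ l.base (closedPoint A) := by
  have h1 : (Spec.map (CommRingCat.ofHom A.subtype)).base x ⤳ closedPoint A :=
    IsLocalRing.specializes_closedPoint _
  exact h1.map l.continuous

/-- Under `GLift f q`, for a closed immersion `ι : Z ⟶ S` with image inside `f(R)`, every base
change of `ι ≫ q` is a closed map (for a locally Noetherian base). -/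
theorem isClosedMap_snd_of_gLift {R S T T' Z : Scheme.{u}} [IsLocallyNoetherian T']
    (f : R ⟶ S) (q : S ⟶ T) (t : T' ⟶ T) [LocallyOfFiniteType (f ≫ q)] [QuasiCompact (f ≫ q)]
    (H : GLift f q) (ι : Z ⟶ S) [IsClosedImmersion ι]
    (hι : Set.range ι.base ⊆ Set.range f.base) :
    IsClosedMap (pullback.snd (ι ≫ q) t).base := by
  intro C hC
  let f' : pullback (f ≫ q) t ⟶ pullback q t :=
    pullback.lift (pullback.fst (f ≫ q) t ≫ f) (pullback.snd (f ≫ q) t)
      (by rw [Category.assoc, pullback.condition])
  let ι' : pullback (ι ≫ q) t ⟶ pullback q t :=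
    pullback.lift (pullback.fst (ι ≫ q) t ≫ ι) (pullback.snd (ι ≫ q) t)
      (by rw [Category.assoc, pullback.condition])
  have hf'1 : f' ≫ pullback.fst q t = pullback.fst (f ≫ q) t ≫ f := pullback.lift_fst _ _ _
  have hf'2 : f' ≫ pullback.snd q t = pullback.snd (f ≫ q) t := pullback.lift_snd _ _ _
  have hι'1 : ι' ≫ pullback.fst q t = pullback.fst (ι ≫ q) t ≫ ι := pullback.lift_fst _ _ _
  have hι'2 : ι' ≫ pullback.snd q t = pullback.snd (ι ≫ q) t := pullback.lift_snd _ _ _
  have pbf : IsPullback f' (pullback.fst (f ≫ q) t) (pullback.fst q t) f := by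
    refine IsPullback.of_right ?_ hf'1 (IsPullback.of_hasPullback q t).flip
    rw [hf'2]
    exact (IsPullback.of_hasPullback (f ≫ q) t).flip
  have pbι : IsPullback ι' (pullback.fst (ι ≫ q) t) (pullback.fst q t) ι := by
    refine IsPullback.of_right ?_ hι'1 (IsPullback.of_hasPullback q t).flip
    rw [hι'2]
    exact (IsPullback.of_hasPullback (ι ≫ q) t).flip
  haveI : IsClosedImmersion ι' := MorphismProperty.of_isPullback pbι.flip inferInstance
  let D : Set ↥(pullback (f ≫ q) t) := f'.base ⁻¹' (ι'.base '' C)
  have hD : IsClosed D := (ι'.isClosedEmbedding.isClosedMap C hC).preimage f'.continuous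
  have himg : (pullback.snd (ι ≫ q) t).base '' C = (pullback.snd (f ≫ q) t).base '' D := by
    ext w
    constructor
    · rintro ⟨c, hc, rfl⟩
      obtain ⟨r, hr⟩ : (pullback.fst q t).base (ι'.base c) ∈ Set.range f.base := by
        apply hι
        refine ⟨(pullback.fst (ι ≫ q) t).base c, ?_⟩
        rw [← Scheme.Hom.comp_apply, ← hι'1, Scheme.Hom.comp_apply]
      obtain ⟨r', hr'1, -⟩ := Scheme.exists_preimage_of_isPullback pbf (ι'.base c) r hr.symm
      refine ⟨r', ⟨c, hc, hr'1.symm⟩, ?_⟩
      rw [← hf'2, Scheme.Hom.comp_apply, hr'1, ← Scheme.Hom.comp_apply, hι'2]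
    · rintro ⟨r', ⟨c, hc, hcr⟩, rfl⟩
      refine ⟨c, hc, ?_⟩
      rw [← hι'2, Scheme.Hom.comp_apply, hcr, ← Scheme.Hom.comp_apply, hf'2]
  rw [himg]
  refine isClosed_image_of_dvr (pullback.snd (f ≫ q) t) D hD ?_
  intro z hz A hA y hy
  obtain ⟨l, hl₁, hl₂⟩ := H _ A hA
    ((pullback (f ≫ q) t).fromSpecResidueField z ≫ pullback.fst (f ≫ q) t) (y ≫ t) (by
      rw [Category.assoc, pullback.condition, ← Category.assoc, ← hy, Category.assoc])
  let l' : Spec (CommRingCat.of A) ⟶ pullback (f ≫ q) t := pullback.lift l y hl₁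
  have hl'1 : l' ≫ pullback.fst (f ≫ q) t = l := pullback.lift_fst _ _ _
  have hl'2 : l' ≫ pullback.snd (f ≫ q) t = y := pullback.lift_snd _ _ _
  refine ⟨l'.base (closedPoint A), ?_, ?_⟩
  · -- the generic point goes to `f' z`, and `ι' '' C` is closed
    have hgen : Spec.map (CommRingCat.ofHom A.subtype) ≫ l' ≫ f' =
        (pullback (f ≫ q) t).fromSpecResidueField z ≫ f' := by
      apply pullback.hom_ext
      · rw [Category.assoc, Category.assoc, hf'1, ← Category.assoc l', hl'1, hl₂, Category.assoc,
          Category.assoc, hf'1]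
      · rw [Category.assoc, Category.assoc, hf'2, hl'2, hy, Category.assoc, hf'2]
    obtain ⟨c, hc, hcz⟩ := hz
    have hsp := specializes_closedPoint_valSub A (l' ≫ f')
      (closedPoint ((pullback (f ≫ q) t).residueField z))
    rw [hgen, Scheme.Hom.comp_apply, Scheme.fromSpecResidueField_apply] at hsp
    exact hsp.mem_closed (ι'.isClosedEmbedding.isClosedMap C hC) ⟨c, hc, hcz⟩
  · rw [← hl'2]
    rfl

/-- Scheme-level theorem: under `GLift f q` with `q` separated of finite type over a locally
Noetherian base and `R` Noetherian, `f(R)` is closed and its reduced induced subscheme is proper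
over `T`. -/
theorem isClosed_range_and_isProper_of_gLift {R S T : Scheme.{u}} [IsLocallyNoetherian T]
    [NoetherianSpace R] (f : R ⟶ S) (q : S ⟶ T) [LocallyOfFiniteType f] [LocallyOfFiniteType q]
    [QuasiCompact q] [IsSeparated q] (H : GLift f q) :
    IsClosed (Set.range f.base) ∧
      IsProper ((Scheme.IdealSheafData.vanishingIdeal
          (⟨closure (Set.range f.base), isClosed_closure⟩ : TopologicalSpace.Closeds ↥S)).subschemeι
            ≫ q) := by
  haveI : IsLocallyNoetherian S := LocallyOfFiniteType.isLocallyNoetherian q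
  have hcl : IsClosed (Set.range f.base) := isClosed_range_of_gLift f q H
  refine ⟨hcl, ?_⟩
  have hι : Set.range (Scheme.IdealSheafData.vanishingIdeal
      (⟨closure (Set.range f.base), isClosed_closure⟩ : TopologicalSpace.Closeds ↥S)).subschemeι.base
        ⊆ Set.range f.base := by
    rw [Scheme.IdealSheafData.range_subschemeι, Scheme.IdealSheafData.coe_support_vanishingIdeal]
    simp only [TopologicalSpace.Closeds.coe_mk]
    rw [hcl.closure_eq]
  haveI : UniversallyClosed ((Scheme.IdealSheafData.vanishingIdeal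
      (⟨closure (Set.range f.base), isClosed_closure⟩ : TopologicalSpace.Closeds ↥S)).subschemeι
        ≫ q) := by
    refine universallyClosed_of_affineSpace _ (fun n _ => ?_)
    haveI : IsLocallyNoetherian (𝔸(ULift.{u} (Fin n); T)) :=
      LocallyOfFiniteType.isLocallyNoetherian (𝔸(ULift.{u} (Fin n); T) ↘ T)
    exact isClosedMap_snd_of_gLift f q _ H _ hι
  exact {}

/-- The lifting property `GLift` from invariance of `f` and `G`-universal closedness of
`f ≫ q`. -/
theorem gLift_of_isGUnivClosed {B : Scheme.{u}} {G R S T : Over B} [GrpObj G]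
    (a : AlgGrp.Action G R) (f : R ⟶ S) (q : S ⟶ T)
    (hf : W4c2lssmoduli.IsInvariantMor a f) (hp : W4c2lssmoduli.IsGUnivClosed a (f ≫ q)) :
    GLift f.left q.left := by
  intro L _ A hA x y hxy
  haveI := hA
  have hxR : x ≫ R.hom = Spec.map (CommRingCat.ofHom (algebraMap A L)) ≫ y ≫ T.hom := by
    have h1 : f.left ≫ q.left ≫ T.hom = R.hom := by rw [Over.w q, Over.w f]
    rw [← h1, ← Category.assoc, ← Category.assoc, Category.assoc x, hxy, Category.assoc]
    rfl
  obtain ⟨i, γ, hi, hγ⟩ := hp.2 A L (y ≫ T.hom) (Over.homMk x hxR) (Over.homMk y rfl) (by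
    ext
    simp only [Over.comp_left, Over.homMk_left]
    exact hxy)
  refine ⟨i.left, ?_, ?_⟩
  · have := congrArg CommaMorphism.left hi
    simpa using this
  · have h1 := congrArg (fun m => m ≫ f) hγ
    simp only [Category.assoc] at h1
    rw [hf, CartesianMonoidalCategory.lift_snd_assoc] at h1
    have h2 := congrArg CommaMorphism.left h1
    simp only [Over.comp_left, Over.homMk_left] at h2
    exact h2

/-- The statement over a field `k`. -/
theorem isClosed_range_and_isProper_of_isGUnivClosed (k : Type u) [Field k]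
    (G R S T : Over (Spec (CommRingCat.of k))) [GrpObj G]
    [LocallyOfFiniteType R.hom] [CompactSpace ↥R.left] [LocallyOfFiniteType S.hom]
    [CompactSpace ↥S.left] [LocallyOfFiniteType T.hom]
    (a : AlgGrp.Action G R) (f : R ⟶ S) (q : S ⟶ T) [IsSeparated q.left]
    (hf : W4c2lssmoduli.IsInvariantMor a f) (hp : W4c2lssmoduli.IsGUnivClosed a (f ≫ q)) :
    IsClosed (Set.range f.left.base) ∧
      IsProper ((Scheme.IdealSheafData.vanishingIdeal
          (⟨closure (Set.range f.left.base), isClosed_closure⟩ :
            TopologicalSpace.Closeds ↥S.left)).subschemeι ≫ q.left) := by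
  haveI : IsLocallyNoetherian T.left := LocallyOfFiniteType.isLocallyNoetherian T.hom
  haveI : IsLocallyNoetherian R.left := LocallyOfFiniteType.isLocallyNoetherian R.hom
  haveI : IsLocallyNoetherian S.left := LocallyOfFiniteType.isLocallyNoetherian S.hom
  haveI : IsNoetherian R.left := {}
  haveI : IsNoetherian S.left := {}
  haveI : LocallyOfFiniteType (f.left ≫ S.hom) := by
    rw [Over.w f]
    infer_instance
  haveI : LocallyOfFiniteType f.left := locallyOfFiniteType_of_comp f.left S.hom
  haveI : LocallyOfFiniteType (q.left ≫ T.hom) := by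
    rw [Over.w q]
    infer_instance
  haveI : LocallyOfFiniteType q.left := locallyOfFiniteType_of_comp q.left T.hom
  exact isClosed_range_and_isProper_of_gLift f.left q.left (gLift_of_isGUnivClosed a f q hf hp)

end Groth.Agent.Lib.Helper37.GUnivClosed
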