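import Groth.Agent.S10485
import Groth.Agent.S10435
import Groth.Agent.S9702
import Groth.Agent.Lib.Helper30.DecentOpenScheme
import Groth.Agent.Lib.Helper36.OpenImmIso
import Groth.Agent.Lib.Helper36.FieldBCRed
import Groth.Agent.Lib.Helper36.DisjOpenGlue
import Groth.Agent.Lib.Helper30.LocPNbhd
import Groth.Agent.Lib.Helper37.AlgSpFibres
import Groth.Agent.Lib.Helper37.IntegralSub

/-!
# Generic finiteness for integral algebraic spaces: reduction to schemes (helper37)

* `exists_openImm_scheme_chart` : a decent space has, inside any nonempty open set of points, a nonempty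
  scheme chart by an open immersion (from helper30's `exists_rep_open`).
* `isIntegral_of_openImm` : an open-immersion chart of an integral space is an integral scheme.
* `generic_mem_range`, `eq_genericPoint_of_ofPt` : the generic point lies in every nonempty open chart and
  is the image of the generic point of the chart.
* `exists_finite_charts` : (5) ⇒ (3) of the generic finiteness lemma for integral algebraic spaces,
  reduced to the scheme case `Groth.Agent.S9702.result`.
-/

set_option autoImplicit false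
set_option linter.style.haveILetI false
set_option linter.unusedSectionVars false
universe u
open CategoryTheory CategoryTheory.Limits AlgebraicGeometry Topology TopologicalSpace
open AlgSp

namespace Groth.Agent.Lib.Helper37.GenFinSp

open Groth.Agent.Lib.Helper37.AlgSpPoints Groth.Agent.Lib.Helper37.AlgSpFibres
  Groth.Agent.Lib.Helper36.OpenSubspace Groth.Agent.Lib.Helper30.DecentOpenScheme
  Groth.Agent.Lib.Helper36.DisjOpenGlue

variable {S : Scheme.{u}}

/-- a decent space has a nonempty scheme chart by an open immersion inside any nonempty open -/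
theorem exists_openImm_scheme_chart (X : Space S) (hX : IsDecent X.obj) (Ω : Set (Points X.obj))
    (hΩ : IsOpen Ω) (hne : Ω.Nonempty) :
    ∃ (U : Over S) (a : (yon S).obj U ⟶ X.obj), RepWith @IsOpenImmersion a ∧
      Set.range (Points.ofPt a) ⊆ Ω ∧ Nonempty ↥U.left := by
  obtain ⟨W, hWΩ, hW, ⟨w, hw⟩, hrep⟩ := exists_rep_open X hX Ω hΩ hne
  obtain ⟨U, ⟨r⟩⟩ := hrep.has_representation
  let e := isoOfRepresentableBy r
  have ha : RepWith @IsOpenImmersion (e.hom ≫ openSubι X.obj W) :=
    ((RepWith @IsOpenImmersion).cancel_left_of_respectsIso e.hom _).2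
      (repWith_isOpenImmersion_openSubι X.obj W hW)
  have hr : Set.range (Points.ofPt (e.hom ≫ openSubι X.obj W)) ⊆ W := by
    rintro _ ⟨u, rfl⟩
    exact ofPt_comp_openSubι_mem X.obj W e.hom u
  refine ⟨U, e.hom ≫ openSubι X.obj W, ha, hr.trans hWΩ, ?_⟩
  have hw' : w ∈ Set.range (Points.map (openSubι X.obj W)) := by
    rw [range_map_openSubι]; exact hw
  obtain ⟨w', -⟩ := hw'
  have hs : RepWith @Surjective e.hom := MorphismProperty.of_isIso _ e.hom
  obtain ⟨u, -⟩ := ofPt_surjective e.hom hs w'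
  exact ⟨u⟩

/-- an open-immersion chart of an integral space is an integral scheme -/
theorem isIntegral_of_openImm {X : Sp S} (hXi : IsIntegralSp X) {U : Over S}
    (a : (yon S).obj U ⟶ X) (ha : RepWith @IsOpenImmersion a) [Nonempty ↥U.left] :
    IsIntegral U.left := by
  have hae := Groth.Agent.Lib.Helper30.LocPNbhd.repWith_etale_of_isOpenImmersion ha
  have hemb := Groth.Agent.S10435.isOpenEmbedding_ofPt a ha
  haveI : IsReduced U.left := by
    haveI : ∀ u : ↥U.left, _root_.IsReduced ↥(U.left.presheaf.stalk u) := fun u =>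
      Groth.Agent.Lib.Helper36.FieldBCRed.isReduced_stalk_of_etaleLocally hXi.1 a hae u
    exact isReduced_of_isReduced_stalk U.left
  haveI : IrreducibleSpace ↥U.left := by
    haveI := hXi.2.2
    apply Groth.Agent.Lib.Helper37.IntegralSub.irreducibleSpace_of_isInducing hemb.isInducing
    exact ⟨Set.range_nonempty _,
      (PreirreducibleSpace.isPreirreducible_univ (X := Points X)).open_subset hemb.isOpen_range
        (Set.subset_univ _)⟩
  exact isIntegral_of_irreducibleSpace_of_isReduced U.left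

/-- the generic point lies in every nonempty open-immersion chart -/
theorem generic_mem_range {X : Sp S} {U : Over S} (a : (yon S).obj U ⟶ X)
    (ha : RepWith @IsOpenImmersion a) [Nonempty ↥U.left]
    (x : Points X) (hx : IsGenericPoint x (Set.univ : Set (Points X))) :
    ∃ u : ↥U.left, Points.ofPt a u = x := by
  have hemb := Groth.Agent.S10435.isOpenEmbedding_ofPt a ha
  exact (hx.mem_open_set_iff hemb.isOpen_range).2
    ⟨Points.ofPt a (Classical.arbitrary _), trivial, ⟨_, rfl⟩⟩

/-- the point of an open-immersion chart over the generic point is the generic point -/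
theorem eq_genericPoint_of_ofPt {X : Sp S} {U : Over S} (a : (yon S).obj U ⟶ X)
    (ha : RepWith @IsOpenImmersion a) [IrreducibleSpace ↥U.left]
    (x : Points X) (hx : IsGenericPoint x (Set.univ : Set (Points X))) (u : ↥U.left)
    (hu : Points.ofPt a u = x) : u = genericPoint ↥U.left := by
  have hemb := Groth.Agent.S10435.isOpenEmbedding_ofPt a ha
  have hg : IsGenericPoint u (⊤ : Set ↥U.left) := by
    rw [isGenericPoint_def]
    apply Set.eq_univ_of_forall
    intro u'
    rw [← specializes_iff_mem_closure, ← hemb.isInducing.specializes_iff, hu,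
      specializes_iff_mem_closure, hx.def]
    trivial
  exact hg.eq (genericPoint_spec ↥U.left)

/-- **(5) ⇒ (3)** for integral algebraic spaces: if the generic point `x` is the only point over the generic
point `y`, then there are nonempty affine open charts `U ⊂ X`, `V ⊂ Y` with `f(U) ⊂ V` and `U ⟶ V`
finite. -/
theorem exists_finite_charts {X Y : Space S} (hXi : IsIntegralSp X.obj) (hYi : IsIntegralSp Y.obj)
    (f : X ⟶ Y) (hft : LocP @LocallyOfFiniteType f.hom) (hd : IsDominantMor f.hom)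
    (x : Points X.obj) (hx : IsGenericPoint x (Set.univ : Set (Points X.obj)))
    (y : Points Y.obj) (hy : IsGenericPoint y (Set.univ : Set (Points Y.obj)))
    (hC : ∀ x' : Points X.obj, Points.map f.hom x' = y → x' = x) :
    ∃ (U V : Over S) (a : (yon S).obj U ⟶ X.obj) (b : (yon S).obj V ⟶ Y.obj) (g : U ⟶ V),
      IsAffine U.left ∧ IsAffine V.left ∧ Nonempty ↥U.left ∧
        RepWith @IsOpenImmersion a ∧ RepWith @IsOpenImmersion b ∧
          a ≫ f.hom = (yon S).map g ≫ b ∧ IsFinite g.left := by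
  have hfx : Points.map f.hom x = y :=
    Groth.Agent.S10486.map_generic_eq hYi.2.1 f hd x hx y hy
  -- the `Y` side
  obtain ⟨V₀, b₀, hb₀, -, hV₀ne⟩ :=
    exists_openImm_scheme_chart Y hYi.2.1 Set.univ isOpen_univ ⟨y, trivial⟩
  obtain ⟨v₀, hv₀⟩ := generic_mem_range b₀ hb₀ y hy
  obtain ⟨_, ⟨V₁, hV₁, rfl⟩, hv₀V₁, -⟩ :=
    V₀.left.isBasis_affineOpens.exists_subset_of_mem_open (Set.mem_univ v₀) isOpen_univ
  have hb₁ : RepWith @IsOpenImmersion ((yon S).map (openι V₀ V₁) ≫ b₀) :=
    (RepWith @IsOpenImmersion).comp_mem _ _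
      ((repWith_yon_map_iff @IsOpenImmersion (openι V₀ V₁)).2
        (inferInstanceAs (IsOpenImmersion (Scheme.Opens.ι V₁)))) hb₀
  generalize hb₁def : (yon S).map (openι V₀ V₁) ≫ b₀ = b₁ at hb₁
  have hb₁e := Groth.Agent.S10435.isOpenEmbedding_ofPt b₁ hb₁
  have hv₁ : Points.ofPt b₁ (⟨v₀, hv₀V₁⟩ : ↥(openOver V₀ V₁).left) = y := by
    rw [← hb₁def, ofPt_map_comp]
    exact hv₀
  -- the `X` side
  have hΩ : IsOpen (Points.map f.hom ⁻¹' Set.range (Points.ofPt b₁)) :=
    hb₁e.isOpen_range.preimage (Points.continuous_map f.hom)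
  have hxΩ : x ∈ Points.map f.hom ⁻¹' Set.range (Points.ofPt b₁) := by
    rw [Set.mem_preimage, hfx]
    exact ⟨_, hv₁⟩
  obtain ⟨U₀, a₀, ha₀, ha₀Ω, hU₀ne⟩ := exists_openImm_scheme_chart X hXi.2.1 _ hΩ ⟨x, hxΩ⟩
  have hrange : Set.range (Points.map (a₀ ≫ f.hom)) ⊆ Set.range (Points.map b₁) := by
    rw [range_map_eq_range_ofPt, range_map_eq_range_ofPt]
    rintro _ ⟨u, rfl⟩
    rw [← Points.map_ofPt]
    exact ha₀Ω ⟨u, rfl⟩
  obtain ⟨l, hl⟩ := exists_lift_of_openImm b₁ hb₁ (a₀ ≫ f.hom) hrange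
  obtain ⟨g₁, rfl⟩ := (yon S).map_surjective l
  haveI : IsAffine (openOver V₀ V₁).left := hV₁
  haveI : Nonempty ↥(openOver V₀ V₁).left := ⟨⟨v₀, hv₀V₁⟩⟩
  haveI hVint : IsIntegral (openOver V₀ V₁).left := isIntegral_of_openImm hYi b₁ hb₁
  haveI hUint : IsIntegral U₀.left := isIntegral_of_openImm hXi a₀ ha₀
  have ha₀et := Groth.Agent.Lib.Helper30.LocPNbhd.repWith_etale_of_isOpenImmersion ha₀
  have hb₁et := Groth.Agent.Lib.Helper30.LocPNbhd.repWith_etale_of_isOpenImmersion hb₁
  have ha₀e := Groth.Agent.S10435.isOpenEmbedding_ofPt a₀ ha₀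
  haveI : LocallyOfFiniteType g₁.left := hft a₀ b₁ g₁ ha₀et hb₁et hl.symm
  obtain ⟨u₁, hu₁⟩ := generic_mem_range a₀ ha₀ x hx
  have hu₁g := eq_genericPoint_of_ofPt a₀ ha₀ x hx u₁ hu₁
  have hv₁g := eq_genericPoint_of_ofPt b₁ hb₁ y hy _ hv₁
  have hfa : ∀ u : ↥U₀.left,
      Points.map f.hom (Points.ofPt a₀ u) = Points.ofPt b₁ (g₁.left u) := by
    intro u
    rw [Points.map_ofPt, ← hl, ofPt_map_comp]
  have hg₁u₁ : g₁.left u₁ = genericPoint ↥(openOver V₀ V₁).left := by
    rw [← hv₁g]
    apply hb₁e.injective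
    rw [← hfa, hu₁, hfx, hv₁]
  haveI : IsDominant g₁.left := by
    constructor
    have hdense : Dense ({genericPoint ↥(openOver V₀ V₁).left} : Set ↥(openOver V₀ V₁).left) :=
      dense_iff_closure_eq.2 (genericPoint_spec ↥(openOver V₀ V₁).left).def
    refine hdense.mono ?_
    rintro _ rfl
    exact ⟨u₁, hg₁u₁⟩
  obtain ⟨hAB, hAC, -⟩ := Groth.Agent.S9702.result g₁.left
  have hCs : ∀ u : ↥U₀.left, g₁.left u = genericPoint ↥(openOver V₀ V₁).left →
      u = genericPoint ↥U₀.left := by
    intro u hu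
    rw [← hu₁g]
    apply ha₀e.injective
    rw [hu₁]
    apply hC
    rw [hfa, hu, ← hv₁g, hv₁]
  obtain ⟨Uo, Vo, hUV, hUa, hVa, hUne, hfin⟩ := hAB.1 (hAC.2 hCs)
  have hw : g₁.left.resLE Vo Uo hUV ≫ (openOver (openOver V₀ V₁) Vo).hom =
      (openOver U₀ Uo).hom := by
    show g₁.left.resLE Vo Uo hUV ≫ Vo.ι ≫ (openOver V₀ V₁).hom = Uo.ι ≫ U₀.hom
    rw [Scheme.Hom.resLE_comp_ι_assoc, Over.w g₁]
  refine ⟨openOver U₀ Uo, openOver (openOver V₀ V₁) Vo, (yon S).map (openι U₀ Uo) ≫ a₀,
    (yon S).map (openι (openOver V₀ V₁) Vo) ≫ b₁, Over.homMk (g₁.left.resLE Vo Uo hUV) hw,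
    hUa, hVa, hUne, ?_, ?_, ?_, hfin⟩
  · exact (RepWith @IsOpenImmersion).comp_mem _ _
      ((repWith_yon_map_iff @IsOpenImmersion (openι U₀ Uo)).2
        (inferInstanceAs (IsOpenImmersion (Scheme.Opens.ι Uo)))) ha₀
  · exact (RepWith @IsOpenImmersion).comp_mem _ _
      ((repWith_yon_map_iff @IsOpenImmersion (openι (openOver V₀ V₁) Vo)).2
        (inferInstanceAs (IsOpenImmersion (Scheme.Opens.ι Vo)))) hb₁
  · rw [Category.assoc, ← hl, ← Functor.map_comp_assoc, ← Functor.map_comp_assoc]
    congr 2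
    ext
    simp [Scheme.Hom.resLE_comp_ι]

end Groth.Agent.Lib.Helper37.GenFinSp
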