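import Groth.Agent.Lib.Helper37.GenFinSp
import Groth.Agent.Lib.Helper23.GenFin9
import Groth.Agent.Lib.Helper23.AlgSpProper2
import Groth.Agent.S10343

/-!
# Generic finiteness for integral algebraic spaces: finiteness of a full preimage (helper37)

`exists_finite_preimage` : (5) ⇒ (6) of the generic finiteness lemma for integral algebraic spaces: if
`f` is separated or quasi-compact and the generic point `x` is the only point over the generic point
`y`, then `f⁻¹(V) ⟶ V` is finite for some nonempty affine open `V ⊂ Y`.  Glue around helper23's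
`exists_opens_isFiniteMor_sep` / `exists_opens_isFiniteMor_qc`.
-/

set_option autoImplicit false
set_option linter.style.haveILetI false
set_option linter.unusedSectionVars false
universe u
open CategoryTheory CategoryTheory.Limits AlgebraicGeometry Topology TopologicalSpace
open AlgSp

namespace Groth.Agent.Lib.Helper37.GenFinSp

open Groth.Agent.Lib.Helper37.AlgSpPoints Groth.Agent.Lib.Helper37.AlgSpFibres
  Groth.Agent.Lib.Helper36.OpenSubspace Groth.Agent.Lib.Helper30.DecentOpenScheme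
  Groth.Agent.Lib.Helper36.DisjOpenGlue Groth.Agent.Lib.Helper23.GenFin
  Groth.Agent.Lib.Helper23.AlgSpMor Groth.Agent.Lib.Helper36.AlgSpHasAtMor
  Groth.Agent.Lib.Helper36.ResTrdeg Groth.Agent.Lib.Helper36.QuasiFiniteAt
  Groth.Agent.Lib.Helper30.LocPNbhd

variable {S : Scheme.{u}}

/-- **(5) ⇒ (6)**, over a given affine open chart `V` through the generic point. -/
theorem exists_finite_preimage_aux {X Y : Space S} (hXi : IsIntegralSp X.obj)
    (hYi : IsIntegralSp Y.obj)
    (f : X ⟶ Y) (hft : LocP @LocallyOfFiniteType f.hom) (hd : IsDominantMor f.hom)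
    (x : Points X.obj) (hx : IsGenericPoint x (Set.univ : Set (Points X.obj)))
    (y : Points Y.obj) (hy : IsGenericPoint y (Set.univ : Set (Points Y.obj)))
    (hsq : IsSeparatedMor f.hom ∨ IsQuasiCompactMor f.hom)
    (hC : ∀ x' : Points X.obj, Points.map f.hom x' = y → x' = x)
    (V : Over S) [IsAffine V.left] (b₁ : (yon S).obj V ⟶ Y.obj)
    (hb₁ : RepWith @IsOpenImmersion b₁) (v : ↥V.left) (hv₁ : Points.ofPt b₁ v = y) :
    ∃ (V : Over S) (b : (yon S).obj V ⟶ Y.obj) (U : Over S) (g : U ⟶ V)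
      (a : (yon S).obj U ⟶ X.obj),
      IsAffine V.left ∧ Nonempty ↥V.left ∧ RepWith @IsOpenImmersion b ∧
        IsPullback a ((yon S).map g) f.hom b ∧ IsAffine U.left ∧ IsFinite g.left := by
  have hfx : Points.map f.hom x = y :=
    Groth.Agent.S10486.map_generic_eq hYi.2.1 f hd x hx y hy
  have hXd : IsDecent X.obj := hXi.2.1
  haveI hVne : Nonempty ↥V.left := ⟨v⟩
  have hb₁e := Groth.Agent.S10435.isOpenEmbedding_ofPt b₁ hb₁
  have hb₁et := repWith_etale_of_isOpenImmersion hb₁
  haveI hVint : IsIntegral V.left := isIntegral_of_openImm hYi b₁ hb₁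
  have hvg : v = genericPoint ↥V.left := eq_genericPoint_of_ofPt b₁ hb₁ y hy v hv₁
  have hvmin : ∀ v' : ↥V.left, v' ⤳ v → v' = v := by
    intro v' hs
    have h2 : v ⤳ v' := by
      rw [hvg]
      exact genericPoint_specializes v'
    exact (hs.antisymm h2).eq
  -- the preimage `X₁ = f⁻¹(V)`
  have sq : IsPullback (pullback.fst f.hom b₁) (pullback.snd f.hom b₁) f.hom b₁ :=
    IsPullback.of_hasPullback _ _
  have hX₁ : IsAlgSpace (pullback f.hom b₁) :=
    isAlgSpace_of_isPullback X.property (IsAlgSpace.yon_obj V) Y.property.diag sq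
  have ha₁ : RepWith @IsOpenImmersion (pullback.fst f.hom b₁) :=
    (RepWith @IsOpenImmersion).of_isPullback sq.flip hb₁
  have ha₁et := repWith_etale_of_isOpenImmersion ha₁
  haveI := mono_of_isOpenImmersion ha₁
  have ha₁inj := points_map_injective_of_mono (pullback.fst f.hom b₁)
  have hweq : ∀ ⦃A : Over S⦄ (c : (yon S).obj A ⟶ pullback f.hom b₁) (g : A ⟶ V),
      c ≫ pullback.snd f.hom b₁ = (yon S).map g →
      (c ≫ pullback.fst f.hom b₁) ≫ f.hom = (yon S).map g ≫ b₁ := by
    intro A c g hcg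
    rw [Category.assoc, sq.w, ← Category.assoc, hcg]
  have hlft : ∀ ⦃A : Over S⦄ (c : (yon S).obj A ⟶ pullback f.hom b₁) (g : A ⟶ V),
      RepWith @Etale c → c ≫ pullback.snd f.hom b₁ = (yon S).map g →
      LocallyOfFiniteType g.left := by
    intro A c g hc hcg
    exact hft (c ≫ pullback.fst f.hom b₁) b₁ g ((RepWith @Etale).comp_mem _ _ hc ha₁et) hb₁et
      (hweq c g hcg)
  have hfa : ∀ ⦃A : Over S⦄ (c : (yon S).obj A ⟶ pullback f.hom b₁) (g : A ⟶ V),
      c ≫ pullback.snd f.hom b₁ = (yon S).map g → ∀ w' : ↥A.left,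
      Points.map f.hom (Points.ofPt (c ≫ pullback.fst f.hom b₁) w') =
        Points.ofPt b₁ (g.left w') := by
    intro A c g hcg w'
    rw [Points.map_ofPt, hweq c g hcg, ofPt_map_comp]
  have hkey : ∀ ⦃A : Over S⦄ (c : (yon S).obj A ⟶ pullback f.hom b₁) (g : A ⟶ V),
      c ≫ pullback.snd f.hom b₁ = (yon S).map g → ∀ a : ↥A.left, g.left a = v →
      Points.ofPt (c ≫ pullback.fst f.hom b₁) a = x := by
    intro A c g hcg a hga
    apply hC
    rw [hfa c g hcg, hga, hv₁]
  have hr := (Groth.Agent.S10486.result hXi hYi f hft hd x hx y hy).2 hC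
  have H := (hasAtMor_iff_forall_chart (isEtaleLocalGermMor_resTrdeg (· = 0)) f x).1 hr
  have hqf : ∀ ⦃A : Over S⦄ (c : (yon S).obj A ⟶ pullback f.hom b₁) (g : A ⟶ V),
      RepWith @Etale c → c ≫ pullback.snd f.hom b₁ = (yon S).map g →
      ∀ a : ↥A.left, g.left a = v → g.left.QuasiFiniteAt a := by
    intro A c g hc hcg a hga
    haveI := hlft c g hc hcg
    have hce : RepWith @Etale (c ≫ pullback.fst f.hom b₁) :=
      (RepWith @Etale).comp_mem _ _ hc ha₁et
    have hw : Points.ofPt (c ≫ pullback.fst f.hom b₁) a = x := hkey c g hcg a hga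
    have h0 : Dual3.resTrdeg g.left a = 0 :=
      H A V (c ≫ pullback.fst f.hom b₁) b₁ g a hce hb₁et (hweq c g hcg) hw
    rw [← fibreDimAt_eq_zero_iff_quasiFiniteAt, Groth.Agent.S10320.fibreDimAt_eq_add, h0]
    have hst : ringKrullDim ↥((g.left.fiber (g.left a)).presheaf.stalk (g.left.asFiber a)) = 0 := by
      apply Groth.Agent.S10455.ringKrullDim_stalk_eq_zero_of_maximal
      intro t ht
      have ht' := ht.map (g.left.fiberι (g.left a)).continuous
      rw [g.left.fiberι_asFiber a] at ht'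
      have hht : g.left (g.left.fiberι (g.left a) t) = g.left a :=
        (g.left.fiberHomeo (g.left a) t).2
      have hx' : Points.ofPt (c ≫ pullback.fst f.hom b₁) (g.left.fiberι (g.left a) t) = x := by
        apply hC
        rw [hfa c g hcg, hht, ← hfa c g hcg, hw, hfx]
      have := Groth.Agent.S10340.result X hXd (c ≫ pullback.fst f.hom b₁) hce a _
        (hw.trans hx'.symm) ht'
      apply (g.left.fiberι (g.left a)).isEmbedding.injective
      rw [← this, g.left.fiberι_asFiber a]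
    rw [hst]
    simp
  have hmin : ∀ ⦃A : Over S⦄ (c : (yon S).obj A ⟶ pullback f.hom b₁) (g : A ⟶ V),
      RepWith @Etale c → c ≫ pullback.snd f.hom b₁ = (yon S).map g →
      ∀ a : ↥A.left, g.left a ∈ (⊤ : V.left.Opens) →
        (∀ a' : ↥A.left, a' ⤳ a → a' = a) → g.left a = v := by
    intro A c g hc hcg a _ hamin
    have hce : RepWith @Etale (c ≫ pullback.fst f.hom b₁) :=
      (RepWith @Etale).comp_mem _ _ hc ha₁et
    have hsp : x ⤳ Points.ofPt (c ≫ pullback.fst f.hom b₁) a := by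
      rw [specializes_iff_mem_closure, hx.def]; trivial
    obtain ⟨a', ha'a, ha'x⟩ := Groth.Agent.S10343.result X _ x hsp (hXd x)
      (c ≫ pullback.fst f.hom b₁) hce a rfl
    have hEq := hamin a' ha'a
    subst hEq
    apply hb₁e.injective
    rw [hv₁, ← hfx, ← ha'x, hfa c g hcg]
  have hT : (Points.map (pullback.snd f.hom b₁) ⁻¹' {Points.ofScheme V v}).Finite := by
    apply Set.Subsingleton.finite
    intro p₁ hp₁ p₂ hp₂
    have hp : ∀ p : Points (pullback f.hom b₁),
        Points.map (pullback.snd f.hom b₁) p = Points.ofScheme V v →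
        Points.map (pullback.fst f.hom b₁) p = x := by
      intro p hp
      apply hC
      rw [← Points.map_comp, sq.w, Points.map_comp, hp, ← Points.ofPt_eq_map_ofScheme, hv₁]
    apply ha₁inj
    rw [hp p₁ hp₁, hp p₂ hp₂]
  obtain ⟨N, hvN, -, hfinN⟩ : ∃ N : V.left.Opens, v ∈ N ∧ N ≤ ⊤ ∧
      ∀ (P : Sp S) (fst' : P ⟶ pullback f.hom b₁) (snd' : P ⟶ (yon S).obj (openOver V N)),
        IsPullback fst' snd' (pullback.snd f.hom b₁) ((yon S).map (openι V N)) →
          IsFiniteMor snd' := by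
    rcases hsq with hsep | hqc
    · exact exists_opens_isFiniteMor_sep hX₁ (pullback.snd f.hom b₁)
        (Groth.Agent.Lib.Helper23.AlgSpMor.isSeparatedMor_of_isPullback sq hsep) hlft v hvmin hqf ⊤
        trivial hmin hT
    · exact exists_opens_isFiniteMor_qc hX₁ (pullback.snd f.hom b₁)
        (hqc (IsAlgSpace.yon_obj V) (isQuasiCompactSp_yon_of_isAffine V) b₁ _ _ sq) hlft v hvmin
        hqf ⊤ trivial hmin
  -- shrink to an affine open `N' ⊂ N`
  obtain ⟨_, ⟨N', hN', rfl⟩, hvN', hN'N⟩ :=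
    V.left.isBasis_affineOpens.exists_subset_of_mem_open hvN N.2
  have hN'le : N' ≤ N := hN'N
  -- the inclusion `N' ⟶ N` over `S`
  let ι' : openOver V N' ⟶ openOver V N :=
    Over.homMk (V.left.homOfLE hN'le) (by
      show V.left.homOfLE hN'le ≫ Scheme.Opens.ι N ≫ V.hom = Scheme.Opens.ι N' ≫ V.hom
      rw [Scheme.homOfLE_ι_assoc])
  have hι' : ι' ≫ openι V N = openι V N' := by
    ext
    exact Scheme.homOfLE_ι V.left hN'le
  have sqN : IsPullback (pullback.fst (pullback.snd f.hom b₁) ((yon S).map (openι V N)))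
      (pullback.snd (pullback.snd f.hom b₁) ((yon S).map (openι V N)))
      (pullback.snd f.hom b₁) ((yon S).map (openι V N)) := IsPullback.of_hasPullback _ _
  haveI : IsAffine (openOver V N').left := hN'
  have hfin := hfinN _ _ _ sqN
  obtain ⟨W, i, fst', sqW, hWaff, hifin⟩ := @hfin (openOver V N') hN' ((yon S).map ι')
  have big : IsPullback
      (fst' ≫ pullback.fst (pullback.snd f.hom b₁) ((yon S).map (openι V N)) ≫
        pullback.fst f.hom b₁) ((yon S).map i) f.hom ((yon S).map (openι V N') ≫ b₁) := by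
    have h1 := sqW.paste_horiz sqN
    rw [← Functor.map_comp, hι'] at h1
    have h2 := h1.paste_horiz sq
    simpa only [Category.assoc] using h2
  refine ⟨openOver V N', (yon S).map (openι V N') ≫ b₁, W, i, _, hN', ⟨⟨v, hvN'⟩⟩, ?_, big, hWaff,
    hifin⟩
  exact (RepWith @IsOpenImmersion).comp_mem _ _
    ((repWith_yon_map_iff @IsOpenImmersion (openι V N')).2
      (inferInstanceAs (IsOpenImmersion (Scheme.Opens.ι N')))) hb₁

/-- **(5) ⇒ (6)** for integral algebraic spaces. -/
theorem exists_finite_preimage {X Y : Space S} (hXi : IsIntegralSp X.obj) (hYi : IsIntegralSp Y.obj)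
    (f : X ⟶ Y) (hft : LocP @LocallyOfFiniteType f.hom) (hd : IsDominantMor f.hom)
    (x : Points X.obj) (hx : IsGenericPoint x (Set.univ : Set (Points X.obj)))
    (y : Points Y.obj) (hy : IsGenericPoint y (Set.univ : Set (Points Y.obj)))
    (hsq : IsSeparatedMor f.hom ∨ IsQuasiCompactMor f.hom)
    (hC : ∀ x' : Points X.obj, Points.map f.hom x' = y → x' = x) :
    ∃ (V : Over S) (b : (yon S).obj V ⟶ Y.obj) (U : Over S) (g : U ⟶ V)
      (a : (yon S).obj U ⟶ X.obj),
      IsAffine V.left ∧ Nonempty ↥V.left ∧ RepWith @IsOpenImmersion b ∧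
        IsPullback a ((yon S).map g) f.hom b ∧ IsAffine U.left ∧ IsFinite g.left := by
  obtain ⟨V₀, b₀, hb₀, -, hV₀ne⟩ :=
    exists_openImm_scheme_chart Y hYi.2.1 Set.univ isOpen_univ ⟨y, trivial⟩
  obtain ⟨v₀, hv₀⟩ := generic_mem_range b₀ hb₀ y hy
  obtain ⟨_, ⟨V₁, hV₁, rfl⟩, hv₀V₁, -⟩ :=
    V₀.left.isBasis_affineOpens.exists_subset_of_mem_open (Set.mem_univ v₀) isOpen_univ
  have hb₁ : RepWith @IsOpenImmersion ((yon S).map (openι V₀ V₁) ≫ b₀) :=
    (RepWith @IsOpenImmersion).comp_mem _ _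
      ((repWith_yon_map_iff @IsOpenImmersion (openι V₀ V₁)).2
        (inferInstanceAs (IsOpenImmersion (Scheme.Opens.ι V₁)))) hb₀
  have hv₁ : Points.ofPt ((yon S).map (openι V₀ V₁) ≫ b₀)
      (⟨v₀, hv₀V₁⟩ : ↥(openOver V₀ V₁).left) = y := by
    rw [ofPt_map_comp]
    exact hv₀
  haveI hVaff : IsAffine (openOver V₀ V₁).left := hV₁
  exact exists_finite_preimage_aux hXi hYi f hft hd x hx y hy hsq hC (openOver V₀ V₁) _ hb₁ _ hv₁

end Groth.Agent.Lib.Helper37.GenFinSp
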