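import Groth.Agent.Lib.Helper37.GenFinSp2
import Groth.Agent.S10487

/-!
# Generic finiteness for integral algebraic spaces: the converse directions (helper37)

* `nonempty_of_isPullback` : the preimage of a nonempty open chart of `Y` under a dominant morphism from an
  integral space is nonempty.
* `unique_of_isPullback_finite` : (6) ⇒ (5).
* `unique_of_finite_over_open` : finite over a nonempty open subspace ⇒ (5).
-/

set_option autoImplicit false
set_option linter.style.haveILetI false
set_option linter.unusedSectionVars false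
universe u
open CategoryTheory CategoryTheory.Limits AlgebraicGeometry Topology TopologicalSpace
open AlgSp

namespace Groth.Agent.Lib.Helper37.GenFinSp

open Groth.Agent.Lib.Helper37.AlgSpPoints Groth.Agent.Lib.Helper37.AlgSpFibres
  Groth.Agent.Lib.Helper36.OpenSubspace Groth.Agent.Lib.Helper30.DecentOpenScheme
  Groth.Agent.Lib.Helper36.DisjOpenGlue Groth.Agent.Lib.Helper23.GenFin
  Groth.Agent.Lib.Helper23.AlgSpMor Groth.Agent.Lib.Helper30.LocPNbhd

variable {S : Scheme.{u}}

/-- nonemptiness of the preimage of a nonempty open chart -/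
theorem nonempty_of_isPullback {X Y : Space S} (hYi : IsIntegralSp Y.obj) (f : X ⟶ Y)
    (hd : IsDominantMor f.hom)
    (x : Points X.obj) (hx : IsGenericPoint x (Set.univ : Set (Points X.obj)))
    (y : Points Y.obj) (hy : IsGenericPoint y (Set.univ : Set (Points Y.obj)))
    {U V : Over S} (a : (yon S).obj U ⟶ X.obj) (b : (yon S).obj V ⟶ Y.obj) (g : U ⟶ V)
    (hb : RepWith @IsOpenImmersion b) [Nonempty ↥V.left]
    (sq : IsPullback a ((yon S).map g) f.hom b) : Nonempty ↥U.left := by
  have hfx : Points.map f.hom x = y :=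
    Groth.Agent.S10486.map_generic_eq hYi.2.1 f hd x hx y hy
  obtain ⟨v, hv⟩ := generic_mem_range b hb y hy
  obtain ⟨p, -, -⟩ := points_exists_of_isPullback sq x (Points.ofScheme V v)
    (by rw [hfx, ← Points.ofPt_eq_map_ofScheme, hv])
  exact ⟨Points.toScheme U p⟩

/-- **(6) ⇒ (5)** -/
theorem unique_of_isPullback_finite {X Y : Space S} (hXi : IsIntegralSp X.obj)
    (hYi : IsIntegralSp Y.obj)
    (f : X ⟶ Y) (hft : LocP @LocallyOfFiniteType f.hom) (hd : IsDominantMor f.hom)
    (x : Points X.obj) (hx : IsGenericPoint x (Set.univ : Set (Points X.obj)))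
    (y : Points Y.obj) (hy : IsGenericPoint y (Set.univ : Set (Points Y.obj)))
    {U V : Over S} (a : (yon S).obj U ⟶ X.obj) (b : (yon S).obj V ⟶ Y.obj) (g : U ⟶ V)
    (hVa : IsAffine V.left) (hVne : Nonempty ↥V.left) (hb : RepWith @IsOpenImmersion b)
    (sq : IsPullback a ((yon S).map g) f.hom b) (hUa : IsAffine U.left) (hfin : IsFinite g.left) :
    ∀ x' : Points X.obj, Points.map f.hom x' = y → x' = x := by
  refine (Groth.Agent.S10487.result hXi hYi f hft hd x hx y hy).1 ?_
  have ha : RepWith @IsOpenImmersion a := (RepWith @IsOpenImmersion).of_isPullback sq.flip hb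
  exact ⟨U, V, a, b, g, hUa, hVa, nonempty_of_isPullback hYi f hd x hx y hy a b g hb sq, ha, hb,
    sq.w, hfin⟩

/-- finite over a nonempty open subspace ⇒ (5) -/
theorem unique_of_finite_over_open {X Y : Space S} (hXi : IsIntegralSp X.obj)
    (hYi : IsIntegralSp Y.obj)
    (f : X ⟶ Y) (hft : LocP @LocallyOfFiniteType f.hom) (hd : IsDominantMor f.hom)
    (x : Points X.obj) (hx : IsGenericPoint x (Set.univ : Set (Points X.obj)))
    (y : Points Y.obj) (hy : IsGenericPoint y (Set.univ : Set (Points Y.obj)))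
    (V : Space S) (j : V ⟶ Y) (hj : RepWith @IsOpenImmersion j.hom)
    (hVne : Nonempty (Points V.obj))
    (hfin : ∀ (P : Space S) (fst : P ⟶ V) (snd : P ⟶ X),
      IsPullback fst.hom snd.hom j.hom f.hom → IsFiniteMor fst.hom) :
    ∀ x' : Points X.obj, Points.map f.hom x' = y → x' = x := by
  have hje := repWith_etale_of_isOpenImmersion hj
  have hΩ : IsOpen (Set.range (Points.map j.hom)) :=
    (isOpenMap_points_of_repWith_etale _ hje).isOpen_range
  obtain ⟨V₀, b₀, hb₀, hb₀Ω, ⟨v₀⟩⟩ :=
    exists_openImm_scheme_chart Y hYi.2.1 _ hΩ (Set.range_nonempty _)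
  obtain ⟨_, ⟨V₁, hV₁, rfl⟩, hv₀V₁, -⟩ :=
    V₀.left.isBasis_affineOpens.exists_subset_of_mem_open (Set.mem_univ v₀) isOpen_univ
  have hb₁ : RepWith @IsOpenImmersion ((yon S).map (openι V₀ V₁) ≫ b₀) :=
    (RepWith @IsOpenImmersion).comp_mem _ _
      ((repWith_yon_map_iff @IsOpenImmersion (openι V₀ V₁)).2
        (inferInstanceAs (IsOpenImmersion (Scheme.Opens.ι V₁)))) hb₀
  have hrange : Set.range (Points.map ((yon S).map (openι V₀ V₁) ≫ b₀)) ⊆
      Set.range (Points.map j.hom) := by
    rw [range_map_eq_range_ofPt]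
    rintro _ ⟨u, rfl⟩
    rw [ofPt_map_comp]
    exact hb₀Ω ⟨_, rfl⟩
  obtain ⟨z, hz⟩ := exists_lift_of_openImm j.hom hj _ hrange
  have sqP : IsPullback (pullback.fst j.hom f.hom) (pullback.snd j.hom f.hom) j.hom f.hom :=
    IsPullback.of_hasPullback _ _
  have hP : IsAlgSpace (pullback j.hom f.hom) :=
    isAlgSpace_of_isPullback V.property X.property Y.property.diag sqP
  have hfinP : IsFiniteMor (pullback.fst j.hom f.hom) :=
    hfin ⟨pullback j.hom f.hom, hP⟩ (ObjectProperty.homMk (pullback.fst j.hom f.hom))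
      (ObjectProperty.homMk (pullback.snd j.hom f.hom)) sqP
  haveI : IsAffine (openOver V₀ V₁).left := hV₁
  obtain ⟨W, i, fst', sqW, hWaff, hifin⟩ := @hfinP (openOver V₀ V₁) hV₁ z
  have big : IsPullback (fst' ≫ pullback.snd j.hom f.hom) ((yon S).map i) f.hom
      ((yon S).map (openι V₀ V₁) ≫ b₀) := by
    have h1 := (sqW.flip.paste_vert sqP).flip
    rwa [hz] at h1
  haveI : Nonempty ↥(openOver V₀ V₁).left := ⟨⟨v₀, hv₀V₁⟩⟩
  exact unique_of_isPullback_finite hXi hYi f hft hd x hx y hy _ _ i hV₁ inferInstance hb₁ big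
    hWaff hifin

end Groth.Agent.Lib.Helper37.GenFinSp
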