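import Mathlib
import Groth.Agent.Lib.Helper37.ClosedPoint

/-!
# Sections of decent spaces over a field spectrum are closed immersions (helper37)

* `isClosed_singleton_ofPt_of_section`, `repWith_isClosedImmersion_of_section`: for a decent algebraic
  space `X` over `S` with a morphism `π : X ⟶ h_{Spec k}` (any `σ : Spec k ⟶ S`), every section of `π`
  is a closed immersion.
-/

set_option autoImplicit false
universe u
open CategoryTheory CategoryTheory.Limits AlgebraicGeometry
open AlgSp
open Groth.Agent.Lib.Helper36.AlgSpCharts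
open Groth.Agent.Lib.Helper37.AlgSpPoints Groth.Agent.Lib.Helper37.AlgSpFibres
open Groth.Agent.Lib.Helper37.ClosedPoint

namespace Groth.Agent.Lib.Helper37.SecClosed

variable {S : Scheme.{u}}

/-- The image of a section `h_{Spec k} ⟶ X` of a morphism `X ⟶ h_{Spec k}` from a decent space is a
closed point. -/
theorem isClosed_singleton_ofPt_of_section (X : AlgSp.Space S) (hX : AlgSp.IsDecent X.obj)
    (k : Type u) [Field k] (σ : Spec (CommRingCat.of k) ⟶ S)
    (π : X.obj ⟶ (yon S).obj (Over.mk σ)) (p : (yon S).obj (Over.mk σ) ⟶ X.obj)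
    (hp : p ≫ π = 𝟙 _) (t : ↥(Spec (CommRingCat.of k))) :
    IsClosed ({AlgSp.Points.ofPt p t} : Set (AlgSp.Points X.obj)) := by
  obtain ⟨W, c, hce, hcs⟩ := X.property.atlas
  rw [← (isQuotientMap_ofPt c hce hcs).isClosed_preimage]
  obtain ⟨m, hm1, hm2, hm3⟩ := hX (Points.ofPt p t)
  refine isClosed_of_locally_finite_closed_points _ (fun w hw => ?_) (fun W₀ hW₀ => ?_)
  · -- closed points
    obtain ⟨R, p1, p2, sq⟩ := exists_isPullback_yon p c hce.rep
    have hp1e : Etale p1.left := prop_fst_of_isPullback sq hce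
    obtain ⟨r, hr1, rfl⟩ := (ofPt_eq_ofPt_iff sq t w).1 (Eq.symm hw)
    obtain ⟨g, hg⟩ := (yon S).map_surjective (c ≫ π)
    have hpg : p2 ≫ g = p1 := by
      apply (yon S).map_injective
      rw [Functor.map_comp, hg, ← Category.assoc, ← sq.w, Category.assoc, hp, Category.comp_id]
    have hfin := (Groth.Agent.Lib.Helper37.ValuativeSep.finite_isSeparable_residueField_over_field
      (K := k) p1.left r).1
    set ψ := Spec.preimage (R.left.fromSpecResidueField r ≫ p1.left :
        Spec (R.left.residueField r) ⟶ Spec (.of k)) with hψ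
    have hψfin : IsFinite (Spec.map ψ) := by
      rw [IsFinite.SpecMap_iff]
      let _ := ψ.hom.toAlgebra
      have h2 := RingHom.finite_algebraMap.2 hfin
      rwa [RingHom.algebraMap_toAlgebra] at h2
    have hψ' : Spec.map ψ = R.left.fromSpecResidueField r ≫ p1.left := Spec.map_preimage _
    have huc1 : UniversallyClosed (R.left.fromSpecResidueField r ≫ p1.left) := by
      rw [← hψ']
      infer_instance
    have e2 : R.left.fromSpecResidueField r ≫ p1.left =
        Spec.map (p2.left.residueFieldMap r) ≫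
          (W.left.fromSpecResidueField (p2.left r) ≫ g.left) := by
      rw [← Category.assoc, Scheme.Hom.SpecMap_residueFieldMap_fromSpecResidueField, Category.assoc,
        ← hpg]
      rfl
    rw [e2] at huc1
    have hsurj : Surjective (Spec.map (p2.left.residueFieldMap r)) :=
      ⟨fun y => ⟨IsLocalRing.closedPoint _, Subsingleton.elim (α := PrimeSpectrum _) _ _⟩⟩
    have huc2 : UniversallyClosed (W.left.fromSpecResidueField (p2.left r) ≫ g.left) :=
      UniversallyClosed.of_comp_surjective (Spec.map (p2.left.residueFieldMap r)) _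
    exact isClosed_singleton_of_universallyClosed g.left (p2.left r)
  · -- finiteness
    have hc₀ := repWith_etale_restrict c hce W₀
    have hcpt : CompactSpace ↥(openOver W W₀).left := isCompact_iff_compactSpace.1 hW₀.isCompact
    have hfin := finite_fibre_of_qc_point m hm3 ((yon S).map (openι W W₀) ≫ c) hc₀
    refine (hfin.image Subtype.val).subset ?_
    rintro w ⟨hw, hwW₀⟩
    refine ⟨⟨w, hwW₀⟩, ?_, rfl⟩
    change Points.ofPt ((yon S).map (openι W W₀) ≫ c) _ ∈ ({Points.mk m} : Set _)
    rw [ofPt_restrict, hm1]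
    exact hw

/-- A section `h_{Spec k} ⟶ X` of a morphism `X ⟶ h_{Spec k}` from a decent algebraic space is a closed
immersion. -/
theorem repWith_isClosedImmersion_of_section (X : AlgSp.Space S) (hX : AlgSp.IsDecent X.obj)
    (k : Type u) [Field k] (σ : Spec (CommRingCat.of k) ⟶ S)
    (π : X.obj ⟶ (yon S).obj (Over.mk σ)) (p : (yon S).obj (Over.mk σ) ⟶ X.obj)
    (hp : p ≫ π = 𝟙 _) : RepWith @IsClosedImmersion p := by
  let t₀ : ↥(Spec (CommRingCat.of k)) := IsLocalRing.closedPoint k
  have hxcl := isClosed_singleton_ofPt_of_section X hX k σ π p hp t₀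
  obtain ⟨m, hm1, hm2, hm3⟩ := hX (Points.ofPt p t₀)
  have hmci := repWith_isClosedImmersion_of_mono_qc X hX m hm2 hm3 _ hm1 hxcl
  let P : FieldPt X.obj := ⟨k, σ, (J S).uliftYonedaEquiv p⟩
  have hP : P.toHom = p := Equiv.symm_apply_apply _ _
  have hPx : Points.mk P = Points.ofPt p t₀ := by
    rw [← Points.ofPt_toHom P t₀, hP]
  obtain ⟨c, hc⟩ := Groth.Agent.Lib.Helper37.AlgSpDecent.exists_factor_of_mono_fieldPt m P
    (hm1.trans hPx.symm) hm2 hm3.rep
  rw [hP] at hc
  have hpmono : Mono p := (SplitMono.mk π hp).mono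
  have hcm : Mono ((yon S).map c) := by
    rw [← hc] at hpmono
    exact mono_of_mono _ m.toHom
  have hcm' : Mono c := (yon S).mono_of_mono_map hcm
  have hcl : Mono c.left := inferInstance
  have hne : Nonempty ↥P.pt.left := ⟨t₀⟩
  have hiso : IsIso c.left :=
    Groth.Agent.Lib.Helper37.MonoField.isIso_of_mono_of_nonempty (K := m.K) c.left
  rw [← hc]
  exact (RepWith @IsClosedImmersion).comp_mem _ _
    ((repWith_yon_map_iff @IsClosedImmersion c).2 (inferInstance : IsClosedImmersion c.left)) hmci

end Groth.Agent.Lib.Helper37.SecClosed
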