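import Mathlib
import Groth.Agent.Lib.Helper37.SecClosed
import Groth.Agent.Lib.Helper5.GroupoidAlg

/-!
# Groupoids over a field spectrum with decent arrow space are separated (helper37)

* `isPullback_prodLift_diag`: `X ×_U X ⟶ X × X` is a base change of the diagonal of `V` for `U ⟶ V` mono.
* `delta`, `isPullback_diag_s`: the diagonal of `s : R ⟶ U` is a base change of the identity `e : U ⟶ R`.
* `isSeparatedSp_R_of_isDecent` (S10128).
-/

set_option autoImplicit false
universe u
open CategoryTheory CategoryTheory.Limits AlgebraicGeometry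
open AlgSp
open Groth.Agent.Lib.Helper5.GroupoidAlg

namespace Groth.Agent.Lib.Helper37.GpdSep

variable {S : Scheme.{u}}

section General
variable {C : Type*} [Category C] [HasPullbacks C] [HasBinaryProducts C]

/-- `X ×_U X ⟶ X × X` is a base change of the diagonal of `V`, for `s : X ⟶ U` and a
monomorphism `U ⟶ V`. -/
theorem isPullback_prodLift_diag {X U V : C} (s : X ⟶ U) (m : U ⟶ V) [Mono m] :
    IsPullback (pullback.fst s s ≫ s ≫ m) (prod.lift (pullback.fst s s) (pullback.snd s s))
      (Limits.diag V) (prod.map (s ≫ m) (s ≫ m)) := by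
  have w : (pullback.fst s s ≫ s ≫ m) ≫ Limits.diag V =
      prod.lift (pullback.fst s s) (pullback.snd s s) ≫ prod.map (s ≫ m) (s ≫ m) := by
    apply Limits.prod.hom_ext
    · simp only [Category.assoc, prod.map_fst, prod.lift_fst_assoc]
      rw [prod.lift_fst, Category.comp_id]
    · simp only [Category.assoc, prod.map_snd, prod.lift_snd_assoc]
      rw [prod.lift_snd, Category.comp_id, pullback.condition_assoc]
  have key : ∀ c : PullbackCone (Limits.diag V) (prod.map (s ≫ m) (s ≫ m)),
      c.fst = c.snd ≫ prod.fst ≫ s ≫ m ∧ c.fst = c.snd ≫ prod.snd ≫ s ≫ m := by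
    intro c
    have h1 := congrArg (· ≫ prod.fst) c.condition
    have h2 := congrArg (· ≫ prod.snd) c.condition
    simp only [Category.assoc, prod.map_fst, prod.map_snd] at h1 h2
    rw [prod.lift_fst, Category.comp_id] at h1
    rw [prod.lift_snd, Category.comp_id] at h2
    exact ⟨h1, h2⟩
  refine ⟨⟨w⟩, ⟨PullbackCone.IsLimit.mk _
    (fun c => pullback.lift (c.snd ≫ prod.fst) (c.snd ≫ prod.snd) ?_) ?_ ?_ ?_⟩⟩
  · obtain ⟨h1, h2⟩ := key c
    rw [← cancel_mono m]
    simp only [Category.assoc]
    rw [← h1, ← h2]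
  · intro c
    rw [pullback.lift_fst_assoc, Category.assoc, ← (key c).1]
  · intro c
    apply Limits.prod.hom_ext
    · rw [Category.assoc, prod.lift_fst, pullback.lift_fst]
    · rw [Category.assoc, prod.lift_snd, pullback.lift_snd]
  · intro c l _ hl
    apply pullback.hom_ext
    · rw [pullback.lift_fst, ← hl, Category.assoc, prod.lift_fst]
    · rw [pullback.lift_snd, ← hl, Category.assoc, prod.lift_snd]

end General

variable {B : Sp S} (G : GroupoidSp B)

/-- If `α ∘ β⁻¹` is an identity then `α = β`. -/
theorem eq_of_comp_inv_eq_e {T : Sp S} (α β : T ⟶ G.R) (hs : α ≫ G.s = β ≫ G.s) (a : T ⟶ G.U)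
    (h : a ≫ G.e = comp G α (β ≫ G.i) (by rw [Category.assoc, G.i_t]; exact hs)) : α = β := by
  have hβt : a = β ≫ G.t := by
    have h2 := congrArg (· ≫ G.s) h
    simp only [Category.assoc, G.e_s, Category.comp_id, comp_s, G.i_s] at h2
    exact h2
  have h3 := comp_inv_comp G α β hs
  rw [← h3]
  have h4 : comp G (comp G α (β ≫ G.i) (by rw [Category.assoc, G.i_t]; exact hs)) β
      (by rw [comp_s, Category.assoc, G.i_s]) =
      comp G (β ≫ G.t ≫ G.e) β (by rw [Category.assoc, Category.assoc, G.e_s, Category.comp_id]) :=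
    comp_congr G (by rw [← h, hβt, Category.assoc]) rfl _
  rw [h4]
  exact e_comp G β

/-- `(α, β) ↦ α ∘ β⁻¹` on pairs with the same source. -/
noncomputable def delta : pullback G.s G.s ⟶ G.R :=
  comp G (pullback.fst G.s G.s) (pullback.snd G.s G.s ≫ G.i)
    (by rw [Category.assoc, G.i_t]; exact pullback.condition)

theorem comp_delta {T : Sp S} (b : T ⟶ pullback G.s G.s) :
    b ≫ delta G = comp G (b ≫ pullback.fst G.s G.s) ((b ≫ pullback.snd G.s G.s) ≫ G.i)
      (by rw [Category.assoc, Category.assoc, Category.assoc, G.i_t, pullback.condition]) := by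
  unfold delta
  rw [precomp]
  exact comp_congr G rfl (by rw [Category.assoc]) _

/-- The diagonal of `s` is a base change of the identity section. -/
theorem isPullback_diag_s :
    IsPullback G.t (pullback.lift (𝟙 G.R) (𝟙 G.R) rfl : G.R ⟶ pullback G.s G.s) G.e (delta G) := by
  have w : G.t ≫ G.e = (pullback.lift (𝟙 G.R) (𝟙 G.R) rfl : G.R ⟶ pullback G.s G.s) ≫ delta G := by
    rw [comp_delta]
    refine Eq.symm ((comp_congr G (pullback.lift_fst _ _ _) ?_ _).trans
      ((comp_i G (𝟙 G.R)).trans (Category.id_comp _)))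
    rw [pullback.lift_snd]
  refine ⟨⟨w⟩, ⟨PullbackCone.IsLimit.mk _ (fun c => c.snd ≫ pullback.fst G.s G.s) ?_ ?_ ?_⟩⟩
  · intro c
    have h := c.condition
    rw [comp_delta] at h
    have h2 := congrArg (· ≫ G.t) h
    simp only [Category.assoc, G.e_t, Category.comp_id, comp_t] at h2
    rw [Category.assoc]
    exact h2.symm
  · intro c
    have h := c.condition
    rw [comp_delta] at h
    have hs : (c.snd ≫ pullback.fst G.s G.s) ≫ G.s = (c.snd ≫ pullback.snd G.s G.s) ≫ G.s := by
      rw [Category.assoc, Category.assoc, pullback.condition]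
    have key := eq_of_comp_inv_eq_e G _ _ hs c.fst h
    apply pullback.hom_ext
    · rw [Category.assoc, pullback.lift_fst, Category.comp_id]
    · rw [Category.assoc, pullback.lift_snd, Category.comp_id]
      exact key
  · intro c l _ hl
    rw [← hl, Category.assoc, pullback.lift_fst, Category.comp_id]

/-- S10128: a groupoid in algebraic spaces with `U` the spectrum of a field and `R` decent has `R`
separated. -/
theorem isSeparatedSp_R_of_isDecent (hR : AlgSp.IsAlgSpace G.R) (k : Type u) [Field k]
    (σ : Spec (CommRingCat.of k) ⟶ S) (eU : G.U ≅ (AlgSp.yon S).obj (Over.mk σ))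
    (hd : AlgSp.IsDecent G.R) : AlgSp.IsSeparatedSp G.R := by
  -- the identity section is a closed immersion
  have he' : RepWith @IsClosedImmersion (eU.inv ≫ G.e) :=
    Groth.Agent.Lib.Helper37.SecClosed.repWith_isClosedImmersion_of_section ⟨G.R, hR⟩ hd k σ
      (G.s ≫ eU.hom) (eU.inv ≫ G.e) (by
        rw [Category.assoc, ← Category.assoc G.e, G.e_s, Category.id_comp, Iso.inv_hom_id])
  have he : RepWith @IsClosedImmersion G.e :=
    ((RepWith (S := S) @IsClosedImmersion).cancel_left_of_respectsIso eU.inv G.e).1 he'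
  -- the diagonal of `s`
  have h1 : RepWith @IsClosedImmersion (pullback.lift (𝟙 G.R) (𝟙 G.R) rfl : G.R ⟶ pullback G.s G.s) :=
    MorphismProperty.of_isPullback (P := RepWith (S := S) @IsClosedImmersion) (isPullback_diag_s G) he
  -- the diagonal of `h_{Spec k}`
  have hsep : RepWith @IsClosedImmersion (Limits.diag ((yon S).obj (Over.mk σ))) := by
    rw [repWith_diag_yon_iff]
    have : IsSeparated (Over.mk σ).hom := by
      change IsSeparated σ
      infer_instance
    exact IsSeparated.isClosedImmersion_diagonal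
  have h2 : RepWith @IsClosedImmersion (prod.lift (pullback.fst G.s G.s) (pullback.snd G.s G.s)) :=
    MorphismProperty.of_isPullback (P := RepWith (S := S) @IsClosedImmersion)
      (isPullback_prodLift_diag G.s eU.hom) hsep
  have h3 : Limits.diag G.R = (pullback.lift (𝟙 G.R) (𝟙 G.R) rfl : G.R ⟶ pullback G.s G.s) ≫
      prod.lift (pullback.fst G.s G.s) (pullback.snd G.s G.s) := by
    apply Limits.prod.hom_ext
    · rw [Category.assoc, prod.lift_fst, prod.lift_fst, pullback.lift_fst]
    · rw [Category.assoc, prod.lift_snd, prod.lift_snd, pullback.lift_snd]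
  unfold IsSeparatedSp
  rw [h3]
  exact (RepWith @IsClosedImmersion).comp_mem _ _ h1 h2

end Groth.Agent.Lib.Helper37.GpdSep
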