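import Mathlib
import Groth.Agent.S10116
import Groth.Agent.Lib.Helper23.AlgSpQc2
import Groth.Agent.Lib.Helper37.ClosedPoint

/-!
# Decent group algebraic spaces over a field are separated (helper37)

* `isTerminalYonId`, `isSeparatedSp_of_isSeparatedMor_yonId`: separated over `h_S` means separated.
* `repWith_isClosedImmersion_of_rational_point`: an `S`-rational point of a decent space over a reduced
  one-point scheme `S` is a closed immersion.
* `isSeparatedSp_of_grpObj_of_isDecent` (S10127).
-/

set_option autoImplicit false
universe u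
open CategoryTheory CategoryTheory.Limits AlgebraicGeometry MonoidalCategory MonObj
open AlgSp

namespace Groth.Agent.Lib.Helper37.GrpSep

variable {S : Scheme.{u}}

/-- The sheaf of the identity of `S` is terminal. -/
noncomputable def isTerminalYonId (S : Scheme.{u}) : IsTerminal ((yon S).obj (Over.mk (𝟙 S))) := by
  have h1 : IsTerminal (Over.mk (𝟙 S)) := Over.mkIdTerminal
  exact IsTerminal.isTerminalObj (yon S) _ h1

/-- separatedness over the terminal-like sheaf `h_S`. -/
theorem isSeparatedSp_of_isSeparatedMor_yonId {X : Sp S} (f : X ⟶ (yon S).obj (Over.mk (𝟙 S)))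
    (hf : IsSeparatedMor f) : IsSeparatedSp X := by
  rw [Groth.Agent.Lib.Helper23.AlgSpMor.isSeparatedSp_iff_terminal]
  let e : (yon S).obj (Over.mk (𝟙 S)) ≅ ⊤_ (Sp S) :=
    (isTerminalYonId S).uniqueUpToIso terminalIsTerminal
  have h : terminal.from X = f ≫ e.hom := Subsingleton.elim _ _
  rw [h]
  exact ((RepWith (S := S) @IsClosedImmersion).diagonal.cancel_right_of_respectsIso f e.hom).2 hf

/-- A section-like point `h_S ⟶ X` of a decent algebraic space over a reduced one-point scheme `S`
(e.g. the spectrum of a field) is a closed immersion. -/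
theorem repWith_isClosedImmersion_of_rational_point (S : Scheme.{u}) [Subsingleton ↥S] [IsReduced S]
    (s : ↥S) (X : AlgSp.Space S) (hX : IsDecent X.obj)
    (p : (yon S).obj (Over.mk (𝟙 S)) ⟶ X.obj) :
    RepWith @IsClosedImmersion p := by
  have hs : IsClosed ({s} : Set ↥S) := by
    have : ({s} : Set ↥S) = Set.univ := by
      ext t; simp [Subsingleton.elim t s]
    rw [this]; exact isClosed_univ
  have hci : IsClosedImmersion (S.fromSpecResidueField s) :=
    isClosed_singleton_iff_isClosedImmersion.1 hs
  have hsurj : Surjective (S.fromSpecResidueField s) := by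
    refine ⟨fun t => ?_⟩
    obtain ⟨z⟩ : Nonempty ↥(Spec (S.residueField s)) := inferInstance
    exact ⟨z, Subsingleton.elim _ _⟩
  have hiso : IsIso (S.fromSpecResidueField s) := isIso_of_isClosedImmersion_of_surjective _
  let φ : S.residueField s ⟶ CommRingCat.of (S.residueField s) := 𝟙 _
  let e : Over.mk (Spec.map φ ≫ S.fromSpecResidueField s) ≅ Over.mk (𝟙 S) :=
    Over.isoMk (asIso (Spec.map φ ≫ S.fromSpecResidueField s)) (by simp)
  have hfin : φ.hom.Finite := RingHom.Finite.id _
  have hbij : Function.Bijective φ.hom := Function.bijective_id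
  have h1 := (Groth.Agent.Lib.Helper37.ClosedPoint.repWith_isFinite_of_finite_over_closed_point X hX s hs
    (S.residueField s) φ hfin ((yon S).map e.hom ≫ p)).2 hbij
  exact ((RepWith (S := S) @IsClosedImmersion).cancel_left_of_respectsIso ((yon S).map e.hom) p).1 h1

/-- S10127: a decent group algebraic space over a field is separated. -/
theorem isSeparatedSp_of_grpObj_of_isDecent (k : Type u) [Field k]
    (G : Over ((AlgSp.yon (Spec (CommRingCat.of k))).obj (Over.mk (𝟙 _)))) [GrpObj G]
    (hG : AlgSp.IsAlgSpace G.left) (hd : AlgSp.IsDecent G.left) : AlgSp.IsSeparatedSp G.left := by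
  have hsub : Subsingleton ↥(Spec (CommRingCat.of k)) := inferInstanceAs (Subsingleton (PrimeSpectrum k))
  have he : RepWith @IsClosedImmersion (η[G]).left :=
    repWith_isClosedImmersion_of_rational_point (Spec (CommRingCat.of k)) (IsLocalRing.closedPoint k)
      ⟨G.left, hG⟩ hd (η[G]).left
  have hsep : IsSeparatedMor G.hom :=
    (Groth.Agent.S10116.result _ _ (IsAlgSpace.yon_obj _) G hG).1.2 he
  exact isSeparatedSp_of_isSeparatedMor_yonId G.hom hsep

end Groth.Agent.Lib.Helper37.GrpSep
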