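import Mathlib
import Groth.Agent.Lib.Helper37.GUnivClosed
import Groth.Agent.Lib.Helper38.FieldN2

/-!
# Invariant functions of a `G`-universally closed scheme over `Spec A` form a finite `A`-module

* `fg_of_isIntegral`: for a domain `A'` of finite type over a field and a domain `D` of finite type
  over `A'` (with `A' → D` injective), any `A'`-submodule of (a subring of) `D` consisting of
  integral elements is finitely generated.  Proof: tensor with the fraction field, pass to the
  residue field at a maximal ideal (finite over `Frac A'` by Zariski's lemma), and use that `A'` is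
  N-2 (Helper38).
* `exists_finset_of_isIntegralElem`: the same with ring homs in place of instances.
* `gLift_of_isGUnivClosed'`, `isIntegralElem_of_invariant`: an invariant function `s` gives an
  invariant `Y → 𝔸¹_A`; its image is closed and proper (Helper37.GUnivClosed), hence finite over
  `Spec A`, so `s` is integral over `A` (for reduced `Y`).
* `exists_finset_invariant_sections`: the statement.
-/

set_option autoImplicit false
set_option linter.style.haveILetI false
universe u
open CategoryTheory CategoryTheory.Limits AlgebraicGeometry IsLocalRing TopologicalSpace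
open TensorProduct

namespace Groth.Agent.Lib.Helper37.InvFinite

open Groth.Agent.Lib.Helper37.GUnivClosed

/-- Let `A'` be a domain of finite type over a field, `D` a domain of finite type over `A'` with
`A' → D` injective, and `Γ` an `A'`-algebra embedded in `D`.  Any `A'`-submodule of `Γ` consisting
of elements integral over `A'` is finitely generated. -/
theorem fg_of_isIntegral (k A' Γ D : Type u) [Field k] [CommRing A'] [IsDomain A'] [Algebra k A']
    [Algebra.FiniteType k A'] [CommRing Γ] [Algebra A' Γ] [CommRing D] [IsDomain D] [Algebra A' D]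
    [Algebra.FiniteType A' D] (hinj : Function.Injective (algebraMap A' D))
    (res : Γ →ₐ[A'] D) (hres : Function.Injective res) (N : Submodule A' Γ)
    (hN : ∀ x ∈ N, IsIntegral A' x) : N.FG := by
  classical
  have hN2 : CAlg.IsN2 A' := Groth.Agent.Lib.Helper38.FieldN2.isN2_of_finiteType k A'
  haveI : IsNoetherianRing A' := Algebra.FiniteType.isNoetherianRing k A'
  let F := FractionRing A'
  let M := F ⊗[A'] D
  haveI : Nontrivial M :=
    (Algebra.TensorProduct.includeLeft_injective (S := A') (A := F) (B := D) hinj).nontrivial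
  obtain ⟨m, hm⟩ := Ideal.exists_maximal M
  haveI := hm
  letI : Field (M ⧸ m) := Ideal.Quotient.field m
  haveI : Algebra.FiniteType F (M ⧸ m) :=
    Algebra.FiniteType.of_surjective (Ideal.Quotient.mkₐ F m) (Ideal.Quotient.mkₐ_surjective F m)
  haveI : Module.Finite F (M ⧸ m) := finite_of_finite_type_of_isJacobsonRing F (M ⧸ m)
  have hfin : Module.Finite A' (integralClosure A' (M ⧸ m)) := hN2 (M ⧸ m) inferInstance
  let θ : Γ →ₐ[A'] (M ⧸ m) :=
    ((Ideal.Quotient.mkₐ A' m).comp (Algebra.TensorProduct.includeRight : D →ₐ[A'] M)).comp res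
  have hA'E : Function.Injective (algebraMap A' (M ⧸ m)) := by
    rw [IsScalarTower.algebraMap_eq A' F (M ⧸ m)]
    exact (algebraMap F (M ⧸ m)).injective.comp (IsFractionRing.injective A' F)
  let lam : N →ₗ[A'] integralClosure A' (M ⧸ m) :=
    { toFun := fun x => ⟨θ x.1, (hN x.1 x.2).map θ⟩
      map_add' := fun x y => by ext; simp
      map_smul' := fun a x => by ext; simp }
  have hlam : Function.Injective lam := by
    rw [← LinearMap.ker_eq_bot, LinearMap.ker_eq_bot']
    intro x hx
    have hx0 : θ x.1 = 0 := congrArg Subtype.val hx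
    by_contra hne
    have hx1 : res x.1 ≠ 0 := fun h => hne (Subtype.ext (hres (h.trans (map_zero res).symm)))
    have halg : IsAlgebraic A' (res x.1) := ((hN x.1 x.2).map res).isAlgebraic
    obtain ⟨r, hr, hdvd⟩ := halg.exists_nonzero_dvd (mem_nonZeroDivisors_of_ne_zero hx1)
    obtain ⟨d, hd⟩ := hdvd
    apply hr
    apply hA'E
    rw [map_zero]
    have h1 : (Ideal.Quotient.mkₐ A' m) ((Algebra.TensorProduct.includeRight : D →ₐ[A'] M)
        (algebraMap A' D r)) = 0 := by
      rw [hd, map_mul, map_mul]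
      have : (Ideal.Quotient.mkₐ A' m) ((Algebra.TensorProduct.includeRight : D →ₐ[A'] M)
          (res x.1)) = 0 := hx0
      rw [this, zero_mul]
    rw [AlgHom.commutes, AlgHom.commutes] at h1
    exact h1
  haveI : IsNoetherian A' (integralClosure A' (M ⧸ m)) := isNoetherian_of_isNoetherianRing_of_finite _ _
  have : Module.Finite A' N := Module.Finite.of_injective lam hlam
  exact Module.Finite.iff_fg.mp this

/-- Ring-hom form of `fg_of_isIntegral`. -/
theorem exists_finset_of_isIntegralElem (k A Γ D : Type u) [Field k] [CommRing A] [Algebra k A]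
    [Algebra.FiniteType k A] [CommRing Γ] [CommRing D] [IsDomain D] (ψ : A →+* Γ) (res : Γ →+* D)
    (hres : Function.Injective res) (hft : (res.comp ψ).FiniteType) (B : Subring Γ)
    (hψB : ∀ a, ψ a ∈ B) (hB : ∀ s ∈ B, ψ.IsIntegralElem s) :
    ∃ t : Finset Γ, (∀ x ∈ t, x ∈ B) ∧ ∀ s ∈ B, ∃ c : Γ → A, s = ∑ x ∈ t, ψ (c x) * x := by
  classical
  let I : Ideal A := RingHom.ker (res.comp ψ)
  haveI : I.IsPrime := RingHom.ker_isPrime (res.comp ψ)
  have hI : ∀ a ∈ I, ψ a = 0 := fun a ha => hres (by
    rw [map_zero]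
    exact ha)
  let ψ' : A ⧸ I →+* Γ := Ideal.Quotient.lift I ψ hI
  have hψ' : ∀ a, ψ' (Ideal.Quotient.mk I a) = ψ a := fun a => Ideal.Quotient.lift_mk I ψ hI
  letI : Algebra (A ⧸ I) Γ := ψ'.toAlgebra
  letI : Algebra (A ⧸ I) D := (res.comp ψ').toAlgebra
  let resA : Γ →ₐ[A ⧸ I] D := { res with commutes' := fun _ => rfl }
  have hinj : Function.Injective (algebraMap (A ⧸ I) D) := by
    rw [injective_iff_map_eq_zero]
    intro c hc
    obtain ⟨a, rfl⟩ := Ideal.Quotient.mk_surjective c
    rw [Ideal.Quotient.eq_zero_iff_mem]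
    change res (ψ' (Ideal.Quotient.mk I a)) = 0 at hc
    rw [hψ'] at hc
    exact hc
  haveI : Algebra.FiniteType (A ⧸ I) D := by
    rw [← RingHom.finiteType_algebraMap]
    have h1 : res.comp ψ = (algebraMap (A ⧸ I) D).comp (Ideal.Quotient.mk I) := by
      ext a
      change res (ψ a) = res (ψ' (Ideal.Quotient.mk I a))
      rw [hψ']
    rw [h1] at hft
    exact RingHom.FiniteType.of_comp_finiteType hft
  haveI : Algebra.FiniteType k (A ⧸ I) :=
    Algebra.FiniteType.of_surjective (Ideal.Quotient.mkₐ k I) (Ideal.Quotient.mkₐ_surjective k I)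
  let N : Submodule (A ⧸ I) Γ :=
    { carrier := B
      add_mem' := fun hx hy => B.add_mem hx hy
      zero_mem' := B.zero_mem
      smul_mem' := fun c x hx => by
        obtain ⟨a, rfl⟩ := Ideal.Quotient.mk_surjective c
        change ψ' (Ideal.Quotient.mk I a) * x ∈ B
        rw [hψ']
        exact B.mul_mem (hψB a) hx }
  have hN : ∀ x ∈ N, IsIntegral (A ⧸ I) x := by
    intro x hx
    obtain ⟨P, hPm, hP⟩ := hB x hx
    refine ⟨P.map (Ideal.Quotient.mk I), hPm.map _, ?_⟩
    rw [Polynomial.eval₂_map]
    have : (algebraMap (A ⧸ I) Γ).comp (Ideal.Quotient.mk I) = ψ := by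
      ext a
      exact hψ' a
    rw [this]
    exact hP
  obtain ⟨t, ht⟩ := fg_of_isIntegral k (A ⧸ I) Γ D hinj resA hres N hN
  refine ⟨t, fun x hx => ?_, fun s hs => ?_⟩
  · have : x ∈ N := by
      rw [← ht]
      exact Submodule.subset_span hx
    exact this
  · have hsN : s ∈ Submodule.span (A ⧸ I) (t : Set Γ) := by
      rw [ht]
      exact hs
    obtain ⟨f, -, hf⟩ := Submodule.mem_span_finset.mp hsN
    refine ⟨fun x => Classical.choose (Ideal.Quotient.mk_surjective (f x)), ?_⟩
    rw [← hf]
    refine Finset.sum_congr rfl (fun x _ => ?_)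
    have h1 := Classical.choose_spec (Ideal.Quotient.mk_surjective (f x))
    change f x • x = _
    rw [← hψ', h1]
    rfl

/-- Variant of `gLift_of_isGUnivClosed` with a scheme-level factorisation `p = f₀ ≫ q₀`. -/
theorem gLift_of_isGUnivClosed' {B : Scheme.{u}} {G R T : Over B} [GrpObj G]
    (a : AlgGrp.Action G R) (p : R ⟶ T) (hp : W4c2lssmoduli.IsGUnivClosed a p)
    {S₀ : Scheme.{u}} (f₀ : R.left ⟶ S₀) (q₀ : S₀ ⟶ T.left) (hfq : f₀ ≫ q₀ = p.left)
    (hinv : a.act.left ≫ f₀ = (CartesianMonoidalCategory.snd G R).left ≫ f₀) :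
    GLift f₀ q₀ := by
  intro L _ A hA x y hxy
  haveI := hA
  have hxR : x ≫ R.hom = Spec.map (CommRingCat.ofHom (algebraMap A L)) ≫ y ≫ T.hom := by
    rw [← Over.w p, ← hfq, ← Category.assoc, ← Category.assoc, Category.assoc x, hxy,
      Category.assoc]
    rfl
  obtain ⟨i, γ, hi, hγ⟩ := hp.2 A L (y ≫ T.hom) (Over.homMk x hxR) (Over.homMk y rfl) (by
    ext
    simp only [Over.comp_left, Over.homMk_left]
    rw [← hfq]
    exact hxy)
  refine ⟨i.left, ?_, ?_⟩
  · have := congrArg CommaMorphism.left hi
    rw [hfq]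
    simpa using this
  · have h1 := congrArg CommaMorphism.left hγ
    simp only [Over.comp_left, Over.homMk_left] at h1
    have h2 : (CartesianMonoidalCategory.lift γ (Over.homMk x hxR)).left ≫
        (CartesianMonoidalCategory.snd G R).left = x := by
      rw [← Over.comp_left, CartesianMonoidalCategory.lift_snd]
      rfl
    calc Spec.map (CommRingCat.ofHom A.subtype) ≫ i.left ≫ f₀
        = (Spec.map (CommRingCat.ofHom (algebraMap A L)) ≫ i.left) ≫ f₀ := by
          rw [Category.assoc]; rfl
      _ = x ≫ f₀ := by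
          rw [h1, Category.assoc, hinv, ← Category.assoc, h2]

/-- A global function on a reduced scheme vanishes as soon as it is the pullback of a function
vanishing on a closed subscheme containing the image. -/
theorem appTop_eq_zero_of_range_subset {Y S Z : Scheme.{u}} [IsReduced Y] (f : Y ⟶ S) (ι : Z ⟶ S)
    (hrange : Set.range f.base ⊆ Set.range ι.base) (g : Γ(S, ⊤)) (hg : ι.appTop g = 0) :
    f.appTop g = 0 := by
  rw [← basicOpen_eq_bot_iff, ← Scheme.preimage_basicOpen_top]
  ext y
  simp only [TopologicalSpace.Opens.coe_bot, Set.mem_empty_iff_false, iff_false]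
  intro hy
  obtain ⟨z, hz⟩ := hrange ⟨y, rfl⟩
  have hz' : z ∈ ι ⁻¹ᵁ S.basicOpen g := by
    change ι.base z ∈ S.basicOpen g
    rw [hz]
    exact hy
  rw [Scheme.preimage_basicOpen_top, hg, Scheme.basicOpen_zero] at hz'
  exact hz'

/-- An invariant global function on a reduced `G`-universally closed `Y` over `Spec A` is integral
over `A`. -/
theorem isIntegralElem_of_invariant (k : Type u) [Field k]
    (G Y : Over (Spec (CommRingCat.of k))) [GrpObj G]
    [LocallyOfFiniteType Y.hom] [CompactSpace ↥Y.left] [IsReduced Y.left]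
    (A : Type u) [CommRing A] [Algebra k A] [Algebra.FiniteType k A]
    (a : AlgGrp.Action G Y)
    (p : Y ⟶ Over.mk (Spec.map (CommRingCat.ofHom (algebraMap k A))))
    (hp : W4c2lssmoduli.IsGUnivClosed a p) (s : ↑Γ(Y.left, ⊤))
    (hs : a.act.left.appTop s = (CartesianMonoidalCategory.snd G Y).left.appTop s) :
    ((Scheme.ΓSpecIso (CommRingCat.of A)).inv ≫ p.left.appTop).hom.IsIntegralElem s := by
  classical
  let ψc : CommRingCat.of A ⟶ Γ(Y.left, ⊤) := (Scheme.ΓSpecIso (CommRingCat.of A)).inv ≫ p.left.appTop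
  let φ : Polynomial A →+* Γ(Y.left, ⊤) := Polynomial.eval₂RingHom ψc.hom s
  let f₀ : Y.left ⟶ Spec (CommRingCat.of (Polynomial A)) :=
    Y.left.toSpecΓ ≫ Spec.map (CommRingCat.ofHom φ)
  let q₀ : Spec (CommRingCat.of (Polynomial A)) ⟶ Spec (CommRingCat.of A) :=
    Spec.map (CommRingCat.ofHom (algebraMap A (Polynomial A)))
  have hp_left : p.left = Y.left.toSpecΓ ≫ Spec.map ψc := by
    change p.left = Y.left.toSpecΓ ≫ Spec.map ((Scheme.ΓSpecIso (CommRingCat.of A)).inv ≫ p.left.appTop)
    rw [Spec.map_comp, ← Category.assoc, ← Scheme.toSpecΓ_naturality, Category.assoc]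
    erw [toSpecΓ_SpecMap_ΓSpecIso_inv]
    exact (Category.comp_id _).symm
  have hfq : f₀ ≫ q₀ = p.left := by
    rw [hp_left, Category.assoc, ← Spec.map_comp]
    congr 2
    ext x
    simp [φ]
  have hinv : a.act.left ≫ f₀ = (CartesianMonoidalCategory.snd G Y).left ≫ f₀ := by
    have hpinv : a.act.left ≫ p.left = (CartesianMonoidalCategory.snd G Y).left ≫ p.left := by
      rw [← Over.comp_left, ← Over.comp_left, hp.1]
    change a.act.left ≫ Y.left.toSpecΓ ≫ Spec.map (CommRingCat.ofHom φ) =
      (CartesianMonoidalCategory.snd G Y).left ≫ Y.left.toSpecΓ ≫ Spec.map (CommRingCat.ofHom φ)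
    rw [← Category.assoc, ← Category.assoc, Scheme.toSpecΓ_naturality, Scheme.toSpecΓ_naturality,
      Category.assoc, Category.assoc, ← Spec.map_comp, ← Spec.map_comp]
    congr 2
    refine CommRingCat.hom_ext (Polynomial.ringHom_ext (fun c => ?_) ?_)
    · have h1 : φ (Polynomial.C c) = ψc.hom c := by simp [φ]
      simp only [CommRingCat.hom_comp, CommRingCat.hom_ofHom, RingHom.coe_comp, Function.comp_apply]
      rw [h1]
      change (p.left.appTop ≫ a.act.left.appTop).hom _ =
        (p.left.appTop ≫ (CartesianMonoidalCategory.snd G Y).left.appTop).hom _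
      rw [← Scheme.Hom.comp_appTop, ← Scheme.Hom.comp_appTop, hpinv]
    · have h1 : φ Polynomial.X = s := by simp [φ]
      simp only [CommRingCat.hom_comp, CommRingCat.hom_ofHom, RingHom.coe_comp, Function.comp_apply]
      rw [h1]
      exact hs
  -- finiteness hypotheses
  haveI : IsNoetherianRing A := Algebra.FiniteType.isNoetherianRing k A
  haveI : IsLocallyNoetherian Y.left := LocallyOfFiniteType.isLocallyNoetherian Y.hom
  haveI : IsNoetherian Y.left := {}
  haveI : LocallyOfFiniteType (p.left ≫ (Over.mk (Spec.map (CommRingCat.ofHom (algebraMap k A)))).hom) := by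
    rw [Over.w p]
    infer_instance
  haveI : LocallyOfFiniteType p.left := locallyOfFiniteType_of_comp p.left
    (Over.mk (Spec.map (CommRingCat.ofHom (algebraMap k A)))).hom
  haveI : LocallyOfFiniteType (f₀ ≫ q₀) := by
    rw [hfq]
    infer_instance
  haveI : LocallyOfFiniteType f₀ := locallyOfFiniteType_of_comp f₀ q₀
  haveI : LocallyOfFiniteType q₀ := by
    rw [HasRingHomProperty.Spec_iff (P := @LocallyOfFiniteType)]
    exact RingHom.finiteType_algebraMap.mpr inferInstance
  obtain ⟨hcl, hproper⟩ := isClosed_range_and_isProper_of_gLift f₀ q₀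
    (gLift_of_isGUnivClosed' a p hp f₀ q₀ hfq hinv)
  -- the closed subscheme `Z` and its finiteness over `Spec A`
  let I : (Spec (CommRingCat.of (Polynomial A))).IdealSheafData :=
    Scheme.IdealSheafData.vanishingIdeal
      (⟨closure (Set.range f₀.base), isClosed_closure⟩ :
        TopologicalSpace.Closeds ↥(Spec (CommRingCat.of (Polynomial A))))
  have hrange : Set.range f₀.base ⊆ Set.range I.subschemeι.base := by
    rw [Scheme.IdealSheafData.range_subschemeι, Scheme.IdealSheafData.coe_support_vanishingIdeal]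
    simp only [TopologicalSpace.Closeds.coe_mk]
    exact subset_closure
  haveI : IsProper (I.subschemeι ≫ q₀) := hproper
  haveI : IsAffine I.subscheme := isAffine_of_isAffineHom I.subschemeι
  haveI : IsAffineHom (I.subschemeι ≫ q₀) := inferInstance
  have hfinite : IsFinite (I.subschemeι ≫ q₀) :=
    IsFinite.iff_isProper_and_isAffineHom.mpr ⟨inferInstance, inferInstance⟩
  have hfin : (I.subschemeι ≫ q₀).appTop.hom.Finite :=
    ((HasAffineProperty.iff_of_isAffine (P := @IsFinite)).mp hfinite).2
  have hint : (I.subschemeι ≫ q₀).appTop.hom.IsIntegral := hfin.to_isIntegral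
  let xS : Γ(Spec (CommRingCat.of (Polynomial A)), ⊤) :=
    (Scheme.ΓSpecIso (CommRingCat.of (Polynomial A))).inv.hom Polynomial.X
  obtain ⟨P, hPm, hP⟩ := hint (I.subschemeι.appTop.hom xS)
  let g : Γ(Spec (CommRingCat.of (Polynomial A)), ⊤) := Polynomial.eval₂ q₀.appTop.hom xS P
  have hg : I.subschemeι.appTop.hom g = 0 := by
    rw [Polynomial.hom_eval₂]
    rw [Scheme.Hom.comp_appTop] at hP
    exact hP
  have hfg : f₀.appTop.hom g = 0 :=
    appTop_eq_zero_of_range_subset f₀ I.subschemeι hrange g hg
  have hxS : f₀.appTop.hom xS = s := by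
    have h1 : f₀.appTop = (Spec.map (CommRingCat.ofHom φ)).appTop ≫ Y.left.toSpecΓ.appTop :=
      Scheme.Hom.comp_appTop _ _
    have h2 : (Scheme.ΓSpecIso (CommRingCat.of (Polynomial A))).inv ≫
        (Spec.map (CommRingCat.ofHom φ)).appTop ≫ Y.left.toSpecΓ.appTop = CommRingCat.ofHom φ := by
      rw [Scheme.toSpecΓ_appTop, ← Category.assoc, ← Scheme.ΓSpecIso_inv_naturality, Category.assoc]
      erw [Iso.inv_hom_id]
      exact Category.comp_id _
    have h3 := congrArg (fun m => m.hom Polynomial.X) h2
    simp only [CommRingCat.hom_comp, CommRingCat.hom_ofHom, RingHom.coe_comp,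
      Function.comp_apply] at h3
    rw [h1]
    simp only [CommRingCat.hom_comp, RingHom.coe_comp, Function.comp_apply]
    rw [h3]
    simp [φ]
  have hcomp : f₀.appTop.hom.comp q₀.appTop.hom = p.left.appTop.hom := by
    rw [← CommRingCat.hom_comp, ← Scheme.Hom.comp_appTop, hfq]
  rw [Polynomial.hom_eval₂, hxS, hcomp] at hfg
  refine ⟨P.map (Scheme.ΓSpecIso (CommRingCat.of A)).hom.hom, hPm.map _, ?_⟩
  rw [Polynomial.eval₂_map]
  have h2 : ((Scheme.ΓSpecIso (CommRingCat.of A)).inv ≫ p.left.appTop).hom.comp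
      (Scheme.ΓSpecIso (CommRingCat.of A)).hom.hom = p.left.appTop.hom := by
    rw [← CommRingCat.hom_comp, Iso.hom_inv_id_assoc]
  rw [h2]
  exact hfg

/-- The invariant global functions form a finite `A`-module. -/
theorem exists_finset_invariant_sections (k : Type u) [Field k]
    (G Y : Over (Spec (CommRingCat.of k))) [GrpObj G]
    [LocallyOfFiniteType Y.hom] [CompactSpace ↥Y.left] [IsIntegral Y.left]
    (A : Type u) [CommRing A] [Algebra k A] [Algebra.FiniteType k A]
    (a : AlgGrp.Action G Y)
    (p : Y ⟶ Over.mk (Spec.map (CommRingCat.ofHom (algebraMap k A))))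
    (hp : W4c2lssmoduli.IsGUnivClosed a p) :
    ∃ t : Finset ↑Γ(Y.left, ⊤),
      (∀ s ∈ t, a.act.left.appTop s = (CartesianMonoidalCategory.snd G Y).left.appTop s) ∧
      ∀ s : ↑Γ(Y.left, ⊤), a.act.left.appTop s = (CartesianMonoidalCategory.snd G Y).left.appTop s →
        ∃ c : ↑Γ(Y.left, ⊤) → A,
          s = ∑ x ∈ t, ((Scheme.ΓSpecIso (CommRingCat.of A)).inv ≫ p.left.appTop) (c x) * x := by
  classical
  let ψ : A →+* Γ(Y.left, ⊤) := ((Scheme.ΓSpecIso (CommRingCat.of A)).inv ≫ p.left.appTop).hom
  -- a nonempty affine open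
  obtain ⟨y⟩ : Nonempty Y.left := inferInstance
  obtain ⟨U, hU, hyU, -⟩ := exists_isAffineOpen_mem_and_subset
    (show y ∈ (⊤ : Y.left.Opens) from trivial)
  haveI : Nonempty U := ⟨⟨y, hyU⟩⟩
  let res : Γ(Y.left, ⊤) →+* Γ(Y.left, U) := (Y.left.presheaf.map (homOfLE le_top).op).hom
  have hres : Function.Injective res := map_injective_of_isIntegral (X := Y.left) (homOfLE le_top)
  -- finite type
  haveI : LocallyOfFiniteType (p.left ≫ (Over.mk (Spec.map (CommRingCat.ofHom (algebraMap k A)))).hom) := by
    rw [Over.w p]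
    infer_instance
  haveI : LocallyOfFiniteType p.left := locallyOfFiniteType_of_comp p.left
    (Over.mk (Spec.map (CommRingCat.ofHom (algebraMap k A)))).hom
  have hft : (res.comp ψ).FiniteType := by
    have h1 : (p.left.appLE ⊤ U (by simp)).hom.FiniteType :=
      p.left.finiteType_appLE (isAffineOpen_top (Spec (CommRingCat.of A))) hU _
    have h2 : res.comp ψ = (p.left.appLE ⊤ U (by simp)).hom.comp
        (Scheme.ΓSpecIso (CommRingCat.of A)).inv.hom := by
      rw [Scheme.Hom.appLE]
      rfl
    rw [h2]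
    refine h1.comp (RingHom.FiniteType.of_surjective _ ?_)
    exact (ConcreteCategory.bijective_of_isIso (Scheme.ΓSpecIso (CommRingCat.of A)).inv).2
  -- the ring of invariants
  let B : Subring Γ(Y.left, ⊤) :=
    RingHom.eqLocus a.act.left.appTop.hom (CartesianMonoidalCategory.snd G Y).left.appTop.hom
  have hpinv : a.act.left ≫ p.left = (CartesianMonoidalCategory.snd G Y).left ≫ p.left := by
    rw [← Over.comp_left, ← Over.comp_left, hp.1]
  have hψB : ∀ c, ψ c ∈ B := by
    intro c
    change (p.left.appTop ≫ a.act.left.appTop).hom _ =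
      (p.left.appTop ≫ (CartesianMonoidalCategory.snd G Y).left.appTop).hom _
    rw [← Scheme.Hom.comp_appTop, ← Scheme.Hom.comp_appTop, hpinv]
  have hB : ∀ s ∈ B, ψ.IsIntegralElem s := fun s hs =>
    isIntegralElem_of_invariant k G Y A a p hp s hs
  obtain ⟨t, ht1, ht2⟩ := exists_finset_of_isIntegralElem k A Γ(Y.left, ⊤) Γ(Y.left, U) ψ res hres hft
    B hψB hB
  exact ⟨t, fun s hs => ht1 s hs, fun s hs => ht2 s hs⟩

end Groth.Agent.Lib.Helper37.InvFinite
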