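import Mathlib

/-!
# A groupoid-type closure argument for schemes (helper37, towards S10378)

`isClosed_range_of_groupoid`: let `U ⟶ S` be separated, `L` a field over `S`, and `F ⟶ U ×_S Spec L` a
morphism with locally closed image.  Assume there is a subset `J ⊆ U ×_S U` containing the image of
`F ×_L F ⟶ U ×_S U` and such that `J` coincides with the diagonal on an open neighbourhood of the diagonal.
Then the image of `F` is closed.  (Applied with `F = U ×_X Spec L`, `J` = image of `U ×_X U` for a locally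
separated algebraic space `X` and an étale chart `U ⟶ X`.)
-/

set_option autoImplicit false
universe u
open CategoryTheory CategoryTheory.Limits AlgebraicGeometry Opposite

namespace Groth.Agent.Lib.Helper37.LocSep

theorem eq_section_apply_of_mono {E M : Scheme.{u}} (m : E ⟶ M) [Mono m] (σ : M ⟶ E)
    (hσ : σ ≫ m = 𝟙 M) (e : ↥E) : e = σ (m e) := by
  have h : m ≫ σ = 𝟙 E := by
    rw [← cancel_mono m, Category.assoc, hσ, Category.comp_id, Category.id_comp]
  have := congrArg (fun φ : E ⟶ E => φ e) h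
  simpa using this.symm

/-- Scheme-level closure argument. -/
theorem isClosed_range_of_groupoid {S U F : Scheme.{u}} {L : Type u} [Field L]
    (hU : U ⟶ S) [IsSeparated hU] (ℓ : Spec (CommRingCat.of L) ⟶ S)
    (πU : F ⟶ U) (πL : F ⟶ Spec (CommRingCat.of L)) (hπ : πU ≫ hU = πL ≫ ℓ)
    (hι : IsLocallyClosed (Set.range (pullback.lift πU πL hπ : F ⟶ pullback hU ℓ)))
    (J : Set ↥(pullback hU hU)) (O' : (pullback hU hU).Opens)
    (hΔO : Set.range (pullback.diagonal hU) ⊆ (O' : Set ↥(pullback hU hU)))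
    (hJO : J ∩ (O' : Set ↥(pullback hU hU)) ⊆ Set.range (pullback.diagonal hU))
    (hcomp : ∀ w : ↥(pullback πL πL),
      (pullback.lift (pullback.fst πL πL ≫ πU) (pullback.snd πL πL ≫ πU)
        (by rw [Category.assoc, Category.assoc, hπ, ← Category.assoc, ← Category.assoc,
          pullback.condition]) : pullback πL πL ⟶ pullback hU hU) w ∈ J) :
    IsClosed (Set.range (pullback.lift πU πL hπ : F ⟶ pullback hU ℓ)) := by
  set UL := pullback hU ℓ with hUL
  set ι : F ⟶ UL := pullback.lift πU πL hπ with hιdef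
  let Cl : TopologicalSpace.Closeds ↥UL := ⟨closure (Set.range ι), isClosed_closure⟩
  let I := Scheme.IdealSheafData.vanishingIdeal Cl
  let C : Scheme := I.subscheme
  let iC : C ⟶ UL := I.subschemeι
  have hrange : Set.range iC = closure (Set.range ι) := by
    rw [Scheme.IdealSheafData.range_subschemeι, Scheme.IdealSheafData.coe_support_vanishingIdeal]
    rfl
  suffices hsub : ∀ q : ↥C, iC q ∈ Set.range ι by
    have : closure (Set.range ι) ⊆ Set.range ι := by
      rw [← hrange]; rintro _ ⟨q, rfl⟩; exact hsub q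
    exact closure_subset_iff_isClosed.1 this
  -- the dense open subset V of C
  have hιC : Set.range ι ⊆ Set.range iC := by rw [hrange]; exact subset_closure
  obtain ⟨O, Z, hO, hZ, hOZ⟩ := hι
  have hCZ : Set.range iC ⊆ Z := by
    rw [hrange]
    exact closure_minimal (hOZ ▸ Set.inter_subset_right) hZ
  set V : Set ↥C := iC ⁻¹' (Set.range ι) with hVdef
  have hVopen : IsOpen V := by
    have : V = iC ⁻¹' O := by
      ext c
      simp only [hVdef, Set.mem_preimage]
      rw [hOZ]
      exact ⟨fun h => h.1, fun h => ⟨h, hCZ ⟨c, rfl⟩⟩⟩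
    rw [this]
    exact hO.preimage iC.continuous
  have hVdense : Dense V := by
    have hemb : Topology.IsInducing iC := iC.isEmbedding.isInducing
    intro c
    rw [hemb.closure_eq_preimage_closure_image]
    have : iC '' V = Set.range ι := by
      rw [hVdef, Set.image_preimage_eq_inter_range, Set.inter_eq_left]
      exact hιC
    rw [this, ← hrange]
    exact ⟨c, rfl⟩
  intro q
  -- maps out of C
  obtain ⟨toL, htoL⟩ : ∃ a : C ⟶ Spec (CommRingCat.of L), a = iC ≫ pullback.snd hU ℓ := ⟨_, rfl⟩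
  obtain ⟨aU, haU⟩ : ∃ a : C ⟶ U, a = iC ≫ pullback.fst hU ℓ := ⟨_, rfl⟩
  have haUL : aU ≫ hU = toL ≫ ℓ := by
    rw [haU, htoL, Category.assoc, Category.assoc, pullback.condition]
  have huo : UniversallyOpen toL := inferInstance
  have hpr1o : IsOpenMap (pullback.fst toL toL) := (pullback.fst toL toL).isOpenMap
  have hpr2o : IsOpenMap (pullback.snd toL toL) := (pullback.snd toL toL).isOpenMap
  have hTCcond : pullback.fst toL toL ≫ toL = pullback.snd toL toL ≫ toL := pullback.condition
  obtain ⟨pr1, hpr1⟩ : ∃ a : pullback toL toL ⟶ C, a = pullback.fst toL toL := ⟨_, rfl⟩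
  obtain ⟨pr2, hpr2⟩ : ∃ a : pullback toL toL ⟶ C, a = pullback.snd toL toL := ⟨_, rfl⟩
  rw [← hpr1] at hpr1o hTCcond
  rw [← hpr2] at hpr2o hTCcond
  have hμcond : (pr1 ≫ aU) ≫ hU = (pr2 ≫ aU) ≫ hU := by
    rw [Category.assoc, Category.assoc, haUL, ← Category.assoc, ← Category.assoc, hTCcond]
  obtain ⟨μ, hμ⟩ : ∃ a : pullback toL toL ⟶ pullback hU hU,
    a = pullback.lift (pr1 ≫ aU) (pr2 ≫ aU) hμcond := ⟨_, rfl⟩
  have hμ1 : μ ≫ pullback.fst hU hU = pr1 ≫ aU := by rw [hμ, pullback.lift_fst]
  have hμ2 : μ ≫ pullback.snd hU hU = pr2 ≫ aU := by rw [hμ, pullback.lift_snd]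
  -- the dense open Y°
  set Y0 : Set ↥(pullback toL toL) := pr1 ⁻¹' V ∩ pr2 ⁻¹' V with hY0
  have hY0dense : Dense Y0 :=
    (hVdense.preimage hpr1o).inter_of_isOpen_left (hVdense.preimage hpr2o)
      (hVopen.preimage pr1.continuous)
  -- Claim 1: μ maps Y0 into J
  have hιsnd : ι ≫ pullback.snd hU ℓ = πL := by rw [hιdef, pullback.lift_snd]
  have hιfst : ι ≫ pullback.fst hU ℓ = πU := by rw [hιdef, pullback.lift_fst]
  have hclaim1 : ∀ y ∈ Y0, μ y ∈ J := by
    intro y hy
    let κ : pullback toL toL ⟶ pullback (pullback.snd hU ℓ) (pullback.snd hU ℓ) :=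
      pullback.map toL toL (pullback.snd hU ℓ) (pullback.snd hU ℓ) iC iC (𝟙 _)
        (by rw [htoL, Category.comp_id]) (by rw [htoL, Category.comp_id])
    let ιι : pullback πL πL ⟶ pullback (pullback.snd hU ℓ) (pullback.snd hU ℓ) :=
      pullback.map πL πL (pullback.snd hU ℓ) (pullback.snd hU ℓ) ι ι (𝟙 _)
        (by rw [hιsnd, Category.comp_id]) (by rw [hιsnd, Category.comp_id])
    let μT : pullback (pullback.snd hU ℓ) (pullback.snd hU ℓ) ⟶ pullback hU hU :=
      pullback.lift (pullback.fst _ _ ≫ pullback.fst hU ℓ) (pullback.snd _ _ ≫ pullback.fst hU ℓ)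
        (by
          rw [Category.assoc, Category.assoc, pullback.condition, ← Category.assoc, ← Category.assoc,
            pullback.condition])
    have hκμ : κ ≫ μT = μ := by
      apply pullback.hom_ext
      · rw [Category.assoc, pullback.lift_fst, hμ1, ← Category.assoc, pullback.lift_fst, hpr1, haU,
          Category.assoc]
      · rw [Category.assoc, pullback.lift_snd, hμ2, ← Category.assoc, pullback.lift_snd, hpr2, haU,
          Category.assoc]
    have hιιμ : ιι ≫ μT = pullback.lift (pullback.fst πL πL ≫ πU) (pullback.snd πL πL ≫ πU)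
        (by rw [Category.assoc, Category.assoc, hπ, ← Category.assoc, ← Category.assoc,
          pullback.condition]) := by
      apply pullback.hom_ext
      · rw [Category.assoc, pullback.lift_fst, pullback.lift_fst, ← Category.assoc, pullback.lift_fst,
          Category.assoc, hιfst]
      · rw [Category.assoc, pullback.lift_snd, pullback.lift_snd, ← Category.assoc, pullback.lift_snd,
          Category.assoc, hιfst]
    have hκy : κ y ∈ Set.range ιι := by
      rw [Scheme.Pullback.range_map]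
      constructor
      · have : (κ ≫ pullback.fst _ _) y = (pr1 ≫ iC) y := by
          rw [pullback.lift_fst, hpr1]
        simp only [Set.mem_preimage]
        rw [← Scheme.Hom.comp_apply, this, Scheme.Hom.comp_apply]
        exact hy.1
      · have : (κ ≫ pullback.snd _ _) y = (pr2 ≫ iC) y := by
          rw [pullback.lift_snd, hpr2]
        simp only [Set.mem_preimage]
        rw [← Scheme.Hom.comp_apply, this, Scheme.Hom.comp_apply]
        exact hy.2
    obtain ⟨w, hw⟩ := hκy
    have h1 : μ y = μT (κ y) := by rw [← hκμ, Scheme.Hom.comp_apply]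
    rw [h1, ← hw, ← Scheme.Hom.comp_apply, hιιμ]
    exact hcomp w
  -- N ⊆ D
  have hΔclosed : IsClosed (Set.range (pullback.diagonal hU)) :=
    (pullback.diagonal hU).isClosedEmbedding.isClosed_range
  set N : Set ↥(pullback toL toL) := μ ⁻¹' (O' : Set ↥(pullback hU hU)) with hN
  have hNopen : IsOpen N := O'.isOpen.preimage μ.continuous
  set D : Set ↥(pullback toL toL) := μ ⁻¹' (Set.range (pullback.diagonal hU)) with hD
  have hDclosed : IsClosed D := hΔclosed.preimage μ.continuous
  have hND : N ⊆ D := by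
    refine (hY0dense.open_subset_closure_inter hNopen).trans ?_
    refine closure_minimal ?_ hDclosed
    rintro y ⟨hyN, hyY⟩
    exact hJO ⟨hclaim1 y hyY, hyN⟩
  -- the residue field point
  obtain ⟨qM, hqM⟩ : ∃ a : Spec (C.residueField q) ⟶ C, a = C.fromSpecResidueField q := ⟨_, rfl⟩
  have huoM : UniversallyOpen (qM ≫ toL) := inferInstance
  have hro : IsOpenMap (pullback.snd (qM ≫ toL) toL) := (pullback.snd (qM ≫ toL) toL).isOpenMap
  obtain ⟨r, hr⟩ : ∃ a : pullback (qM ≫ toL) toL ⟶ C, a = pullback.snd _ _ := ⟨_, rfl⟩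
  obtain ⟨m, hm⟩ : ∃ a : pullback (qM ≫ toL) toL ⟶ Spec (C.residueField q), a = pullback.fst _ _ :=
    ⟨_, rfl⟩
  rw [← hr] at hro
  have hCMcond : m ≫ qM ≫ toL = r ≫ toL := by rw [hm, hr]; exact pullback.condition
  obtain ⟨g, hg⟩ : ∃ a : pullback (qM ≫ toL) toL ⟶ pullback toL toL,
      a = pullback.lift (m ≫ qM) r (by rw [Category.assoc, hCMcond]) := ⟨_, rfl⟩
  have hg1 : g ≫ pr1 = m ≫ qM := by rw [hg, hpr1, pullback.lift_fst]
  have hg2 : g ≫ pr2 = r := by rw [hg, hpr2, pullback.lift_snd]
  obtain ⟨σ, hσ⟩ : ∃ a : Spec (C.residueField q) ⟶ pullback (qM ≫ toL) toL,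
      a = pullback.lift (𝟙 _) qM (by rw [Category.id_comp]) := ⟨_, rfl⟩
  have hσm : σ ≫ m = 𝟙 _ := by rw [hσ, hm, pullback.lift_fst]
  have hσr : σ ≫ r = qM := by rw [hσ, hr, pullback.lift_snd]
  -- σ ≫ g ≫ μ factors through the diagonal
  have hσgμ : σ ≫ g ≫ μ = (qM ≫ aU) ≫ pullback.diagonal hU := by
    apply pullback.hom_ext
    · rw [Category.assoc, Category.assoc, hμ1, ← Category.assoc g, hg1, Category.assoc,
        ← Category.assoc σ, hσm, Category.id_comp, Category.assoc, pullback.diagonal_fst,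
        Category.comp_id]
    · rw [Category.assoc, Category.assoc, hμ2, ← Category.assoc g, hg2,
        ← Category.assoc σ, hσr, Category.assoc, pullback.diagonal_snd,
        Category.comp_id]
  -- the equaliser E
  have hEcond : pullback.fst (g ≫ μ) (pullback.diagonal hU) ≫ g ≫ μ =
      pullback.snd (g ≫ μ) (pullback.diagonal hU) ≫ pullback.diagonal hU := pullback.condition
  have hErange : Set.range (pullback.fst (g ≫ μ) (pullback.diagonal hU)) =
      (g ≫ μ) ⁻¹' Set.range (pullback.diagonal hU) := Scheme.Pullback.range_fst _ _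
  obtain ⟨fstE, hfstE⟩ : ∃ a : pullback (g ≫ μ) (pullback.diagonal hU) ⟶ pullback (qM ≫ toL) toL,
      a = pullback.fst _ _ := ⟨_, rfl⟩
  obtain ⟨sndE, hsndE⟩ : ∃ a : pullback (g ≫ μ) (pullback.diagonal hU) ⟶ U,
      a = pullback.snd _ _ := ⟨_, rfl⟩
  rw [← hfstE, ← hsndE] at hEcond
  rw [← hfstE] at hErange
  have hE1 : fstE ≫ m ≫ qM ≫ aU = sndE := by
    have := congrArg (fun φ => φ ≫ pullback.fst hU hU) hEcond
    simp only [Category.assoc, pullback.diagonal_fst, Category.comp_id] at this
    rw [hμ1, ← Category.assoc g, hg1, Category.assoc] at this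
    exact this
  have hE2 : fstE ≫ r ≫ aU = sndE := by
    have := congrArg (fun φ => φ ≫ pullback.snd hU hU) hEcond
    simp only [Category.assoc, pullback.diagonal_snd, Category.comp_id] at this
    rw [hμ2, ← Category.assoc g, hg2] at this
    exact this
  have hmono : Mono (fstE ≫ m) := by
    refine ⟨fun {T'} a b hab => ?_⟩
    have hab' : a ≫ fstE ≫ m = b ≫ fstE ≫ m := hab
    have h1 : a ≫ fstE ≫ r = b ≫ fstE ≫ r := by
      rw [← cancel_mono iC]
      apply pullback.hom_ext
      · have e1 : ∀ c : T' ⟶ pullback (g ≫ μ) (pullback.diagonal hU),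
            ((c ≫ fstE ≫ r) ≫ iC) ≫ pullback.fst hU ℓ = (c ≫ fstE ≫ m) ≫ qM ≫ aU := by
          intro c
          simp only [Category.assoc]
          rw [← haU, hE2, ← hE1]
        rw [e1 a, e1 b, hab']
      · have e2 : ∀ c : T' ⟶ pullback (g ≫ μ) (pullback.diagonal hU),
            ((c ≫ fstE ≫ r) ≫ iC) ≫ pullback.snd hU ℓ = (c ≫ fstE ≫ m) ≫ qM ≫ toL := by
          intro c
          simp only [Category.assoc]
          rw [← htoL, ← hCMcond]
        rw [e2 a, e2 b, hab']
    have h2 : a ≫ fstE = b ≫ fstE := by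
      apply pullback.hom_ext
      · rw [Category.assoc, Category.assoc, ← hm]; exact hab'
      · rw [Category.assoc, Category.assoc, ← hr]; exact h1
    rw [hfstE] at h2
    apply pullback.hom_ext
    · exact h2
    · rw [← hsndE, ← hE1]
      have : ∀ c : T' ⟶ pullback (g ≫ μ) (pullback.diagonal hU),
          c ≫ fstE ≫ m ≫ qM ≫ aU = (c ≫ fstE ≫ m) ≫ qM ≫ aU := by
        intro c; simp only [Category.assoc]
      rw [this a, this b, hab']
  -- the section of E
  obtain ⟨σE, hσE1, hσE2⟩ : ∃ a : Spec (C.residueField q) ⟶ pullback (g ≫ μ) (pullback.diagonal hU),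
      a ≫ fstE = σ ∧ a ≫ sndE = qM ≫ aU := by
    refine ⟨pullback.lift σ (qM ≫ aU) (by rw [hσgμ]), ?_, ?_⟩
    · rw [hfstE, pullback.lift_fst]
    · rw [hsndE, pullback.lift_snd]
  have hσEm : σE ≫ fstE ≫ m = 𝟙 _ := by rw [← Category.assoc, hσE1, hσm]
  let pt : ↥(Spec (C.residueField q)) := IsLocalRing.closedPoint (C.residueField q)
  have hpt : ∀ z : ↥(Spec (C.residueField q)), z = pt := fun z => Subsingleton.elim _ _
  have hqpt : qM pt = q := by rw [hqM]; exact Scheme.fromSpecResidueField_apply _ _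
  have hrc0 : r (σ pt) = q := by rw [← Scheme.Hom.comp_apply, hσr, hqpt]
  have hc0N : σ pt ∈ g ⁻¹' N := by
    change μ (g (σ pt)) ∈ (O' : Set ↥(pullback hU hU))
    apply hΔO
    refine ⟨(qM ≫ aU) pt, ?_⟩
    rw [← Scheme.Hom.comp_apply, ← hσgμ, Scheme.Hom.comp_apply, Scheme.Hom.comp_apply]
  have hgN : g ⁻¹' N ⊆ {σ pt} := by
    intro c hc
    have hcD : μ (g c) ∈ Set.range (pullback.diagonal hU) := hND hc
    have hcE : c ∈ Set.range fstE := by
      rw [hErange]
      change (g ≫ μ) c ∈ Set.range (pullback.diagonal hU)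
      rw [Scheme.Hom.comp_apply]
      exact hcD
    obtain ⟨e, rfl⟩ := hcE
    have he := eq_section_apply_of_mono (fstE ≫ m) σE hσEm e
    have : fstE e = σ pt := by
      rw [he, ← Scheme.Hom.comp_apply, hσE1, hpt ((fstE ≫ m) e)]
    exact this
  have hgNopen : IsOpen (g ⁻¹' N) := hNopen.preimage g.continuous
  have hdense : Dense (r ⁻¹' V) := hVdense.preimage hro
  obtain ⟨c, hcN, hcV⟩ := hdense.inter_open_nonempty _ hgNopen ⟨σ pt, hc0N⟩
  have hc : c = σ pt := hgN hcN
  rw [hc] at hcV
  have : r (σ pt) ∈ V := hcV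
  rw [hrc0] at this
  exact this

end Groth.Agent.Lib.Helper37.LocSep
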