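import Mathlib
import Groth.Agent.Lib.Helper37.LocSep
import Groth.Agent.Lib.Helper37.QuotFieldSp
import Groth.Agent.Lib.Helper37.DecentPoint3

/-!
# Locally separated algebraic spaces are decent (helper37, S10378)

* `isImmersion_pullback_lift`: for locally separated `X`, `K ×_X L ⟶ K ×_S L` is an immersion.
* `compactSpace_pullback_of_isLocallySeparatedSp`: `U ×_X Spec K` is quasi-compact for an affine étale chart `U`
  (it is closed in `U ×_S Spec K` by `LocSep.isClosed_range_of_groupoid`).
* `finite_fibres_of_compact_pullback`, `isDecent_of_isLocallySeparatedSp`.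
-/

set_option autoImplicit false
universe u
open CategoryTheory CategoryTheory.Limits AlgebraicGeometry Opposite

namespace Groth.Agent.Lib.Helper37.LocSep

open AlgSp Groth.Agent.Lib.Helper37.AlgSpPoints Groth.Agent.Lib.Helper37.QuotField

variable {S : Scheme.{u}}

theorem isOpenImmersion_of_section {X Y : Scheme.{u}} (f : X ⟶ Y)
    [FormallyUnramified f] [LocallyOfFiniteType f] (s : Y ⟶ X) (hs : s ≫ f = 𝟙 Y) :
    IsOpenImmersion s := by
  set gr : Y ⟶ pullback (s ≫ f) f := pullback.lift (𝟙 Y) s (by simp) with hgr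
  have h0 : s = gr ≫ pullback.snd _ _ := (pullback.lift_snd _ _ _).symm
  have h1 : IsOpenImmersion gr :=
    MorphismProperty.of_isPullback (P := @IsOpenImmersion)
      (pullback_lift_diagonal_isPullback s f) (inferInstanceAs (IsOpenImmersion (pullback.diagonal f)))
  have h2 : IsOpenImmersion (pullback.snd (s ≫ f) f) := by
    have : IsIso (s ≫ f) := by rw [hs]; infer_instance
    infer_instance
  rw [h0]
  infer_instance

/-- The comparison `R ⟶ K ×_S L` written with `pullback.lift`. -/
theorem isImmersion_pullback_lift {X : Sp S} (hX : IsLocallySeparatedSp X) {K L R : Over S}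
    (f : (yon S).obj K ⟶ X) (g : (yon S).obj L ⟶ X) (a : R ⟶ K) (b : R ⟶ L)
    (sq : IsPullback ((yon S).map a) ((yon S).map b) f g) :
    IsImmersion (pullback.lift a.left b.left (by rw [Over.w a, Over.w b]) :
      R.left ⟶ pullback K.hom L.hom) := by
  have h1 : IsImmersion (prod.lift a b).left := prop_prodLift_of_repWith_diag hX f g a b sq
  have h2 : (pullback.lift a.left b.left (by rw [Over.w a, Over.w b]) :
      R.left ⟶ pullback K.hom L.hom) = (prod.lift a b).left ≫ (Over.prodLeftIsoPullback K L).hom := by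
    apply pullback.hom_ext
    · rw [pullback.lift_fst, Category.assoc, Over.prodLeftIsoPullback_hom_fst, ← Over.comp_left,
        prod.lift_fst]
    · rw [pullback.lift_snd, Category.assoc, Over.prodLeftIsoPullback_hom_snd, ← Over.comp_left,
        prod.lift_snd]
  rw [h2]
  infer_instance

/-- **Theorem A.** For a locally separated sheaf `X`, an étale chart `φ : U ⟶ X` with `U` affine and a field point
`p`, the fibre product `U ×_X Spec K` is quasi-compact. -/
theorem compactSpace_pullback_of_isLocallySeparatedSp {X : Sp S}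
    (hX : IsLocallySeparatedSp X) {U : Over S} [IsAffine U.left] (φ : (yon S).obj U ⟶ X)
    (hφ : RepWith @Etale φ) (p : FieldPt X) (PU : Over S) (e₁ : PU ⟶ p.pt) (e₂ : PU ⟶ U)
    (sqA : IsPullback ((yon S).map e₁) ((yon S).map e₂) p.toHom φ) :
    CompactSpace ↥PU.left := by
  -- the immersion ι
  have hπ : e₂.left ≫ U.hom = e₁.left ≫ p.pt.hom := by rw [Over.w e₂, Over.w e₁]
  have hιimm : IsImmersion (pullback.lift e₂.left e₁.left hπ : PU.left ⟶ pullback U.hom p.pt.hom) :=
    isImmersion_pullback_lift hX φ p.toHom e₂ e₁ sqA.flip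
  -- the relation R
  have Rsq := hφ.rep.isPullback' φ
  obtain ⟨R, hR⟩ : ∃ R : Over S, R = hφ.rep.pullback φ := ⟨_, rfl⟩
  obtain ⟨t, ht⟩ : ∃ a : hφ.rep.pullback φ ⟶ U, a = hφ.rep.fst' φ := ⟨_, rfl⟩
  obtain ⟨s, hs⟩ : ∃ a : hφ.rep.pullback φ ⟶ U, a = hφ.rep.snd φ := ⟨_, rfl⟩
  rw [← ht, ← hs] at Rsq
  have hset : Etale s.left := hφ.property φ _ _ Rsq
  have hjw : t.left ≫ U.hom = s.left ≫ U.hom := by rw [Over.w t, Over.w s]
  have hjimm : IsImmersion (pullback.lift t.left s.left hjw :
      (hφ.rep.pullback φ).left ⟶ pullback U.hom U.hom) :=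
    isImmersion_pullback_lift hX φ φ t s Rsq
  obtain ⟨j, hj⟩ : ∃ a : (hφ.rep.pullback φ).left ⟶ pullback U.hom U.hom,
      a = pullback.lift t.left s.left hjw := ⟨_, rfl⟩
  rw [← hj] at hjimm
  have hj1 : j ≫ pullback.fst U.hom U.hom = t.left := by rw [hj, pullback.lift_fst]
  have hj2 : j ≫ pullback.snd U.hom U.hom = s.left := by rw [hj, pullback.lift_snd]
  -- the identity section
  obtain ⟨e', he1', he2'⟩ := Rsq.exists_lift (𝟙 _) (𝟙 _) rfl
  obtain ⟨e, rfl⟩ := (yon S).map_surjective e'
  have he1 : e ≫ t = 𝟙 U := (yon S).map_injective (by rw [Functor.map_comp, he1', CategoryTheory.Functor.map_id])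
  have he2 : e ≫ s = 𝟙 U := (yon S).map_injective (by rw [Functor.map_comp, he2', CategoryTheory.Functor.map_id])
  have he2l : e.left ≫ s.left = 𝟙 U.left := by rw [← Over.comp_left, he2]; rfl
  have he1l : e.left ≫ t.left = 𝟙 U.left := by rw [← Over.comp_left, he1]; rfl
  have heopen : IsOpenImmersion e.left := isOpenImmersion_of_section s.left e.left he2l
  have hej : e.left ≫ j = pullback.diagonal U.hom := by
    apply pullback.hom_ext
    · rw [Category.assoc, hj1, he1l, pullback.diagonal_fst]
    · rw [Category.assoc, hj2, he2l, pullback.diagonal_snd]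
  obtain ⟨O', hO'open, hO'⟩ := (j.isEmbedding.isInducing.isOpen_iff).1 e.left.isOpenEmbedding.isOpen_range
  -- the composition map F ×_L F ⟶ R
  have sqQ0 := IsPullback.of_hasPullback e₁ e₁
  obtain ⟨q₁, hq₁⟩ : ∃ a : pullback e₁ e₁ ⟶ PU, a = pullback.fst e₁ e₁ := ⟨_, rfl⟩
  obtain ⟨q₂, hq₂⟩ : ∃ a : pullback e₁ e₁ ⟶ PU, a = pullback.snd e₁ e₁ := ⟨_, rfl⟩
  rw [← hq₁, ← hq₂] at sqQ0
  have sqQ : IsPullback ((yon S).map q₁) ((yon S).map q₂) ((yon S).map e₁) ((yon S).map e₁) :=
    sqQ0.map (yon S)
  have sqQS : IsPullback q₁.left q₂.left e₁.left e₁.left := sqQ0.map (Over.forget S)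
  have hcond : (yon S).map (q₁ ≫ e₂) ≫ φ = (yon S).map (q₂ ≫ e₂) ≫ φ := by
    rw [Functor.map_comp, Functor.map_comp, Category.assoc, Category.assoc, ← sqA.w,
      ← Category.assoc, ← Category.assoc, sqQ.w]
  obtain ⟨l', hl1, hl2⟩ := Rsq.exists_lift _ _ hcond
  obtain ⟨l, rfl⟩ := (yon S).map_surjective l'
  have hl1' : l ≫ t = q₁ ≫ e₂ := (yon S).map_injective (by rw [Functor.map_comp, hl1])
  have hl2' : l ≫ s = q₂ ≫ e₂ := (yon S).map_injective (by rw [Functor.map_comp, hl2])
  have hcompw : (pullback.fst e₁.left e₁.left ≫ e₂.left) ≫ U.hom =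
      (pullback.snd e₁.left e₁.left ≫ e₂.left) ≫ U.hom := by
    rw [Category.assoc, Category.assoc, hπ, ← Category.assoc, ← Category.assoc, pullback.condition]
  have hkey : sqQS.isoPullback.hom ≫ (pullback.lift (pullback.fst e₁.left e₁.left ≫ e₂.left)
      (pullback.snd e₁.left e₁.left ≫ e₂.left) hcompw : pullback e₁.left e₁.left ⟶ pullback U.hom U.hom)
      = l.left ≫ j := by
    apply pullback.hom_ext
    · rw [Category.assoc, pullback.lift_fst, ← Category.assoc, IsPullback.isoPullback_hom_fst,
        Category.assoc, hj1]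
      exact (congrArg (fun m => Over.Hom.left m) hl1').symm
    · rw [Category.assoc, pullback.lift_snd, ← Category.assoc, IsPullback.isoPullback_hom_snd,
        Category.assoc, hj2]
      exact (congrArg (fun m => Over.Hom.left m) hl2').symm
  -- apply the scheme-level theorem
  have hclosed := isClosed_range_of_groupoid (L := p.K) U.hom p.pt.hom e₂.left e₁.left hπ
    (pullback.lift e₂.left e₁.left hπ).isLocallyClosed_range (Set.range j) ⟨O', hO'open⟩
    (by
      rintro _ ⟨u, rfl⟩
      change (pullback.diagonal U.hom) u ∈ O'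
      rw [← hej, Scheme.Hom.comp_apply]
      have : e.left u ∈ j ⁻¹' O' := by rw [hO']; exact ⟨u, rfl⟩
      exact this)
    (by
      rintro _ ⟨⟨r, rfl⟩, hr⟩
      have : r ∈ j ⁻¹' O' := hr
      rw [hO'] at this
      obtain ⟨u, rfl⟩ := this
      exact ⟨u, by rw [← hej, Scheme.Hom.comp_apply]⟩)
    (by
      intro w
      obtain ⟨z, rfl⟩ : ∃ z, sqQS.isoPullback.hom z = w :=
        ⟨sqQS.isoPullback.inv w, by rw [← Scheme.Hom.comp_apply, Iso.inv_hom_id]; rfl⟩
      rw [← Scheme.Hom.comp_apply, hkey, Scheme.Hom.comp_apply]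
      exact ⟨_, rfl⟩)
  -- conclude
  have hce : Topology.IsClosedEmbedding (pullback.lift e₂.left e₁.left hπ :
      PU.left ⟶ pullback U.hom p.pt.hom) :=
    ⟨(pullback.lift e₂.left e₁.left hπ).isEmbedding, hclosed⟩
  have hfin : Finite ↥p.pt.left := inferInstanceAs (Finite (PrimeSpectrum p.K))
  have hqcstr : QuasiCompact p.pt.hom := quasiCompact_of_finite _
  have hqcfst : QuasiCompact (pullback.fst U.hom p.pt.hom) := inferInstance
  have hcUL : CompactSpace ↥(pullback U.hom p.pt.hom) :=
    QuasiCompact.compactSpace_of_compactSpace (pullback.fst U.hom p.pt.hom)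
  exact hce.compactSpace

open Groth.Agent.Lib.Helper37.DecentPoint Groth.Agent.Lib.Helper37.Residual in
/-- Variant of `finite_fibres_of_qc_fieldPt` only using compactness of one fibre product. -/
theorem finite_fibres_of_compact_pullback (X : Space S) (x : Points X.obj) (p : FieldPt X.obj)
    (hpx : Points.mk p = x) (hprep : Representable p.toHom)
    (U : Over S) (φ : (yon S).obj U ⟶ X.obj) (hφ : RepWith @Etale φ)
    (hcPU : CompactSpace ↥(hprep.pullback φ).left)
    (R : Over S) (s t : R ⟶ U) (hR : IsPullback ((yon S).map t) ((yon S).map s) φ φ) :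
    (Points.ofPt φ ⁻¹' {x}).Finite ∧ (Points.ofPt ((yon S).map t ≫ φ) ⁻¹' {x}).Finite := by
  have sqA := hprep.isPullback' φ
  set PU := hprep.pullback φ
  set e₁ := hprep.fst' φ
  set e₂ := hprep.snd φ
  have he₁et : Etale e₁.left := hφ.property p.toHom _ _ sqA.flip
  have hdPU : DiscreteTopology ↥PU.left :=
    @discreteTopology_of_etale_field p.K _ PU.left e₁.left he₁et
  have hfPU : Finite ↥PU.left := finite_of_compact_of_discrete
  let t₀ : ↥(Spec (CommRingCat.of p.K)) := IsLocalRing.closedPoint p.K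
  have hx : Points.ofPt p.toHom t₀ = x := by rw [Points.ofPt_toHom, hpx]
  constructor
  · refine (Set.finite_range e₂.left).subset ?_
    intro v hv
    have hv' : Points.ofPt φ v = x := hv
    have : Points.ofPt p.toHom t₀ = Points.ofPt φ v := by rw [hx, hv']
    obtain ⟨r, -, hr⟩ := (ofPt_eq_ofPt_iff sqA t₀ v).1 this
    exact ⟨r, hr⟩
  · have sqQ0 := IsPullback.of_hasPullback e₁ e₁
    set Q := pullback e₁ e₁
    set q₁ := pullback.fst e₁ e₁
    set q₂ := pullback.snd e₁ e₁
    have sqQ : IsPullback ((yon S).map q₁) ((yon S).map q₂) ((yon S).map e₁) ((yon S).map e₁) :=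
      sqQ0.map (yon S)
    have sqQS : IsPullback q₁.left q₂.left e₁.left e₁.left := sqQ0.map (Over.forget S)
    have hq₁et : Etale q₁.left := MorphismProperty.of_isPullback (P := @Etale) sqQS.flip he₁et
    have hQet : Etale (q₁ ≫ e₁).left := by rw [Over.comp_left]; infer_instance
    have hdQ : DiscreteTopology ↥Q.left :=
      @discreteTopology_of_etale_field p.K _ Q.left (q₁ ≫ e₁).left hQet
    have he₁qc : QuasiCompact e₁.left := ⟨fun V _ _ => (Set.toFinite _).isCompact⟩
    have hq₁qc : QuasiCompact q₁.left :=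
      MorphismProperty.of_isPullback (P := @QuasiCompact) sqQS.flip he₁qc
    have hcQ : CompactSpace ↥Q.left := QuasiCompact.compactSpace_of_compactSpace q₁.left
    have hfQ : Finite ↥Q.left := finite_of_compact_of_discrete
    have hcond : (yon S).map (q₁ ≫ e₂) ≫ φ = (yon S).map (q₂ ≫ e₂) ≫ φ := by
      rw [Functor.map_comp, Functor.map_comp, Category.assoc, Category.assoc, ← sqA.w,
        ← Category.assoc, ← Category.assoc, sqQ.w]
    obtain ⟨l', hl1, hl2⟩ := hR.exists_lift _ _ hcond
    obtain ⟨l, rfl⟩ := (yon S).map_surjective l'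
    have big : IsPullback ((yon S).map q₁) ((yon S).map q₂ ≫ (yon S).map e₂)
        ((yon S).map e₁ ≫ p.toHom) φ := sqQ.paste_vert sqA
    rw [sqA.w] at big
    have left : IsPullback ((yon S).map l) ((yon S).map q₁) ((yon S).map t) ((yon S).map e₂) := by
      refine IsPullback.of_right ?_ ?_ hR.flip
      · rw [hl2, Functor.map_comp]; exact big.flip
      · rw [hl1, Functor.map_comp]
    have fin := (left.paste_vert sqA.flip).flip
    rw [← Functor.map_comp] at fin
    refine (Set.finite_range l.left).subset ?_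
    intro r hr
    have hr' : Points.ofPt ((yon S).map t ≫ φ) r = x := hr
    have : Points.ofPt p.toHom t₀ = Points.ofPt ((yon S).map t ≫ φ) r := by rw [hx, hr']
    obtain ⟨z, -, hz⟩ := (ofPt_eq_ofPt_iff fin t₀ r).1 this
    exact ⟨z, hz⟩

open Groth.Agent.Lib.Helper37.DecentPoint in
/-- **S10378**: a locally separated algebraic space is decent. -/
theorem isDecent_of_isLocallySeparatedSp (X : Space S) (hX : IsLocallySeparatedSp X.obj) :
    IsDecent X.obj := by
  intro x
  obtain ⟨p, hp⟩ : ∃ p : FieldPt X.obj, Points.mk p = x := by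
    induction x using Points.ind with
    | h p => exact ⟨p, rfl⟩
  apply exists_mono_qc_of_finite_fibres X x
  intro U φ hUaff hφ R s t hR
  have hprep : Representable p.toHom := X.property.representable_from_yon _
  have hc : CompactSpace ↥(hprep.pullback φ).left :=
    compactSpace_pullback_of_isLocallySeparatedSp hX φ hφ p _ _ _ (hprep.isPullback' φ)
  exact finite_fibres_of_compact_pullback X x p hp hprep U φ hφ hc R s t hR

end Groth.Agent.Lib.Helper37.LocSep
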