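import Mathlib
import Groth.Agent.Lib.Helper73.DimFT.Catenary

set_option autoImplicit false
universe u
open TensorProduct

/-! Marketplace sub-lemma DK for helper66 (S15087): a map `k[x₁..x_r] → R` to a f.t. algebra of dimension `< r` has nonzero kernel. -/

namespace Groth.Agent.Lib.Helper37.MovDK

theorem exists_ne_zero_mem_ker {k : Type u} [Field k] {r : ℕ} (R : Type u) [CommRing R] [Algebra k R] [Algebra.FiniteType k R] (hdim : ringKrullDim R < (r : WithBot ℕ∞)) (φ : MvPolynomial (Fin r) k →ₐ[k] R) : ∃ h : MvPolynomial (Fin r) k, h ≠ 0 ∧ φ h = 0 := by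
  by_contra hcon
  push Not at hcon
  let S : Submonoid R := (nonZeroDivisors (MvPolynomial (Fin r) k)).map φ.toRingHom
  have hS : Disjoint ((⊥ : Ideal R) : Set R) (S : Set R) := by
    rw [Set.disjoint_left]
    rintro _ h0 ⟨h, hh, rfl⟩
    exact hcon h (nonZeroDivisors.ne_zero hh) h0
  obtain ⟨q, hqprime, -, hqS⟩ := Ideal.exists_le_prime_disjoint ⊥ S hS
  haveI := hqprime
  let ψ : MvPolynomial (Fin r) k →ₐ[k] (R ⧸ q) := (Ideal.Quotient.mkₐ k q).comp φ
  have hψ : Function.Injective ψ := by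
    rw [injective_iff_map_eq_zero]
    intro h hh
    by_contra hne
    have : φ h ∈ q := Ideal.Quotient.eq_zero_iff_mem.mp hh
    exact Set.disjoint_left.mp hqS this ⟨h, mem_nonZeroDivisors_of_ne_zero hne, rfl⟩
  haveI : Algebra.FiniteType k (R ⧸ q) :=
    Algebra.FiniteType.of_surjective (Ideal.Quotient.mkₐ k q) (Ideal.Quotient.mkₐ_surjective k q)
  obtain ⟨d, hd⟩ := Groth.Agent.Lib.Helper73.exists_nat_ringKrullDim_eq k (R ⧸ q)
  have htr := Groth.Agent.Lib.Helper73.trdeg_eq_of_ringKrullDim_eq k (A := R ⧸ q)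
    (FractionRing (R ⧸ q)) d hd
  have hle : ringKrullDim (R ⧸ q) ≤ ringKrullDim R := ringKrullDim_quotient_le q
  have hdr : d < r := by
    have : ((d : ℕ) : WithBot ℕ∞) < (r : WithBot ℕ∞) := hd ▸ lt_of_le_of_lt hle hdim
    exact_mod_cast this
  have hai : AlgebraicIndependent k (fun i : Fin r =>
      algebraMap (R ⧸ q) (FractionRing (R ⧸ q)) (ψ (MvPolynomial.X i))) := by
    rw [algebraicIndependent_iff_injective_aeval]
    have : (MvPolynomial.aeval fun i => algebraMap (R ⧸ q) (FractionRing (R ⧸ q))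
        (ψ (MvPolynomial.X i))) =
        (IsScalarTower.toAlgHom k (R ⧸ q) (FractionRing (R ⧸ q))).comp ψ := by
      apply MvPolynomial.algHom_ext
      intro i
      simp
    rw [this]
    exact (IsFractionRing.injective _ _).comp hψ
  have := hai.lift_cardinalMk_le_trdeg
  rw [htr] at this
  simp at this
  omega

end Groth.Agent.Lib.Helper37.MovDK
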