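import Groth.Agent.Lib.Helper23.SLQSplit5
import Groth.Agent.Lib.Helper23.AlgSpProper2
import Groth.Agent.Lib.Helper36.QFLocus
import Groth.Agent.Lib.Helper30.LocPNbhd

/-!
# Proper + quasi-finite over a point ⟹ finite over a neighbourhood (helper37)

`exists_open_finite_of_forall_qf` : a proper morphism of algebraic spaces which is quasi-finite at every
point over `y` is finite over an open subspace through `y` (complement of the image of the non-quasi-finite
locus; helper36's open `qfLocus`, helper23's `isFiniteMor_of_sep_uc_lqf`).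
-/

set_option autoImplicit false
set_option linter.style.haveILetI false
set_option linter.unusedSectionVars false
universe u
open CategoryTheory CategoryTheory.Limits AlgebraicGeometry Topology TopologicalSpace
open AlgSp

namespace Groth.Agent.Lib.Helper37.ProperQfFinite

open Groth.Agent.Lib.Helper37.AlgSpPoints Groth.Agent.Lib.Helper23.AlgSpMor
  Groth.Agent.Lib.Helper36.OpenSubspace Groth.Agent.Lib.Helper36.QFLocus
  Groth.Agent.Lib.Helper36.QuasiFiniteAt Groth.Agent.Lib.Helper30.LocPNbhd
  Groth.Agent.Lib.Helper23.SLQSplit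

variable {S : Scheme.{u}}

theorem exists_open_finite_of_forall_qf {X Y : Space S} (f : X ⟶ Y) (hf : IsProperMor f.hom)
    (y : Points Y.obj)
    (hqf : ∀ x : Points X.obj, Points.map f.hom x = y →
      HasAtMor (fun U _ h u => ∃ W : U.Opens, u ∈ W ∧ LocallyQuasiFinite (W.ι ≫ h) ∧
        LocallyOfFiniteType (W.ι ≫ h)) f.hom x) :
    ∃ (Y' : Space S) (j : Y' ⟶ Y), RepWith @IsOpenImmersion j.hom ∧
      y ∈ Set.range (Points.map j.hom) ∧
      ∀ (P : Space S) (fst : P ⟶ Y') (snd : P ⟶ X), IsPullback fst.hom snd.hom j.hom f.hom →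
        IsFiniteMor fst.hom := by
  have hft : LocP @LocallyOfFiniteType f.hom := hf.2.1.1
  have hUo := isOpen_qfLocus f hft
  have hcl : IsClosedMap (Points.map f.hom) :=
    isClosedMap_points_of_isUnivClosedMor Y.property f.hom hf.2.2
  have hWc : IsClosed (Points.map f.hom '' (qfLocus f)ᶜ) := hcl _ hUo.isClosed_compl
  have hW : IsOpen (Points.map f.hom '' (qfLocus f)ᶜ)ᶜ := hWc.isOpen_compl
  have hyW : y ∈ (Points.map f.hom '' (qfLocus f)ᶜ)ᶜ := by
    rintro ⟨x, hxZ, hxy⟩
    apply hxZ
    obtain ⟨U, V, a, b, h, u, ha, hb, w, hu, hQ⟩ := hqf x hxy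
    haveI := hft a b h ha hb w
    rw [← hu, mem_qfLocus_iff_of_chart f hft a b h ha hb w u]
    exact (exists_opens_lqf_iff_quasiFiniteAt h.left u).1 hQ
  obtain ⟨W, hW, hyW, hWq⟩ : ∃ W : Set (Points Y.obj), IsOpen W ∧ y ∈ W ∧
      ∀ x : Points X.obj, Points.map f.hom x ∈ W → x ∈ qfLocus f :=
    ⟨_, hW, hyW, fun x hx => by
      by_contra hn
      exact hx ⟨x, hn, rfl⟩⟩
  have hj : RepWith @IsOpenImmersion (openSubι Y.obj W) :=
    repWith_isOpenImmersion_openSubι Y.obj W hW
  have hje := repWith_etale_of_isOpenImmersion hj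
  refine ⟨⟨openSub Y.obj W, isAlgSpace_openSub Y.obj Y.property W hW⟩,
    ObjectProperty.homMk (openSubι Y.obj W), hj, ?_, ?_⟩
  · show y ∈ Set.range (Points.map (openSubι Y.obj W))
    rw [range_map_openSubι]
    exact hyW
  · intro P fst snd sq
    have sq' : IsPullback fst.hom snd.hom (openSubι Y.obj W) f.hom := sq
    refine isFiniteMor_of_sep_uc_lqf fst ?_ ?_ ?_
    · exact isSeparatedMor_of_isPullback sq'.flip hf.1
    · intro Z Z' hZ g fst' snd' sqZ
      exact hf.2.2 hZ (g ≫ openSubι Y.obj W) (fst' ≫ snd.hom) snd' (sqZ.paste_horiz sq'.flip)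
    · intro A B c d h hc hd w
      have hsnd : RepWith @IsOpenImmersion snd.hom :=
        (RepWith @IsOpenImmersion).of_isPullback sq' hj
      have hsnde := repWith_etale_of_isOpenImmersion hsnd
      have hc' : RepWith @Etale (c ≫ snd.hom) := (RepWith @Etale).comp_mem _ _ hc hsnde
      have hd' : RepWith @Etale (d ≫ openSubι Y.obj W) := (RepWith @Etale).comp_mem _ _ hd hje
      have w' : (c ≫ snd.hom) ≫ f.hom = (yon S).map h ≫ (d ≫ openSubι Y.obj W) := by
        have w0 : c ≫ fst.hom = (yon S).map h ≫ d := w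
        rw [Category.assoc, ← sq'.w, ← Category.assoc, w0, Category.assoc]
      have hlft : LocallyOfFiniteType h.left := hft _ _ h hc' hd' w'
      refine ⟨?_, hlft⟩
      rw [← Scheme.Hom.quasiFiniteLocus_eq_top_iff]
      apply top_le_iff.mp
      intro a _
      apply (mem_qfLocus_iff_of_chart f hft _ _ h hc' hd' w' a).1
      apply hWq
      rw [Points.map_ofPt, w', ofPt_map_comp]
      exact ofPt_comp_openSubι_mem Y.obj W d (h.left a)

end Groth.Agent.Lib.Helper37.ProperQfFinite
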