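import Mathlib
import Groth.Agent.Lib.Helper78.ZMTFin
import Groth.Agent.Lib.Helper37.EtaleFibres

set_option autoImplicit false
set_option linter.style.haveILetI false
set_option linter.unusedSectionVars false
universe u
open CategoryTheory CategoryTheory.Limits AlgebraicGeometry Topology TopologicalSpace

namespace Groth.Agent.Lib.Helper37.QfCompact

/-- No non-trivial specializations inside a fibre of a locally quasi-finite morphism. -/
theorem eq_of_specializes_of_locallyQuasiFinite {X Y : Scheme.{u}} (f : X ⟶ Y)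
    [LocallyQuasiFinite f] {r r' : ↥X} (hs : r' ⤳ r) (he : f r' = f r) : r' = r := by
  have hd := f.isDiscrete_preimage_singleton (f r)
  have h1 : r ∈ f ⁻¹' {f r} := rfl
  have h2 : r' ∈ f ⁻¹' {f r} := he
  have : DiscreteTopology ↥(f ⁻¹' {f r}) := hd.to_subtype
  have h3 : (⟨r', h2⟩ : ↥(f ⁻¹' {f r})) ⤳ ⟨r, h1⟩ :=
    Topology.IsInducing.subtypeVal.specializes_iff.1 hs
  exact congrArg Subtype.val h3.eq

/-- The graph argument: `W` an open piece of `R` (via `ι`), `R` separated over `V`, `W` also open in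
a scheme `T` finite over `V`.  If `ι w'` specializes to `r` and every specialization of `j w'` in
`T` lying over `p r` is in `j(W)`, then `r` is in `ι(W)`. -/
theorem mem_range_of_specializes {W R T V : Scheme.{u}} (ι : W ⟶ R) (p : R ⟶ V) (j : W ⟶ T)
    (π : T ⟶ V) [IsOpenImmersion j] [IsSeparated p] [IsFinite π] (hw : j ≫ π = ι ≫ p)
    {w' : ↥W} {r : ↥R} (hs : ι w' ⤳ r)
    (hT : ∀ t : ↥T, j w' ⤳ t → π t = p r → t ∈ Set.range j) : r ∈ Set.range ι := by
  -- the fibre product `Y = T ×_V R` and the graph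
  let Γ : W ⟶ pullback π p := pullback.lift j ι hw
  have hΓ1 : Γ ≫ pullback.fst π p = j := pullback.lift_fst _ _ _
  have hΓ2 : Γ ≫ pullback.snd π p = ι := pullback.lift_snd _ _ _
  -- lift the specialization along the closed map `pr2`
  have hcl : IsClosedMap (pullback.snd π p) := (pullback.snd π p).isClosedMap
  have hs' : (pullback.snd π p) (Γ w') ⤳ r := by
    rw [← Scheme.Hom.comp_apply, hΓ2]
    exact hs
  obtain ⟨g, hg1, hg2⟩ := hcl.specializingMap hs'
  -- its first projection lies in `j(W)`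
  have ht1 : j w' ⤳ (pullback.fst π p) g := by
    have := hg1.map (pullback.fst π p).continuous
    rwa [← Scheme.Hom.comp_apply, hΓ1] at this
  have ht2 : π ((pullback.fst π p) g) = p r := by
    rw [← Scheme.Hom.comp_apply, pullback.condition, Scheme.Hom.comp_apply, hg2]
  obtain ⟨w₀, hw₀⟩ := hT _ ht1 ht2
  -- the open piece `Y₁ = W ×_V R` of `Y`
  let μ : pullback (j ≫ π) p ⟶ pullback π p :=
    pullback.lift (pullback.fst (j ≫ π) p ≫ j) (pullback.snd (j ≫ π) p)
      (by rw [Category.assoc, pullback.condition])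
  have hμ1 : μ ≫ pullback.fst π p = pullback.fst (j ≫ π) p ≫ j := pullback.lift_fst _ _ _
  have hμ2 : μ ≫ pullback.snd π p = pullback.snd (j ≫ π) p := pullback.lift_snd _ _ _
  have sq : IsPullback μ (pullback.fst (j ≫ π) p) (pullback.fst π p) j := by
    refine IsPullback.of_right ?_ hμ1 (IsPullback.of_hasPullback π p).flip
    rw [hμ2]
    exact (IsPullback.of_hasPullback (j ≫ π) p).flip
  have hμo : IsOpenImmersion μ :=
    MorphismProperty.of_isPullback (P := @IsOpenImmersion) sq.flip inferInstance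
  obtain ⟨y₁, hy₁1, hy₁2⟩ := Scheme.exists_preimage_of_isPullback sq g w₀ hw₀.symm
  -- the graph inside `Y₁` is closed
  let Γ₁ : W ⟶ pullback (j ≫ π) p :=
    pullback.lift (𝟙 W) ι (by rw [Category.id_comp, hw])
  have hΓ₁1 : Γ₁ ≫ pullback.fst (j ≫ π) p = 𝟙 W := pullback.lift_fst _ _ _
  have hΓ₁2 : Γ₁ ≫ pullback.snd (j ≫ π) p = ι := pullback.lift_snd _ _ _
  have hΓμ : Γ₁ ≫ μ = Γ := by
    apply pullback.hom_ext
    · rw [Category.assoc, hμ1, ← Category.assoc, hΓ₁1, Category.id_comp, hΓ1]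
    · rw [Category.assoc, hμ2, hΓ₁2, hΓ2]
  have hci : IsClosedImmersion Γ₁ := by
    have : IsClosedImmersion (Γ₁ ≫ pullback.fst (j ≫ π) p) := by
      rw [hΓ₁1]
      infer_instance
    exact IsClosedImmersion.of_comp Γ₁ (pullback.fst (j ≫ π) p)
  have hs₁ : Γ₁ w' ⤳ y₁ := by
    rw [← μ.isOpenEmbedding.isInducing.specializes_iff, hy₁1, ← Scheme.Hom.comp_apply, hΓμ]
    exact hg1
  obtain ⟨w₁, hw₁⟩ := Γ₁.isClosedEmbedding.isClosed_range.stableUnderSpecialization hs₁ ⟨w', rfl⟩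
  refine ⟨w₁, ?_⟩
  rw [← hg2, ← hy₁1, ← hw₁, ← Scheme.Hom.comp_apply, ← Scheme.Hom.comp_apply, hμ2, hΓ₁2]


/-- Local step: `p : R ⟶ V` etale separated, `V` affine, the fibre over `ξ` finite.  Then over a
neighbourhood `O` of `ξ`, the part of `R` over `closure {ξ} ∩ O` lies in a compact set. -/
theorem exists_open_preimage_subset {R V : Scheme.{u}} (p : R ⟶ V) [Etale p] [IsSeparated p]
    [IsAffine V] (ξ : ↥V) (hfin : (p ⁻¹' {ξ}).Finite) :
    ∃ (O : Set ↥V) (K : Set ↥R), IsOpen O ∧ ξ ∈ O ∧ IsCompact K ∧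
      p ⁻¹' (closure {ξ} ∩ O) ⊆ K := by
  -- a quasi-compact open `W'` containing the fibre
  have hU : ∀ r : ↥R, ∃ U : R.Opens, IsAffineOpen U ∧ r ∈ U := by
    intro r
    obtain ⟨_, ⟨U, hU, rfl⟩, hrU, -⟩ :=
      R.isBasis_affineOpens.exists_subset_of_mem_open (Set.mem_univ r) isOpen_univ
    exact ⟨U, hU, hrU⟩
  choose U hU hrU using hU
  let W' : R.Opens := ⟨⋃ r ∈ p ⁻¹' {ξ}, (U r : Set ↥R), isOpen_biUnion (fun r _ => (U r).2)⟩
  have hW'c : IsCompact (W' : Set ↥R) := hfin.isCompact_biUnion (fun r _ => (hU r).isCompact)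
  have hfib : ∀ r : ↥R, p r = ξ → r ∈ W' := fun r hr =>
    Set.mem_biUnion (show r ∈ p ⁻¹' {ξ} from hr) (hrU r)
  haveI hcW : CompactSpace ↥(W'.toScheme) := isCompact_iff_compactSpace.mp hW'c
  have hlqf : LocallyQuasiFinite (W'.ι ≫ p) :=
    Groth.Agent.Lib.Helper37.EtaleFibres.locallyQuasiFinite_of_etale _
  have hqc : QuasiCompact (W'.ι ≫ p) := (quasiCompact_iff_compactSpace _).mpr hcW
  obtain ⟨T, j, π, hj, hπ, hjπ⟩ :=
    Groth.Agent.Lib.Helper78.ZMTFin.exists_isOpenImmersion_isFinite_of_isAffine (W'.ι ≫ p)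
  have hfa : ∀ a : ↥W', π (j a) = p (W'.ι a) := fun a => by
    rw [← Scheme.Hom.comp_apply, hjπ, Scheme.Hom.comp_apply]
  -- the relevant sets
  let A : Set ↥W' := (W'.ι ≫ p) ⁻¹' closure {ξ}
  let B : Set ↥T := closure (j '' A) \ Set.range j
  have hB : IsClosed B := isClosed_closure.sdiff j.isOpenEmbedding.isOpen_range
  have hπB : IsClosed (π '' B) := π.isClosedMap _ hB
  -- the finite fibre inside `W'`
  let Fw : Set ↥W' := (W'.ι ≫ p) ⁻¹' {ξ}
  have hFw : Fw.Finite := by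
    have : Fw = W'.ι ⁻¹' (p ⁻¹' {ξ}) := rfl
    rw [this]
    exact hfin.preimage W'.ι.isOpenEmbedding.injective.injOn
  have hC : IsClosed (⋃ w ∈ Fw, closure {j w}) := hFw.isClosed_biUnion (fun _ _ => isClosed_closure)
  have hAC : closure (j '' A) ⊆ ⋃ w ∈ Fw, closure {j w} := by
    refine closure_minimal ?_ hC
    rintro _ ⟨a, ha, rfl⟩
    have h1 : ξ ⤳ (W'.ι ≫ p) a := specializes_iff_mem_closure.2 ha
    obtain ⟨w, hw1, hw2⟩ :=
      Groth.Agent.Lib.Helper37.EtaleFibres.exists_specializes_lift_of_etale (W'.ι ≫ p) h1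
    exact Set.mem_biUnion (show w ∈ Fw from hw2)
      (specializes_iff_mem_closure.1 (hw1.map j.continuous))
  have hξ : ξ ∉ π '' B := by
    rintro ⟨b, ⟨hb1, hb2⟩, hb3⟩
    obtain ⟨w, hw, hbw⟩ := Set.mem_iUnion₂.1 (hAC hb1)
    have h1 : j w ⤳ b := specializes_iff_mem_closure.2 hbw
    have h2 : π (j w) = π b := by
      rw [hb3, hfa]
      exact hw
    exact hb2 ⟨w, eq_of_specializes_of_locallyQuasiFinite π h1 h2⟩
  refine ⟨(π '' B)ᶜ, Set.range W'.ι, hπB.isOpen_compl, hξ, isCompact_range W'.ι.continuous, ?_⟩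
  rintro r ⟨hr1, hr2⟩
  have h1 : ξ ⤳ p r := specializes_iff_mem_closure.2 hr1
  obtain ⟨r', hr'1, hr'2⟩ :=
    Groth.Agent.Lib.Helper37.EtaleFibres.exists_specializes_lift_of_etale p h1
  have hr'W : r' ∈ W' := hfib r' hr'2
  have hιw : W'.ι ⟨r', hr'W⟩ = r' := rfl
  have hwA : (⟨r', hr'W⟩ : ↥W') ∈ A := by
    change p (W'.ι ⟨r', hr'W⟩) ∈ closure {ξ}
    rw [hιw, hr'2]
    exact subset_closure rfl
  refine mem_range_of_specializes W'.ι p j π hjπ (w' := ⟨r', hr'W⟩) (by rw [hιw]; exact hr'1) ?_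
  intro t ht1 ht2
  by_contra hcon
  refine hr2 ⟨t, ⟨?_, hcon⟩, ht2⟩
  have hsub' : ({j ⟨r', hr'W⟩} : Set ↥T) ⊆ j '' A :=
    Set.singleton_subset_iff.2 ⟨⟨r', hr'W⟩, hwA, rfl⟩
  exact closure_mono hsub' (specializes_iff_mem_closure.1 ht1)

/-- An etale separated morphism with finite fibres to a Noetherian affine scheme has quasi-compact
source. -/
theorem compactSpace_of_etale_of_finite_fibres {R V : Scheme.{u}} (p : R ⟶ V) [Etale p]
    [IsSeparated p] [IsAffine V] [IsNoetherian V] (hfin : ∀ v : ↥V, (p ⁻¹' {v}).Finite) :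
    CompactSpace ↥R := by
  have key : ∀ Z : Closeds ↥V, IsCompact (p ⁻¹' (Z : Set ↥V)) := by
    intro Z
    apply wellFounded_lt.induction Z; clear Z
    intro Z H
    rcases eq_or_ne Z ⊥ with rfl | h₀
    · simp
    · by_cases h₁ : IsPreirreducible (Z : Set ↥V)
      · replace h₁ : IsIrreducible (Z : Set ↥V) := ⟨Closeds.coe_nonempty.2 h₀, h₁⟩
        obtain ⟨ξ, hξ⟩ := QuasiSober.sober h₁ Z.2
        obtain ⟨O, K, hO, hξO, hK, hsub⟩ := exists_open_preimage_subset p ξ (hfin ξ)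
        have hξZ : closure {ξ} = (Z : Set ↥V) := hξ
        let Z' : Closeds ↥V := ⟨(Z : Set ↥V) \ O, Z.2.sdiff hO⟩
        have hZ' : Z' < Z := by
          refine lt_of_le_of_ne (fun x hx => hx.1) ?_
          intro e
          have h1 : ξ ∈ (Z : Set ↥V) := hξZ ▸ subset_closure rfl
          have h2 : ξ ∈ (Z' : Set ↥V) := by rw [e]; exact h1
          exact h2.2 hξO
        have h3 := H Z' hZ'
        have h4 : IsCompact (K ∩ p ⁻¹' (Z : Set ↥V)) := hK.inter_right (Z.2.preimage p.continuous)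
        have h5 : p ⁻¹' (Z : Set ↥V) = (K ∩ p ⁻¹' (Z : Set ↥V)) ∪ p ⁻¹' (Z' : Set ↥V) := by
          ext r
          constructor
          · intro hr
            by_cases hrO : p r ∈ O
            · exact Or.inl ⟨hsub ⟨hξZ ▸ hr, hrO⟩, hr⟩
            · exact Or.inr ⟨hr, hrO⟩
          · rintro (⟨-, hr⟩ | hr)
            · exact hr
            · exact hr.1
        rw [h5]
        exact h4.union h3
      · simp only [isPreirreducible_iff_isClosed_union_isClosed, not_forall, not_or] at h₁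
        obtain ⟨z₁, z₂, hz₁, hz₂, h, hz₁', hz₂'⟩ := h₁
        lift z₁ to Closeds ↥V using hz₁
        lift z₂ to Closeds ↥V using hz₂
        have h1 := H (Z ⊓ z₁) (inf_lt_left.2 hz₁')
        have h2 := H (Z ⊓ z₂) (inf_lt_left.2 hz₂')
        have h5 : p ⁻¹' (Z : Set ↥V) = p ⁻¹' ((Z ⊓ z₁ : Closeds ↥V) : Set ↥V) ∪
            p ⁻¹' ((Z ⊓ z₂ : Closeds ↥V) : Set ↥V) := by
          ext r
          constructor
          · intro hr
            rcases h hr with h' | h'
            · exact Or.inl ⟨hr, h'⟩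
            · exact Or.inr ⟨hr, h'⟩
          · rintro (hr | hr)
            · exact hr.1
            · exact hr.1
        rw [h5]
        exact h1.union h2
  have := key ⊤
  exact isCompact_univ_iff.1 (by simpa using this)

end Groth.Agent.Lib.Helper37.QfCompact
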