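import Mathlib
import Groth.Agent.Lib.Helper37.QsSober
import Groth.Agent.Lib.Helper23.AlgSpMor

/-!
# |X| is spectral for a quasi-compact quasi-separated algebraic space (helper37, S10201)

* `exists_affine_chart_subset`, `AffChart`, `isTopologicalBasis_affChart`: images of affine étale charts form a basis.
* `isCompact_range_inter_range`: intersections of two such images are quasi-compact (quasi-separated case).
* `spectralSpace_of_qcqs`.
-/

set_option autoImplicit false
universe u
open CategoryTheory CategoryTheory.Limits AlgebraicGeometry Opposite TopologicalSpace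

namespace Groth.Agent.Lib.Helper37.QsSober

open AlgSp Groth.Agent.Lib.Helper37.AlgSpPoints Groth.Agent.Lib.Helper37.AlgSpFibres
open Groth.Agent.Lib.Helper37.QuotField

variable {S : Scheme.{u}}

/-- Affine étale charts through a point, inside a given open neighbourhood. -/
theorem exists_affine_chart_subset (X : Space S) (x : Points X.obj) (O : Set (Points X.obj))
    (hO : IsOpen O) (hx : x ∈ O) :
    ∃ (V : Over S) (a : (yon S).obj V ⟶ X.obj) (v : ↥V.left), IsAffine V.left ∧ RepWith @Etale a ∧
      Points.ofPt a v = x ∧ Set.range (Points.ofPt a) ⊆ O := by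
  obtain ⟨U, p, hpe, hps⟩ := X.property.atlas
  obtain ⟨u, rfl⟩ := ofPt_surjective p hps x
  have hO' : IsOpen (Points.ofPt p ⁻¹' O) := hO.preimage (Points.continuous_ofPt p)
  obtain ⟨_, ⟨U₀, hU₀, rfl⟩, huU₀, hsub⟩ :=
    U.left.isBasis_affineOpens.exists_subset_of_mem_open (show u ∈ Points.ofPt p ⁻¹' O from hx) hO'
  refine ⟨openOver U U₀, _, ⟨u, huU₀⟩, hU₀, repWith_etale_restrict p hpe U₀,
    ofPt_restrict p U₀ ⟨u, huU₀⟩, ?_⟩
  rintro _ ⟨v, rfl⟩
  rw [ofPt_restrict]
  exact hsub v.2

/-- The index type of affine étale charts of `X`. -/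
structure AffChart (X : Space S) where
  V : Over S
  a : (yon S).obj V ⟶ X.obj
  aff : IsAffine V.left
  et : RepWith @Etale a

theorem isTopologicalBasis_affChart (X : Space S) :
    IsTopologicalBasis (Set.range fun c : AffChart X => Set.range (Points.ofPt c.a)) := by
  apply isTopologicalBasis_of_isOpen_of_nhds
  · rintro _ ⟨c, rfl⟩
    exact (isOpenMap_ofPt c.a c.et).isOpen_range
  · intro x O hx hO
    obtain ⟨V, a, v, hV, ha, rfl, hsub⟩ := exists_affine_chart_subset X x O hO hx
    exact ⟨_, ⟨⟨V, a, hV, ha⟩, rfl⟩, ⟨v, rfl⟩, hsub⟩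

theorem isCompact_range_inter_range [QuasiSeparatedSpace ↥S] (X : Space S)
    (hqs : IsQuasiSeparatedSp X.obj) (c d : AffChart X) :
    IsCompact (Set.range (Points.ofPt c.a) ∩ Set.range (Points.ofPt d.a)) := by
  have := c.aff
  have := d.aff
  have hrep : Representable c.a := X.property.representable_from_yon _
  have sq := hrep.isPullback' d.a
  have hc : CompactSpace ↥(hrep.pullback d.a).left :=
    compactSpace_pullback_of_isQuasiSeparatedSp hqs c.a d.a _ _ sq
  have heq : Set.range (Points.ofPt c.a) ∩ Set.range (Points.ofPt d.a) =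
      Set.range (Points.ofPt c.a ∘ (hrep.fst' d.a).left) := by
    ext x
    constructor
    · rintro ⟨⟨v, rfl⟩, ⟨w, hw⟩⟩
      obtain ⟨r, hr, -⟩ := (ofPt_eq_ofPt_iff sq v w).1 hw.symm
      exact ⟨r, by simp [hr]⟩
    · rintro ⟨r, rfl⟩
      refine ⟨⟨_, rfl⟩, ⟨(hrep.snd d.a).left r, ?_⟩⟩
      exact ((ofPt_eq_ofPt_iff sq _ _).2 ⟨r, rfl, rfl⟩).symm
  rw [heq]
  exact isCompact_range ((Points.continuous_ofPt c.a).comp (hrep.fst' d.a).left.continuous)

/-- **S10201**: the space of points of a quasi-compact algebraic space quasi-separated over a quasi-separated base is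
spectral. -/
theorem spectralSpace_of_qcqs [QuasiSeparatedSpace ↥S] (X : Space S) (hqc : IsQuasiCompactSp X.obj)
    (hqs : IsQuasiSeparatedSp X.obj) : SpectralSpace (Points X.obj) :=
  { toT0Space := t0Space_points_of_isDecent X
      (Groth.Agent.Lib.Helper37.DecentPoint.isDecent_of_isQuasiSeparatedSp X hqs)
    toCompactSpace := Groth.Agent.Lib.Helper23.AlgSpMor.compactSpace_points_of_isQuasiCompactSp hqc
    toQuasiSober := quasiSober_of_isQuasiSeparatedSp X hqs
    toQuasiSeparatedSpace := QuasiSeparatedSpace.of_isTopologicalBasis (isTopologicalBasis_affChart X)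
      (isCompact_range_inter_range X hqs)
    toPrespectralSpace := PrespectralSpace.of_isTopologicalBasis' (isTopologicalBasis_affChart X)
      (fun c => by
        have := c.aff
        exact isCompact_range (Points.continuous_ofPt c.a)) }

end Groth.Agent.Lib.Helper37.QsSober
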