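import Mathlib
import Groth.Agent.Lib.Helper37.OnePoint
import Groth.Agent.Lib.Helper22.FibreComp

/-!
# Factoring morphisms from reduced schemes through residue fields (helper37)
-/

set_option autoImplicit false
universe u
open CategoryTheory CategoryTheory.Limits AlgebraicGeometry Opposite

namespace Groth.Agent.Lib.Helper37.RedFactor

open Groth.Agent.Lib.Helper37.OnePoint

/-- A morphism from a reduced scheme to an affine scheme all of whose points map to `u` factors
through `Spec κ(u)`. -/
theorem exists_lift_fromSpecResidueField {T U : Scheme.{u}} [IsReduced T] [IsAffine U] (h : T ⟶ U)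
    (u : U) (hu : ∀ t, h t = u) :
    ∃ l : T ⟶ Spec (U.residueField u), l ≫ U.fromSpecResidueField u = h := by
  let s := U.fromSpecStalk u
  have hs : Flat s := flat_fromSpecStalk U u
  have hsm : Mono s := inferInstance
  let q := pullback.fst h s
  have hqf : Flat q := inferInstance
  have hqm : Mono q := inferInstance
  have hqc : QuasiCompact q := inferInstance
  have hqs : Surjective q := by
    refine ⟨fun t => ?_⟩
    obtain ⟨z, hz, -⟩ := Scheme.Pullback.exists_preimage_pullback (f := h) (g := s) t
      (IsLocalRing.closedPoint _) (by rw [hu t]; exact Scheme.fromSpecStalk_closedPoint.symm)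
    exact ⟨z, hz⟩
  have hqi : IsIso q := Flat.isIso_of_surjective_of_mono q
  let h' : T ⟶ Spec (U.presheaf.stalk u) := inv q ≫ pullback.snd h s
  have hh' : h' ≫ s = h := by
    rw [Category.assoc, ← pullback.condition, IsIso.inv_hom_id_assoc]
  have hrange : Set.range h' ⊆ Set.range (Spec.map (U.residue u)) := by
    rintro _ ⟨t, rfl⟩
    have h1 : s (h' t) = s (IsLocalRing.closedPoint _) := by
      rw [← Scheme.Hom.comp_apply, hh', hu t]
      exact Scheme.fromSpecStalk_closedPoint.symm
    have h2 : h' t = IsLocalRing.closedPoint _ := s.isEmbedding.injective h1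
    rw [h2]
    exact ⟨IsLocalRing.closedPoint _, Scheme.SpecMap_residue_apply u _⟩
  have hci : IsClosedImmersion (Spec.map (U.residue u)) :=
    IsClosedImmersion.spec_of_surjective _ (U.residue_surjective u)
  obtain ⟨l, hl⟩ := Groth.Agent.Lib.Helper22.FibreComp.exists_lift_of_isReduced
    (Spec.map (U.residue u)) h' hrange
  refine ⟨l, ?_⟩
  rw [← hh', ← hl, Category.assoc]
  rfl

end Groth.Agent.Lib.Helper37.RedFactor
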