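import Mathlib
import Groth.Agent.Lib.Helper37.OnePoint
import Groth.Agent.Lib.Helper37.AlgSpDecent
import Groth.Agent.Lib.Helper22.FibreComp
import Groth.Agent.Lib.Helper46.RedDescent
import Groth.Agent.Lib.Helper23.AlgSpMono
import Groth.Agent.Lib.Helper5.LocalRep
import Groth.Agent.Lib.Helper5.OpenLocal
import Groth.Agent.Lib.Helper37.RedFactor

/-!
# Reduced spaces over a monomorphic point factor through it (helper37, S10373)
-/

set_option autoImplicit false
universe u
open CategoryTheory CategoryTheory.Limits AlgebraicGeometry Opposite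

namespace Groth.Agent.Lib.Helper37.RedFactor

open AlgSp Groth.Agent.Lib.Helper36.AlgSpCharts Groth.Agent.Lib.Helper23.AlgSpMor
  Groth.Agent.Lib.Helper5.LocalRep Groth.Agent.Lib.Helper5
open Groth.Agent.Lib.Helper37.AlgSpPoints Groth.Agent.Lib.Helper37.AlgSpFibres
open Groth.Agent.Lib.Helper37.AlgSpDecent

variable {S : Scheme.{u}}

/-- Local factorization: near a point `t` of a reduced scheme `T₀` with a map `v₂ : T₀ ⟶ U` to an étale
chart `a : U ⟶ X` landing in the fibre over the point of a quasi-compact monomorphism `p`, the composite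
`T₀ ⟶ U ⟶ X` factors through `p`. -/
theorem exists_local_factor {X : Space S} (x : Points X.obj) (p : FieldPt X.obj)
    (hp : Points.mk p = x) (hm : Mono p.toHom) (hq : RepWith @QuasiCompact p.toHom)
    {U : Over S} (a : (yon S).obj U ⟶ X.obj) (hae : RepWith @Etale a)
    {T₀ : Over S} [IsReduced T₀.left] (v₂ : T₀ ⟶ U)
    (hfib : ∀ t : ↥T₀.left, Points.ofPt a (v₂.left t) = x) (t : ↥T₀.left) :
    ∃ N : T₀.left.Opens, t ∈ N ∧ ∃ y : (yon S).obj (overOpens T₀ N) ⟶ (yon S).obj p.pt,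
      y ≫ p.toHom = (yon S).map (overOpensι T₀ N) ≫ (yon S).map v₂ ≫ a := by
  have hprep : Representable p.toHom := X.property.representable_from_yon _
  set u := v₂.left t with hu
  obtain ⟨_, ⟨(U' : U.left.Opens), hU', rfl⟩, huU', -⟩ :=
    U.left.isBasis_affineOpens.exists_subset_of_mem_open (Set.mem_univ u) isOpen_univ
  have ha' := repWith_etale_restrict a hae U'
  have hcU' : CompactSpace ↥(openOver U U').left := isCompact_iff_compactSpace.1 hU'.isCompact
  have hfin := finite_fibre_of_qc_point p hq _ ha'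
  let Φ' : Set ↥U.left := {w | w ∈ U' ∧ Points.ofPt a w = x}
  have hΦfin : Φ'.Finite := by
    refine (hfin.image Subtype.val).subset ?_
    rintro w ⟨hwU, hwx⟩
    refine ⟨⟨w, hwU⟩, ?_, rfl⟩
    change Points.ofPt ((yon S).map (openι U U') ≫ a) ⟨w, hwU⟩ = Points.mk p
    rw [ofPt_restrict, hp]
    exact hwx
  have hns : ∀ u' ∈ Φ', u' ≠ u → ∃ O : U.left.Opens, u ∈ O ∧ u' ∉ O := by
    intro u' hu' hne
    have hnot : ¬ u' ⤳ u := fun hs => hne
      (eq_of_specializes_of_finite_fibres x (fun V b hV hb => by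
        have : CompactSpace ↥V.left := inferInstance
        rw [← hp]
        exact finite_fibre_of_qc_point p hq b hb) a hae u u' (hfib t) hu'.2 hs).symm
    rw [specializes_iff_forall_open] at hnot
    push Not at hnot
    obtain ⟨O, hO, huO, hu'O⟩ := hnot
    exact ⟨⟨O, hO⟩, huO, hu'O⟩
  choose! O hO using hns
  let W : Set ↥U.left := (U' : Set ↥U.left) ∩ ⋂ u' ∈ Φ' \ {u}, (O u' : Set ↥U.left)
  have hWopen : IsOpen W :=
    U'.2.inter ((hΦfin.subset Set.sdiff_subset).isOpen_biInter fun u' _ => (O u').2)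
  have huW : u ∈ W := by
    refine ⟨huU', ?_⟩
    simp only [Set.mem_iInter]
    intro u' hu'
    exact (hO u' hu'.1 hu'.2).1
  have hWfib : ∀ w ∈ W, Points.ofPt a w = x → w = u := by
    intro w hw hwx
    by_contra hne
    have hwΦ : w ∈ Φ' := ⟨hw.1, hwx⟩
    have h1 := hw.2
    simp only [Set.mem_iInter] at h1
    exact (hO w hwΦ hne).2 (h1 w ⟨hwΦ, hne⟩)
  obtain ⟨_, ⟨(O'' : U.left.Opens), hO'', rfl⟩, huO'', hO''W⟩ :=
    U.left.isBasis_affineOpens.exists_subset_of_mem_open huW hWopen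
  let N : T₀.left.Opens := v₂.left ⁻¹ᵁ O''
  have htN : t ∈ N := huO''
  refine ⟨N, htN, ?_⟩
  have hNred : IsReduced (N : Scheme.{u}) := isReduced_of_isOpenImmersion N.ι
  have hO''aff : IsAffine (O'' : Scheme.{u}) := hO''
  have hrange : Set.range (N.ι ≫ v₂.left) ⊆ Set.range O''.ι := by
    rintro _ ⟨n, rfl⟩
    rw [Scheme.Opens.range_ι]
    exact n.2
  let h'' : (N : Scheme.{u}) ⟶ (O'' : Scheme.{u}) := IsOpenImmersion.lift O''.ι (N.ι ≫ v₂.left) hrange
  have hh'' : h'' ≫ O''.ι = N.ι ≫ v₂.left := IsOpenImmersion.lift_fac _ _ _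
  let u'' : ↥(O'' : Scheme.{u}) := ⟨u, huO''⟩
  have hpts : ∀ n, h'' n = u'' := by
    intro n
    apply O''.ι.isEmbedding.injective
    have e1 : O''.ι (h'' n) = v₂.left (N.ι n) := by
      rw [← Scheme.Hom.comp_apply, hh'', Scheme.Hom.comp_apply]
    rw [e1]
    have hmem : v₂.left (N.ι n) ∈ O'' := n.2
    exact hWfib _ (hO''W hmem) (hfib _)
  obtain ⟨l, hl⟩ := exists_lift_fromSpecResidueField h'' u'' hpts
  -- the field point
  let q : FieldPt X.obj := FieldPt.ofPt ((yon S).map (openι U O'') ≫ a) u''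
  have hqx : Points.mk p = Points.mk q := by
    change _ = Points.ofPt ((yon S).map (openι U O'') ≫ a) u''
    rw [ofPt_restrict, hp]
    exact (hfib t).symm
  obtain ⟨cc, hcc⟩ := exists_factor_of_mono_fieldPt p q hqx hm hprep
  have hw : l ≫ q.str = (overOpens T₀ N).hom := by
    change l ≫ (O'' : Scheme.{u}).fromSpecResidueField u'' ≫ O''.ι ≫ U.hom = N.ι ≫ T₀.hom
    rw [← Category.assoc, hl, ← Category.assoc, hh'', Category.assoc, Over.w v₂]
  let lO : overOpens T₀ N ⟶ q.pt := Over.homMk l hw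
  refine ⟨(yon S).map lO ≫ (yon S).map cc, ?_⟩
  rw [Category.assoc, hcc, FieldPt.toHom_ofPt, ← Category.assoc, ← Category.assoc,
    ← Functor.map_comp, ← Functor.map_comp, ← Category.assoc, ← Functor.map_comp]
  congr 2
  ext1
  change (l ≫ (O'' : Scheme.{u}).fromSpecResidueField u'') ≫ O''.ι = N.ι ≫ v₂.left
  rw [hl, hh'']

/-- **S10373**: a morphism from a reduced algebraic space all of whose points map to the point of a
quasi-compact monomorphism `Spec k ⟶ X` factors through it. -/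
theorem exists_factor_of_reduced {Y X : Space S} (f : Y ⟶ X)
    (x : Points X.obj) (p : FieldPt X.obj) (hp : Points.mk p = x) (hm : Mono p.toHom)
    (hq : RepWith @QuasiCompact p.toHom) (hY : EtaleLocally (fun U => IsReduced U) Y.obj)
    (hf : ∀ y : Points Y.obj, Points.map f.hom y = x) :
    ∃ g : Y.obj ⟶ (yon S).obj p.pt, g ≫ p.toHom = f.hom := by
  obtain ⟨V, c, hce, hcs, hVred⟩ := hY
  have hVred' : IsReduced V.left := hVred
  obtain ⟨U, a, hae, has⟩ := X.property.atlas
  obtain ⟨φ, hφ⟩ : ∃ φ : (yon S).obj V ⟶ X.obj, φ = c ≫ f.hom := ⟨_, rfl⟩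
  have hφx : ∀ w : ↥V.left, Points.ofPt φ w = x := fun w => by
    rw [hφ, ← Points.map_ofPt, hf]
  have sq := hae.rep.isPullback' φ
  set T₀ := hae.rep.pullback φ with hT₀
  set v₂ := hae.rep.fst' φ with hv₂
  set v₁ := hae.rep.snd φ with hv₁
  have hv₁e : Etale v₁.left := hae.property_snd φ
  have hv₁s : Surjective v₁.left := has.property_snd φ
  have hT₀red : IsReduced T₀.left := Groth.Agent.Lib.Helper46.RedDescent.isReduced_of_smooth v₁.left
  have hfib : ∀ t : ↥T₀.left, Points.ofPt a (v₂.left t) = x := by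
    intro t
    rw [← ofPt_map_comp, sq.w, ofPt_map_comp, hφx]
  have key := exists_local_factor x p hp hm hq a hae v₂ hfib
  choose N hN1 y hy using key
  obtain ⟨Λ, hΛ⟩ : ∃ Λ : (yon S).obj T₀ ⟶ (yon S).obj p.pt, Λ ≫ p.toHom = (yon S).map v₂ ≫ a := by
    refine Groth.Agent.Lib.Helper5.OpenLocal.exists_lift_of_locally_lift_mono p.toHom ((yon S).map v₂ ≫ a)
      (Sieve.ofArrows _ (fun t : ↥T₀.left => overOpensι T₀ (N t)))
      (ofArrows_mem_J _ _ (fun t => by change IsOpenImmersion (N t).ι; infer_instance)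
        (fun z => ⟨z, ⟨⟨z, hN1 z⟩, rfl⟩⟩)) ?_
    rintro T' _ ⟨Z, g, _, ⟨t⟩, rfl⟩
    exact ⟨(yon S).map g ≫ y t, by rw [Category.assoc, hy t, Functor.map_comp, Category.assoc]⟩
  have h1 : Epi ((yon S).map v₁) :=
    epi_of_etale_surjective _ ((repWith_yon_map_iff _ _).2 hv₁e) ((repWith_yon_map_iff _ _).2 hv₁s)
  have h2 : Epi c := epi_of_etale_surjective c hce hcs
  have e_epi : Epi ((yon S).map v₁ ≫ c) := epi_comp _ _
  have comm : Λ ≫ p.toHom = ((yon S).map v₁ ≫ c) ≫ f.hom := by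
    rw [hΛ, sq.w, Category.assoc, ← hφ]
  let l := pullback.lift Λ ((yon S).map v₁ ≫ c) comm
  have hl : l ≫ pullback.snd p.toHom f.hom = (yon S).map v₁ ≫ c := pullback.lift_snd _ _ _
  have hπmono : Mono (pullback.snd p.toHom f.hom) := inferInstance
  have hπepi : Epi (pullback.snd p.toHom f.hom) := by
    have : Epi (l ≫ pullback.snd p.toHom f.hom) := by rw [hl]; exact e_epi
    exact epi_of_epi l _
  have hiso : IsIso (pullback.snd p.toHom f.hom) := isIso_of_mono_of_epi _
  exact ⟨inv (pullback.snd p.toHom f.hom) ≫ pullback.fst p.toHom f.hom, by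
    rw [Category.assoc, pullback.condition, IsIso.inv_hom_id_assoc]⟩

end Groth.Agent.Lib.Helper37.RedFactor
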