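import Mathlib

/-!
# Valuation-ring constructions for the refined valuative criterion (helper37)

* `compVal B A₅`: the composite of a valuation subring `B` of `L` with a valuation subring `A₅` of its
  residue field; `compIncl`, `compProj`, `compProj_surjective`, `isUnit_of_isUnit_compProj`.
* `exists_valSub_of_prime`: a valuation subring dominating the localization at a prime.
* `comap_map_le_of_valuationRing`, `exists_coarsening_ext`: extending a coarsening `B ⊇ C` along a local
  extension `C → C'` of valuation rings.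
* `quotVal`, `exists_final_ext`: the image of `C'` in the residue field of `B'`.
* `exists_residue_ext`: enlarging the residue field of a valuation ring.
-/

set_option autoImplicit false
set_option linter.style.haveILetI false
universe u
open IsLocalRing

namespace Groth.Agent.Lib.Helper37.RefValRing

variable {L : Type u} [Field L]

variable (B : ValuationSubring L) (A₅ : ValuationSubring (ResidueField B))

/-- The composite of a valuation subring `B` of `L` with a valuation subring `A₅` of its residue
field: elements of `B` whose residue lies in `A₅`. -/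
def compVal  : ValuationSubring L :=
  { (A₅.toSubring.comap (residue B)).map B.subtype with
    mem_or_inv_mem' := by
      intro x
      by_cases hx : x ∈ B
      · by_cases h5 : residue B ⟨x, hx⟩ ∈ A₅
        · left; exact ⟨⟨x, hx⟩, h5, rfl⟩
        · right
          have h5' := (A₅.mem_or_inv_mem (residue B ⟨x, hx⟩)).resolve_left h5
          have hne : residue B ⟨x, hx⟩ ≠ 0 := fun h0 => h5 (h0 ▸ A₅.zero_mem)
          have hu : IsUnit (⟨x, hx⟩ : B) := by
            by_contra hnu
            exact hne ((residue_eq_zero_iff _).2 hnu)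
          obtain ⟨u, hu⟩ := hu
          refine ⟨((u⁻¹ : Bˣ) : B), ?_, ?_⟩
          · change residue B ((u⁻¹ : Bˣ) : B) ∈ A₅
            have h1 : residue B ((u⁻¹ : Bˣ) : B) * residue B ⟨x, hx⟩ = 1 := by
              rw [← map_mul, ← hu, Units.inv_mul, map_one]
            rw [eq_inv_of_mul_eq_one_left h1]
            exact h5'
          · change (((u⁻¹ : Bˣ) : B) : L) = x⁻¹
            have h1 : (((u⁻¹ : Bˣ) : B) : L) * x = 1 := by
              have := congrArg (Subtype.val) (Units.inv_mul u)
              rw [hu] at this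
              exact this
            exact eq_inv_of_mul_eq_one_left h1
      · right
        have hx' := (B.mem_or_inv_mem x).resolve_left hx
        refine ⟨⟨x⁻¹, hx'⟩, ?_, rfl⟩
        change residue B ⟨x⁻¹, hx'⟩ ∈ A₅
        have : residue B ⟨x⁻¹, hx'⟩ = 0 := by
          rw [residue_eq_zero_iff]
          intro hu
          obtain ⟨u, hu⟩ := hu
          apply hx
          have h1 : (((u⁻¹ : Bˣ) : B) : L) * x⁻¹ = 1 := by
            have := congrArg (Subtype.val) (Units.inv_mul u)
            rw [hu] at this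
            exact this
          have h2 : (((u⁻¹ : Bˣ) : B) : L) = x := by
            have := eq_inv_of_mul_eq_one_left h1
            rwa [inv_inv] at this
          rw [← h2]
          exact ((u⁻¹ : Bˣ) : B).2
        rw [this]
        exact A₅.zero_mem }

variable {B A₅}
theorem mem_compVal  {x : L} :
    x ∈ compVal B A₅ ↔ ∃ hx : x ∈ B, residue B ⟨x, hx⟩ ∈ A₅ := by
  constructor
  · rintro ⟨b, hb, rfl⟩
    exact ⟨b.2, hb⟩
  · rintro ⟨hx, h⟩
    exact ⟨⟨x, hx⟩, h, rfl⟩

variable (B A₅)
theorem compVal_le  :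
    compVal B A₅ ≤ B := fun _ hx => (mem_compVal.1 hx).1

/-- The inclusion of the composite into `B`. -/
def compIncl : compVal B A₅ →+* B := ValuationSubring.inclusion _ _ (compVal_le B A₅)

/-- The projection of the composite onto `A₅`. -/
noncomputable def compProj : compVal B A₅ →+* A₅ :=
  ((residue B).comp (compIncl B A₅)).codRestrict A₅.toSubring
    (fun c => (mem_compVal.1 c.2).2)

theorem subtype_compProj :
    A₅.subtype.comp (compProj B A₅) = (residue B).comp (compIncl B A₅) := rfl

theorem compProj_surjective : Function.Surjective (compProj B A₅) := by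
  intro y
  obtain ⟨b, hb⟩ := residue_surjective (R := B) y.1
  refine ⟨⟨b.1, mem_compVal.2 ⟨b.2, ?_⟩⟩, ?_⟩
  · change residue B b ∈ A₅
    rw [hb]; exact y.2
  · apply Subtype.ext
    exact hb

theorem subtype_compIncl : B.subtype.comp (compIncl B A₅) = (compVal B A₅).subtype := rfl

/-- An element of the composite whose projection is a unit is a unit. -/
theorem isUnit_of_isUnit_compProj (c : compVal B A₅) (h : IsUnit (compProj B A₅ c)) : IsUnit c := by
  obtain ⟨d, hd⟩ := compProj_surjective B A₅ (↑h.unit⁻¹ : A₅)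
  have h1 : compProj B A₅ (c * d) = 1 := by
    rw [map_mul, hd]; exact h.mul_val_inv
  -- c * d ≡ 1 mod m_B so c*d is a unit of B with inverse in the composite
  have h2 : residue B (compIncl B A₅ (c * d)) = 1 := by
    exact congrArg (A₅.subtype) h1
  have h3 : IsUnit (compIncl B A₅ (c * d)) := by
    by_contra hnu
    have : residue B (compIncl B A₅ (c * d)) = 0 := (residue_eq_zero_iff _).2 hnu
    rw [h2] at this
    exact one_ne_zero this
  obtain ⟨w, hw⟩ := h3
  have h4 : ((↑w⁻¹ : B) : L) ∈ compVal B A₅ := by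
    refine mem_compVal.2 ⟨(↑w⁻¹ : B).2, ?_⟩
    change residue B (↑w⁻¹ : B) ∈ A₅
    have h5 : residue B (↑w⁻¹ : B) * residue B (compIncl B A₅ (c * d)) = 1 := by
      rw [← map_mul, ← hw, Units.inv_mul, map_one]
    rw [h2, mul_one] at h5
    rw [h5]; exact A₅.one_mem
  have h6 : c * (d * ⟨_, h4⟩) = 1 := by
    apply Subtype.ext
    have := congrArg Subtype.val (Units.mul_inv w)
    rw [hw] at this
    change (c : L) * ((d : L) * ((↑w⁻¹ : B) : L)) = 1
    rw [← mul_assoc]
    exact this
  exact IsUnit.of_mul_eq_one _ h6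



/-- A valuation subring of a field `F` containing the image of `g : P → F` and whose maximal ideal
pulls back to the prime `𝔪` (domination of the localization at `𝔪`). -/
theorem exists_valSub_of_prime {P : Type u} [CommRing P] (𝔪 : Ideal P) [𝔪.IsPrime] {F : Type u}
    [Field F] (g : P →+* F) (hg : ∀ y, y ∉ 𝔪 → g y ≠ 0) :
    ∃ (B : ValuationSubring F) (hB : ∀ p, g p ∈ B), ∀ p, IsUnit (⟨g p, hB p⟩ : B) ↔ p ∉ 𝔪 := by
  have key : ∀ (Loc : Type u) [CommRing Loc] [Algebra P Loc] [IsLocalization.AtPrime Loc 𝔪],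
      ∃ (B : ValuationSubring F) (hB : ∀ p, g p ∈ B), ∀ p, IsUnit (⟨g p, hB p⟩ : B) ↔ p ∉ 𝔪 := by
    intro Loc _ _ _
    have : IsLocalRing Loc := IsLocalization.AtPrime.isLocalRing Loc 𝔪
    have hunits : ∀ y : 𝔪.primeCompl, IsUnit (g y) := fun y => IsUnit.mk0 _ (hg y y.2)
    let fl : Loc →+* F := IsLocalization.lift (M := 𝔪.primeCompl) (g := g) hunits
    have hfl : ∀ p : P, fl (algebraMap P Loc p) = g p := fun p => IsLocalization.lift_eq _ _
    obtain ⟨B, hB, hBl⟩ := exists_factor_valuationRing fl
    have hB' : ∀ p, g p ∈ B := fun p => by rw [← hfl]; exact hB _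
    refine ⟨B, hB', fun p => ?_⟩
    have e1 : (⟨g p, hB' p⟩ : B) = fl.codRestrict B.toSubring hB (algebraMap P Loc p) :=
      Subtype.ext (hfl p).symm
    rw [e1]
    change _ ↔ p ∈ 𝔪.primeCompl
    rw [← IsLocalization.AtPrime.isUnit_to_map_iff Loc 𝔪 p]
    constructor
    · intro h; exact hBl.map_nonunit _ h
    · intro h; exact h.map _
  exact key (Localization.AtPrime 𝔪)


/-- In a valuation ring, contraction of the extension of a prime along an injective local homomorphism
to a domain is the prime itself. -/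
theorem comap_map_le_of_valuationRing {C C' : Type u} [CommRing C] [IsDomain C] [ValuationRing C]
    [CommRing C'] [IsDomain C'] (φ : C →+* C') (hinj : Function.Injective φ) [IsLocalHom φ]
    (𝔭 : Ideal C) [𝔭.IsPrime] : (𝔭.map φ).comap φ ≤ 𝔭 := by
  intro c hc
  rw [Ideal.mem_comap] at hc
  have key : ∀ x ∈ 𝔭.map φ, ∃ p ∈ 𝔭, φ p ∣ x := by
    intro x hx
    refine Submodule.span_induction (p := fun x _ => ∃ p ∈ 𝔭, φ p ∣ x) ?_ ?_ ?_ ?_ hx
    · rintro _ ⟨p, hp, rfl⟩
      exact ⟨p, hp, dvd_rfl⟩
    · exact ⟨0, 𝔭.zero_mem, by simp⟩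
    · rintro x y _ _ ⟨p₁, hp₁, h₁⟩ ⟨p₂, hp₂, h₂⟩
      rcases ValuationRing.dvd_total p₁ p₂ with h | h
      · exact ⟨p₁, hp₁, dvd_add h₁ ((map_dvd φ h).trans h₂)⟩
      · exact ⟨p₂, hp₂, dvd_add ((map_dvd φ h).trans h₁) h₂⟩
    · rintro a x _ ⟨p, hp, h⟩
      exact ⟨p, hp, Dvd.dvd.mul_left h a⟩
  obtain ⟨p, hp, c', hc'⟩ := key _ hc
  by_contra hcn
  rcases ValuationRing.dvd_total c p with h | h
  · obtain ⟨d, rfl⟩ := h
    have hd : d ∈ 𝔭 := (Ideal.IsPrime.mem_or_mem ‹_› hp).resolve_left hcn
    have hc0 : φ c ≠ 0 := by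
      intro h0
      have : c = 0 := hinj (by rw [h0, map_zero])
      exact hcn (this ▸ 𝔭.zero_mem)
    have h1 : φ d * c' = 1 := by
      have : φ c * (φ d * c') = φ c * 1 := by
        rw [mul_one, ← mul_assoc, ← map_mul]; exact hc'.symm
      exact mul_left_cancel₀ hc0 this
    have h2 : IsUnit (φ d) := IsUnit.of_mul_eq_one _ h1
    have h3 : IsUnit d := isUnit_of_map_unit φ d h2
    exact (Ideal.IsPrime.ne_top ‹_›) (Ideal.eq_top_of_isUnit_mem _ hd h3)
  · obtain ⟨d, rfl⟩ := h
    exact hcn (𝔭.mul_mem_right d hp)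

/-- Extending a coarsening `B ⊇ C` along a local extension `C → C'` of valuation rings. -/
theorem exists_coarsening_ext {L L' : Type u} [Field L] [Field L'] (C B : ValuationSubring L)
    (hle : C ≤ B) {C' : Type u} [CommRing C'] [IsDomain C'] [ValuationRing C'] [Algebra C' L']
    [IsFractionRing C' L'] (φ : C →+* C') (ψ : L →+* L')
    (hcomm : (algebraMap C' L').comp φ = ψ.comp C.subtype) [IsLocalHom φ] :
    ∃ (B' : ValuationSubring L') (cB' : C' →+* B') (ψB : B →+* B'), IsLocalHom ψB ∧
      B'.subtype.comp cB' = algebraMap C' L' ∧ B'.subtype.comp ψB = ψ.comp B.subtype := by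
  have hφ : ∀ c : C, algebraMap C' L' (φ c) = ψ c := fun c => RingHom.congr_fun hcomm c
  have hinj : Function.Injective φ := by
    intro c d hcd
    apply Subtype.ext
    apply ψ.injective
    rw [← hφ, ← hφ, hcd]
  let 𝔭 : Ideal C := ValuationSubring.idealOfLE C B hle
  have h𝔭mem : ∀ c : C, c ∈ 𝔭 ↔ ¬ IsUnit (ValuationSubring.inclusion C B hle c) := fun c => Iff.rfl
  have h1 : (𝔭.map φ).comap φ = 𝔭 :=
    le_antisymm (comap_map_le_of_valuationRing φ hinj 𝔭) Ideal.le_comap_map
  obtain ⟨𝔭', h𝔭', hcomap⟩ := (Ideal.comap_map_eq_self_iff_of_isPrime 𝔭).1 h1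
  have hg : ∀ y, y ∉ 𝔭' → algebraMap C' L' y ≠ 0 := by
    intro y hy h0
    have : y = 0 := (IsFractionRing.injective C' L') (by rw [h0, map_zero])
    exact hy (this ▸ 𝔭'.zero_mem)
  obtain ⟨B', hB', hB'u⟩ := exists_valSub_of_prime 𝔭' (algebraMap C' L') hg
  have hmem𝔭' : ∀ c : C, φ c ∈ 𝔭' ↔ c ∈ 𝔭 := fun c => by
    rw [← hcomap, Ideal.mem_comap]
  -- elements of `B` not in `C` have inverse in `C` which is a unit of `B`
  have hψB : ∀ b : B, ψ b ∈ B' := by
    intro b
    by_cases hb : (b : L) ∈ C
    · have := hB' (φ ⟨b, hb⟩)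
      rwa [hφ] at this
    · have hb' := (C.mem_or_inv_mem (b : L)).resolve_left hb
      have hb0 : (b : L) ≠ 0 := fun h0 => hb (h0 ▸ C.zero_mem)
      have hu : IsUnit (ValuationSubring.inclusion C B hle ⟨(b : L)⁻¹, hb'⟩) := by
        refine IsUnit.of_mul_eq_one b ?_
        apply Subtype.ext
        change (b : L)⁻¹ * (b : L) = 1
        exact inv_mul_cancel₀ hb0
      have h2 : φ ⟨(b : L)⁻¹, hb'⟩ ∉ 𝔭' := by
        rw [hmem𝔭', h𝔭mem]; exact not_not.2 hu
      obtain ⟨w, hw⟩ := (hB'u _).2 h2
      have h3 : ((↑w⁻¹ : B') : L') = ψ b := by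
        have h4 : ((w : B') : L') = ψ ((b : L)⁻¹) := by
          rw [hw]; exact hφ _
        have h5 : ((↑w⁻¹ : B') : L') * ((w : B') : L') = 1 :=
          congrArg Subtype.val (Units.inv_mul w)
        rw [h4, map_inv₀] at h5
        have h6 : ψ (b : L) ≠ 0 := (map_ne_zero ψ).2 hb0
        field_simp at h5
        exact h5
      rw [← h3]
      exact (↑w⁻¹ : B').2
  let cB' : C' →+* B' := (algebraMap C' L').codRestrict B'.toSubring hB'
  let ψB : B →+* B' := (ψ.comp B.subtype).codRestrict B'.toSubring hψB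
  refine ⟨B', cB', ψB, ⟨fun b hb => ?_⟩, rfl, rfl⟩
  -- local: non-units of B lie in C, in 𝔭
  by_contra hnu
  have hbC : (b : L) ∈ C := by
    by_contra hb
    have hb' := (C.mem_or_inv_mem (b : L)).resolve_left hb
    have hb0 : (b : L) ≠ 0 := fun h0 => hb (h0 ▸ C.zero_mem)
    apply hnu
    refine IsUnit.of_mul_eq_one (ValuationSubring.inclusion C B hle ⟨(b : L)⁻¹, hb'⟩) ?_
    apply Subtype.ext
    change (b : L) * (b : L)⁻¹ = 1
    exact mul_inv_cancel₀ hb0
  have h2 : (⟨b, hbC⟩ : C) ∈ 𝔭 := by
    rw [h𝔭mem]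
    exact hnu
  have h3 : φ ⟨b, hbC⟩ ∈ 𝔭' := (hmem𝔭' _).2 h2
  have h4 : ¬ IsUnit (⟨algebraMap C' L' (φ ⟨b, hbC⟩), hB' _⟩ : B') := fun h => (hB'u _).1 h h3
  apply h4
  have : (⟨algebraMap C' L' (φ ⟨b, hbC⟩), hB' _⟩ : B') = ψB b := Subtype.ext (hφ _)
  rw [this]
  exact hb

/-- The image in the residue field of a valuation subring `B'` of a valuation ring `C'` mapping to
`B'` compatibly with fraction fields: a valuation subring of the residue field. -/
noncomputable def quotVal {L' : Type u} [Field L'] (B' : ValuationSubring L') {C' : Type u} [CommRing C']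
    [IsDomain C'] [ValuationRing C'] [Algebra C' L'] [IsFractionRing C' L'] (cB' : C' →+* B')
    (hc : B'.subtype.comp cB' = algebraMap C' L') : ValuationSubring (ResidueField B') :=
  { ((residue B').comp cB').range with
    mem_or_inv_mem' := by
      intro y
      obtain ⟨b', rfl⟩ := residue_surjective (R := B') y
      have hcb : ∀ c', ((cB' c' : B') : L') = algebraMap C' L' c' := fun c' => RingHom.congr_fun hc c'
      rcases ValuationRing.isInteger_or_isInteger C' (b' : L') with ⟨c', h⟩ | ⟨c', h⟩
      · left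
        refine ⟨c', ?_⟩
        change residue B' (cB' c') = residue B' b'
        congr 1
        apply Subtype.ext
        rw [hcb, h]
      · right
        by_cases hb0 : (b' : L') = 0
        · refine ⟨0, ?_⟩
          have : b' = 0 := Subtype.ext hb0
          simp [this]
        · refine ⟨c', ?_⟩
          change residue B' (cB' c') = (residue B' b')⁻¹
          have h1 : cB' c' * b' = 1 := by
            apply Subtype.ext
            change ((cB' c' : B') : L') * (b' : L') = 1
            rw [hcb, h]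
            exact inv_mul_cancel₀ hb0
          have h2 : residue B' (cB' c') * residue B' b' = 1 := by
            rw [← map_mul, h1, map_one]
          exact eq_inv_of_mul_eq_one_left h2 }

/-- The final extension package. -/
theorem exists_final_ext {L L' : Type u} [Field L] [Field L'] (B : ValuationSubring L)
    (A₅ : ValuationSubring (ResidueField B)) {C' : Type u} [CommRing C'] [IsDomain C']
    [ValuationRing C'] [Algebra C' L'] [IsFractionRing C' L'] (φ : compVal B A₅ →+* C')
    (ψ : L →+* L') (hcomm : (algebraMap C' L').comp φ = ψ.comp (compVal B A₅).subtype)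
    [IsLocalHom φ] :
    ∃ (B' : ValuationSubring L') (cB' : C' →+* B') (ψB : B →+* B') (_ : IsLocalHom ψB)
      (A₆ : ValuationSubring (ResidueField B')) (cA₆ : C' →+* A₆) (ρ₆ : A₅ →+* A₆),
      B'.subtype.comp cB' = algebraMap C' L' ∧ B'.subtype.comp ψB = ψ.comp B.subtype ∧
      A₆.subtype.comp cA₆ = (residue B').comp cB' ∧ IsLocalHom ρ₆ ∧
      A₆.subtype.comp ρ₆ = (ResidueField.map ψB).comp A₅.subtype ∧
      ρ₆.comp (compProj B A₅) = cA₆.comp φ ∧ ψB.comp (compIncl B A₅) = cB'.comp φ := by
  obtain ⟨B', cB', ψB, hψB, hc1, hc2⟩ :=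
    exists_coarsening_ext (compVal B A₅) B (compVal_le B A₅) φ ψ hcomm
  let A₆ := quotVal B' cB' hc1
  let cA₆ : C' →+* A₆ := ((residue B').comp cB').rangeRestrict
  have hcomp : ψB.comp (compIncl B A₅) = cB'.comp φ := by
    ext c
    have h1 := RingHom.congr_fun hc2 (compIncl B A₅ c)
    have h2 := RingHom.congr_fun hc1 (φ c)
    have h3 := RingHom.congr_fun hcomm c
    change ((ψB (compIncl B A₅ c) : B') : L') = ((cB' (φ c) : B') : L')
    change ((ψB (compIncl B A₅ c) : B') : L') = ψ (c : L) at h1
    change ((cB' (φ c) : B') : L') = algebraMap C' L' (φ c) at h2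
    change algebraMap C' L' (φ c) = ψ (c : L) at h3
    rw [h1, h2, h3]
  have hmem : ∀ y : A₅, (ResidueField.map ψB) (y : ResidueField B) ∈ A₆ := by
    intro y
    obtain ⟨c, rfl⟩ := compProj_surjective B A₅ y
    refine ⟨φ c, ?_⟩
    change residue B' (cB' (φ c)) = ResidueField.map ψB (residue B (compIncl B A₅ c))
    rw [ResidueField.map_residue]
    congr 1
    exact (RingHom.congr_fun hcomp c).symm
  let ρ₆ : A₅ →+* A₆ := ((ResidueField.map ψB).comp A₅.subtype).codRestrict A₆.toSubring hmem
  have hρ : ρ₆.comp (compProj B A₅) = cA₆.comp φ := by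
    ext c
    change ResidueField.map ψB (residue B (compIncl B A₅ c)) = residue B' (cB' (φ c))
    rw [ResidueField.map_residue]
    congr 1
    exact RingHom.congr_fun hcomp c
  refine ⟨B', cB', ψB, hψB, A₆, cA₆, ρ₆, hc1, hc2, rfl, ⟨fun y hy => ?_⟩, rfl, hρ, hcomp⟩
  -- locality of ρ₆
  obtain ⟨c, rfl⟩ := compProj_surjective B A₅ y
  obtain ⟨z, hz⟩ := hy
  obtain ⟨c'', hc''⟩ := (↑z⁻¹ : A₆).2
  have h1 : residue B' (cB' (φ c * c'')) = 1 := by
    rw [map_mul, map_mul]
    have h2 : residue B' (cB' (φ c)) = ((ρ₆ (compProj B A₅ c) : A₆) : ResidueField B') := by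
      have := RingHom.congr_fun hρ c
      exact (congrArg Subtype.val this).symm
    change _ * ((residue B').comp cB') c'' = 1
    rw [h2, hc'', ← hz]
    exact congrArg Subtype.val (Units.mul_inv z)
  have h3 : IsUnit (φ c * c'') := by
    by_contra hnu
    have h4 : IsUnit (φ c * c'' - 1) := by
      have := IsLocalRing.isUnit_one_sub_self_of_mem_nonunits _ hnu
      have h5 : φ c * c'' - 1 = -(1 - φ c * c'') := by ring
      rw [h5]; exact this.neg
    have h6 : IsUnit (residue B' (cB' (φ c * c'' - 1))) := (h4.map cB').map _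
    rw [map_sub, map_sub, h1, map_one, map_one, sub_self] at h6
    exact not_isUnit_zero h6
  have h7 : IsUnit (φ c) := isUnit_of_mul_isUnit_left h3
  have h8 : IsUnit c := isUnit_of_map_unit φ c h7
  exact h8.map _

/-- Enlarging the residue field of a valuation ring: for a valuation subring `A'` of `L₀` and a field
extension `ι : κ(A') → Ω` there are a field `F ⊇ L₀`, a valuation subring `B` of `F` dominating `A'` and
an embedding `Ω → κ(B)` over `κ(A')`. -/
theorem exists_residue_ext {L₀ : Type u} [Field L₀] (A' : ValuationSubring L₀) {Ω : Type u} [Field Ω]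
    (ι : ResidueField A' →+* Ω) :
    ∃ (F : Type u) (_ : Field F) (j : L₀ →+* F) (B : ValuationSubring F) (jA : A' →+* B)
      (ι' : Ω →+* ResidueField B), IsLocalHom jA ∧
      B.subtype.comp jA = j.comp A'.subtype ∧
      (ι'.comp ι).comp (residue A') = (residue B).comp jA := by
  have key : ∀ (F : Type u) [Field F] [Algebra (MvPolynomial Ω A') F]
      [IsFractionRing (MvPolynomial Ω A') F],
      ∃ (F : Type u) (_ : Field F) (j : L₀ →+* F) (B : ValuationSubring F) (jA : A' →+* B)
      (ι' : Ω →+* ResidueField B), IsLocalHom jA ∧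
      B.subtype.comp jA = j.comp A'.subtype ∧
      (ι'.comp ι).comp (residue A') = (residue B).comp jA := by
    intro F _ _ _
    let P := MvPolynomial Ω A'
    let ev : P →+* Ω := MvPolynomial.eval₂Hom (ι.comp (residue A')) id
    have hevX : ∀ s, ev (MvPolynomial.X s) = s := fun s => by
      change MvPolynomial.eval₂ (ι.comp (residue A')) id (MvPolynomial.X s) = s
      rw [MvPolynomial.eval₂_X]; rfl
    have hevC : ∀ a, ev (MvPolynomial.C a) = ι (residue A' a) := fun a => by
      change MvPolynomial.eval₂ (ι.comp (residue A')) id (MvPolynomial.C a) = _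
      rw [MvPolynomial.eval₂_C]; rfl
    have hsurj : Function.Surjective ev := fun s => ⟨MvPolynomial.X s, hevX s⟩
    let 𝔪 : Ideal P := RingHom.ker ev
    have h𝔪 : 𝔪.IsMaximal := RingHom.ker_isMaximal_of_surjective ev hsurj
    haveI h𝔪p : 𝔪.IsPrime := h𝔪.isPrime
    have hg : ∀ y, y ∉ 𝔪 → algebraMap P F y ≠ 0 := by
      intro y hy h0
      have h1 : y = 0 := (IsFractionRing.injective P F) (by rw [h0, map_zero])
      exact hy (h1 ▸ 𝔪.zero_mem)
    obtain ⟨B, hB, hBu⟩ := exists_valSub_of_prime 𝔪 (algebraMap P F) hg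
    let gB : P →+* B := (algebraMap P F).codRestrict B.toSubring hB
    have hinj : Function.Injective ((algebraMap P F).comp (MvPolynomial.C (σ := Ω) (R := A'))) :=
      (IsFractionRing.injective P F).comp (MvPolynomial.C_injective Ω A')
    let j : L₀ →+* F := IsFractionRing.lift (A := A') hinj
    let jA : A' →+* B := gB.comp MvPolynomial.C
    have hq : RingHom.ker ev ≤ RingHom.ker ((residue B).comp gB) := by
      intro p hp
      rw [RingHom.mem_ker, RingHom.comp_apply, residue_eq_zero_iff]
      intro hu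
      exact (hBu p).1 hu hp
    let ι' : Ω →+* ResidueField B := RingHom.liftOfSurjective ev hsurj ⟨_, hq⟩
    refine ⟨F, inferInstance, j, B, jA, ι', ⟨fun a ha => ?_⟩, ?_, ?_⟩
    · have h1 : MvPolynomial.C a ∉ 𝔪 := (hBu (MvPolynomial.C a)).1 ha
      by_contra hnu
      apply h1
      change ev (MvPolynomial.C a) = 0
      rw [hevC, (residue_eq_zero_iff _).2 hnu, map_zero]
    · ext a
      change algebraMap P F (MvPolynomial.C a) = j (a : L₀)
      exact (IsFractionRing.lift_algebraMap hinj a).symm
    · ext a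
      change ι' (ι (residue A' a)) = residue B (jA a)
      rw [← hevC]
      exact RingHom.liftOfSurjective_comp_apply ev hsurj ⟨_, hq⟩ _
  exact key (FractionRing (MvPolynomial Ω A'))


end Groth.Agent.Lib.Helper37.RefValRing
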