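import Mathlib
import Groth.Prelude.Def_AlgSpMor5
import Groth.Agent.Lib.Helper37.ValuativeExist
import Groth.Agent.Lib.Helper37.RefValRing

/-!
# The refined valuative criterion: the core over an affine base (helper37)

* `exists_specializes_of_mem_closure_range`: closure of the image of a quasi-compact scheme in an affine
  scheme consists of specializations of image points.
* `exists_specializes_through_dense`: the density step.
* `exists_glue`: morphisms from the spectrum of a composite valuation ring to an affine scheme.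
* `hasLiftExt_core_chart`, `existVC_core`: if `f : X ⟶ h_W` (`W` affine) and `h : U ⟶ X` is quasi-compact
  with dense image, and valuative squares through `U` have unique lifts and lifts after extension, then
  `f` satisfies the existence part of the valuative criterion.
-/

set_option autoImplicit false
set_option linter.style.haveILetI false
universe u
open CategoryTheory CategoryTheory.Limits AlgebraicGeometry
open AlgSp
open Groth.Agent.Lib.Helper37.AlgSpPoints Groth.Agent.Lib.Helper37.AlgSpFibres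
open Groth.Agent.Lib.Helper23.AlgSpMor
open Groth.Agent.Lib.Helper37.RefValRing
open IsLocalRing

namespace Groth.Agent.Lib.Helper37.RefValCore
variable {S : Scheme.{u}}

/-- For a morphism from a quasi-compact scheme to an affine scheme, every point in the closure of the
image is a specialization of a point of the image. -/
theorem exists_specializes_of_mem_closure_range {U V : Scheme.{u}} [CompactSpace U] [IsAffine V]
    (g : U ⟶ V) (v : V) (hv : v ∈ closure (Set.range g)) : ∃ u : U, g u ⤳ v := by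
  obtain ⟨R, s, hs⟩ := compactSpace_iff_exists.mp ‹CompactSpace U›
  let k : Spec R ⟶ Spec Γ(V, ⊤) := s ≫ g ≫ V.isoSpec.hom
  obtain ⟨φ, hφ⟩ : ∃ φ, k = Spec.map φ := ⟨Spec.preimage k, (Spec.map_preimage k).symm⟩
  have hhomeo : IsHomeomorph V.isoSpec.hom := (Scheme.homeoOfIso V.isoSpec).isHomeomorph
  have hrange : Set.range (Spec.map φ) = V.isoSpec.hom '' (Set.range g) := by
    rw [← hφ]
    ext x
    constructor
    · rintro ⟨r, rfl⟩
      exact ⟨g (s r), ⟨s r, rfl⟩, rfl⟩
    · rintro ⟨_, ⟨t, rfl⟩, rfl⟩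
      obtain ⟨r, rfl⟩ := hs t
      exact ⟨r, rfl⟩
  have hv' : V.isoSpec.hom v ∈ closure (Set.range (Spec.map φ)) := by
    rw [hrange]
    exact image_closure_subset_closure_image hhomeo.continuous ⟨v, hv, rfl⟩
  change V.isoSpec.hom v ∈ closure (Set.range (PrimeSpectrum.comap φ.hom)) at hv'
  rw [PrimeSpectrum.closure_range_comap] at hv'
  have hx : (⊥ : Ideal R).comap φ.hom ≤ (V.isoSpec.hom v).asIdeal := hv'
  obtain ⟨q, hq₁, hq₂⟩ := Ideal.exists_minimalPrimes_le hx
  obtain ⟨p', hp', -, hp''⟩ := Ideal.exists_comap_eq_of_mem_minimalPrimes φ.hom _ hq₁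
  let r₀ : Spec R := ⟨p', hp'⟩
  refine ⟨s r₀, ?_⟩
  have h1 : (Spec.map φ) r₀ ⤳ V.isoSpec.hom v := by
    refine (PrimeSpectrum.le_iff_specializes (R := Γ(V, ⊤))
      (PrimeSpectrum.comap φ.hom ⟨p', hp'⟩) (V.isoSpec.hom v)).1 ?_
    change p'.comap φ.hom ≤ _
    rw [hp'']
    exact hq₂
  rw [← hφ] at h1
  change V.isoSpec.hom (g (s r₀)) ⤳ V.isoSpec.hom v at h1
  exact (hhomeo.isInducing.specializes_iff).1 h1

/-- Density step: for a quasi-compact `h : U ⟶ X` with dense image and an affine etale chart `(V, a)`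
of `X`, every point of `V` is a specialization of the image of a point of a scheme mapping to `U`. -/
theorem exists_specializes_through_dense {X U : Sp S} (h : U ⟶ X) (hh : IsQuasiCompactMor h)
    (hd : DenseRange (Points.map h)) {V : Over S} [IsAffine V.left] (a : (yon S).obj V ⟶ X)
    (ha : RepWith @Etale a) (v : ↥V.left) :
    ∃ (W' : Over S) (g' : W' ⟶ V) (tU : (yon S).obj W' ⟶ U) (w' : ↥W'.left),
      tU ≫ h = (yon S).map g' ≫ a ∧ g'.left w' ⤳ v := by
  have psq : IsPullback (pullback.fst h a) (pullback.snd h a) h a := IsPullback.of_hasPullback h a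
  have hVc : CompactSpace ↥V.left := inferInstance
  have hq : IsQuasiCompactSp (pullback h a) :=
    hh (IsAlgSpace.yon_obj V) (isQuasiCompactSp_yon V) a _ _ psq
  obtain ⟨W', p, hpe, hps, hW'c⟩ := hq
  obtain ⟨g', hg'⟩ := (yon S).map_surjective (p ≫ pullback.snd h a)
  refine ⟨W', g', p ≫ pullback.fst h a, ?_⟩
  have hsub : Points.ofPt a ⁻¹' (Set.range (Points.map h)) ⊆ Set.range g'.left := by
    rintro v' ⟨y, hy⟩
    have e : Points.map h y = Points.map a (Points.ofScheme V v') := by
      rw [hy, ← Points.ofPt_eq_map_ofScheme]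
    obtain ⟨z, hz1, hz2⟩ := points_exists_of_isPullback psq y (Points.ofScheme V v') e
    obtain ⟨w'', rfl⟩ := ofPt_surjective p hps z
    refine ⟨w'', ?_⟩
    rw [Points.map_ofPt, ← hg', ofPt_yon_map] at hz2
    have h2 := congrArg (Points.toScheme V) hz2
    rwa [Points.toScheme_ofScheme, Points.toScheme_ofScheme] at h2
  have hdense : Dense (Points.ofPt a ⁻¹' (Set.range (Points.map h))) :=
    Dense.preimage hd (isOpenMap_ofPt a ha)
  have hv : v ∈ closure (Set.range g'.left) := closure_mono hsub (hdense v)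
  obtain ⟨w', hw'⟩ := exists_specializes_of_mem_closure_range g'.left v hv
  exact ⟨w', by rw [Category.assoc, pullback.condition, ← Category.assoc, hg'], hw'⟩

/-- Gluing morphisms to an affine scheme along the composite valuation ring. -/
theorem exists_glue {L : Type u} [Field L] (B : ValuationSubring L)
    (A₅ : ValuationSubring (ResidueField B)) {Wl : Scheme.{u}} [IsAffine Wl]
    (nB : Spec (.of B) ⟶ Wl) (nA : Spec (.of A₅) ⟶ Wl)
    (h : Spec.map (CommRingCat.ofHom (residue B)) ≫ nB =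
      Spec.map (CommRingCat.ofHom A₅.subtype) ≫ nA) :
    ∃ nC : Spec (.of (compVal B A₅)) ⟶ Wl,
      Spec.map (CommRingCat.ofHom (compIncl B A₅)) ≫ nC = nB ∧
      Spec.map (CommRingCat.ofHom (compProj B A₅)) ≫ nC = nA := by
  let αB : Γ(Wl, ⊤) →+* B := (Spec.preimage (nB ≫ Wl.isoSpec.hom)).hom
  let αA : Γ(Wl, ⊤) →+* A₅ := (Spec.preimage (nA ≫ Wl.isoSpec.hom)).hom
  have hαB : Spec.map (CommRingCat.ofHom αB) = nB ≫ Wl.isoSpec.hom := by
    change Spec.map (CommRingCat.ofHom (Spec.preimage (nB ≫ Wl.isoSpec.hom)).hom) = _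
    rw [CommRingCat.ofHom_hom, Spec.map_preimage]
  have hαA : Spec.map (CommRingCat.ofHom αA) = nA ≫ Wl.isoSpec.hom := by
    change Spec.map (CommRingCat.ofHom (Spec.preimage (nA ≫ Wl.isoSpec.hom)).hom) = _
    rw [CommRingCat.ofHom_hom, Spec.map_preimage]
  have hcompat : (residue B).comp αB = A₅.subtype.comp αA := by
    have h1 : Spec.map (CommRingCat.ofHom ((residue B).comp αB)) =
        Spec.map (CommRingCat.ofHom (A₅.subtype.comp αA)) := by
      rw [CommRingCat.ofHom_comp, CommRingCat.ofHom_comp, Spec.map_comp, Spec.map_comp, hαB, hαA,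
        ← Category.assoc, ← Category.assoc, h]
    exact congrArg CommRingCat.Hom.hom (Spec.map_injective h1)
  have hmem : ∀ x, B.subtype (αB x) ∈ (compVal B A₅).toSubring := by
    intro x
    refine mem_compVal.2 ⟨(αB x).2, ?_⟩
    have := RingHom.congr_fun hcompat x
    change residue B (αB x) = _ at this
    change residue B (αB x) ∈ A₅
    rw [this]
    exact (αA x).2
  let γ : Γ(Wl, ⊤) →+* compVal B A₅ := (B.subtype.comp αB).codRestrict _ hmem
  have hγ1 : (compIncl B A₅).comp γ = αB := by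
    ext x; rfl
  have hγ2 : (compProj B A₅).comp γ = αA := by
    ext x
    have := RingHom.congr_fun hcompat x
    exact this
  refine ⟨Spec.map (CommRingCat.ofHom γ) ≫ Wl.isoSpec.inv, ?_, ?_⟩
  · rw [← Category.assoc, ← Spec.map_comp, ← CommRingCat.ofHom_comp, hγ1, hαB, Category.assoc,
      Iso.hom_inv_id, Category.comp_id]
  · rw [← Category.assoc, ← Spec.map_comp, ← CommRingCat.ofHom_comp, hγ2, hαA, Category.assoc,
      Iso.hom_inv_id, Category.comp_id]

theorem hasLiftExt_core_chart {X U : Sp S} {W : Over S} [IsAffine W.left]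
    (f : X ⟶ (yon S).obj W) (h : U ⟶ X) (hh : IsQuasiCompactMor h)
    (hd : DenseRange (Points.map h))
    (hv : ∀ sq : ValSq f, (∃ t : (yon S).obj sq.ptK ⟶ U, t ≫ h = sq.top) →
      sq.HasUniq ∧ sq.HasLiftExt)
    (sq : ValSq f) {V : Over S} [IsAffine V.left] (a : (yon S).obj V ⟶ X) (ha : RepWith @Etale a)
    {R : Over S} (r1 : R ⟶ V) (r2 : R ⟶ sq.ptK)
    (hR : (yon S).map r1 ≫ a = (yon S).map r2 ≫ sq.top) (r : ↥R.left) : sq.HasLiftExt := by
  obtain ⟨β, hβ⟩ := (yon S).map_surjective sq.bot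
  obtain ⟨g, hg⟩ := (yon S).map_surjective (a ≫ f)
  have E1 : r1.left ≫ g.left =
      r2.left ≫ Spec.map (CommRingCat.ofHom (algebraMap sq.A sq.K)) ≫ β.left := by
    have h1 : r1 ≫ g = r2 ≫ sq.j ≫ β := by
      apply (yon S).map_injective
      rw [Functor.map_comp, hg, ← Category.assoc, hR, Category.assoc, sq.comm, Functor.map_comp,
        Functor.map_comp, hβ]
    exact congrArg (fun m => m.left) h1
  obtain ⟨W', g', tU, w', htU, hw'⟩ := exists_specializes_through_dense h hh hd a ha (r1.left r)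
  -- the valuation ring A'
  let φ₀ : V.left.presheaf.stalk (r1.left r) ⟶ W'.left.residueField w' :=
    V.left.presheaf.stalkSpecializes hw' ≫ g'.left.stalkMap w' ≫ W'.left.residue w'
  obtain ⟨A', hA', hA'_local⟩ := exists_factor_valuationRing φ₀.hom
  let toA' : V.left.presheaf.stalk (r1.left r) →+* A' := φ₀.hom.codRestrict _ hA'
  have hw0 : W'.left.fromSpecResidueField w' ≫ g'.left =
      Spec.map (CommRingCat.ofHom (algebraMap A' (W'.left.residueField w'))) ≫
        Spec.map (CommRingCat.ofHom toA') ≫ V.left.fromSpecStalk (r1.left r) := by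
    rw [Scheme.fromSpecResidueField, Category.assoc, ← Scheme.SpecMap_stalkMap_fromSpecStalk,
      ← Scheme.SpecMap_stalkSpecializes_fromSpecStalk hw']
    simp_rw [← Spec.map_comp_assoc]
    rfl
  let mA' : Spec (.of A') ⟶ V.left :=
    Spec.map (CommRingCat.ofHom toA') ≫ V.left.fromSpecStalk (r1.left r)
  -- fields
  have : IsLocalHom toA' := hA'_local
  let σ₁ : V.left.residueField (r1.left r) →+* ResidueField A' := ResidueField.map toA'
  let σ₂ : V.left.residueField (r1.left r) →+* R.left.residueField r :=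
    (r1.left.residueFieldMap r).hom
  obtain ⟨Ω, _, i₁, i₂, hi⟩ := FieldPt.exists_amalgamation σ₁ σ₂
  obtain ⟨F, _, j, B, jA, ι', hjAl, hjA, hι'⟩ := exists_residue_ext A' i₁
  let χ : sq.K →+* R.left.residueField r :=
    (Spec.preimage (R.left.fromSpecResidueField r ≫ r2.left :
      Spec (R.left.residueField r) ⟶ Spec (.of sq.K))).hom
  have hχ : Spec.map (CommRingCat.ofHom χ) = R.left.fromSpecResidueField r ≫ r2.left := by
    change Spec.map (CommRingCat.ofHom (Spec.preimage _).hom) = _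
    rw [CommRingCat.ofHom_hom, Spec.map_preimage]
  let θK : sq.K →+* ResidueField B := ι'.comp (i₂.comp χ)
  let θ : sq.A →+* ResidueField B := θK.comp (algebraMap sq.A sq.K)
  obtain ⟨A₅, hA₅, hA₅l⟩ := exists_factor_valuationRing θ
  let θA : sq.A →+* A₅ := θ.codRestrict _ hA₅
  let mB : Spec (.of B) ⟶ V.left := Spec.map (CommRingCat.ofHom jA) ≫ mA'
  have E4 : Spec.map (CommRingCat.ofHom (residue B)) ≫ mB =
      Spec.map (CommRingCat.ofHom (ι'.comp i₂)) ≫ R.left.fromSpecResidueField r ≫ r1.left := by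
    have ring : ((residue B).comp jA).comp toA' =
        ((ι'.comp i₂).comp σ₂).comp (residue (V.left.presheaf.stalk (r1.left r))) := by
      ext x
      have h1 := RingHom.congr_fun hι' (toA' x)
      have h2 := RingHom.congr_fun hi (residue _ x)
      change ι' (i₁ (residue A' (toA' x))) = residue B (jA (toA' x)) at h1
      change i₁ (σ₁ (residue _ x)) = i₂ (σ₂ (residue _ x)) at h2
      change residue B (jA (toA' x)) = ι' (i₂ (σ₂ (residue _ x)))
      rw [← h1, ← h2]
      rfl
    calc Spec.map (CommRingCat.ofHom (residue B)) ≫ mB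
        = Spec.map (CommRingCat.ofHom (((residue B).comp jA).comp toA')) ≫
            V.left.fromSpecStalk (r1.left r) := by
          simp only [mB, mA', CommRingCat.ofHom_comp, Spec.map_comp, Category.assoc]
      _ = Spec.map (CommRingCat.ofHom (ι'.comp i₂)) ≫ Spec.map (r1.left.residueFieldMap r) ≫
            Spec.map (V.left.residue (r1.left r)) ≫ V.left.fromSpecStalk (r1.left r) := by
          rw [ring]
          simp only [CommRingCat.ofHom_comp, Spec.map_comp, Category.assoc]
          rfl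
      _ = _ := by
          rw [← Scheme.Hom.SpecMap_residueFieldMap_fromSpecResidueField]
          rfl
  -- gluing
  have hglue : Spec.map (CommRingCat.ofHom (residue B)) ≫ (mB ≫ g.left) =
      Spec.map (CommRingCat.ofHom A₅.subtype) ≫ (Spec.map (CommRingCat.ofHom θA) ≫ β.left) := by
    rw [← Category.assoc, E4]
    have h1 : A₅.subtype.comp θA = ((ι'.comp i₂).comp χ).comp (algebraMap sq.A sq.K) := rfl
    rw [← Category.assoc (Spec.map (CommRingCat.ofHom A₅.subtype)), ← Spec.map_comp,
      ← CommRingCat.ofHom_comp, h1]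
    simp only [CommRingCat.ofHom_comp, Spec.map_comp, Category.assoc]
    rw [E1, ← Category.assoc (R.left.fromSpecResidueField r), ← hχ]
  obtain ⟨mC, hmC1, hmC2⟩ := exists_glue B A₅ (mB ≫ g.left)
    (Spec.map (CommRingCat.ofHom θA) ≫ β.left) hglue
  have E5 : Spec.map (CommRingCat.ofHom j) ≫ W'.left.fromSpecResidueField w' ≫ g'.left =
      Spec.map (CommRingCat.ofHom (algebraMap B F)) ≫ mB := by
    rw [hw0]
    have h1 : j.comp (algebraMap A' (W'.left.residueField w')) = (algebraMap B F).comp jA :=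
      hjA.symm
    change _ = Spec.map (CommRingCat.ofHom (algebraMap B F)) ≫ Spec.map (CommRingCat.ofHom jA) ≫ mA'
    rw [← Category.assoc, ← Spec.map_comp, ← CommRingCat.ofHom_comp, h1, CommRingCat.ofHom_comp,
      Spec.map_comp, Category.assoc]
  have E6 : (Spec.map (CommRingCat.ofHom j) ≫ W'.left.fromSpecResidueField w') ≫ g'.left ≫ g.left =
      Spec.map (CommRingCat.ofHom (algebraMap (compVal B A₅) F)) ≫ mC := by
    calc (Spec.map (CommRingCat.ofHom j) ≫ W'.left.fromSpecResidueField w') ≫ g'.left ≫ g.left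
        = (Spec.map (CommRingCat.ofHom j) ≫ W'.left.fromSpecResidueField w' ≫ g'.left) ≫ g.left := by
          simp only [Category.assoc]
      _ = Spec.map (CommRingCat.ofHom (algebraMap B F)) ≫ (mB ≫ g.left) := by
          rw [E5, Category.assoc]
      _ = _ := by
          rw [← hmC1]
          change _ = Spec.map (CommRingCat.ofHom ((algebraMap B F).comp (compIncl B A₅))) ≫ mC
          rw [CommRingCat.ofHom_comp (compIncl B A₅) (algebraMap B F), Spec.map_comp, Category.assoc]
  have hVW : g.left ≫ W.hom = V.hom := Over.w g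
  have hW'V : g'.left ≫ V.hom = W'.hom := Over.w g'
  let κL : Over.mk (Spec.map (CommRingCat.ofHom (algebraMap (compVal B A₅) F)) ≫ mC ≫ W.hom) ⟶ W' :=
    Over.homMk (Spec.map (CommRingCat.ofHom j) ≫ W'.left.fromSpecResidueField w') (by
      change (Spec.map (CommRingCat.ofHom j) ≫ W'.left.fromSpecResidueField w') ≫ W'.hom =
        Spec.map (CommRingCat.ofHom (algebraMap (compVal B A₅) F)) ≫ mC ≫ W.hom
      rw [← hW'V, ← hVW, ← Category.assoc (Spec.map _) mC, ← E6]
      simp only [Category.assoc])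
  let sqC : ValSq f :=
    { A := compVal B A₅, K := F, str := mC ≫ W.hom, top := (yon S).map κL ≫ tU ≫ h,
      bot := (yon S).map (Over.homMk mC rfl : Over.mk (mC ≫ W.hom) ⟶ W),
      comm := by
        rw [Category.assoc, Category.assoc, ← Category.assoc tU, htU, Category.assoc, ← hg,
          ← Functor.map_comp, ← Functor.map_comp, ← Functor.map_comp]
        congr 1
        ext
        exact E6 }
  obtain ⟨-, e, l, hl1, hl2⟩ := hv sqC ⟨(yon S).map κL ≫ tU, by rw [Category.assoc]⟩
  have heloc : IsLocalHom e.φ := e.isLocalHom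
  obtain ⟨B', cB', ψB, hψBl, A₆, cA₆, ρ₆, hc1, hc2, hc3, hρ₆l, hc4, hc5, hc6⟩ :=
    exists_final_ext (L := F) (L' := e.K') B A₅ (C' := e.A') e.φ e.ψ e.comm
  -- names for the maps in `hl1`, `hl2`
  let je : e.ptK' ⟶ e.ptA' := Over.homMk (Spec.map (CommRingCat.ofHom (algebraMap e.A' e.K'))) rfl
  let ψmap : e.ptK' ⟶ sqC.ptK := Over.homMk (Spec.map (CommRingCat.ofHom e.ψ)) (by
    change Spec.map _ ≫ Spec.map _ ≫ _ = Spec.map _ ≫ Spec.map _ ≫ _
    rw [← Spec.map_comp_assoc, ← Spec.map_comp_assoc, ← CommRingCat.ofHom_comp,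
      ← CommRingCat.ofHom_comp, e.comm])
  let φmap : e.ptA' ⟶ sqC.ptA := Over.homMk (Spec.map (CommRingCat.ofHom e.φ)) rfl
  have hl1' : (yon S).map je ≫ l = (yon S).map ψmap ≫ sqC.top := hl1
  have hl2' : l ≫ f = (yon S).map φmap ≫ sqC.bot := hl2
  -- the square for `B'`
  let cB'ov : Over.mk (Spec.map (CommRingCat.ofHom cB') ≫ e.ptA'.hom) ⟶ e.ptA' :=
    Over.homMk (Spec.map (CommRingCat.ofHom cB')) rfl
  let l₁ : (yon S).obj (Over.mk (Spec.map (CommRingCat.ofHom cB') ≫ e.ptA'.hom)) ⟶ X :=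
    (yon S).map cB'ov ≫ l
  let jB' : Over.mk (Spec.map (CommRingCat.ofHom (algebraMap B' e.K')) ≫
      Spec.map (CommRingCat.ofHom cB') ≫ e.ptA'.hom) ⟶
      Over.mk (Spec.map (CommRingCat.ofHom cB') ≫ e.ptA'.hom) :=
    Over.homMk (Spec.map (CommRingCat.ofHom (algebraMap B' e.K'))) rfl
  let sqB' : ValSq f :=
    { A := B', K := e.K', str := Spec.map (CommRingCat.ofHom cB') ≫ e.ptA'.hom,
      top := (yon S).map jB' ≫ l₁,
      bot := l₁ ≫ f,
      comm := by rw [Category.assoc] }
  have hB'alg : (algebraMap B' e.K').comp cB' = algebraMap e.A' e.K' := hc1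
  have hSpecB' : Spec.map (CommRingCat.ofHom (algebraMap B' e.K')) ≫
      Spec.map (CommRingCat.ofHom cB') = Spec.map (CommRingCat.ofHom (algebraMap e.A' e.K')) := by
    rw [← Spec.map_comp, ← CommRingCat.ofHom_comp, hB'alg]
  let ιK : sqB'.ptK ⟶ e.ptK' := Over.homMk (𝟙 _) (by
    change 𝟙 _ ≫ Spec.map (CommRingCat.ofHom (algebraMap e.A' e.K')) ≫ e.ptA'.hom =
      Spec.map (CommRingCat.ofHom (algebraMap B' e.K')) ≫ Spec.map (CommRingCat.ofHom cB') ≫
        e.ptA'.hom
    rw [Category.id_comp, ← hSpecB', Category.assoc])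
  have hjB' : sqB'.j ≫ cB'ov = ιK ≫ je := by
    ext
    change Spec.map (CommRingCat.ofHom (algebraMap B' e.K')) ≫ Spec.map (CommRingCat.ofHom cB') =
      𝟙 _ ≫ Spec.map (CommRingCat.ofHom (algebraMap e.A' e.K'))
    rw [Category.id_comp, hSpecB']
  have htop : sqB'.top = ((yon S).map (ιK ≫ ψmap ≫ κL) ≫ tU) ≫ h := by
    change (yon S).map sqB'.j ≫ (yon S).map cB'ov ≫ l = _
    rw [← Category.assoc, ← Functor.map_comp, hjB', Functor.map_comp, Category.assoc, hl1']
    change _ ≫ _ ≫ (yon S).map κL ≫ tU ≫ h = _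
    simp only [Functor.map_comp, Category.assoc]
  have E7 : (Spec.map (CommRingCat.ofHom ψB) ≫ mB) ≫ g.left =
      Spec.map (CommRingCat.ofHom cB') ≫ Spec.map (CommRingCat.ofHom e.φ) ≫ mC := by
    rw [Category.assoc, ← hmC1, ← Category.assoc, ← Spec.map_comp, ← CommRingCat.ofHom_comp, hc6,
      CommRingCat.ofHom_comp, Spec.map_comp, Category.assoc]
  let iB'' : sqB'.ptA ⟶ V := Over.homMk (Spec.map (CommRingCat.ofHom ψB) ≫ mB) (by
    change (Spec.map (CommRingCat.ofHom ψB) ≫ mB) ≫ V.hom =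
      Spec.map (CommRingCat.ofHom cB') ≫ Spec.map (CommRingCat.ofHom e.φ) ≫ mC ≫ W.hom
    rw [← hVW, ← Category.assoc, E7]
    simp only [Category.assoc])
  let l₂ : (yon S).obj sqB'.ptA ⟶ X := (yon S).map iB'' ≫ a
  have hl₂a : (yon S).map sqB'.j ≫ l₂ = sqB'.top := by
    rw [htop]
    change (yon S).map sqB'.j ≫ (yon S).map iB'' ≫ a = _
    rw [Category.assoc, htU, ← Category.assoc, ← Functor.map_comp, ← Category.assoc,
      ← Functor.map_comp]
    congr 2
    ext
    change Spec.map (CommRingCat.ofHom (algebraMap B' e.K')) ≫ Spec.map (CommRingCat.ofHom ψB) ≫ mB =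
      (𝟙 _ ≫ Spec.map (CommRingCat.ofHom e.ψ) ≫
        (Spec.map (CommRingCat.ofHom j) ≫ W'.left.fromSpecResidueField w')) ≫ g'.left
    have h1 : (algebraMap B' e.K').comp ψB = e.ψ.comp (algebraMap B F) := hc2
    have h2 : Spec.map (CommRingCat.ofHom (algebraMap B' e.K')) ≫ Spec.map (CommRingCat.ofHom ψB) =
        Spec.map (CommRingCat.ofHom e.ψ) ≫ Spec.map (CommRingCat.ofHom (algebraMap B F)) := by
      rw [← Spec.map_comp, ← CommRingCat.ofHom_comp, h1, ← Spec.map_comp, ← CommRingCat.ofHom_comp]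
    rw [Category.id_comp, Category.assoc, Category.assoc, E5, ← Category.assoc, h2, Category.assoc]
  have hl₂b : l₂ ≫ f = sqB'.bot := by
    change ((yon S).map iB'' ≫ a) ≫ f = ((yon S).map cB'ov ≫ l) ≫ f
    rw [Category.assoc, Category.assoc, hl2', ← hg]
    change _ = _ ≫ _ ≫ (yon S).map (Over.homMk mC rfl : Over.mk (mC ≫ W.hom) ⟶ W)
    rw [← Functor.map_comp, ← Functor.map_comp, ← Functor.map_comp]
    congr 1
    ext
    exact E7
  have huniq : l₁ = l₂ :=
    (hv sqB' ⟨(yon S).map (ιK ≫ ψmap ≫ κL) ≫ tU, htop.symm⟩).1 l₁ l₂ rfl rfl hl₂a hl₂b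
  -- the final extension
  have hθA : IsLocalHom θA := hA₅l
  let ψ₆ : sq.K →+* ResidueField B' := (ResidueField.map ψB).comp θK
  let φ₆ : sq.A →+* A₆ := ρ₆.comp θA
  have hcomm₆ : (algebraMap A₆ (ResidueField B')).comp φ₆ = ψ₆.comp (algebraMap sq.A sq.K) := by
    change (A₆.subtype.comp ρ₆).comp θA = _
    rw [hc4]
    rfl
  let e₆ : sq.DomExt :=
    { A' := A₆, K' := ResidueField B', φ := φ₆, ψ := ψ₆, comm := hcomm₆,
      isLocalHom := RingHom.isLocalHom_comp ρ₆ θA }
  have hβw : β.left ≫ W.hom = sq.str := Over.w β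
  have E3 : Spec.map (CommRingCat.ofHom cA₆) ≫ Spec.map (CommRingCat.ofHom e.φ) ≫ mC =
      Spec.map (CommRingCat.ofHom φ₆) ≫ β.left := by
    rw [← Category.assoc, ← Spec.map_comp, ← CommRingCat.ofHom_comp, ← hc5,
      CommRingCat.ofHom_comp (compProj B A₅) ρ₆, Spec.map_comp, Category.assoc, hmC2,
      ← Category.assoc, ← Spec.map_comp, ← CommRingCat.ofHom_comp]
  let κ₆ : e₆.ptA' ⟶ e.ptA' := Over.homMk (Spec.map (CommRingCat.ofHom cA₆)) (by
    change Spec.map (CommRingCat.ofHom cA₆) ≫ Spec.map (CommRingCat.ofHom e.φ) ≫ mC ≫ W.hom =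
      Spec.map (CommRingCat.ofHom φ₆) ≫ sq.str
    rw [← hβw, ← Category.assoc (Spec.map (CommRingCat.ofHom φ₆)), ← E3]
    simp only [Category.assoc])
  refine ⟨e₆, (yon S).map κ₆ ≫ l, ?_, ?_⟩
  · let jK₆ : e₆.ptK' ⟶ e₆.ptA' :=
      Over.homMk (Spec.map (CommRingCat.ofHom (algebraMap A₆ (ResidueField B')))) rfl
    have hSpec₆ : Spec.map (CommRingCat.ofHom (residue B')) ≫ Spec.map (CommRingCat.ofHom cB') =
        Spec.map (CommRingCat.ofHom (algebraMap A₆ (ResidueField B'))) ≫
          Spec.map (CommRingCat.ofHom cA₆) := by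
      rw [← Spec.map_comp, ← CommRingCat.ofHom_comp, ← Spec.map_comp, ← CommRingCat.ofHom_comp]
      congr 2
      exact hc3.symm
    have hκ₆w : Spec.map (CommRingCat.ofHom cA₆) ≫ e.ptA'.hom = e₆.ptA'.hom := Over.w κ₆
    let resB'ov : e₆.ptK' ⟶ sqB'.ptA := Over.homMk (Spec.map (CommRingCat.ofHom (residue B'))) (by
      change Spec.map (CommRingCat.ofHom (residue B')) ≫ Spec.map (CommRingCat.ofHom cB') ≫
        e.ptA'.hom = Spec.map (CommRingCat.ofHom (algebraMap A₆ (ResidueField B'))) ≫ e₆.ptA'.hom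
      rw [← Category.assoc, hSpec₆, Category.assoc, hκ₆w])
    have hjκ : jK₆ ≫ κ₆ = resB'ov ≫ cB'ov := by
      ext
      exact hSpec₆.symm
    have hψ₆ : ψ₆ = ((ResidueField.map ψB).comp (ι'.comp i₂)).comp χ := rfl
    have hr2w : r2.left ≫ sq.ptK.hom = R.hom := Over.w r2
    let ρr : e₆.ptK' ⟶ R := Over.homMk
      (Spec.map (CommRingCat.ofHom ((ResidueField.map ψB).comp (ι'.comp i₂))) ≫
        R.left.fromSpecResidueField r) (by
      change (Spec.map (CommRingCat.ofHom ((ResidueField.map ψB).comp (ι'.comp i₂))) ≫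
        R.left.fromSpecResidueField r) ≫ R.hom =
        Spec.map (CommRingCat.ofHom (algebraMap A₆ (ResidueField B'))) ≫
          Spec.map (CommRingCat.ofHom φ₆) ≫ sq.str
      rw [← hr2w, Category.assoc, ← Category.assoc (R.left.fromSpecResidueField r), ← hχ]
      change _ ≫ _ ≫ Spec.map (CommRingCat.ofHom (algebraMap sq.A sq.K)) ≫ sq.str = _
      rw [← Category.assoc, ← Spec.map_comp, ← CommRingCat.ofHom_comp, ← hψ₆, ← Category.assoc,
        ← Spec.map_comp, ← CommRingCat.ofHom_comp, ← hcomm₆, ← Category.assoc, ← Spec.map_comp,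
        ← CommRingCat.ofHom_comp])
    have hρr2 : ρr ≫ r2 = (Over.homMk (Spec.map (CommRingCat.ofHom e₆.ψ)) (by
          change Spec.map _ ≫ Spec.map _ ≫ _ = Spec.map _ ≫ Spec.map _ ≫ _
          rw [← Spec.map_comp_assoc, ← Spec.map_comp_assoc, ← CommRingCat.ofHom_comp,
            ← CommRingCat.ofHom_comp, e₆.comm]) : e₆.ptK' ⟶ sq.ptK) := by
      ext
      change (Spec.map (CommRingCat.ofHom ((ResidueField.map ψB).comp (ι'.comp i₂))) ≫
        R.left.fromSpecResidueField r) ≫ r2.left = Spec.map (CommRingCat.ofHom ψ₆)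
      rw [Category.assoc, ← hχ, ← Spec.map_comp, ← CommRingCat.ofHom_comp, ← hψ₆]
    have hρr1 : ρr ≫ r1 = resB'ov ≫ iB'' := by
      ext
      change (Spec.map (CommRingCat.ofHom ((ResidueField.map ψB).comp (ι'.comp i₂))) ≫
        R.left.fromSpecResidueField r) ≫ r1.left =
        Spec.map (CommRingCat.ofHom (residue B')) ≫ Spec.map (CommRingCat.ofHom ψB) ≫ mB
      have h1 : (residue B').comp ψB = (ResidueField.map ψB).comp (residue B) :=
        (ResidueField.map_comp_residue ψB).symm
      have h2 : Spec.map (CommRingCat.ofHom (residue B')) ≫ Spec.map (CommRingCat.ofHom ψB) =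
          Spec.map (CommRingCat.ofHom (ResidueField.map ψB)) ≫
            Spec.map (CommRingCat.ofHom (residue B)) := by
        rw [← Spec.map_comp, ← CommRingCat.ofHom_comp, h1, ← Spec.map_comp,
          ← CommRingCat.ofHom_comp]
      have h3 : Spec.map (CommRingCat.ofHom ((ResidueField.map ψB).comp (ι'.comp i₂))) =
          Spec.map (CommRingCat.ofHom (ResidueField.map ψB)) ≫
            Spec.map (CommRingCat.ofHom (ι'.comp i₂)) := by
        rw [← Spec.map_comp, ← CommRingCat.ofHom_comp]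
      calc (Spec.map (CommRingCat.ofHom ((ResidueField.map ψB).comp (ι'.comp i₂))) ≫
            R.left.fromSpecResidueField r) ≫ r1.left
          = Spec.map (CommRingCat.ofHom (ResidueField.map ψB)) ≫
              (Spec.map (CommRingCat.ofHom (ι'.comp i₂)) ≫ R.left.fromSpecResidueField r ≫
                r1.left) := by
            rw [h3]; simp only [Category.assoc]
        _ = Spec.map (CommRingCat.ofHom (ResidueField.map ψB)) ≫
              (Spec.map (CommRingCat.ofHom (residue B)) ≫ mB) := by rw [E4]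
        _ = _ := by rw [← Category.assoc, ← h2, Category.assoc]
    calc (yon S).map jK₆ ≫ (yon S).map κ₆ ≫ l
        = (yon S).map (jK₆ ≫ κ₆) ≫ l := by rw [Functor.map_comp, Category.assoc]
      _ = (yon S).map resB'ov ≫ l₁ := by rw [hjκ, Functor.map_comp, Category.assoc]
      _ = (yon S).map resB'ov ≫ l₂ := by rw [huniq]
      _ = (yon S).map (ρr ≫ r1) ≫ a := by rw [hρr1, Functor.map_comp, Category.assoc]
      _ = (yon S).map ρr ≫ (yon S).map r2 ≫ sq.top := by
          rw [Functor.map_comp, Category.assoc, hR]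
      _ = _ := by rw [← Category.assoc, ← Functor.map_comp, hρr2]
  · rw [Category.assoc, hl2', ← hβ]
    change _ ≫ _ ≫ (yon S).map (Over.homMk mC rfl : Over.mk (mC ≫ W.hom) ⟶ W) = _
    rw [← Functor.map_comp, ← Functor.map_comp, ← Functor.map_comp]
    congr 1
    ext
    exact E3


/-- The core over an affine base. -/
theorem existVC_core {X U : Sp S} (hX : IsAlgSpace X) {W : Over S} [IsAffine W.left]
    (f : X ⟶ (yon S).obj W) (h : U ⟶ X) (hh : IsQuasiCompactMor h)
    (hd : DenseRange (Points.map h))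
    (hv : ∀ sq : ValSq f, (∃ t : (yon S).obj sq.ptK ⟶ U, t ≫ h = sq.top) →
      sq.HasUniq ∧ sq.HasLiftExt) : ExistVC f := by
  intro sq
  obtain ⟨V₁, a₁, ha₁e, ha₁s⟩ := hX.atlas
  let k0 : ↥sq.ptK.left := closedPoint sq.K
  obtain ⟨v₁, hv₁⟩ := ofPt_surjective a₁ ha₁s (Points.ofPt sq.top k0)
  obtain ⟨_, ⟨O, hO, rfl⟩, hv₁O, -⟩ :=
    V₁.left.isBasis_affineOpens.exists_subset_of_mem_open (Set.mem_univ v₁) isOpen_univ
  have ha := repWith_etale_restrict a₁ ha₁e O
  have hVaff : IsAffine (openOver V₁ O).left := hO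
  have hav : Points.ofPt ((yon S).map (openι V₁ O) ≫ a₁) (⟨v₁, hv₁O⟩ : ↥O) =
      Points.ofPt sq.top k0 := by
    rw [ofPt_restrict]; exact hv₁
  have rsq := ha.rep.isPullback' sq.top
  obtain ⟨r, -, -⟩ := (ofPt_eq_ofPt_iff rsq _ k0).1 hav
  exact hasLiftExt_core_chart f h hh hd hv sq _ ha _ _ rsq.w r

end Groth.Agent.Lib.Helper37.RefValCore
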