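import Mathlib
import Groth.Prelude.Def_AlgSpMor5
import Groth.Agent.Lib.Helper37.ValuativeClosed
import Groth.Agent.Lib.Helper23.AlgSpMor4

/-!
# Lifting valuation rings along flat morphisms (schemes and algebraic spaces) (helper37)
-/

universe u
open CategoryTheory CategoryTheory.Limits AlgebraicGeometry
open AlgSp
open Groth.Agent.Lib.Helper37.AlgSpPoints Groth.Agent.Lib.Helper37.AlgSpFibres
open Groth.Agent.Lib.Helper23.AlgSpMor

namespace Groth.Agent.Lib.Helper37.ValuativeFlat

variable {S : Scheme.{u}}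

open IsLocalRing in
/-- Lifting a valuation ring along a flat morphism through a point over the closed point. -/
theorem exists_valuationRing_lift_of_flat {A : Type u} [CommRing A] [IsDomain A] [IsLocalRing A]
    {W : Scheme.{u}} (g : W ⟶ Spec (.of A)) [Flat g] (w : W) (hw : g w = closedPoint A) :
    ∃ (A' : Type u) (_ : CommRing A') (_ : IsDomain A') (_ : ValuationRing A') (φ : A →+* A')
      (l : Spec (.of A') ⟶ W), Function.Injective φ ∧ IsLocalHom φ ∧
        l ≫ g = Spec.map (CommRingCat.ofHom φ) ∧ l (closedPoint A') = w := by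
  let η : ↥(Spec (.of A)) := (⟨⊥, Ideal.isPrime_bot⟩ : PrimeSpectrum A)
  have hη : η ⤳ g w := by
    rw [hw]
    exact specializes_closedPoint _
  obtain ⟨w', hw's, hw'⟩ := Flat.generalizingMap g hη
  let φ₀ : W.presheaf.stalk w ⟶ W.residueField w' :=
    W.presheaf.stalkSpecializes hw's ≫ W.residue w'
  obtain ⟨A', hA', hA'_local⟩ := exists_factor_valuationRing φ₀.hom
  let toA : W.presheaf.stalk w ⟶ .of A' := CommRingCat.ofHom (φ₀.hom.codRestrict _ hA')
  have hw0 : W.fromSpecResidueField w' =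
      Spec.map (CommRingCat.ofHom (algebraMap A' (W.residueField w'))) ≫
        Spec.map toA ≫ W.fromSpecStalk w := by
    rw [Scheme.fromSpecResidueField, ← Scheme.SpecMap_stalkSpecializes_fromSpecStalk hw's]
    simp_rw [← Spec.map_comp_assoc]
    rfl
  let l : Spec (.of A') ⟶ W := Spec.map toA ≫ W.fromSpecStalk w
  have hl : l (closedPoint A') = w := by
    change (Spec.map toA ≫ W.fromSpecStalk w) (closedPoint A') = w
    simp only [Scheme.Hom.comp_base, TopCat.coe_comp, Function.comp_apply]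
    have : Spec.map toA (closedPoint A') = closedPoint (W.presheaf.stalk w) :=
      comap_closedPoint (S := A') (φ₀.hom.codRestrict A'.toSubring hA')
    rw [this, W.fromSpecStalk_closedPoint]
  let φ : A →+* A' := (Spec.preimage (l ≫ g)).hom
  have hφ : Spec.map (CommRingCat.ofHom φ) = l ≫ g := by
    change Spec.map (CommRingCat.ofHom (Spec.preimage (l ≫ g)).hom) = l ≫ g
    rw [CommRingCat.ofHom_hom, Spec.map_preimage]
  refine ⟨A', inferInstance, inferInstance, inferInstance, φ, l, ?_, ?_, hφ.symm, hl⟩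
  · -- injective
    have hker : ∀ a : A, φ a = 0 → a = 0 := by
      intro a ha
      -- the point w' maps to η
      have h1 : (W.fromSpecResidueField w' ≫ g) (closedPoint (W.residueField w')) = η := by
        rw [Scheme.Hom.comp_apply, Scheme.fromSpecResidueField_apply, hw']
      rw [hw0, Category.assoc, Category.assoc] at h1
      change (Spec.map (CommRingCat.ofHom (algebraMap A' (W.residueField w'))) ≫ l ≫ g) _ = η at h1
      rw [← hφ, ← Spec.map_comp, ← CommRingCat.ofHom_comp] at h1
      have h2 := congrArg PrimeSpectrum.asIdeal h1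
      change Ideal.comap _ (closedPoint (W.residueField w')).asIdeal = ⊥ at h2
      have h3 : a ∈ Ideal.comap ((algebraMap A' (W.residueField w')).comp φ)
          (closedPoint (W.residueField w')).asIdeal := by
        rw [Ideal.mem_comap, RingHom.comp_apply, ha, map_zero]
        exact Ideal.zero_mem _
      have h4 : a ∈ (⊥ : Ideal A) := h2 ▸ h3
      exact h4
    exact (injective_iff_map_eq_zero φ).2 hker
  · have h1 : (Spec.map (CommRingCat.ofHom φ)) (closedPoint A') = closedPoint A := by
      rw [hφ, Scheme.Hom.comp_apply, hl, hw]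
    have h2 : (maximalIdeal A').comap φ = maximalIdeal A := congrArg PrimeSpectrum.asIdeal h1
    exact ((local_hom_TFAE φ).out 0 4).2 h2

open IsLocalRing in
/-- Along a flat morphism of algebraic spaces, a valuation ring point of the target whose closed point
is hit lifts after an injective local extension of valuation rings. -/
theorem exists_lift_valuationRing_of_flat {X Y : Sp S} (hX : IsAlgSpace X) (hY : IsAlgSpace Y)
    (f : X ⟶ Y) (hf : LocP @Flat f) (A : Type u) [CommRing A] [IsDomain A] [ValuationRing A]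
    (str : Spec (.of A) ⟶ S) (b : (yon S).obj (Over.mk str) ⟶ Y)
    (hb : Points.ofPt b (closedPoint A) ∈ Set.range (Points.map f)) :
    ∃ (A' : Type u) (_ : CommRing A') (_ : IsDomain A') (_ : ValuationRing A') (φ : A →+* A'),
      Function.Injective φ ∧ IsLocalHom φ ∧
      ∃ l : (yon S).obj (Over.mk (Spec.map (CommRingCat.ofHom φ) ≫ str)) ⟶ X,
        l ≫ f = (yon S).map (Over.homMk (Spec.map (CommRingCat.ofHom φ)) rfl :
          Over.mk (Spec.map (CommRingCat.ofHom φ) ≫ str) ⟶ Over.mk str) ≫ b := by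
  obtain ⟨x, hx⟩ := hb
  obtain ⟨V, p, hpe, hps⟩ := hY.atlas
  -- X ×_Y V and its atlas
  have psq : IsPullback (pullback.fst f p) (pullback.snd f p) f p := IsPullback.of_hasPullback _ _
  have hXV : IsAlgSpace (pullback f p) :=
    isAlgSpace_of_isPullback hX (IsAlgSpace.yon_obj V) hY.diag psq
  obtain ⟨U, q, hqe, hqs⟩ := hXV.atlas
  have hfst : RepWith @Etale (pullback.fst f p) :=
    MorphismProperty.of_isPullback psq.flip hpe
  have hae : RepWith @Etale (q ≫ pullback.fst f p) := (RepWith @Etale).comp_mem _ _ hqe hfst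
  obtain ⟨h, hh⟩ := (yon S).map_surjective (q ≫ pullback.snd f p)
  have hcomm : (q ≫ pullback.fst f p) ≫ f = (yon S).map h ≫ p := by
    rw [hh, Category.assoc, Category.assoc, pullback.condition]
  have hflat : Flat h.left := hf _ p h hae hpe hcomm
  -- T = Spec A ×_Y V
  have tsq := hpe.rep.isPullback' b
  set T := hpe.rep.pullback b
  set t1 : T ⟶ V := hpe.rep.fst' b
  set t2 : T ⟶ Over.mk str := hpe.rep.snd b
  have ht2e : Etale t2.left := hpe.property_snd b
  have ht2f : Flat t2.left := inferInstance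
  -- points
  obtain ⟨v, hv⟩ := ofPt_surjective p hps (Points.ofPt b (closedPoint A))
  obtain ⟨t, ht1, ht2⟩ := (ofPt_eq_ofPt_iff tsq v (closedPoint A)).1 hv
  obtain ⟨A₁, _, _, _, φ₁, l₁, hφ₁i, hφ₁l, hl₁, hl₁c⟩ :=
    exists_valuationRing_lift_of_flat t2.left t ht2
  -- the point u
  have hxv : Points.map p (Points.ofScheme V v) = Points.map f x := by
    rw [← Points.ofPt_eq_map_ofScheme, hv, hx]
  obtain ⟨x', hx'1, hx'2⟩ := points_exists_of_isPullback psq.flip (Points.ofScheme V v) x hxv
  obtain ⟨u, hu⟩ := ofPt_surjective q hqs x'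
  have hhu : h.left u = v := by
    have h1 := hx'1
    rw [← hu, Points.map_ofPt, ← hh, ofPt_yon_map] at h1
    have h2 := congrArg (Points.toScheme V) h1
    rwa [Points.toScheme_ofScheme, Points.toScheme_ofScheme] at h2
  -- scheme fibre product
  let m : Spec (.of A₁) ⟶ V.left := l₁ ≫ t1.left
  have hm : m (closedPoint A₁) = v := by
    change (l₁ ≫ t1.left) (closedPoint A₁) = v
    rw [Scheme.Hom.comp_apply, hl₁c, ht1]
  obtain ⟨u₁, hu₁1, hu₁2⟩ := Scheme.Pullback.exists_preimage_pullback (f := h.left) (g := m) u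
    (closedPoint A₁) (by rw [hhu, hm])
  obtain ⟨A₂, _, _, _, φ₂, l₂, hφ₂i, hφ₂l, hl₂, hl₂c⟩ :=
    exists_valuationRing_lift_of_flat (pullback.snd h.left m) u₁ hu₁2
  have hloc : IsLocalHom (φ₂.comp φ₁) := RingHom.isLocalHom_comp _ _
  refine ⟨A₂, inferInstance, inferInstance, inferInstance, φ₂.comp φ₁, hφ₂i.comp hφ₁i, hloc, ?_⟩
  have hΦ : Spec.map (CommRingCat.ofHom (φ₂.comp φ₁)) =
      Spec.map (CommRingCat.ofHom φ₂) ≫ Spec.map (CommRingCat.ofHom φ₁) := by
    rw [← Spec.map_comp, ← CommRingCat.ofHom_comp]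
  have hT : t1.left ≫ V.hom = t2.left ≫ str := by
    rw [Over.w t1]; exact (Over.w t2).symm
  let τ : Over.mk (Spec.map (CommRingCat.ofHom (φ₂.comp φ₁)) ≫ str) ⟶ T :=
    Over.homMk (Spec.map (CommRingCat.ofHom φ₂) ≫ l₁) (by
      change (_ ≫ _) ≫ T.hom = Spec.map _ ≫ str
      rw [← Over.w t2, Category.assoc, ← Category.assoc l₁, hl₁, hΦ, Category.assoc]
      rfl)
  let κ : Over.mk (Spec.map (CommRingCat.ofHom (φ₂.comp φ₁)) ≫ str) ⟶ U :=
    Over.homMk (l₂ ≫ pullback.fst h.left m) (by
      change (_ ≫ _) ≫ U.hom = Spec.map _ ≫ str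
      rw [← Over.w h, Category.assoc, ← Category.assoc (pullback.fst h.left m), pullback.condition,
        Category.assoc, ← Category.assoc l₂, hl₂]
      change Spec.map _ ≫ (l₁ ≫ t1.left) ≫ V.hom = _
      rw [Category.assoc, hT, ← Category.assoc l₁, hl₁, hΦ, Category.assoc])
  have hκ : κ ≫ h = τ ≫ t1 := by
    ext
    change (l₂ ≫ pullback.fst h.left m) ≫ h.left = (Spec.map _ ≫ l₁) ≫ t1.left
    rw [Category.assoc, pullback.condition, ← Category.assoc, hl₂, Category.assoc]
  have hτ : τ ≫ t2 = (Over.homMk (Spec.map (CommRingCat.ofHom (φ₂.comp φ₁))) rfl :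
      Over.mk (Spec.map (CommRingCat.ofHom (φ₂.comp φ₁)) ≫ str) ⟶ Over.mk str) := by
    ext
    change (Spec.map _ ≫ l₁) ≫ t2.left = Spec.map _
    rw [Category.assoc, hl₁, hΦ]
  refine ⟨(yon S).map κ ≫ q ≫ pullback.fst f p, ?_⟩
  calc ((yon S).map κ ≫ q ≫ pullback.fst f p) ≫ f
      = (yon S).map κ ≫ (q ≫ pullback.fst f p) ≫ f := by simp only [Category.assoc]
    _ = (yon S).map (κ ≫ h) ≫ p := by rw [hcomm, Functor.map_comp, Category.assoc]
    _ = (yon S).map τ ≫ (yon S).map t1 ≫ p := by rw [hκ, Functor.map_comp, Category.assoc]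
    _ = (yon S).map (τ ≫ t2) ≫ b := by rw [tsq.w, Functor.map_comp, Category.assoc]
    _ = _ := by rw [hτ]

end Groth.Agent.Lib.Helper37.ValuativeFlat
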