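import Mathlib
import Groth.Prelude.Def_AlgSpMor5
import Groth.Agent.Lib.Helper37.RefValCore
import Groth.Agent.Lib.Helper37.ValuativeFlat
import Groth.Agent.Lib.Helper17.AtlasCover
import Groth.Agent.Lib.Helper23.AlgSpDvr

/-!
# The refined valuative criterion for algebraic spaces (helper37)

* `pushSq`, `hasUniq_of_pushSq`, `hasLiftExt_of_pushSq`: valuative squares of a base change.
* `existVC_refined`: quasi-compact `h : U ⟶ X` with dense image, and valuative squares of `f : X ⟶ Y`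
  through `U` have unique lifts and lifts after extension ⇒ existence part of the valuative criterion
  for `f` (reduction to an affine etale chart of `Y`, then `RefValCore.existVC_core`).
* `isSeparatedMor_of_refined`: if moreover `f` is quasi-separated then `f` is separated (apply the
  previous to the diagonal).
-/

set_option autoImplicit false
set_option linter.style.haveILetI false
universe u
open CategoryTheory CategoryTheory.Limits AlgebraicGeometry
open AlgSp
open Groth.Agent.Lib.Helper37.AlgSpPoints Groth.Agent.Lib.Helper37.AlgSpFibres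
open Groth.Agent.Lib.Helper23.AlgSpMor
open Groth.Agent.Lib.Helper37.RefValCore Groth.Agent.Lib.Helper37.ValuativeClosed
open IsLocalRing

namespace Groth.Agent.Lib.Helper37.RefValMain
variable {S : Scheme.{u}}

/-- Push a valuative square of a base change forward to the original morphism. -/
noncomputable abbrev pushSq {X Y Z X' : Sp S} {f : X ⟶ Y} {g : Z ⟶ Y} {fst : X' ⟶ X} {f' : X' ⟶ Z}
    (w : fst ≫ f = f' ≫ g) (sq' : ValSq f') : ValSq f :=
  { A := sq'.A, K := sq'.K, str := sq'.str, top := sq'.top ≫ fst, bot := sq'.bot ≫ g,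
    comm := by rw [Category.assoc, w, ← Category.assoc, sq'.comm, Category.assoc] }

theorem hasUniq_of_pushSq {X Y Z X' : Sp S} {f : X ⟶ Y} {g : Z ⟶ Y} {fst : X' ⟶ X} {f' : X' ⟶ Z}
    (sq : IsPullback fst f' f g) (sq' : ValSq f') (hU : (pushSq sq.w sq').HasUniq) :
    sq'.HasUniq := by
  intro l l' h1 h2 h3 h4
  have e1 : (yon S).map sq'.j ≫ (l ≫ fst) = sq'.top ≫ fst := by rw [← Category.assoc, h1]
  have e2 : (l ≫ fst) ≫ f = sq'.bot ≫ g := by rw [Category.assoc, sq.w, ← Category.assoc, h2]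
  have e3 : (yon S).map sq'.j ≫ (l' ≫ fst) = sq'.top ≫ fst := by rw [← Category.assoc, h3]
  have e4 : (l' ≫ fst) ≫ f = sq'.bot ≫ g := by rw [Category.assoc, sq.w, ← Category.assoc, h4]
  have key := hU (l ≫ fst) (l' ≫ fst) e1 e2 e3 e4
  exact sq.hom_ext key (h2.trans h4.symm)

theorem hasLiftExt_of_pushSq {X Y Z X' : Sp S} {f : X ⟶ Y} {g : Z ⟶ Y} {fst : X' ⟶ X}
    {f' : X' ⟶ Z} (sq : IsPullback fst f' f g) (sq' : ValSq f')
    (hE : (pushSq sq.w sq').HasLiftExt) : sq'.HasLiftExt := by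
  obtain ⟨e, l, hl1, hl2⟩ := hE
  let e' : sq'.DomExt :=
    { A' := e.A', K' := e.K', φ := e.φ, ψ := e.ψ, comm := e.comm, isLocalHom := e.isLocalHom }
  refine ⟨e', sq.lift l ((AlgSp.yon S).map (Over.homMk (Spec.map (CommRingCat.ofHom e.φ)) rfl :
    e.ptA' ⟶ (pushSq sq.w sq').ptA) ≫ sq'.bot) (by rw [hl2, Category.assoc]), ?_, ?_⟩
  · apply sq.hom_ext
    · rw [Category.assoc, IsPullback.lift_fst, Category.assoc]
      exact hl1
    · rw [Category.assoc, IsPullback.lift_snd, Category.assoc, sq'.comm, ← Category.assoc,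
        ← Category.assoc, ← Functor.map_comp, ← Functor.map_comp]
      congr 2
      ext
      change Spec.map _ ≫ Spec.map _ = Spec.map _ ≫ Spec.map _
      rw [← Spec.map_comp, ← Spec.map_comp, ← CommRingCat.ofHom_comp, ← CommRingCat.ofHom_comp,
        e.comm]
  · rw [IsPullback.lift_snd]

/-- The refined valuative criterion, existence part: if `h : U ⟶ X` is quasi-compact with dense image
and valuative squares of `f : X ⟶ Y` through `U` have unique lifts and lifts after extension, then `f`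
satisfies the existence part of the valuative criterion. -/
theorem existVC_refined {X Y U : Sp S} (hX : IsAlgSpace X) (hY : IsAlgSpace Y) (f : X ⟶ Y)
    (h : U ⟶ X) (hh : IsQuasiCompactMor h) (hd : DenseRange (Points.map h))
    (hv : ∀ sq : ValSq f, (∃ t : (yon S).obj sq.ptK ⟶ U, t ≫ h = sq.top) →
      sq.HasUniq ∧ sq.HasLiftExt) : ExistVC f := by
  intro sq
  -- affine etale chart of `Y` at the image of the closed point
  obtain ⟨V₁, b₁, hb₁e, hb₁s⟩ := hY.atlas
  obtain ⟨w₁, hw₁⟩ := ofPt_surjective b₁ hb₁s (Points.ofPt sq.bot (closedPoint sq.A : ↥sq.ptA.left))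
  obtain ⟨_, ⟨O, hO, rfl⟩, hw₁O, -⟩ :=
    V₁.left.isBasis_affineOpens.exists_subset_of_mem_open (Set.mem_univ w₁) isOpen_univ
  have hbe := repWith_etale_restrict b₁ hb₁e O
  have hWaff : IsAffine (openOver V₁ O).left := hO
  obtain ⟨W, b, hbe, hWaff, hbw⟩ : ∃ (W : Over S) (b : (yon S).obj W ⟶ Y), RepWith @Etale b ∧
      IsAffine W.left ∧ Points.ofPt sq.bot (closedPoint sq.A : ↥sq.ptA.left) ∈
        Set.range (Points.map b) := by
    refine ⟨openOver V₁ O, _, hbe, hWaff, Points.ofScheme _ (⟨w₁, hw₁O⟩ : ↥O), ?_⟩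
    rw [← Points.ofPt_eq_map_ofScheme, ofPt_restrict]
    exact hw₁
  have hflat : LocP @Flat b :=
    Groth.Agent.Lib.Helper17.ACov.locP_of_isEtaleMor (P := @Flat)
      (fun X Y f hf => by have := hf; infer_instance) b
      (Groth.Agent.Lib.Helper17.ACov.isEtaleMor_of_repWith b hbe)
  obtain ⟨A₁, _, _, _, φ₁, hφ₁i, hφ₁l, l₁, hl₁⟩ :=
    Groth.Agent.Lib.Helper37.ValuativeFlat.exists_lift_valuationRing_of_flat
      (IsAlgSpace.yon_obj W) hY b hflat sq.A sq.str sq.bot hbw
  -- the first extension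
  obtain ⟨K₁, _, _, _⟩ : ∃ (K₁ : Type u) (_ : Field K₁) (_ : Algebra A₁ K₁), IsFractionRing A₁ K₁ :=
    ⟨FractionRing A₁, inferInstance, inferInstance, inferInstance⟩
  have hinj₁ : Function.Injective ((algebraMap A₁ K₁).comp φ₁) :=
    (IsFractionRing.injective A₁ K₁).comp hφ₁i
  let ψ₁ : sq.K →+* K₁ := IsFractionRing.lift (A := sq.A) hinj₁
  have hcomm₁ : (algebraMap A₁ K₁).comp φ₁ = ψ₁.comp (algebraMap sq.A sq.K) := by
    ext a
    exact (IsFractionRing.lift_algebraMap hinj₁ a).symm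
  let e₁ : sq.DomExt :=
    { A' := A₁, K' := K₁, φ := φ₁, ψ := ψ₁, comm := hcomm₁, isLocalHom := hφ₁l }
  let j₁ : e₁.ptK' ⟶ e₁.ptA' :=
    Over.homMk (Spec.map (CommRingCat.ofHom (algebraMap A₁ K₁))) rfl
  let ψ₁map : e₁.ptK' ⟶ sq.ptK := Over.homMk (Spec.map (CommRingCat.ofHom ψ₁)) (by
    change Spec.map _ ≫ Spec.map _ ≫ _ = Spec.map _ ≫ Spec.map _ ≫ _
    rw [← Spec.map_comp_assoc, ← Spec.map_comp_assoc, ← CommRingCat.ofHom_comp,
      ← CommRingCat.ofHom_comp, hcomm₁])
  let φ₁map : e₁.ptA' ⟶ sq.ptA := Over.homMk (Spec.map (CommRingCat.ofHom φ₁)) rfl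
  have hl₁' : l₁ ≫ b = (yon S).map φ₁map ≫ sq.bot := hl₁
  have hψφ : ψ₁map ≫ sq.j = j₁ ≫ φ₁map := by
    ext
    change Spec.map (CommRingCat.ofHom ψ₁) ≫ Spec.map (CommRingCat.ofHom (algebraMap sq.A sq.K)) =
      Spec.map (CommRingCat.ofHom (algebraMap A₁ K₁)) ≫
        Spec.map (CommRingCat.ofHom φ₁)
    rw [← Spec.map_comp, ← Spec.map_comp, ← CommRingCat.ofHom_comp, ← CommRingCat.ofHom_comp,
      hcomm₁]
  -- the base change to `W`
  have psq : IsPullback (pullback.fst f b) (pullback.snd f b) f b := IsPullback.of_hasPullback f b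
  have hP : IsAlgSpace (pullback f b) :=
    isAlgSpace_of_isPullback hX (IsAlgSpace.yon_obj W) hY.diag psq
  have psqU : IsPullback (pullback.fst h (pullback.fst f b)) (pullback.snd h (pullback.fst f b)) h
      (pullback.fst f b) := IsPullback.of_hasPullback _ _
  have hh' : IsQuasiCompactMor (pullback.snd h (pullback.fst f b)) :=
    Groth.Agent.Lib.Helper37.ValuativeClosed.isQuasiCompactMor_of_isPullback psqU hh
  have hfste : RepWith @Etale (pullback.fst f b) := MorphismProperty.of_isPullback psq.flip hbe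
  have hd' : DenseRange (Points.map (pullback.snd h (pullback.fst f b))) := by
    have h1 : Dense (Points.map (pullback.fst f b) ⁻¹' Set.range (Points.map h)) :=
      Dense.preimage hd (isOpenMap_points_of_repWith_etale _ hfste)
    refine h1.mono ?_
    rintro p ⟨y, hy⟩
    obtain ⟨q, -, hq⟩ := points_exists_of_isPullback psqU y p hy
    exact ⟨q, hq⟩
  have hv' : ∀ sq' : ValSq (pullback.snd f b),
      (∃ t : (yon S).obj sq'.ptK ⟶ pullback h (pullback.fst f b),
        t ≫ pullback.snd h (pullback.fst f b) = sq'.top) → sq'.HasUniq ∧ sq'.HasLiftExt := by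
    rintro sq' ⟨t', ht'⟩
    have key := hv (pushSq psq.w sq') ⟨t' ≫ pullback.fst h (pullback.fst f b), by
      change _ = sq'.top ≫ pullback.fst f b
      rw [Category.assoc, psqU.w, ← Category.assoc, ht']⟩
    exact ⟨hasUniq_of_pushSq psq sq' key.1, hasLiftExt_of_pushSq psq sq' key.2⟩
  have hE : ExistVC (pullback.snd f b) := existVC_core hP _ _ hh' hd' hv'
  -- the lifted square
  have hcompat : ((yon S).map ψ₁map ≫ sq.top) ≫ f = ((yon S).map j₁ ≫ l₁) ≫ b := by
    rw [Category.assoc, sq.comm, ← Category.assoc, ← Functor.map_comp, hψφ, Category.assoc, hl₁',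
      Functor.map_comp, Category.assoc]
  let sq₁ : ValSq (pullback.snd f b) :=
    { A := A₁, K := K₁, str := Spec.map (CommRingCat.ofHom φ₁) ≫ sq.str,
      top := psq.lift ((yon S).map ψ₁map ≫ sq.top) ((yon S).map j₁ ≫ l₁) hcompat,
      bot := l₁,
      comm := psq.lift_snd _ _ _ }
  obtain ⟨e₂, l₂, hl21, hl22⟩ := hE sq₁
  let j₂ : e₂.ptK' ⟶ e₂.ptA' :=
    Over.homMk (Spec.map (CommRingCat.ofHom (algebraMap e₂.A' e₂.K'))) rfl
  have hψ₂w : ∀ s : Spec (.of A₁) ⟶ S,
      Spec.map (CommRingCat.ofHom e₂.ψ) ≫ Spec.map (CommRingCat.ofHom (algebraMap A₁ K₁)) ≫ s =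
      Spec.map (CommRingCat.ofHom (algebraMap e₂.A' e₂.K')) ≫
        Spec.map (CommRingCat.ofHom e₂.φ) ≫ s := fun s => by
    have := e₂.comm
    rw [← Spec.map_comp_assoc, ← Spec.map_comp_assoc, ← CommRingCat.ofHom_comp,
      ← CommRingCat.ofHom_comp]
    congr 3
    exact this.symm
  let ψ₂map : e₂.ptK' ⟶ sq₁.ptK := Over.homMk (Spec.map (CommRingCat.ofHom e₂.ψ)) (hψ₂w _)
  let φ₂map : e₂.ptA' ⟶ sq₁.ptA := Over.homMk (Spec.map (CommRingCat.ofHom e₂.φ)) rfl
  have hl21' : (yon S).map j₂ ≫ l₂ = (yon S).map ψ₂map ≫ sq₁.top := hl21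
  have hl22' : l₂ ≫ pullback.snd f b = (yon S).map φ₂map ≫ l₁ := hl22
  have hloc₂ : IsLocalHom e₂.φ := e₂.isLocalHom
  have hloc₁ : IsLocalHom φ₁ := hφ₁l
  have hcomm : (algebraMap e₂.A' e₂.K').comp (e₂.φ.comp φ₁) =
      (e₂.ψ.comp ψ₁).comp (algebraMap sq.A sq.K) := by
    rw [← RingHom.comp_assoc, e₂.comm, RingHom.comp_assoc, RingHom.comp_assoc]
    congr 1
  let e : sq.DomExt :=
    { A' := e₂.A', K' := e₂.K', φ := e₂.φ.comp φ₁, ψ := e₂.ψ.comp ψ₁, comm := hcomm,
      isLocalHom := RingHom.isLocalHom_comp e₂.φ φ₁ }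
  have hφφ : Spec.map (CommRingCat.ofHom (e₂.φ.comp φ₁)) =
      Spec.map (CommRingCat.ofHom e₂.φ) ≫ Spec.map (CommRingCat.ofHom φ₁) := by
    rw [← Spec.map_comp, ← CommRingCat.ofHom_comp]
  have hψψ : Spec.map (CommRingCat.ofHom (e₂.ψ.comp ψ₁)) =
      Spec.map (CommRingCat.ofHom e₂.ψ) ≫ Spec.map (CommRingCat.ofHom ψ₁) := by
    rw [← Spec.map_comp, ← CommRingCat.ofHom_comp]
  let ι : e.ptA' ⟶ e₂.ptA' := Over.homMk (𝟙 _) (by
    change 𝟙 _ ≫ Spec.map (CommRingCat.ofHom e₂.φ) ≫ Spec.map (CommRingCat.ofHom φ₁) ≫ sq.str =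
      Spec.map (CommRingCat.ofHom (e₂.φ.comp φ₁)) ≫ sq.str
    rw [Category.id_comp, hφφ, Category.assoc])
  let ιK : e.ptK' ⟶ e₂.ptK' := Over.homMk (𝟙 _) (by
    change 𝟙 _ ≫ Spec.map (CommRingCat.ofHom (algebraMap e₂.A' e₂.K')) ≫
      Spec.map (CommRingCat.ofHom e₂.φ) ≫ Spec.map (CommRingCat.ofHom φ₁) ≫ sq.str =
      Spec.map (CommRingCat.ofHom (algebraMap e₂.A' e₂.K')) ≫
        Spec.map (CommRingCat.ofHom (e₂.φ.comp φ₁)) ≫ sq.str
    rw [Category.id_comp, hφφ, Category.assoc])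
  refine ⟨e, (yon S).map ι ≫ l₂ ≫ pullback.fst f b, ?_, ?_⟩
  · have h1 : (Over.homMk (Spec.map (CommRingCat.ofHom (algebraMap e.A' e.K'))) rfl :
        e.ptK' ⟶ e.ptA') ≫ ι = ιK ≫ j₂ := by
      ext
      change Spec.map _ ≫ 𝟙 _ = 𝟙 _ ≫ Spec.map _
      rw [Category.comp_id, Category.id_comp]
    have h2 : ιK ≫ ψ₂map ≫ ψ₁map = (Over.homMk (Spec.map (CommRingCat.ofHom e.ψ)) (by
          change Spec.map _ ≫ Spec.map _ ≫ _ = Spec.map _ ≫ Spec.map _ ≫ _
          rw [← Spec.map_comp_assoc, ← Spec.map_comp_assoc, ← CommRingCat.ofHom_comp,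
            ← CommRingCat.ofHom_comp, e.comm]) : e.ptK' ⟶ sq.ptK) := by
      ext
      change 𝟙 _ ≫ Spec.map (CommRingCat.ofHom e₂.ψ) ≫ Spec.map (CommRingCat.ofHom ψ₁) =
        Spec.map (CommRingCat.ofHom (e₂.ψ.comp ψ₁))
      rw [Category.id_comp, hψψ]
    rw [← h2, ← Category.assoc, ← Functor.map_comp, h1, Functor.map_comp, Category.assoc,
      ← Category.assoc ((yon S).map j₂), hl21', Category.assoc]
    change _ ≫ _ ≫ psq.lift _ _ _ ≫ _ = _
    rw [psq.lift_fst]
    simp only [Functor.map_comp, Category.assoc]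
  · have h1 : ι ≫ φ₂map ≫ φ₁map = (Over.homMk (Spec.map (CommRingCat.ofHom e.φ)) rfl :
        e.ptA' ⟶ sq.ptA) := by
      ext
      change 𝟙 _ ≫ Spec.map (CommRingCat.ofHom e₂.φ) ≫ Spec.map (CommRingCat.ofHom φ₁) =
        Spec.map (CommRingCat.ofHom (e₂.φ.comp φ₁))
      rw [Category.id_comp, hφφ]
    rw [← h1, Category.assoc, Category.assoc, psq.w, ← Category.assoc l₂, hl22', Category.assoc,
      hl₁']
    simp only [Functor.map_comp, Category.assoc]

open Groth.Agent.Lib.Helper37.DiagChart in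
/-- The refined valuative criterion, separatedness part. -/
theorem isSeparatedMor_of_refined {X Y U : Sp S} (hX : IsAlgSpace X) (hY : IsAlgSpace Y) (f : X ⟶ Y)
    (h : U ⟶ X) (hh : IsQuasiCompactMor h) (hd : DenseRange (Points.map h))
    (hv : ∀ sq : ValSq f, (∃ t : (yon S).obj sq.ptK ⟶ U, t ≫ h = sq.top) →
      sq.HasUniq ∧ sq.HasLiftExt)
    (hqs : RepWith @QuasiCompact (pullback.diagonal f)) :
    RepWith @IsClosedImmersion (pullback.diagonal f) := by
  have hP₂ : IsAlgSpace (pullback f f) :=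
    isAlgSpace_of_isPullback hX hX hY.diag (IsPullback.of_hasPullback f f)
  have hΔqc : IsQuasiCompactMor (pullback.diagonal f) :=
    Groth.Agent.Lib.Helper23.AlgSpMor.isQuasiCompactMor_of_repWith _ hqs
  have hvΔ : ∀ sqΔ : ValSq (pullback.diagonal f),
      (∃ t : (yon S).obj sqΔ.ptK ⟶ U, t ≫ h = sqΔ.top) → sqΔ.HasUniq ∧ sqΔ.HasLiftExt := by
    rintro sqΔ ⟨t, ht⟩
    constructor
    · intro l l' _ h2 _ h4
      have h5 := congrArg (· ≫ pullback.fst f f) (h2.trans h4.symm)
      simpa only [Category.assoc, pullback.diagonal_fst, Category.comp_id] using h5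
    · have hta : (yon S).map sqΔ.j ≫ sqΔ.bot ≫ pullback.fst f f = sqΔ.top := by
        have := congrArg (· ≫ pullback.fst f f) sqΔ.comm
        simpa only [Category.assoc, pullback.diagonal_fst, Category.comp_id] using this.symm
      have htb : (yon S).map sqΔ.j ≫ sqΔ.bot ≫ pullback.snd f f = sqΔ.top := by
        have := congrArg (· ≫ pullback.snd f f) sqΔ.comm
        simpa only [Category.assoc, pullback.diagonal_snd, Category.comp_id] using this.symm
      let vs : ValSq f :=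
        { A := sqΔ.A, K := sqΔ.K, str := sqΔ.str, top := sqΔ.top,
          bot := (sqΔ.bot ≫ pullback.fst f f) ≫ f,
          comm := by rw [← hta, Category.assoc, Category.assoc] }
      have hab : sqΔ.bot ≫ pullback.fst f f = sqΔ.bot ≫ pullback.snd f f :=
        (hv vs ⟨t, ht⟩).1 _ _ hta rfl htb (by
          change (sqΔ.bot ≫ pullback.snd f f) ≫ f = (sqΔ.bot ≫ pullback.fst f f) ≫ f
          rw [Category.assoc, Category.assoc, pullback.condition])
      apply hasLiftExt_of_hasLift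
      refine ⟨sqΔ.bot ≫ pullback.fst f f, hta, ?_⟩
      apply pullback.hom_ext
      · simp only [Category.assoc, pullback.diagonal_fst, Category.comp_id]
      · simp only [Category.assoc, pullback.diagonal_snd, Category.comp_id]
        exact hab
  have hE : ExistVC (pullback.diagonal f) := existVC_refined hX hP₂ _ h hh hd hvΔ
  have huc : IsUnivClosedMor (pullback.diagonal f) :=
    isUnivClosedMor_of_quasiCompact_existVC _ hΔqc hE
  have hruc : RepWith @UniversallyClosed (pullback.diagonal f) :=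
    repWith_universallyClosed_of_isUnivClosedMor _ hqs.rep huc
  have hlft := repWith_locallyOfFiniteType_diagonal hX hY f
  have hΔ := hqs.rep
  refine MorphismProperty.relative_of_snd hΔ fun T g => ?_
  have psq := hΔ.isPullback g
  have h1 : QuasiCompact (hΔ.snd g).left := hqs.property_snd g
  have h2 : LocallyOfFiniteType (hΔ.snd g).left := hlft.property_snd g
  have h3 : Mono (hΔ.snd g).left := by
    have : Mono ((yon S).map (hΔ.snd g)) := psq.mono_snd_of_mono
    have : Mono (hΔ.snd g) := (yon S).mono_of_mono_map this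
    infer_instance
  have h5 : UniversallyClosed (hΔ.snd g).left := hruc.property_snd g
  have h6 : IsProper (hΔ.snd g).left := { }
  exact (IsClosedImmersion.iff_isProper_and_mono (hΔ.snd g).left).2 ⟨h6, h3⟩

end Groth.Agent.Lib.Helper37.RefValMain
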