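import Groth.Agent.Lib.Helper23.AlgSpDvr2
import Groth.Agent.S9209

/-!
# Refined DVR criterion for separatedness of morphisms of algebraic spaces (helper37)

`f : X ⟶ Y` locally of finite type and quasi-separated, `Y` locally Noetherian, `h : U ⟶ X` of finite
type with dense image; uniqueness of lifts in DVR squares whose generic point factors through `U`
implies `f` separated.  The diagonal is representable; on an affine etale chart of `X ×_Y X` it is a
monomorphism of schemes to which the scheme-level refined criterion (S9209) applies.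
-/

set_option autoImplicit false
set_option linter.style.haveILetI false
set_option linter.unusedSectionVars false
universe u
open CategoryTheory CategoryTheory.Limits AlgebraicGeometry Opposite Topology

namespace Groth.Agent.Lib.Helper37.RefinedSep

open AlgSp Groth.Agent.Lib.Helper37.AlgSpPoints Groth.Agent.Lib.Helper12.AlgSpPoints
open Groth.Agent.Lib.Helper37.AlgSpFibres
open Groth.Agent.Lib.Helper50
open Groth.Agent.Lib.Helper23.AlgSpMor

variable {S : Scheme.{u}}

/-- The uniqueness hypothesis of the refined criterion, at the level of sheaves. -/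
def RefinedUniq {U X Y : Sp S} (h : U ⟶ X) (f : X ⟶ Y) : Prop :=
  ∀ sq : ValSq (h ≫ f), IsDiscreteValuationRing sq.A →
    ∀ l l' : (yon S).obj sq.ptA ⟶ X, (yon S).map sq.j ≫ l = sq.top ≫ h ∧ l ≫ f = sq.bot →
      (yon S).map sq.j ≫ l' = sq.top ≫ h ∧ l' ≫ f = sq.bot → l = l'

/-- Core: on an affine locally Noetherian etale chart `T` of `X ×_Y X`, the base change of the
diagonal is universally closed. -/
theorem universallyClosed_snd_of_refinedUniq {U X Y : Sp S} (hU : IsAlgSpace U) (hX : IsAlgSpace X)
    (h : U ⟶ X) (f : X ⟶ Y) (hh : IsFiniteTypeMor h)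
    (hdense : Dense (Set.range (Points.map h))) (hval : RefinedUniq h f)
    {T W : Over S} (c : (yon S).obj T ⟶ pullback f f) (hce : RepWith @Etale c)
    (fst : (yon S).obj W ⟶ X) (snd : W ⟶ T)
    (psq : IsPullback fst ((yon S).map snd) (pullback.diagonal f) c)
    [IsAffine T.left] [IsLocallyNoetherian T.left] [QuasiCompact snd.left]
    [LocallyOfFiniteType snd.left] : UniversallyClosed snd.left := by
  -- `snd` is a monomorphism
  have h3 : Mono snd.left := by
    have : Mono (pullback.diagonal f) := inferInstance
    have : Mono ((yon S).map snd) := psq.mono_snd_of_mono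
    have : Mono snd := (yon S).mono_of_mono_map this
    infer_instance
  have hfe : RepWith @Etale fst := MorphismProperty.of_isPullback (P := RepWith @Etale) psq.flip hce
  have hfst1 : fst = (yon S).map snd ≫ c ≫ pullback.fst f f := by
    have := psq.w =≫ pullback.fst f f
    simpa only [Category.assoc, pullback.diagonal_fst, Category.comp_id] using this
  have hfst2 : fst = (yon S).map snd ≫ c ≫ pullback.snd f f := by
    have := psq.w =≫ pullback.snd f f
    simpa only [Category.assoc, pullback.diagonal_snd, Category.comp_id] using this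
  -- `W` is quasi-compact and separated
  haveI hWc : CompactSpace ↥W.left := QuasiCompact.compactSpace_of_compactSpace snd.left
  haveI hWs : W.left.IsSeparated := by
    have : IsSeparated (snd.left ≫ terminal.from T.left) := inferInstance
    have e : snd.left ≫ terminal.from T.left = terminal.from W.left := terminal.hom_ext _ _
    exact ⟨e ▸ this⟩
  -- the fibre product `U ×_X W` and a quasi-compact scheme chart of it
  have sqU := IsPullback.of_hasPullback h fst
  have hUW : IsAlgSpace (pullback h fst) :=
    isAlgSpace_of_isPullback hU (IsAlgSpace.yon_obj W) hX.diag sqU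
  have hWqc : IsQuasiCompactSp ((yon S).obj W) :=
    ⟨W, 𝟙 _, repWith_id _ W, repWith_id _ W, hWc⟩
  obtain ⟨U', q, hqe, hqs, hU'c⟩ := hh.2 (IsAlgSpace.yon_obj W) hWqc fst _ _ sqU
  haveI : CompactSpace ↥U'.left := hU'c
  let h' : U' ⟶ W := (yon S).preimage (q ≫ pullback.snd h fst)
  have hh' : (yon S).map h' = q ≫ pullback.snd h fst := (yon S).map_preimage _
  -- `h'` is of finite type
  have hlft2 : LocP @LocallyOfFiniteType (pullback.snd h fst) :=
    Groth.Agent.Lib.Helper46.LocPChart.locP_of_isPullback
      Groth.Agent.Lib.Helper30.EtLocalInst.etLocal_lft hU hX hUW (IsAlgSpace.yon_obj W) sqU hh.1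
  haveI hh'lft : LocallyOfFiniteType h'.left :=
    hlft2 q (𝟙 _) h' hqe (repWith_id _ W) (by rw [hh', Category.comp_id])
  haveI hh'qc : QuasiCompact h'.left := inferInstance
  -- dense image
  have hopen : IsOpenMap (Points.ofPt fst) := isOpenMap_ofPt fst hfe
  have hdense' : DenseRange h'.left.base := by
    refine (hdense.preimage hopen).mono ?_
    rintro w ⟨u, hu⟩
    have e : Points.map h u = Points.map fst (Points.ofScheme W w) := by
      rw [hu]
      exact (Points.ofPt_eq_map_ofScheme fst w)
    obtain ⟨p, hp1, hp2⟩ := points_exists_of_isPullback sqU u (Points.ofScheme W w) e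
    obtain ⟨u', rfl⟩ := ofPt_surjective q hqs p
    refine ⟨u', ?_⟩
    apply (Points.schemeEquiv W).injective
    change Points.ofScheme W (h'.left u') = Points.ofScheme W w
    rw [← hp2, ← ofPt_yon_map, hh']
    rfl
  -- the refined criterion for schemes
  have hprop : IsProper snd.left := by
    refine Groth.Agent.S9209.result snd.left h'.left hdense' ?_
    intro A _ _ hA u y w
    let ptA : Over S := Over.mk (y ≫ T.hom)
    let ptK : Over S :=
      Over.mk (Spec.map (CommRingCat.ofHom (algebraMap A (FractionRing A))) ≫ y ≫ T.hom)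
    let i₂' : ptA ⟶ T := Over.homMk y rfl
    let u' : ptK ⟶ U' := Over.homMk u (by
      change u ≫ U'.hom = Spec.map _ ≫ y ≫ T.hom
      rw [← Over.w h', ← Over.w snd, ← Category.assoc, ← Category.assoc, Category.assoc u, w,
        Category.assoc])
    let j : ptK ⟶ ptA :=
      Over.homMk (Spec.map (CommRingCat.ofHom (algebraMap A (FractionRing A)))) rfl
    have hj : (u' ≫ h') ≫ snd = j ≫ i₂' := by
      ext
      change (u ≫ h'.left) ≫ snd.left = _ ≫ y
      rw [Category.assoc, w]
      rfl
    let a : (yon S).obj ptA ⟶ X := (yon S).map i₂' ≫ c ≫ pullback.fst f f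
    let b : (yon S).obj ptA ⟶ X := (yon S).map i₂' ≫ c ≫ pullback.snd f f
    have htop : ((yon S).map u' ≫ q ≫ pullback.fst h fst) ≫ h = (yon S).map (u' ≫ h') ≫ fst := by
      rw [Category.assoc, Category.assoc, pullback.condition, Functor.map_comp, hh',
        Category.assoc, Category.assoc]
    have hta : (yon S).map (u' ≫ h') ≫ fst = (yon S).map j ≫ a := by
      rw [hfst1, ← Category.assoc, ← Functor.map_comp, hj, Functor.map_comp, Category.assoc]
    have htb : (yon S).map (u' ≫ h') ≫ fst = (yon S).map j ≫ b := by
      rw [hfst2, ← Category.assoc, ← Functor.map_comp, hj, Functor.map_comp, Category.assoc]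
    let sq : ValSq (h ≫ f) :=
      { A := A, K := FractionRing A, str := y ≫ T.hom,
        top := (yon S).map u' ≫ q ≫ pullback.fst h fst, bot := a ≫ f,
        comm := (Category.assoc _ _ _).symm.trans
          ((congrArg (fun m => m ≫ f) (htop.trans hta)).trans (Category.assoc _ _ _)) }
    have hab : a = b := hval sq hA a b ⟨(htop.trans hta).symm, rfl⟩ ⟨(htop.trans htb).symm, by
      change ((yon S).map i₂' ≫ c ≫ pullback.snd f f) ≫ f =
        ((yon S).map i₂' ≫ c ≫ pullback.fst f f) ≫ f
      simp only [Category.assoc, pullback.condition]⟩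
    have hfac : a ≫ pullback.diagonal f = (yon S).map i₂' ≫ c := by
      apply pullback.hom_ext
      · simp only [Category.assoc, pullback.diagonal_fst, Category.comp_id]; rfl
      · simp only [Category.assoc, pullback.diagonal_snd, Category.comp_id]; exact hab
    obtain ⟨l', hl'⟩ := (yon S).map_surjective (psq.lift a ((yon S).map i₂') hfac)
    have hl2 : l' ≫ snd = i₂' := (yon S).map_injective (by rw [Functor.map_comp, hl', psq.lift_snd])
    have hl3 : l'.left ≫ snd.left = y := by
      rw [← Over.comp_left, hl2]; rfl
    refine ⟨l'.left, hl3, ?_⟩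
    rw [← cancel_mono snd.left, Category.assoc, hl3, Category.assoc, w]
  infer_instance

open Groth.Agent.Lib.Helper37.DiagChart Groth.Agent.Lib.Helper37.ClosedPoint in
/-- Refined uniqueness criterion: `f` quasi-separated and locally of finite type over a locally
Noetherian `Y`, `h : U ⟶ X` of finite type with dense image, at most one lift in every DVR square
whose generic point factors through `U` ⇒ `f` separated. -/
theorem isSeparatedMor_of_refinedUniq {U X Y : Sp S} (hU : IsAlgSpace U) (hX : IsAlgSpace X)
    (hY : IsAlgSpace Y) (hYN : IsLocNoethSp Y) (h : U ⟶ X) (f : X ⟶ Y)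
    (hqs : RepWith @QuasiCompact (pullback.diagonal f)) (hlft : LocP @LocallyOfFiniteType f)
    (hh : IsFiniteTypeMor h) (hdense : Dense (Set.range (Points.map h)))
    (hval : RefinedUniq h f) : IsSeparatedMor f := by
  have sqZ : IsPullback (pullback.fst f f) (pullback.snd f f) f f := IsPullback.of_hasPullback _ _
  have hZ : IsAlgSpace (pullback f f) := isAlgSpace_of_isPullback hX hX hY.diag sqZ
  have hXN : IsLocNoethSp X := isLocNoethSp_of_locP_lft hX hY f hlft hYN
  have hsndlft : LocP @LocallyOfFiniteType (pullback.snd f f) :=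
    Groth.Agent.Lib.Helper46.LocPChart.locP_of_isPullback
      Groth.Agent.Lib.Helper30.EtLocalInst.etLocal_lft hX hY hZ hX sqZ hlft
  have hZN : IsLocNoethSp (pullback f f) :=
    isLocNoethSp_of_locP_lft hZ hX (pullback.snd f f) hsndlft hXN
  obtain ⟨T, c, hce, hcs⟩ := hZ.atlas
  haveI hTN : IsLocallyNoetherian T.left := isLocallyNoetherian_of_etale_chart hZN c hce
  have hΔlft := repWith_locallyOfFiniteType_diagonal hX hY f
  have hΔ := hqs.rep
  have psq := hΔ.isPullback c
  have h1 : QuasiCompact (hΔ.snd c).left := hqs.property_snd c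
  have h2 : LocallyOfFiniteType (hΔ.snd c).left := hΔlft.property_snd c
  have h5 : UniversallyClosed (hΔ.snd c).left := by
    refine IsZariskiLocalAtTarget.of_forall_exists_morphismRestrict (P := @UniversallyClosed)
      fun t => ?_
    obtain ⟨V, hV, htV, -⟩ :=
      exists_isAffineOpen_mem_and_subset (show t ∈ (⊤ : T.left.Opens) from trivial)
    refine ⟨V, htV, ?_⟩
    let T' : Over S := Over.mk (V.ι ≫ T.hom)
    let W' : Over S := Over.mk (((hΔ.snd c).left ⁻¹ᵁ V).ι ≫ (hΔ.pullback c).hom)
    let ιT : T' ⟶ T := Over.homMk V.ι rfl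
    let ιW : W' ⟶ hΔ.pullback c := Over.homMk ((hΔ.snd c).left ⁻¹ᵁ V).ι rfl
    have hw : ((hΔ.snd c).left ∣_ V) ≫ V.ι ≫ T.hom =
        ((hΔ.snd c).left ⁻¹ᵁ V).ι ≫ (hΔ.pullback c).hom := by
      rw [← Category.assoc, morphismRestrict_ι, Category.assoc, Over.w (hΔ.snd c)]
    let snd' : W' ⟶ T' := Over.homMk ((hΔ.snd c).left ∣_ V) hw
    have hres : IsPullback ιW snd' (hΔ.snd c) ιT := by
      have h0 : IsPullback snd' ιW ιT (hΔ.snd c) :=
        IsPullback.of_map (Over.forget S)
          (Over.OverMorphism.ext (morphismRestrict_ι (hΔ.snd c).left V))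
          (isPullback_morphismRestrict (hΔ.snd c).left V)
      exact h0.flip
    have hpaste := (hres.map (yon S)).paste_horiz psq
    haveI : IsAffine T'.left := hV
    haveI : IsLocallyNoetherian T'.left := isLocallyNoetherian_of_isOpenImmersion V.ι
    haveI : QuasiCompact snd'.left := inferInstanceAs (QuasiCompact ((hΔ.snd c).left ∣_ V))
    haveI : LocallyOfFiniteType snd'.left :=
      inferInstanceAs (LocallyOfFiniteType ((hΔ.snd c).left ∣_ V))
    have hce' : RepWith @Etale ((yon S).map ιT ≫ c) :=
      (RepWith @Etale).comp_mem _ _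
        ((repWith_yon_map_iff @Etale ιT).2 (inferInstanceAs (Etale V.ι))) hce
    exact universallyClosed_snd_of_refinedUniq hU hX h f hh hdense hval _ hce' _ snd' hpaste
  have h6 : RepWith @UniversallyClosed (pullback.diagonal f) :=
    repWith_of_atlas (pullback.diagonal f) hΔ c hce hcs h5
  exact isSeparatedMor_of_isUnivClosedMor_diagonal hX f (isUnivClosedMor_of_repWith _ h6)

end Groth.Agent.Lib.Helper37.RefinedSep
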