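import Mathlib
import Groth.Agent.Lib.Helper37.RedFactor2
import Groth.Agent.Lib.Helper23.AlgSpMono2

/-!
# Reduced spaces over a point of a locally Noetherian space factor through the residual space (helper37, S10415)

* `finite_range_comap_of_antichain`, `isOpen_preimage_singleton_of_antichain`: a morphism of affine schemes to a
  Noetherian one whose image is an antichain for specialization has finite image and open fibres.
* `exists_factor_fieldPt_of_mono`: a field point over the unique point of a monomorphism `Z ⟶ X` factors through it.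
* `exists_local_factor_locNoeth`, `exists_factor_residual_of_reduced` (S10415).
-/

set_option autoImplicit false
universe u
open CategoryTheory CategoryTheory.Limits AlgebraicGeometry Opposite

namespace Groth.Agent.Lib.Helper37.ResidualFactor

/-- A ring map from a Noetherian ring whose image on spectra is an antichain has finite image on spectra. -/
theorem finite_range_comap_of_antichain {A C : Type u} [CommRing A] [CommRing C] [IsNoetherianRing A]
    (f : A →+* C)
    (h : ∀ p q : PrimeSpectrum C, (PrimeSpectrum.comap f p).asIdeal ≤ (PrimeSpectrum.comap f q).asIdeal →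
      PrimeSpectrum.comap f p = PrimeSpectrum.comap f q) :
    (Set.range (PrimeSpectrum.comap f)).Finite := by
  have hfin : ((RingHom.ker f).minimalPrimes).Finite :=
    Ideal.finite_minimalPrimes_of_isNoetherianRing A (RingHom.ker f)
  have hsub : Set.range (PrimeSpectrum.comap f) ⊆
      PrimeSpectrum.asIdeal ⁻¹' (RingHom.ker f).minimalPrimes := by
    rintro _ ⟨q, rfl⟩
    have hker : RingHom.ker f ≤ (PrimeSpectrum.comap f q).asIdeal := by
      intro a ha
      change f a ∈ q.asIdeal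
      rw [RingHom.mem_ker.1 ha]
      exact q.asIdeal.zero_mem
    obtain ⟨p, hp, hpq⟩ := Ideal.exists_minimalPrimes_le hker
    have hp' : p ∈ (Ideal.comap f ⊥).minimalPrimes := by
      rwa [← RingHom.ker_eq_comap_bot]
    obtain ⟨p', hp'prime, -, hp'c⟩ := Ideal.exists_comap_eq_of_mem_minimalPrimes f p hp'
    have : PrimeSpectrum.comap f ⟨p', hp'prime⟩ = PrimeSpectrum.comap f q := by
      apply h
      change Ideal.comap f p' ≤ _
      rw [hp'c]
      exact hpq
    change (PrimeSpectrum.comap f q).asIdeal ∈ (RingHom.ker f).minimalPrimes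
    rw [← this]
    change Ideal.comap f p' ∈ (RingHom.ker f).minimalPrimes
    rw [hp'c]
    exact hp
  refine (hfin.preimage ?_).subset hsub
  intro a _ b _ hab
  exact PrimeSpectrum.ext hab

/-- If the image of `h : N ⟶ W` (affine schemes, `W` Noetherian) is an antichain for specialization, then the fibres of
`h` are open. -/
theorem isOpen_preimage_singleton_of_antichain {N W : Scheme.{u}} [IsAffine N] [IsAffine W]
    [IsNoetherianRing Γ(W, ⊤)] (h : N ⟶ W)
    (hanti : ∀ t t' : N, h t ⤳ h t' → h t = h t') (u : W) : IsOpen (h ⁻¹' {u}) := by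
  have hnat : ∀ t : N, W.isoSpec.hom (h t) = Spec.map h.appTop (N.isoSpec.hom t) := by
    intro t
    rw [← Scheme.Hom.comp_apply, ← Scheme.Hom.comp_apply, Scheme.isoSpec_hom_naturality]
  have hWhomeo : IsHomeomorph W.isoSpec.hom := (Scheme.homeoOfIso W.isoSpec).isHomeomorph
  have hNsurj : Function.Surjective N.isoSpec.hom := (Scheme.homeoOfIso N.isoSpec).surjective
  -- finiteness of the range
  have hfin0 : (Set.range (PrimeSpectrum.comap h.appTop.hom)).Finite := by
    apply finite_range_comap_of_antichain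
    intro p q hpq
    obtain ⟨t, rfl⟩ := hNsurj p
    obtain ⟨t', rfl⟩ := hNsurj q
    have hspec : (Spec.map h.appTop (N.isoSpec.hom t)) ⤳ (Spec.map h.appTop (N.isoSpec.hom t')) :=
      (PrimeSpectrum.le_iff_specializes _ _).1 hpq
    rw [← hnat, ← hnat] at hspec
    have := hanti t t' ((hWhomeo.isInducing.specializes_iff).1 hspec)
    change Spec.map h.appTop (N.isoSpec.hom t) = Spec.map h.appTop (N.isoSpec.hom t')
    rw [← hnat, ← hnat, this]
  have hfin : (Set.range h).Finite := by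
    have : Set.range h ⊆ W.isoSpec.hom ⁻¹' (Set.range (PrimeSpectrum.comap h.appTop.hom)) := by
      rintro _ ⟨t, rfl⟩
      exact ⟨N.isoSpec.hom t, (hnat t).symm⟩
    exact (hfin0.preimage (hWhomeo.injective.injOn)).subset this
  -- fibres are closed
  have hclosed : ∀ g ∈ Set.range h, IsClosed (h ⁻¹' {g}) := by
    rintro _ ⟨t₀, rfl⟩
    have : h ⁻¹' {h t₀} = h ⁻¹' (closure {h t₀}) := by
      ext t
      constructor
      · intro ht; exact subset_closure ht
      · intro ht
        have hs : h t₀ ⤳ h t := specializes_iff_mem_closure.2 ht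
        exact (hanti t₀ t hs).symm
    rw [this]
    exact isClosed_closure.preimage h.continuous
  have hcompl : (h ⁻¹' {u})ᶜ = ⋃ g ∈ Set.range h \ {u}, h ⁻¹' {g} := by
    ext t
    simp only [Set.mem_compl_iff, Set.mem_preimage, Set.mem_singleton_iff, Set.mem_iUnion, Set.mem_sdiff,
      Set.mem_range, exists_prop]
    constructor
    · intro ht; exact ⟨h t, ⟨⟨t, rfl⟩, ht⟩, rfl⟩
    · rintro ⟨g, ⟨-, hg⟩, rfl⟩; exact hg
  rw [← isClosed_compl_iff, hcompl]
  exact (hfin.subset Set.sdiff_subset).isClosed_biUnion fun g hg => hclosed g hg.1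

open AlgSp Groth.Agent.Lib.Helper36.AlgSpCharts Groth.Agent.Lib.Helper23.AlgSpMor
  Groth.Agent.Lib.Helper5.LocalRep Groth.Agent.Lib.Helper5
open Groth.Agent.Lib.Helper37.AlgSpPoints Groth.Agent.Lib.Helper37.AlgSpFibres
open Groth.Agent.Lib.Helper37.AlgSpDecent Groth.Agent.Lib.Helper37.RedFactor

variable {S : Scheme.{u}}

/-- A field point over the unique point of a monomorphism `i : Z ⟶ X` factors through `i`. -/
theorem exists_factor_fieldPt_of_mono {X Z : Space S} (i : Z ⟶ X) [Mono i.hom] (x : Points X.obj)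
    (hi : Set.range (Points.map i.hom) = {x}) (q : FieldPt X.obj) (hq : Points.mk q = x) :
    ∃ lam : (yon S).obj q.pt ⟶ Z.obj, lam ≫ i.hom = q.toHom := by
  have sq := IsPullback.of_hasPullback i.hom q.toHom
  have hQ : IsAlgSpace (pullback i.hom q.toHom) :=
    isAlgSpace_of_isPullback Z.property (IsAlgSpace.yon_obj _) X.property.diag sq
  have hmono : Mono (pullback.snd i.hom q.toHom) := sq.mono_snd_of_mono
  obtain ⟨z, hz⟩ : x ∈ Set.range (Points.map i.hom) := by rw [hi]; rfl
  have hne : Nonempty (Points (pullback i.hom q.toHom)) := by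
    obtain ⟨w, -, -⟩ := points_exists_of_isPullback sq.flip
      (Points.ofPt (𝟙 _) (IsLocalRing.closedPoint q.K)) z (by
        rw [hz, Points.map_ofPt, Category.id_comp, Points.ofPt_toHom, hq])
    exact ⟨w⟩
  have hiso : IsIso (pullback.snd i.hom q.toHom) := isIso_of_mono_to_field q.str hQ _ hne
  exact ⟨inv (pullback.snd i.hom q.toHom) ≫ pullback.fst i.hom q.toHom, by
    rw [Category.assoc, sq.w, IsIso.inv_hom_id_assoc]⟩

/-- Local factorization in the locally Noetherian case. -/
theorem exists_local_factor_locNoeth {X Z : Space S} (x : Points X.obj)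
    (i : Z ⟶ X) [Mono i.hom] (hi : Set.range (Points.map i.hom) = {x})
    {U : Over S} [IsLocallyNoetherian U.left] (a : (yon S).obj U ⟶ X.obj) (hae : RepWith @Etale a)
    {T₀ : Over S} [IsReduced T₀.left] (v₂ : T₀ ⟶ U)
    (hfib : ∀ t : ↥T₀.left, Points.ofPt a (v₂.left t) = x) (t : ↥T₀.left) :
    ∃ N : T₀.left.Opens, t ∈ N ∧ ∃ y : (yon S).obj (overOpens T₀ N) ⟶ Z.obj,
      y ≫ i.hom = (yon S).map (overOpensι T₀ N) ≫ (yon S).map v₂ ≫ a := by
  set u := v₂.left t with hu
  obtain ⟨_, ⟨(O'' : U.left.Opens), hO'', rfl⟩, huO'', -⟩ :=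
    U.left.isBasis_affineOpens.exists_subset_of_mem_open (Set.mem_univ u) isOpen_univ
  have hNoeth : IsNoetherianRing Γ(U.left, O'') := IsLocallyNoetherian.component_noetherian ⟨O'', hO''⟩
  obtain ⟨_, ⟨(N₀ : T₀.left.Opens), hN₀, rfl⟩, htN₀, hN₀sub⟩ :=
    T₀.left.isBasis_affineOpens.exists_subset_of_mem_open (a := t)
      (show t ∈ ((v₂.left ⁻¹ᵁ O'' : T₀.left.Opens) : Set ↥T₀.left) from huO'') (v₂.left ⁻¹ᵁ O'').2
  have hN₀aff : IsAffine (N₀ : Scheme.{u}) := hN₀
  have hO''aff : IsAffine (O'' : Scheme.{u}) := hO''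
  have hNoeth' : IsNoetherianRing Γ((O'' : Scheme.{u}), ⊤) := by
    have e : Γ((O'' : Scheme.{u}), ⊤) ≅ Γ(U.left, O'') := O''.topIso
    exact isNoetherianRing_of_ringEquiv _ e.symm.commRingCatIsoToRingEquiv
  have hrange₀ : Set.range (N₀.ι ≫ v₂.left) ⊆ Set.range O''.ι := by
    rintro _ ⟨n, rfl⟩
    rw [Scheme.Opens.range_ι]
    exact hN₀sub n.2
  let h₀ : (N₀ : Scheme.{u}) ⟶ (O'' : Scheme.{u}) := IsOpenImmersion.lift O''.ι (N₀.ι ≫ v₂.left) hrange₀
  have hh₀ : h₀ ≫ O''.ι = N₀.ι ≫ v₂.left := IsOpenImmersion.lift_fac _ _ _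
  have hh₀app : ∀ n, O''.ι (h₀ n) = v₂.left (N₀.ι n) := fun n => by
    rw [← Scheme.Hom.comp_apply, hh₀, Scheme.Hom.comp_apply]
  have hanti : ∀ n n' : ↥(N₀ : Scheme.{u}), h₀ n ⤳ h₀ n' → h₀ n = h₀ n' := by
    intro n n' hs
    apply O''.ι.isEmbedding.injective
    have hs' : O''.ι (h₀ n) ⤳ O''.ι (h₀ n') := hs.map O''.ι.continuous
    rw [hh₀app, hh₀app] at hs' ⊢
    exact (eq_of_specializes_of_isLocallyNoetherian_chart a hae
      ((hfib _).trans (hfib _).symm) hs').symm
  let u'' : ↥(O'' : Scheme.{u}) := ⟨u, huO''⟩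
  have hopen : IsOpen (h₀ ⁻¹' {u''}) := isOpen_preimage_singleton_of_antichain h₀ hanti u''
  let ON : (N₀ : Scheme.{u}).Opens := ⟨h₀ ⁻¹' {u''}, hopen⟩
  let N : T₀.left.Opens := N₀.ι ''ᵁ ON
  have htN : t ∈ N := by
    refine ⟨⟨t, htN₀⟩, ?_, rfl⟩
    change h₀ ⟨t, htN₀⟩ = u''
    apply O''.ι.isEmbedding.injective
    rw [hh₀app]
    rfl
  refine ⟨N, htN, ?_⟩
  have hNred : IsReduced (N : Scheme.{u}) := isReduced_of_isOpenImmersion N.ι
  have hNfib : ∀ n : ↥(N : Scheme.{u}), v₂.left (N.ι n) = u := by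
    intro n
    obtain ⟨n₀, hn₀, hn₀'⟩ := n.2
    have h1 : h₀ n₀ = u'' := hn₀
    have h2 : N.ι n = N₀.ι n₀ := hn₀'.symm
    rw [h2, ← hh₀app, h1]
    rfl
  have hrange : Set.range (N.ι ≫ v₂.left) ⊆ Set.range O''.ι := by
    rintro _ ⟨n, rfl⟩
    rw [Scheme.Opens.range_ι, Scheme.Hom.comp_apply, hNfib]
    exact huO''
  let h'' : (N : Scheme.{u}) ⟶ (O'' : Scheme.{u}) := IsOpenImmersion.lift O''.ι (N.ι ≫ v₂.left) hrange
  have hh'' : h'' ≫ O''.ι = N.ι ≫ v₂.left := IsOpenImmersion.lift_fac _ _ _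
  have hpts : ∀ n, h'' n = u'' := by
    intro n
    apply O''.ι.isEmbedding.injective
    have e1 : O''.ι (h'' n) = v₂.left (N.ι n) := by
      rw [← Scheme.Hom.comp_apply, hh'', Scheme.Hom.comp_apply]
    rw [e1, hNfib]
    rfl
  obtain ⟨l, hl⟩ := exists_lift_fromSpecResidueField h'' u'' hpts
  -- the field point
  let q : FieldPt X.obj := FieldPt.ofPt ((yon S).map (openι U O'') ≫ a) u''
  have hqx : Points.mk q = x := by
    change Points.ofPt ((yon S).map (openι U O'') ≫ a) u'' = x
    rw [ofPt_restrict]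
    exact hfib t
  obtain ⟨lam, hlam⟩ := exists_factor_fieldPt_of_mono i x hi q hqx
  have hw : l ≫ q.str = (overOpens T₀ N).hom := by
    change l ≫ (O'' : Scheme.{u}).fromSpecResidueField u'' ≫ O''.ι ≫ U.hom = N.ι ≫ T₀.hom
    rw [← Category.assoc, hl, ← Category.assoc, hh'', Category.assoc, Over.w v₂]
  let lO : overOpens T₀ N ⟶ q.pt := Over.homMk l hw
  refine ⟨(yon S).map lO ≫ lam, ?_⟩
  rw [Category.assoc, hlam, FieldPt.toHom_ofPt, ← Category.assoc, ← Category.assoc,
    ← Functor.map_comp, ← Functor.map_comp, ← Category.assoc, ← Functor.map_comp]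
  congr 2
  ext1
  change (l ≫ (O'' : Scheme.{u}).fromSpecResidueField u'') ≫ O''.ι = N.ι ≫ v₂.left
  rw [hl, hh'']

/-- **S10415**: a morphism from a reduced algebraic space to a locally Noetherian one whose image is the single
point `x` factors through the residual space at `x`. -/
theorem exists_factor_residual_of_reduced {Y X Z : Space S} (f : Y ⟶ X)
    (x : Points X.obj) (hf : ∀ y : Points Y.obj, Points.map f.hom y = x)
    (hY : EtaleLocally (fun U => IsReduced U) Y.obj) (hX : IsLocNoethSp X.obj)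
    (i : Z ⟶ X) [Mono i.hom] (hi : Set.range (Points.map i.hom) = {x}) :
    ∃ g : Y ⟶ Z, g ≫ i = f := by
  obtain ⟨V, c, hce, hcs, hVred⟩ := hY
  have hVred' : IsReduced V.left := hVred
  obtain ⟨U, a, hae, has, hUN⟩ := hX
  have hUN' : IsLocallyNoetherian U.left := hUN
  obtain ⟨φ, hφ⟩ : ∃ φ : (yon S).obj V ⟶ X.obj, φ = c ≫ f.hom := ⟨_, rfl⟩
  have hφx : ∀ w : ↥V.left, Points.ofPt φ w = x := fun w => by
    rw [hφ, ← Points.map_ofPt, hf]
  have sq := hae.rep.isPullback' φ
  set T₀ := hae.rep.pullback φ with hT₀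
  set v₂ := hae.rep.fst' φ with hv₂
  set v₁ := hae.rep.snd φ with hv₁
  have hv₁e : Etale v₁.left := hae.property_snd φ
  have hv₁s : Surjective v₁.left := has.property_snd φ
  have hT₀red : IsReduced T₀.left := Groth.Agent.Lib.Helper46.RedDescent.isReduced_of_smooth v₁.left
  have hfib : ∀ t : ↥T₀.left, Points.ofPt a (v₂.left t) = x := by
    intro t
    rw [← ofPt_map_comp, sq.w, ofPt_map_comp, hφx]
  have key := exists_local_factor_locNoeth x i hi a hae v₂ hfib
  choose N hN1 y hy using key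
  obtain ⟨Λ, hΛ⟩ : ∃ Λ : (yon S).obj T₀ ⟶ Z.obj, Λ ≫ i.hom = (yon S).map v₂ ≫ a := by
    refine Groth.Agent.Lib.Helper5.OpenLocal.exists_lift_of_locally_lift_mono i.hom ((yon S).map v₂ ≫ a)
      (Sieve.ofArrows _ (fun t : ↥T₀.left => overOpensι T₀ (N t)))
      (ofArrows_mem_J _ _ (fun t => by change IsOpenImmersion (N t).ι; infer_instance)
        (fun z => ⟨z, ⟨⟨z, hN1 z⟩, rfl⟩⟩)) ?_
    rintro T' _ ⟨Z', g, _, ⟨t⟩, rfl⟩
    exact ⟨(yon S).map g ≫ y t, by rw [Category.assoc, hy t, Functor.map_comp, Category.assoc]⟩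
  have h1 : Epi ((yon S).map v₁) :=
    epi_of_etale_surjective _ ((repWith_yon_map_iff _ _).2 hv₁e) ((repWith_yon_map_iff _ _).2 hv₁s)
  have h2 : Epi c := epi_of_etale_surjective c hce hcs
  have e_epi : Epi ((yon S).map v₁ ≫ c) := epi_comp _ _
  have comm : Λ ≫ i.hom = ((yon S).map v₁ ≫ c) ≫ f.hom := by
    rw [hΛ, sq.w, Category.assoc, ← hφ]
  let l := pullback.lift Λ ((yon S).map v₁ ≫ c) comm
  have hl : l ≫ pullback.snd i.hom f.hom = (yon S).map v₁ ≫ c := pullback.lift_snd _ _ _
  have hπmono : Mono (pullback.snd i.hom f.hom) := inferInstance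
  have hπepi : Epi (pullback.snd i.hom f.hom) := by
    have : Epi (l ≫ pullback.snd i.hom f.hom) := by rw [hl]; exact e_epi
    exact epi_of_epi l _
  have hiso : IsIso (pullback.snd i.hom f.hom) := isIso_of_mono_of_epi _
  refine ⟨ObjectProperty.homMk (inv (pullback.snd i.hom f.hom) ≫ pullback.fst i.hom f.hom), ?_⟩
  apply ObjectProperty.hom_ext
  change (inv (pullback.snd i.hom f.hom) ≫ pullback.fst i.hom f.hom) ≫ i.hom = f.hom
  rw [Category.assoc, pullback.condition, IsIso.inv_hom_id_assoc]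

end Groth.Agent.Lib.Helper37.ResidualFactor
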