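import Mathlib

set_option autoImplicit false
universe u
open CategoryTheory CategoryTheory.Limits AlgebraicGeometry TensorProduct

/-! Marketplace sub-lemma PLUMB for helper65 (S4877): local affine charts `D(b) ⊆ Spec (A ⊗[k] R)` of `X ×_k S`. -/

namespace Groth.Agent.Lib.Helper37.SD77PLUMB

theorem plumb {k : Type u} [Field k] {X S' : Scheme.{u}} (p : X ⟶ Spec (CommRingCat.of k)) (q : S' ⟶ Spec (CommRingCat.of k)) (V : (pullback p q).Opens) (x : ↥(pullback p q)) (hx : x ∈ V) : ∃ (U : X.Opens) (_ : IsAffineOpen U) (U' : (pullback p q).Opens) (_ : IsAffineOpen U') (hUU' : U' ≤ (pullback.fst p q) ⁻¹ᵁ U) (_ : x ∈ U') (_ : U' ≤ V) (_ : Algebra k Γ(X, U)) (R : Type u) (_ : CommRing R) (_ : Algebra k R) (ι : Γ(X, U) ⊗[k] R →+* Γ(pullback p q, U')) (b : Γ(X, U) ⊗[k] R), ι.comp Algebra.TensorProduct.includeLeftRingHom = ((pullback.fst p q).appLE U U' hUU').hom ∧ (letI := ι.toAlgebra; IsLocalization.Away b Γ(pullback p q, U')) := by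
  obtain ⟨U, hU, hxU⟩ : ∃ U : X.Opens, IsAffineOpen U ∧ pullback.fst p q x ∈ U := by
    obtain ⟨_, ⟨U, hU, rfl⟩, h, -⟩ := (X.isBasis_affineOpens).exists_subset_of_mem_open
      (Set.mem_univ (pullback.fst p q x)) isOpen_univ
    exact ⟨U, hU, h⟩
  obtain ⟨T, hT, hxT⟩ : ∃ T : S'.Opens, IsAffineOpen T ∧ pullback.snd p q x ∈ T := by
    obtain ⟨_, ⟨T, hT, rfl⟩, h, -⟩ := (S'.isBasis_affineOpens).exists_subset_of_mem_open
      (Set.mem_univ (pullback.snd p q x)) isOpen_univ
    exact ⟨T, hT, h⟩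
  let φA : CommRingCat.of k ⟶ Γ(X, U) := Spec.preimage (hU.fromSpec ≫ p)
  let φR : CommRingCat.of k ⟶ Γ(S', T) := Spec.preimage (hT.fromSpec ≫ q)
  letI algA : Algebra k Γ(X, U) := φA.hom.toAlgebra
  letI algR : Algebra k Γ(S', T) := φR.hom.toAlgebra
  have hφA : Spec.map (CommRingCat.ofHom (algebraMap k Γ(X, U))) = hU.fromSpec ≫ p :=
    Spec.map_preimage _
  have hφR : Spec.map (CommRingCat.ofHom (algebraMap k Γ(S', T))) = hT.fromSpec ≫ q :=
    Spec.map_preimage _
  let j : Spec (.of (Γ(X, U) ⊗[k] Γ(S', T))) ⟶ pullback p q :=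
    (pullbackSpecIso k Γ(X, U) Γ(S', T)).inv ≫ pullback.map _ _ p q hU.fromSpec hT.fromSpec (𝟙 _)
      (by rw [Category.comp_id, hφA]) (by rw [Category.comp_id, hφR])
  haveI : IsOpenImmersion j := inferInstance
  have hjfst : j ≫ pullback.fst p q =
      Spec.map (CommRingCat.ofHom Algebra.TensorProduct.includeLeftRingHom) ≫ hU.fromSpec := by
    simp only [j, Category.assoc, pullback.map, pullback.lift_fst, pullbackSpecIso_inv_fst_assoc]
  have hxj : x ∈ Set.range j := by
    have : Set.range j = Set.range (pullback.map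
      (Spec.map (CommRingCat.ofHom (algebraMap k Γ(X, U))))
      (Spec.map (CommRingCat.ofHom (algebraMap k Γ(S', T)))) p q hU.fromSpec hT.fromSpec (𝟙 _)
      (by rw [Category.comp_id, hφA]) (by rw [Category.comp_id, hφR])) := by
      simp only [j, Scheme.Hom.comp_base, TopCat.coe_comp]
      rw [Set.range_comp, Set.range_eq_univ.mpr, Set.image_univ]
      exact (pullbackSpecIso k Γ(X, U) Γ(S', T)).symm.hom.surjective
    rw [this, Scheme.Pullback.range_map]
    refine ⟨?_, ?_⟩
    · show pullback.fst p q x ∈ Set.range hU.fromSpec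
      rw [hU.range_fromSpec]; exact hxU
    · show pullback.snd p q x ∈ Set.range hT.fromSpec
      rw [hT.range_fromSpec]; exact hxT
  -- the affine open `U₀ = range j`
  set U₀ : (pullback p q).Opens := j.opensRange with hU₀def
  have hU₀ : IsAffineOpen U₀ := isAffineOpen_opensRange j
  have hxU₀ : x ∈ U₀ := hxj
  obtain ⟨f, hfV, hxf⟩ := hU₀.exists_basicOpen_le (V := V) ⟨x, hx⟩ hxU₀
  have hle : (pullback p q).basicOpen f ≤ U₀ := (pullback p q).basicOpen_le f
  have hU₀U : U₀ ≤ (pullback.fst p q) ⁻¹ᵁ U := by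
    rintro _ ⟨y, rfl⟩
    show pullback.fst p q (j y) ∈ U
    rw [← Scheme.Hom.comp_apply, hjfst, Scheme.Hom.comp_apply]
    have : hU.fromSpec ((Spec.map (CommRingCat.ofHom
      Algebra.TensorProduct.includeLeftRingHom)) y) ∈ Set.range hU.fromSpec := ⟨_, rfl⟩
    rw [hU.range_fromSpec] at this
    exact this
  -- the iso `Spec Γ(P, U₀) ≅ Spec (A ⊗ R)` over `P`
  let g : Spec Γ(pullback p q, U₀) ≅ Spec (.of (Γ(X, U) ⊗[k] Γ(S', T))) :=
    IsOpenImmersion.isoOfRangeEq hU₀.fromSpec j (by rw [hU₀.range_fromSpec]; rfl)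
  have hg : g.hom ≫ j = hU₀.fromSpec := IsOpenImmersion.isoOfRangeEq_hom_fac _ _ _
  let eIso : CommRingCat.of (Γ(X, U) ⊗[k] Γ(S', T)) ≅ Γ(pullback p q, U₀) :=
    { hom := Spec.preimage g.hom
      inv := Spec.preimage g.inv
      hom_inv_id := Spec.map_injective (by
        rw [Spec.map_comp, Spec.map_preimage, Spec.map_preimage, Iso.inv_hom_id, Spec.map_id])
      inv_hom_id := Spec.map_injective (by
        rw [Spec.map_comp, Spec.map_preimage, Spec.map_preimage, Iso.hom_inv_id, Spec.map_id]) }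
  have heIso : Spec.map eIso.hom = g.hom := Spec.map_preimage _
  let h : Γ(pullback p q, U₀) ≃+* (Γ(X, U) ⊗[k] Γ(S', T)) :=
    eIso.commRingCatIsoToRingEquiv.symm
  let res : Γ(pullback p q, U₀) ⟶ Γ(pullback p q, (pullback p q).basicOpen f) :=
    (pullback p q).presheaf.map (homOfLE hle).op
  refine ⟨U, hU, (pullback p q).basicOpen f, hU₀.basicOpen f, hle.trans hU₀U, hxf, hfV,
    algA, Γ(S', T), inferInstance, algR, (res.hom).comp h.symm.toRingHom, h f, ?_, ?_⟩
  · -- compatibility
    have key : eIso.hom ≫ res = CommRingCat.ofHom ((res.hom).comp h.symm.toRingHom) := by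
      exact CommRingCat.hom_ext (RingHom.ext fun a => rfl)
    have h1 : CommRingCat.ofHom Algebra.TensorProduct.includeLeftRingHom ≫ eIso.hom =
        (pullback.fst p q).appLE U U₀ hU₀U := by
      apply Spec.map_injective
      rw [← cancel_mono hU.fromSpec, Spec.map_comp, Category.assoc, heIso,
        IsAffineOpen.SpecMap_appLE_fromSpec _ hU hU₀, ← hjfst, ← Category.assoc, hg]
    have h2 : (pullback.fst p q).appLE U U₀ hU₀U ≫ res =
        (pullback.fst p q).appLE U ((pullback p q).basicOpen f) (hle.trans hU₀U) :=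
      Scheme.Hom.appLE_map _ _ _
    have := congrArg CommRingCat.Hom.hom (show
      CommRingCat.ofHom Algebra.TensorProduct.includeLeftRingHom ≫ eIso.hom ≫ res = _ from by
        rw [← Category.assoc, h1, h2])
    rw [← this, key]
    rfl
  · have hloc := hU₀.isLocalization_of_eq_basicOpen f (homOfLE hle) rfl
    letI : Algebra Γ(pullback p q, U₀) Γ(pullback p q, (pullback p q).basicOpen f) :=
      res.hom.toAlgebra
    haveI : IsLocalization (Submonoid.powers f)
      Γ(pullback p q, (pullback p q).basicOpen f) := hloc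
    have := IsLocalization.isLocalization_of_base_ringEquiv (Submonoid.powers f)
      Γ(pullback p q, (pullback p q).basicOpen f) h
    rw [Submonoid.map_powers] at this
    exact this

end Groth.Agent.Lib.Helper37.SD77PLUMB
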