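import Mathlib
import Groth.Agent.Lib.Helper37.UbfCover

/-!
# Étale coverings with universally bounded fibres (helper37, S10429)

`hasUnivBddFibres_of_etale_cover`: if `X` has an étale covering by schemes `U_i` with universally bounded fibres, then every
étale `V ⟶ X` with `V` affine has universally bounded fibres (finitely many affine opens `W` of the `V ×_X U_i` cover `V`;
`W ⟶ U_i` is quasi-compact étale, so bounded by S7441; compose (S10424), descend along `W ⟶ p(W)` (S10427) and add up over
the finite open cover of `V`).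
-/

set_option autoImplicit false
universe u
open CategoryTheory CategoryTheory.Limits AlgebraicGeometry Opposite

namespace Groth.Agent.Lib.Helper37.UbfCover

open AlgSp Groth.Agent.Lib.Helper37.AlgSpPoints Groth.Agent.Lib.Helper23.AlgSpMor
  Groth.Agent.Lib.Helper36.AlgSpCharts Groth.Agent.Lib.Helper37.UnivBdd
  Groth.Agent.Lib.Helper37.AlgSpFibres Groth.Agent.Lib.Helper37.UbfComp

variable {S : Scheme.{u}}

/-- **S10429**: an étale covering by schemes with universally bounded fibres forces universally bounded fibres on every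
affine étale chart. -/
theorem hasUnivBddFibres_of_etale_cover (X : Space S) {ι : Type u} (U : ι → Over S)
    (φ : ∀ i, (yon S).obj (U i) ⟶ X.obj) (hφ : ∀ i, RepWith @Etale (φ i))
    (hsurj : ∀ x : Points X.obj, ∃ (i : ι) (v : ↥(U i).left), Points.ofPt (φ i) v = x)
    (hb : ∀ i, W4dec.HasUnivBddFibres (φ i)) {V : Over S} [IsAffine V.left]
    (ψ : (yon S).obj V ⟶ X.obj) (hψ : RepWith @Etale ψ) : W4dec.HasUnivBddFibres ψ := by
  have key : ∀ v : ↥V.left, ∃ (W : Over S) (p : W ⟶ V) (i : ι) (r : W ⟶ U i),
      IsAffine W.left ∧ Etale p.left ∧ Etale r.left ∧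
        (yon S).map p ≫ ψ = (yon S).map r ≫ φ i ∧ v ∈ Set.range p.left := by
    intro v
    obtain ⟨i, u, hu⟩ := hsurj (Points.ofPt ψ v)
    have sq := (hφ i).rep.isPullback' ψ
    obtain ⟨w, hw1, hw2⟩ := (ofPt_eq_ofPt_iff sq u v).1 hu
    have het_fst : Etale ((hφ i).rep.fst' ψ).left := prop_fst_of_isPullback sq hψ
    have het_snd : Etale ((hφ i).rep.snd ψ).left := prop_fst_of_isPullback sq.flip (hφ i)
    obtain ⟨_, ⟨W₀, hW₀, rfl⟩, hwW₀, -⟩ :=
      ((hφ i).rep.pullback ψ).left.isBasis_affineOpens.exists_subset_of_mem_open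
        (Set.mem_univ w) isOpen_univ
    refine ⟨openOver _ W₀, openι _ W₀ ≫ (hφ i).rep.snd ψ, i, openι _ W₀ ≫ (hφ i).rep.fst' ψ, hW₀,
      ?_, ?_, ?_, ⟨⟨w, hwW₀⟩, hw2⟩⟩
    · have hι : Etale (openι ((hφ i).rep.pullback ψ) W₀).left :=
        inferInstanceAs (Etale (Scheme.Opens.ι W₀))
      change Etale ((openι ((hφ i).rep.pullback ψ) W₀).left ≫ ((hφ i).rep.snd ψ).left)
      infer_instance
    · have hι : Etale (openι ((hφ i).rep.pullback ψ) W₀).left :=
        inferInstanceAs (Etale (Scheme.Opens.ι W₀))
      change Etale ((openι ((hφ i).rep.pullback ψ) W₀).left ≫ ((hφ i).rep.fst' ψ).left)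
      infer_instance
    · rw [Functor.map_comp, Functor.map_comp, Category.assoc, Category.assoc, sq.w]
  choose W p i r hW hp hr hcomm hv using key
  have hopen : ∀ v, IsOpen (Set.range (p v).left) := fun v => (p v).left.isOpenMap.isOpen_range
  obtain ⟨t, ht⟩ := isCompact_univ.elim_finite_subcover (fun v => Set.range (p v).left) hopen
    (fun x _ => Set.mem_iUnion.2 ⟨x, hv x⟩)
  refine hasUnivBddFibres_of_finite_openCover ψ (ι := ↥t)
    (fun v => ⟨Set.range (p v.1).left, hopen v.1⟩) ?_ ?_
  · intro x
    obtain ⟨v, hvt, hx⟩ : ∃ v ∈ t, x ∈ Set.range (p v).left := by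
      simpa using ht (Set.mem_univ x)
    exact ⟨⟨v, hvt⟩, hx⟩
  · rintro ⟨v, hvt⟩
    set O : V.left.Opens := ⟨Set.range (p v).left, hopen v⟩ with hO
    have hrange : Set.range (p v).left ⊆ Set.range O.ι := by
      rw [Scheme.Opens.range_ι]
      exact subset_rfl
    have hfac : IsOpenImmersion.lift O.ι (p v).left hrange ≫ O.ι = (p v).left :=
      IsOpenImmersion.lift_fac _ _ _
    let f : W v ⟶ openOver V O := Over.homMk (IsOpenImmersion.lift O.ι (p v).left hrange) (by
      change _ ≫ O.ι ≫ V.hom = _
      rw [← Category.assoc, hfac, Over.w (p v)])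
    have hf : f ≫ openι V O = p v := Over.OverMorphism.ext hfac
    have : Etale (p v).left := hp v
    have hfet : Etale f.left := by
      have : Etale (f.left ≫ O.ι) := by
        change Etale (IsOpenImmersion.lift O.ι (p v).left hrange ≫ O.ι)
        rw [hfac]; infer_instance
      exact Etale.of_comp f.left O.ι
    have hfsurj : Surjective f.left := by
      refine ⟨fun z => ?_⟩
      obtain ⟨w, hw⟩ : z.1 ∈ Set.range (p v).left := z.2
      refine ⟨w, Subtype.ext ?_⟩
      have := congrArg (fun m => m w) (congrArg (fun g => g.base) hfac)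
      change O.ι (f.left w) = _
      rw [← Scheme.Hom.comp_apply]
      change (IsOpenImmersion.lift O.ι (p v).left hrange ≫ O.ι) w = _
      rw [hfac]
      exact hw
    have hflat : Flat f.left := inferInstance
    have := hW v
    have : CompactSpace ↥(W v).left := inferInstance
    have : Etale (r v).left := hr v
    have h1 : W4dec.HasUnivBddFibres ((yon S).map (r v) ≫ φ (i v)) :=
      hasUnivBddFibres_comp X (r v) (φ (i v)) (hasUnivBddFibres_yon_of_etale (r v)) (hb (i v))
    rw [← hcomm v, ← hf, Functor.map_comp, Category.assoc] at h1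
    exact hasUnivBddFibres_of_flat_surjective X f _ h1

end Groth.Agent.Lib.Helper37.UbfCover
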