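import Mathlib
import Groth.Agent.Lib.Helper37.UbfEtCover

/-!
# Permanence of "affine étale charts have universally bounded fibres" (helper37; S10431, S10432)

* `exists_affine_atlas`: a covering family of affine étale charts.
* `hasUnivBddFibres_snd_of_isPullback` (S10425 for sheaves), `hasUnivBddFibres_comp_mono`.
* `hasUnivBddFibres_of_representable` (S10431), `hasUnivBddFibres_of_zarCover` (S10432), both via S10429.
-/

set_option autoImplicit false
universe u
open CategoryTheory CategoryTheory.Limits AlgebraicGeometry Opposite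

namespace Groth.Agent.Lib.Helper37.UbfCover

open AlgSp Groth.Agent.Lib.Helper37.AlgSpPoints Groth.Agent.Lib.Helper23.AlgSpMor
  Groth.Agent.Lib.Helper36.AlgSpCharts Groth.Agent.Lib.Helper37.UnivBdd
  Groth.Agent.Lib.Helper37.AlgSpFibres Groth.Agent.Lib.Helper37.UbfComp

variable {S : Scheme.{u}}

/-- A family of affine étale charts covering an algebraic space. -/
theorem exists_affine_atlas (X : Space S) :
    ∃ (ι : Type u) (V : ι → Over S) (a : ∀ i, (yon S).obj (V i) ⟶ X.obj),
      (∀ i, IsAffine (V i).left) ∧ (∀ i, RepWith @Etale (a i)) ∧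
        ∀ x : Points X.obj, ∃ (i : ι) (v : ↥(V i).left), Points.ofPt (a i) v = x := by
  obtain ⟨U, p, hpe, hps⟩ := X.property.atlas
  refine ⟨U.left.affineOpens, fun O => openOver U O.1, fun O => (yon S).map (openι U O.1) ≫ p,
    fun O => O.2, fun O => repWith_etale_restrict p hpe O.1, fun x => ?_⟩
  obtain ⟨u, rfl⟩ := ofPt_surjective p hps x
  obtain ⟨_, ⟨U₀, hU₀, rfl⟩, huU₀, -⟩ :=
    U.left.isBasis_affineOpens.exists_subset_of_mem_open (Set.mem_univ u) isOpen_univ
  exact ⟨⟨U₀, hU₀⟩, ⟨u, huU₀⟩, ofPt_restrict p U₀ ⟨u, huU₀⟩⟩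

/-- Base change of universally bounded fibres along a representable morphism (S10425 for sheaves). -/
theorem hasUnivBddFibres_snd_of_isPullback {X Y : Sp S} (p : Y ⟶ X) {U V : Over S}
    (g : (yon S).obj U ⟶ X) (hg : W4dec.HasUnivBddFibres g)
    (fst : (yon S).obj V ⟶ (yon S).obj U) (snd : (yon S).obj V ⟶ Y)
    (h : IsPullback fst snd g p) : W4dec.HasUnivBddFibres snd := by
  obtain ⟨n, hn⟩ := hg
  refine ⟨n, fun q T c snd' hpb => ?_⟩
  have key : IsPullback ((yon S).map c) (snd' ≫ fst) (q.map p).toHom g := by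
    rw [FieldPt.toHom_map]
    exact hpb.paste_vert h.flip
  exact hn (q.map p) T c (snd' ≫ fst) key

/-- **S10431.** -/
theorem hasUnivBddFibres_of_representable {X Y : Space S} (f : X ⟶ Y) (hf : Representable f.hom)
    (hY : ∀ (V : Over S) (ψ : (yon S).obj V ⟶ Y.obj), IsAffine V.left → RepWith @Etale ψ →
      W4dec.HasUnivBddFibres ψ)
    (U : Over S) (φ : (yon S).obj U ⟶ X.obj) (hU : IsAffine U.left) (hφ : RepWith @Etale φ) :
    W4dec.HasUnivBddFibres φ := by
  obtain ⟨ι, V, a, hV, ha, hsurj⟩ := exists_affine_atlas Y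
  have sq := fun i => hf.isPullback (a i)
  have hφi : ∀ i, RepWith @Etale (hf.fst (a i)) := fun i =>
    (RepWith @Etale).of_isPullback (sq i).flip (ha i)
  have hbi : ∀ i, W4dec.HasUnivBddFibres (hf.fst (a i)) := fun i =>
    hasUnivBddFibres_snd_of_isPullback f.hom (a i) (hY _ (a i) (hV i) (ha i))
      ((yon S).map (hf.snd (a i))) (hf.fst (a i)) (sq i).flip
  refine hasUnivBddFibres_of_etale_cover X (fun i => hf.pullback (a i)) (fun i => hf.fst (a i)) hφi
    ?_ hbi φ hφ
  intro x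
  obtain ⟨i, v, hv⟩ := hsurj (Points.map f.hom x)
  rw [Points.ofPt_eq_map_ofScheme] at hv
  obtain ⟨pt, hp1, hp2⟩ := points_exists_of_isPullback (sq i).flip _ _ hv
  refine ⟨i, Points.toScheme _ pt, ?_⟩
  rw [Points.ofPt_eq_map_ofScheme, Points.ofScheme_toScheme, hp2]

/-- Composing with a monomorphism preserves universally bounded fibres. -/
theorem hasUnivBddFibres_comp_mono {X Y : Space S} (j : Y ⟶ X) [Mono j.hom] {V : Over S}
    (b : (yon S).obj V ⟶ Y.obj) (hb : W4dec.HasUnivBddFibres b) :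
    W4dec.HasUnivBddFibres (b ≫ j.hom) := by
  have h : IsPullback (𝟙 ((yon S).obj V)) b (b ≫ j.hom) j.hom :=
    IsPullback.of_horiz_isIso_mono ⟨by rw [Category.id_comp]⟩
  refine hasUnivBddFibres_of_baseChange j (b ≫ j.hom) (𝟙 _) b h ?_ hb
  rintro _ ⟨v, rfl⟩
  exact ⟨Points.ofPt b v, Points.map_ofPt _ _ _⟩

/-- **S10432.** -/
theorem hasUnivBddFibres_of_zarCover (X : Space S) {ι : Type u} (Xi : ι → Space S)
    (j : ∀ i, Xi i ⟶ X) (hj : IsZarCover (fun i => (Xi i).obj) (fun i => (j i).hom))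
    (h : ∀ (i : ι) (V : Over S) (ψ : (yon S).obj V ⟶ (Xi i).obj), IsAffine V.left →
      RepWith @Etale ψ → W4dec.HasUnivBddFibres ψ)
    (U : Over S) (φ : (yon S).obj U ⟶ X.obj) (hU : IsAffine U.left) (hφ : RepWith @Etale φ) :
    W4dec.HasUnivBddFibres φ := by
  obtain ⟨hjo', hjs'⟩ := hj
  have hjo : ∀ i, RepWith @IsOpenImmersion (j i).hom := hjo'
  have hjs : ∀ x : Points X.obj, ∃ i, x ∈ Set.range (Points.map (j i).hom) := hjs'
  have hjm : ∀ i, Mono (j i).hom := fun i =>
    Groth.Agent.Lib.Helper62.mono_of_repWith @IsOpenImmersion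
      (fun f hf => by have := hf; infer_instance) _ (hjo i)
  have hje : ∀ i, RepWith @Etale (j i).hom := fun i =>
    MorphismProperty.relative_monotone (fun _ _ g hg => by
      have : IsOpenImmersion g.left := hg
      exact (inferInstance : Etale g.left)) _ (hjo i)
  choose κ V a hV ha hsurj using fun i => exists_affine_atlas (Xi i)
  refine hasUnivBddFibres_of_etale_cover X (ι := Σ i, κ i) (fun z => V z.1 z.2)
    (fun z => a z.1 z.2 ≫ (j z.1).hom)
    (fun z => (RepWith @Etale).comp_mem _ _ (ha z.1 z.2) (hje z.1)) ?_ (fun z => ?_) φ hφ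
  · intro x
    obtain ⟨i, xi, rfl⟩ := hjs x
    obtain ⟨k, v, rfl⟩ := hsurj i xi
    exact ⟨⟨i, k⟩, v, (Points.map_ofPt _ _ _).symm⟩
  · have := hjm z.1
    exact hasUnivBddFibres_comp_mono (j z.1) (a z.1 z.2) (h z.1 _ (a z.1 z.2) (hV z.1 z.2) (ha z.1 z.2))

end Groth.Agent.Lib.Helper37.UbfCover
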