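import Mathlib
import Groth.Prelude.Def_AlgSpModX

/-!
# Weakly associated points and short exact sequences on the small etale site (helper37)

* `sections_leftExact`: sections over an object of a short exact sequence of modules are left exact.
* `secMap`, `annSect_le_secMap`, `annSect_secMap_of_injective`.
* `weakAssEt_of_shortExact` (S10811).
-/

set_option autoImplicit false
universe u
open CategoryTheory CategoryTheory.Limits AlgebraicGeometry Opposite
open AlgSp

namespace Groth.Agent.Lib.Helper37.WeakAssSeq

variable {S : Scheme.{u}} {X : Sp S}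

/-- Sections over `E` of a short exact sequence of modules form a left exact sequence. -/
theorem sections_leftExact (C : ShortComplex (ModEt X)) (hC : C.ShortExact) (E : EtOver X) :
    Function.Injective ((SheafOfModules.evaluation (OEtRing X) (op E)).map C.f).hom ∧
      ∀ s₂ : sectModEt C.X₂ E, ((SheafOfModules.evaluation (OEtRing X) (op E)).map C.g).hom s₂ = 0 →
        ∃ s₁ : sectModEt C.X₁ E,
          ((SheafOfModules.evaluation (OEtRing X) (op E)).map C.f).hom s₁ = s₂ := by
  have hm : Mono C.f := hC.mono_f
  let F := SheafOfModules.evaluation (OEtRing X) (op E)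
  have hadd : F.Additive :=
    inferInstanceAs ((SheafOfModules.forget _ ⋙ PresheafOfModules.evaluation _ (op E)).Additive)
  have h1 : Mono (F.map C.f) := inferInstance
  have h2 : (C.map F).Exact := hC.exact.map_of_mono_of_preservesKernel F hm inferInstance
  refine ⟨(ModuleCat.mono_iff_injective _).1 h1, ?_⟩
  intro s₂ hs₂
  exact (ShortComplex.moduleCat_exact_iff _).1 h2 s₂ hs₂

/-- the map on sections over `E` induced by a morphism of modules -/
noncomputable abbrev secMap {M N : ModEt X} (φ : M ⟶ N) (E : EtOver X) :
    sectModEt M E →ₗ[(OEtRing X).obj.obj (op E)] sectModEt N E :=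
  ((SheafOfModules.evaluation (OEtRing X) (op E)).map φ).hom

theorem annSect_le_secMap {M N : ModEt X} (φ : M ⟶ N) (E : EtOver X) (s : sectModEt M E) :
    annSect s ≤ annSect (secMap φ E s) := by
  intro a ha
  rw [mem_annSect_iff] at ha ⊢
  rw [← map_smul, ha, map_zero]

theorem annSect_secMap_of_injective {M N : ModEt X} (φ : M ⟶ N) (E : EtOver X)
    (hinj : Function.Injective (secMap φ E)) (s : sectModEt M E) :
    annSect (secMap φ E s) = annSect s := by
  refine le_antisymm ?_ (annSect_le_secMap φ E s)
  intro a ha
  rw [mem_annSect_iff] at ha ⊢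
  rw [← map_smul] at ha
  exact hinj (ha.trans (map_zero _).symm)

/-- S10811 -/
theorem weakAssEt_of_shortExact (C : ShortComplex (ModEt X)) (hC : C.ShortExact) :
    WeakAssEt C.X₂ ⊆ WeakAssEt C.X₁ ∪ WeakAssEt C.X₃ ∧ WeakAssEt C.X₁ ⊆ WeakAssEt C.X₂ := by
  constructor
  · rintro x ⟨E, hE, u, hu, s, hs⟩
    obtain ⟨hinj, hex⟩ := sections_leftExact C hC E
    set p := primeAtPt E.obj.left.left u with hp
    have hpp : p.IsPrime := inferInstance
    by_cases h3 : p ∈ (annSect (secMap C.g E s)).minimalPrimes
    · exact Or.inr ⟨E, hE, u, hu, secMap C.g E s, h3⟩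
    · left
      have hnle : ¬ annSect (secMap C.g E s) ≤ p := by
        intro hle
        apply h3
        refine ⟨⟨hpp, hle⟩, fun q hq hqp => ?_⟩
        exact hs.2 ⟨hq.1, (annSect_le_secMap C.g E s).trans hq.2⟩ hqp
      obtain ⟨a, ha, hap⟩ := Set.not_subset.1 hnle
      have hker : secMap C.g E ((upΓ E a) • s) = 0 := by
        rw [map_smul]
        exact (mem_annSect_iff _ _).1 ha
      obtain ⟨s₁, hs₁⟩ := hex _ hker
      refine ⟨E, hE, u, hu, s₁, ?_⟩
      have hann : annSect s₁ = annSect ((upΓ E a) • s) := by
        rw [← hs₁]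
        exact (annSect_secMap_of_injective C.f E hinj s₁).symm
      rw [hann]
      have hle1 : annSect s ≤ annSect ((upΓ E a) • s) := by
        intro b hb
        rw [mem_annSect_iff] at hb ⊢
        rw [← mul_smul, ← map_mul, mul_comm, map_mul, mul_smul, hb, smul_zero]
      have hle2 : annSect ((upΓ E a) • s) ≤ p := by
        intro b hb
        rw [mem_annSect_iff] at hb
        have hba : b * a ∈ annSect s := by
          rw [mem_annSect_iff, map_mul, mul_smul]
          exact hb
        rcases hpp.mem_or_mem (hs.1.2 hba) with h | h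
        · exact h
        · exact absurd h hap
      refine ⟨⟨hpp, hle2⟩, fun q hq hqp => ?_⟩
      exact hs.2 ⟨hq.1, hle1.trans hq.2⟩ hqp
  · rintro x ⟨E, hE, u, hu, s, hs⟩
    obtain ⟨hinj, -⟩ := sections_leftExact C hC E
    refine ⟨E, hE, u, hu, secMap C.f E s, ?_⟩
    rw [annSect_secMap_of_injective C.f E hinj s]
    exact hs

end Groth.Agent.Lib.Helper37.WeakAssSeq
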