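import Mathlib
import Groth.Prelude.Def_AlgSpModX
import Groth.Agent.Lib.Helper30.WeakAssUnit
import Groth.Agent.Lib.Helper30.IdealEtChart

/-!
# A module on the small etale site is zero iff it has no weakly associated points (helper37)

* `openObj`, `openObjι`: the object of the small etale site given by an open of the scheme of an object.
* `sect_eq_zero_of_cover`: a section vanishing on an open cover vanishes (sheaf separatedness).
* `isZero_iff_weakAssEt_eq_empty` (S10810).
-/

set_option autoImplicit false
universe u
open CategoryTheory CategoryTheory.Limits AlgebraicGeometry Opposite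
open AlgSp

namespace Groth.Agent.Lib.Helper37.WeakAssZero

variable {S : Scheme.{u}} {X : Sp S}

/-- the affine open subobject of `E` given by an affine open of its scheme -/
noncomputable def openObj (E : EtOver X) (W : E.obj.left.left.Opens) : EtOver X :=
  EtOver.mk ((yon S).map (Over.homMk W.ι rfl : Over.mk (W.ι ≫ E.obj.left.hom) ⟶ E.obj.left) ≫ E.obj.hom)
    (Groth.Agent.Lib.Helper30.IdealEtChart.repWith_etale_opens_ι_comp E.obj.hom E.property W)

noncomputable def openObjι (E : EtOver X) (W : E.obj.left.left.Opens) : openObj E W ⟶ E :=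
  EtOver.homMk (Over.homMk W.ι rfl : Over.mk (W.ι ≫ E.obj.left.hom) ⟶ E.obj.left) rfl

/-- A section of a module which vanishes on an open cover vanishes. -/
theorem sect_eq_zero_of_cover (M : ModEt X) (E : EtOver X) (s : sectModEt M E)
    (W : ↥E.obj.left.left → E.obj.left.left.Opens) (hW : ∀ x, x ∈ W x)
    (h : ∀ x, M.val.map (openObjι E (W x)).op s = 0) : s = 0 := by
  have hcov : Sieve.ofArrows (fun x => openObj E (W x)) (fun x => openObjι E (W x)) ∈ etTop X E := by
    refine ofArrows_mem_etTop _ _ (fun x => ⟨x, ?_⟩)
    change x ∈ Set.range (W x).ι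
    rw [Scheme.Opens.range_ι]
    exact hW x
  have hsh : Presheaf.IsSheaf (etTop X) (M.val.presheaf ⋙ forget AddCommGrpCat) :=
    (Presheaf.isSheaf_iff_isSheaf_forget (etTop X) M.val.presheaf (forget AddCommGrpCat)).1 M.isSheaf
  rw [isSheaf_iff_isSheaf_of_type] at hsh
  refine (hsh _ hcov).isSeparatedFor.ext ?_
  rintro Y f ⟨Z, g, _, ⟨x⟩, rfl⟩
  change M.val.map (g ≫ openObjι E (W x)).op s = M.val.map (g ≫ openObjι E (W x)).op 0
  have h0 : M.val.map (g ≫ openObjι E (W x)).op (0 : sectModEt M E) = 0 := map_zero _
  rw [h0, op_comp, M.val.map_comp]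
  change M.val.map g.op (M.val.map (openObjι E (W x)).op s) = 0
  rw [h x]
  exact map_zero _

/-- S10810: a module on the small etale site is zero iff it has no weakly associated points. -/
theorem isZero_iff_weakAssEt_eq_empty (M : ModEt X) : IsZero M ↔ WeakAssEt M = ∅ := by
  constructor
  · intro hM
    have hsub : ∀ E : EtOver X, Subsingleton (sectModEt M E) := fun E => by
      have hadd : (SheafOfModules.evaluation (OEtRing X) (op E)).Additive :=
        inferInstanceAs ((SheafOfModules.forget _ ⋙ PresheafOfModules.evaluation _ (op E)).Additive)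
      have h0 := (SheafOfModules.evaluation (OEtRing X) (op E)).map_isZero hM
      exact ModuleCat.subsingleton_of_isZero h0
    ext x
    simp only [Set.mem_empty_iff_false, iff_false]
    rintro ⟨E, hE, u, hu, s, hs⟩
    have htop : annSect s = ⊤ := by
      ext a
      simp only [Submodule.mem_top, iff_true]
      rw [mem_annSect_iff]
      exact (hsub E).elim _ _
    rw [htop, Ideal.minimalPrimes_top] at hs
    exact hs
  · intro h
    have haff : ∀ (E : EtOver X) (_ : IsAffine E.obj.left.left) (s : sectModEt M E), s = 0 := by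
      intro E hE s
      by_contra hs
      have hne : annSect s ≠ ⊤ := fun htop => hs (by
        have h1 : (1 : Γ(E.obj.left.left, ⊤)) ∈ annSect s := htop ▸ Submodule.mem_top
        rw [mem_annSect_iff, map_one, one_smul] at h1
        exact h1)
      obtain ⟨p, hp⟩ := Set.nonempty_iff_ne_empty.2 (mt (Ideal.minimalPrimes_eq_empty_iff _).1 hne)
      have hpp : p.IsPrime := hp.isPrime
      obtain ⟨u, hu⟩ := Groth.Agent.Lib.Helper30.WeakAssUnit.exists_primeAtPt_eq E.obj.left.left p
      have hx : Points.ofPt E.obj.hom u ∈ WeakAssEt M := ⟨E, hE, u, rfl, s, hu ▸ hp⟩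
      rw [h] at hx
      exact hx
    have hall : ∀ (E : EtOver X) (s : sectModEt M E), s = 0 := by
      intro E s
      have hex : ∀ x : ↥E.obj.left.left, ∃ W : E.obj.left.left.Opens, IsAffineOpen W ∧ x ∈ W := by
        intro x
        obtain ⟨_, ⟨W, hW, rfl⟩, hxW, -⟩ :=
          E.obj.left.left.isBasis_affineOpens.exists_subset_of_mem_open (Set.mem_univ x) isOpen_univ
        exact ⟨W, hW, hxW⟩
      choose W hWaff hWx using hex
      refine sect_eq_zero_of_cover M E s W hWx (fun x => ?_)
      exact haff (openObj E (W x)) (hWaff x) _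
    rw [IsZero.iff_id_eq_zero]
    ext E s
    exact hall _ _

end Groth.Agent.Lib.Helper37.WeakAssZero
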