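import Mathlib
import Groth.Agent.Lib.Helper37.DecentMor
import Groth.Agent.Lib.Helper36.OpenSubspace
import Groth.Agent.Lib.Helper23.AlgSpDiag
import Groth.Agent.Lib.Helper23.AlgSpInj2

/-!
# Zariski covers by spaces with quasi-compact étale charts (helper37)

`zarCover_qc_charts_iff` (S10412).
-/

set_option autoImplicit false
universe u
open CategoryTheory CategoryTheory.Limits AlgebraicGeometry
open AlgSp
open Groth.Agent.Lib.Helper36.AlgSpCharts Groth.Agent.Lib.Helper36.OpenSubspace
open Groth.Agent.Lib.Helper37.AlgSpPoints Groth.Agent.Lib.Helper37.AlgSpFibres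
open Groth.Agent.Lib.Helper37.ClosedPoint Groth.Agent.Lib.Helper37.OnePoint
open Groth.Agent.Lib.Helper37.Residual Groth.Agent.Lib.Helper37.QuotField
open Groth.Agent.Lib.Helper37.AlgSpDecent

namespace Groth.Agent.Lib.Helper37.DecentPoint

variable {S : Scheme.{u}}

/-- S10412. -/
theorem zarCover_qc_charts_iff (X : Space S) :
    (∃ (ι : Type u) (Xi : ι → Space S) (j : ∀ i, Xi i ⟶ X) (U : ι → Over S)
        (a : ∀ i, (yon S).obj (U i) ⟶ (Xi i).obj),
        IsZarCover (fun i => (Xi i).obj) (fun i => (j i).hom) ∧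
          ∀ i, RepWith @Etale (a i) ∧ RepWith @Surjective (a i) ∧ RepWith @QuasiCompact (a i)) ↔
      ∃ (ι : Type u) (U : ι → Over S) (φ : ∀ i, (yon S).obj (U i) ⟶ X.obj),
        (∀ i, RepWith @Etale (φ i)) ∧
          (∀ x : Points X.obj, ∃ (i : ι) (v : ↥(U i).left), Points.ofPt (φ i) v = x) ∧
          ∀ (i : ι) (R : Over S) (s t : R ⟶ U i),
            IsPullback ((yon S).map t) ((yon S).map s) (φ i) (φ i) →
            QuasiCompact s.left ∧ QuasiCompact t.left := by
  constructor
  · rintro ⟨ι, Xi, j, U, a, ⟨hjo', hjs'⟩, ha⟩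
    have hjo : ∀ i, RepWith @IsOpenImmersion (j i).hom := hjo'
    have hjs : ∀ x : Points X.obj, ∃ i, x ∈ Set.range (Points.map (j i).hom) := hjs'
    have hjm : ∀ i, Mono (j i).hom := fun i =>
      Groth.Agent.Lib.Helper62.mono_of_repWith @IsOpenImmersion
        (fun f hf => by have := hf; infer_instance) _ (hjo i)
    refine ⟨ι, U, fun i => a i ≫ (j i).hom, fun i => ?_, fun x => ?_, fun i R s t sq => ?_⟩
    · refine (RepWith @Etale).comp_mem _ _ (ha i).1 ?_
      exact MorphismProperty.relative_monotone (fun _ _ g hg => by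
        have : IsOpenImmersion g.left := hg
        exact (inferInstance : Etale g.left)) _ (hjo i)
    · obtain ⟨i, xi, rfl⟩ := hjs x
      obtain ⟨v, rfl⟩ := ofPt_surjective (a i) (ha i).2.1 xi
      exact ⟨i, v, rfl⟩
    · have := hjm i
      have sq' : IsPullback ((yon S).map t) ((yon S).map s) (a i) (a i) :=
        Groth.Agent.Lib.Helper23.AlgSpMor.isPullback_of_comp_mono (j i).hom sq
      exact ⟨(ha i).2.2.property (a i) _ s sq', (ha i).2.2.property (a i) _ t sq'.flip⟩
  · rintro ⟨ι, U, φ, hφ, hsurj, hqc⟩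
    have hWo : ∀ i, IsOpen (Set.range (Points.ofPt (φ i))) := fun i => by
      rw [← Set.image_univ]
      exact isOpenMap_ofPt (φ i) (hφ i) _ isOpen_univ
    have hlift : ∀ i, ∃ g' : (yon S).obj (U i) ⟶ openSub X.obj (Set.range (Points.ofPt (φ i))),
        g' ≫ openSubι X.obj (Set.range (Points.ofPt (φ i))) = φ i := fun i =>
      exists_lift_openSub X.obj _ (φ i) fun t => ⟨t, rfl⟩
    choose a ha using hlift
    have hae : ∀ i, RepWith @Etale (a i) := fun i =>
      Groth.Agent.Lib.Helper23.AlgSpMor.repWith_of_comp_mono @Etale (a i)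
        (openSubι X.obj (Set.range (Points.ofPt (φ i)))) (by rw [ha i]; exact hφ i)
    have hinj : ∀ i, Function.Injective
        (Points.map (openSubι X.obj (Set.range (Points.ofPt (φ i))))) := fun i =>
      Groth.Agent.Lib.Helper23.AlgSpMor.injective_points_of_kInj _
        (fun K _ str a b h => (cancel_mono _).1 h)
    have has : ∀ i, RepWith @Surjective (a i) := fun i => by
      refine repWith_surjective_of_ofPt_surjective (a i) (hae i).rep fun y => ?_
      have hy : Points.map (openSubι X.obj (Set.range (Points.ofPt (φ i)))) y ∈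
          Set.range (Points.ofPt (φ i)) :=
        (range_map_openSubι X.obj (Set.range (Points.ofPt (φ i)))).subset ⟨y, rfl⟩
      obtain ⟨v, hv⟩ := hy
      refine ⟨v, hinj i ?_⟩
      rw [Points.map_ofPt, ha i, hv]
    refine ⟨ι, fun i => ⟨openSub X.obj (Set.range (Points.ofPt (φ i))),
        isAlgSpace_openSub X.obj X.property _ (hWo i)⟩,
      fun i => ObjectProperty.homMk (openSubι X.obj (Set.range (Points.ofPt (φ i)))), U, a,
      ⟨fun i => repWith_isOpenImmersion_openSubι X.obj _ (hWo i), fun x => ?_⟩,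
      fun i => ⟨hae i, has i, ?_⟩⟩
    · obtain ⟨i, v, rfl⟩ := hsurj x
      refine ⟨i, ?_⟩
      exact (range_map_openSubι X.obj (Set.range (Points.ofPt (φ i)))).superset ⟨v, rfl⟩
    · refine repWith_of_atlas (P := @QuasiCompact) (a i) (hae i).rep (a i) (hae i) (has i) ?_
      have sq := (hae i).rep.isPullback' (a i)
      have sq' := Groth.Agent.Lib.Helper23.AlgSpMor.isPullback_comp_mono
        (openSubι X.obj (Set.range (Points.ofPt (φ i)))) sq
      rw [ha i] at sq'
      exact (hqc i _ _ _ sq').1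

end Groth.Agent.Lib.Helper37.DecentPoint
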