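import Mathlib
import Groth.Agent.Lib.Helper37.QsSober
import Groth.Agent.Lib.Helper23.AlgSpTopo
import Groth.Agent.Lib.Helper23.AlgSpDiag
import Groth.Agent.Lib.Helper23.AlgSpInj2
import Groth.Agent.Lib.Helper37.ZarQcCharts

/-!
# Zariski locally quasi-separated algebraic spaces have sober spaces of points (helper37, S10199)

* `compactSpace_pullback_of_factor`, `compactSpace_pullback_of_isQuasiSeparatedSp'`, `exists_affineOpen_over_affineOpen`:
  quasi-compact charts `V` with `V ×_X V` quasi-compact over an arbitrary base.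
* `quasiSober_t0_of_zar_locally_qs`.
-/

set_option autoImplicit false
universe u
open CategoryTheory CategoryTheory.Limits AlgebraicGeometry Opposite TopologicalSpace

namespace Groth.Agent.Lib.Helper37.QsSober

open AlgSp Groth.Agent.Lib.Helper37.AlgSpPoints Groth.Agent.Lib.Helper37.AlgSpFibres
open Groth.Agent.Lib.Helper37.QuotField

variable {S : Scheme.{u}}

/-- The fibre product of two quasi-compact schemes mapping into a common affine open of the base is quasi-compact. -/
theorem compactSpace_pullback_of_factor {A B T : Scheme.{u}} [CompactSpace ↥A] [CompactSpace ↥B]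
    (f : A ⟶ T) (g : B ⟶ T) (T₀ : T.Opens) (hT₀ : IsAffineOpen T₀)
    (hf : Set.range f ⊆ (T₀ : Set ↥T)) (hg : Set.range g ⊆ (T₀ : Set ↥T)) :
    CompactSpace ↥(pullback f g) := by
  have hf' : Set.range f ⊆ Set.range T₀.ι := by rwa [Scheme.Opens.range_ι]
  have hg' : Set.range g ⊆ Set.range T₀.ι := by rwa [Scheme.Opens.range_ι]
  obtain ⟨f', hf'e⟩ : ∃ f' : A ⟶ T₀.toScheme, f' ≫ T₀.ι = f :=
    ⟨IsOpenImmersion.lift T₀.ι f hf', IsOpenImmersion.lift_fac _ _ _⟩
  obtain ⟨g', hg'e⟩ : ∃ g' : B ⟶ T₀.toScheme, g' ≫ T₀.ι = g :=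
    ⟨IsOpenImmersion.lift T₀.ι g hg', IsOpenImmersion.lift_fac _ _ _⟩
  subst hf'e hg'e
  have : IsAffine T₀.toScheme := hT₀
  have : QuasiCompact f' := inferInstance
  have hc : CompactSpace ↥(pullback f' g') := inferInstance
  let e : pullback f' g' ≅ pullback (f' ≫ T₀.ι) (g' ≫ T₀.ι) :=
    (IsLimit.conePointUniqueUpToIso (pullbackIsPullbackOfCompMono f' g' T₀.ι) (limit.isLimit _))
  exact e.hom.homeomorph.compactSpace

/-- Version of `compactSpace_pullback_of_isQuasiSeparatedSp` over an arbitrary base, assuming `K ×_S L` quasi-compact. -/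
theorem compactSpace_pullback_of_isQuasiSeparatedSp' {X : Sp S}
    (hX : IsQuasiSeparatedSp X) {K L R : Over S} [CompactSpace ↥(pullback K.hom L.hom)]
    (f : (yon S).obj K ⟶ X) (g : (yon S).obj L ⟶ X) (a : R ⟶ K) (b : R ⟶ L)
    (sq : IsPullback ((yon S).map a) ((yon S).map b) f g) : CompactSpace ↥R.left := by
  have h1 : QuasiCompact (prod.lift a b).left := prop_prodLift_of_repWith_diag hX f g a b sq
  have : CompactSpace ↥(K ⨯ L).left := (Over.prodLeftIsoPullback K L).hom.homeomorph.symm.compactSpace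
  exact QuasiCompact.compactSpace_of_compactSpace (prod.lift a b).left

/-- Around any point of a scheme `U` over `S` there is an affine open whose image in `S` lies in an affine open. -/
theorem exists_affineOpen_over_affineOpen (U : Over S) (u : ↥U.left) :
    ∃ (V : U.left.Opens) (S₀ : S.Opens), IsAffineOpen V ∧ IsAffineOpen S₀ ∧ u ∈ V ∧
      Set.range (V.ι ≫ U.hom) ⊆ (S₀ : Set ↥S) := by
  obtain ⟨_, ⟨S₀, hS₀, rfl⟩, huS₀, -⟩ :=
    S.isBasis_affineOpens.exists_subset_of_mem_open (Set.mem_univ (U.hom u)) isOpen_univ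
  obtain ⟨_, ⟨V, hV, rfl⟩, huV, hVsub⟩ :=
    U.left.isBasis_affineOpens.exists_subset_of_mem_open (show u ∈ ((U.hom ⁻¹ᵁ S₀ : U.left.Opens) : Set ↥U.left)
      from huS₀) (U.hom ⁻¹ᵁ S₀).2
  refine ⟨V, S₀, hV, hS₀, huV, ?_⟩
  rintro _ ⟨v, rfl⟩
  exact hVsub v.2

/-- **S10199**: a Zariski locally quasi-separated algebraic space has a sober space of points. -/
theorem quasiSober_t0_of_zar_locally_qs (X : Space S)
    (hX : ∃ (ι : Type u) (Xi : ι → Space S) (j : ∀ i, Xi i ⟶ X),
        IsZarCover (fun i => (Xi i).obj) (fun i => (j i).hom) ∧ ∀ i, IsQuasiSeparatedSp (Xi i).obj) :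
    QuasiSober (Points X.obj) ∧ T0Space (Points X.obj) := by
  obtain ⟨ι, Xi, j, ⟨hjo', hjs'⟩, hqs⟩ := hX
  have hjo : ∀ i, RepWith @IsOpenImmersion (j i).hom := hjo'
  have hjs : ∀ x : Points X.obj, ∃ i, x ∈ Set.range (Points.map (j i).hom) := hjs'
  have hjm : ∀ i, Mono (j i).hom := fun i =>
    Groth.Agent.Lib.Helper62.mono_of_repWith @IsOpenImmersion
      (fun f hf => by have := hf; infer_instance) _ (hjo i)
  have hje : ∀ i, RepWith @Etale (j i).hom := fun i =>
    MorphismProperty.relative_monotone (fun _ _ g hg => by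
      have : IsOpenImmersion g.left := hg
      exact (inferInstance : Etale g.left)) _ (hjo i)
  constructor
  · apply quasiSober_of_charts
    intro x
    obtain ⟨i, xi, rfl⟩ := hjs x
    obtain ⟨U, p, hpe, hps⟩ := (Xi i).property.atlas
    obtain ⟨u, rfl⟩ := ofPt_surjective p hps xi
    obtain ⟨V, S₀, hV, hS₀, huV, hrange⟩ := exists_affineOpen_over_affineOpen U u
    have hb : RepWith @Etale ((yon S).map (openι U V) ≫ p) := repWith_etale_restrict p hpe V
    have ha : RepWith @Etale (((yon S).map (openι U V) ≫ p) ≫ (j i).hom) :=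
      (RepWith @Etale).comp_mem _ _ hb (hje i)
    have hrep : Representable (((yon S).map (openι U V) ≫ p) ≫ (j i).hom) :=
      X.property.representable_from_yon _
    have sq := hrep.isPullback' (((yon S).map (openι U V) ≫ p) ≫ (j i).hom)
    have := hjm i
    have sq' := Groth.Agent.Lib.Helper23.AlgSpMor.isPullback_of_comp_mono (j i).hom sq
    have : CompactSpace ↥(openOver U V).left := isCompact_iff_compactSpace.1 hV.isCompact
    have : CompactSpace ↥(pullback (openOver U V).hom (openOver U V).hom) :=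
      compactSpace_pullback_of_factor _ _ S₀ hS₀ hrange hrange
    have hc : CompactSpace ↥(hrep.pullback (((yon S).map (openι U V) ≫ p) ≫ (j i).hom)).left :=
      compactSpace_pullback_of_isQuasiSeparatedSp' (hqs i) _ _ _ _ sq'
    refine ⟨openOver U V, _, _, _, _, hV, ha, sq, hc, ⟨u, huV⟩, ?_⟩
    rw [← Points.map_ofPt, ofPt_restrict]
  · refine ⟨fun x y hxy => ?_⟩
    obtain ⟨i, hxi⟩ := hjs x
    have hopen : IsOpen (Set.range (Points.map (j i).hom)) :=
      (Groth.Agent.Lib.Helper23.AlgSpMor.isOpenMap_points_of_repWith_etale _ (hje i)).isOpen_range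
    have hyi : y ∈ Set.range (Points.map (j i).hom) := (hxy.mem_open_iff hopen).1 hxi
    obtain ⟨x', rfl⟩ := hxi
    obtain ⟨y', rfl⟩ := hyi
    have hind : Topology.IsInducing (Points.map (j i).hom) :=
      Groth.Agent.Lib.Helper23.AlgSpMor.isInducing_points_of_repWith (Q := @IsOpenImmersion)
        (fun f hf => by have := hf; exact f.isOpenEmbedding.isInducing) X.property _ (hjo i)
    have hxy' : Inseparable x' y' := hind.inseparable_iff.1 hxy
    have hT0 := t0Space_points_of_isDecent (Xi i)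
      (Groth.Agent.Lib.Helper37.DecentPoint.isDecent_of_isQuasiSeparatedSp (Xi i) (hqs i))
    rw [hxy'.eq]

end Groth.Agent.Lib.Helper37.QsSober
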